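import Cfsg.Agent.Helper61.ZpoOdd
import Cfsg.Agent.Helper61.ZpoMain
import Cfsg.Agent.S0307

/-!
# Brauer–Reynolds, the case `n = 1` (helper25, S0999 / S4701)

A simple non-cyclic group with exactly `p + 1` Sylow `p`-subgroups (`p` odd) and order `< p³` is
`PSL(2, p)`, `p > 3`: it acts faithfully and transitively on `p + 1` points with order
`(p + 1) p d`, `d < p`, and the classification of these groups (S0732, in the abstract form of
`Helper61.Zpo`) applies; `PGL(2, p)` is not perfect (S0307) and a regular normal subgroup is
impossible in a simple group.  Also: the prime `2`.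
-/

set_option autoImplicit false
set_option linter.style.haveILetI false

namespace Cfsg.Agent.Helper25.BRN1

open Cfsg MulAction

universe u

variable {G : Type u} [Group G]

/-- a surjection onto a group with two elements contradicts simplicity of a group with more than
two elements -/
theorem false_of_surjective_of_simple [Finite G] [IsSimpleGroup G] {H : Type*} [Group H]
    [Finite H] (hH : Nat.card H = 2) (hGc : 2 < Nat.card G) (g : G →* H)
    (hg : Function.Surjective g) : False := by
  rcases (inferInstance : g.ker.Normal).eq_bot_or_eq_top with h | h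
  · -- injective: `|G| ≤ 2`
    have hinj : Function.Injective g := (MonoidHom.ker_eq_bot_iff g).mp h
    have := Nat.card_le_card_of_injective g hinj
    omega
  · -- trivial: `|H| = 1`
    have h1 : ∀ x : H, x = 1 := by
      intro x
      obtain ⟨y, rfl⟩ := hg x
      have : y ∈ g.ker := by rw [h]; exact Subgroup.mem_top y
      exact MonoidHom.mem_ker.mp this
    have : Nat.card H = 1 := by
      haveI : Subsingleton H := ⟨fun a b => by rw [h1 a, h1 b]⟩
      exact Nat.card_unique
    omega

/-- **(N1)** -/
theorem psl_of_card_sylow_succ [Finite G] [IsSimpleGroup G]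
    (hG : ¬ IsCyclic G) (p : ℕ) [Fact p.Prime] (hp2 : p ≠ 2)
    (hcard : Nat.card (Sylow p G) = p + 1) (hbig : Nat.card G < p ^ 3) :
    3 < p ∧ Nonempty (G ≃* Matrix.ProjectiveSpecialLinearGroup (Fin 2) (ZMod p)) := by
  classical
  have hp : p.Prime := Fact.out
  have hp3 : 3 ≤ p := by have := hp.two_le; omega
  letI : Fintype (Sylow p G) := Fintype.ofFinite _
  have hΩ : Fintype.card (Sylow p G) = p + 1 := by
    rw [← Nat.card_eq_fintype_card]; exact hcard
  obtain ⟨P⟩ : Nonempty (Sylow p G) := inferInstance
  -- `P` is not normal
  have hPn : ¬ (P : Subgroup G).Normal := by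
    intro hN
    have h1 : Nat.card (Sylow p G) = (Subgroup.normalizer ((P : Subgroup G) : Set G)).index :=
      P.card_eq_index_normalizer
    rw [Subgroup.normalizer_eq_top_iff.mpr hN, Subgroup.index_top, hcard] at h1
    omega
  -- the action is faithful
  haveI : FaithfulSMul G (Sylow p G) := by
    have hker : (MulAction.toPermHom G (Sylow p G)).ker = ⊥ := by
      rcases (inferInstance : (MulAction.toPermHom G (Sylow p G)).ker.Normal).eq_bot_or_eq_top
        with h | h
      · exact h
      · exfalso
        apply hPn
        rw [← Subgroup.normalizer_eq_top_iff, Subgroup.eq_top_iff']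
        intro g
        have hg : g ∈ (MulAction.toPermHom G (Sylow p G)).ker := by rw [h]; exact Subgroup.mem_top g
        have h2 : MulAction.toPermHom G (Sylow p G) g = 1 := MonoidHom.mem_ker.mp hg
        have h3 : g • P = P := by
          have := congrArg (fun σ : Equiv.Perm (Sylow p G) => σ P) h2
          simpa using this
        exact Sylow.smul_eq_iff_mem_normalizer.mp h3
    refine ⟨fun {g₁ g₂} h => ?_⟩
    have hinj : Function.Injective (MulAction.toPermHom G (Sylow p G)) :=
      (MonoidHom.ker_eq_bot_iff _).mp hker
    apply hinj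
    refine Equiv.ext (fun Q => ?_)
    exact h Q
  -- the order
  have hidx : (Subgroup.normalizer ((P : Subgroup G) : Set G)).index = p + 1 := by
    have h1 : Nat.card (Sylow p G) = (Subgroup.normalizer ((P : Subgroup G) : Set G)).index :=
      P.card_eq_index_normalizer
    rw [hcard] at h1
    exact h1.symm
  have hPN : (P : Subgroup G) ≤ Subgroup.normalizer ((P : Subgroup G) : Set G) :=
    Subgroup.le_normalizer
  have hpP : p ∣ Nat.card P := by
    have hk := P.card_eq_multiplicity
    rw [hk]
    have hk0 : (Nat.card G).factorization p ≠ 0 := by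
      intro h0
      rw [h0, pow_zero] at hk
      apply hPn
      have hbot : (P : Subgroup G) = ⊥ := Subgroup.card_eq_one.mp hk
      rw [hbot]
      infer_instance
    exact dvd_pow_self p hk0
  obtain ⟨d, hd⟩ : p ∣ Nat.card (Subgroup.normalizer ((P : Subgroup G) : Set G)) :=
    hpP.trans (Subgroup.card_dvd_of_le hPN)
  have hGc : Nat.card G = (p + 1) * p * d := by
    rw [← (Subgroup.normalizer ((P : Subgroup G) : Set G)).index_mul_card, hidx, hd]
    ring
  have hdp : d < p := by
    by_contra hge
    push Not at hge
    have h1 : (p + 1) * p * p ≤ (p + 1) * p * d := Nat.mul_le_mul_left _ hge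
    have h2 : p ^ 3 < (p + 1) * p * p := by
      have : 0 < p * p := Nat.mul_pos hp.pos hp.pos
      nlinarith
    omega
  have hd0 : d ≠ 0 := by
    rintro rfl
    rw [mul_zero] at hGc
    have := Nat.card_pos (α := G)
    omega
  have hGbig : 2 < Nat.card G := by
    rw [hGc]
    have : 1 ≤ d := Nat.pos_of_ne_zero hd0
    nlinarith
  -- no regular normal subgroup
  have hnoreg : ¬ ∃ N : Subgroup G, N.Normal ∧ (∀ x y : Sylow p G, ∃ n ∈ N, n • x = y) ∧
      ∀ n ∈ N, ∀ x : Sylow p G, n • x = x → n = 1 := by
    rintro ⟨N, hNn, hNtr, hNfree⟩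
    rcases hNn.eq_bot_or_eq_top with h | h
    · -- `N = ⊥` is not transitive
      apply hPn
      rw [← Subgroup.normalizer_eq_top_iff, Subgroup.eq_top_iff']
      intro g
      obtain ⟨n, hn, hn'⟩ := hNtr P (g • P)
      rw [h, Subgroup.mem_bot] at hn
      rw [hn, one_smul] at hn'
      exact Sylow.smul_eq_iff_mem_normalizer.mp hn'.symm
    · -- `N = ⊤` is not free: `P` fixes itself
      have hP1 : ∀ x ∈ (P : Subgroup G), x = 1 := by
        intro x hx
        apply hNfree x (by rw [h]; exact Subgroup.mem_top x) P
        exact Sylow.smul_eq_iff_mem_normalizer.mpr (hPN hx)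
      have : Nat.card P = 1 := by
        rw [Subgroup.card_eq_one, Subgroup.eq_bot_iff_forall]
        exact hP1
      rw [this] at hpP
      have := Nat.le_of_dvd one_pos hpP
      omega
  -- the three cases
  have key : 2 * d = p - 1 ∧
      Nonempty (G ≃* Matrix.ProjectiveSpecialLinearGroup (Fin 2) (ZMod p)) := by
    rcases Nat.even_or_odd d with heven | hodd
    · rcases Cfsg.Agent.Helper61.Zpo.iso_of_even (G := G) (Ω := Sylow p G) hp hp2 hΩ hGc hdp heven
        with ⟨-, ⟨e⟩⟩ | h
      · -- `PGL(2,p)` has a quotient of order two
        exfalso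
        obtain ⟨g, hgs, -⟩ := Cfsg.Agent.S0307.result (F := ZMod p) (q := p) (ZMod.card p) 2
          (by norm_num)
        have h2 : Nat.gcd 2 (p - 1) = 2 := by
          apply Nat.gcd_eq_left
          rcases hp.eq_two_or_odd with h | h
          · exact absurd h hp2
          · omega
        have hcardH : Nat.card (Multiplicative (ZMod (Nat.gcd 2 (p - 1)))) = 2 := by
          rw [h2]
          simp
        haveI : Finite (Multiplicative (ZMod (Nat.gcd 2 (p - 1)))) := by
          rw [h2]; infer_instance
        exact false_of_surjective_of_simple hcardH hGbig (g.comp e.toMonoidHom)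
          (hgs.comp e.surjective)
      · exact h
    · by_cases hd1 : d = 1
      · exfalso
        subst hd1
        exact hnoreg (Cfsg.Agent.Helper61.Zpo.exists_regular_normal (G := G) (Ω := Sylow p G)
          hp hp2 hΩ hGc)
      · exact Cfsg.Agent.Helper61.Zpo.iso_of_odd_zassenhaus (G := G) (Ω := Sylow p G) hp hp2 hΩ
          hGc hdp hodd hd1 hnoreg
  refine ⟨?_, key.2⟩
  -- `p ≠ 3`
  by_contra h3
  have hp3' : p = 3 := by omega
  have hd1 : d = 1 := by have := key.1; omega
  subst hd1
  exact hnoreg (Cfsg.Agent.Helper61.Zpo.exists_regular_normal (G := G) (Ω := Sylow p G)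
    hp hp2 hΩ hGc)

/-- **(P2)** a simple non-cyclic group of even order has order at least `8` -/
theorem p2_false [Finite G] [IsSimpleGroup G] (hG : ¬ IsCyclic G)
    (h2 : 2 ∣ Nat.card G) (hbig : Nat.card G < 2 ^ 3) : False := by
  classical
  haveI : Fact (Nat.Prime 2) := ⟨Nat.prime_two⟩
  obtain ⟨P⟩ : Nonempty (Sylow 2 G) := inferInstance
  -- the number of Sylow 2-subgroups is odd and divides the index
  have h1 : Nat.card (Sylow 2 G) ≡ 1 [MOD 2] := card_sylow_modEq_one 2 G
  have h3 : Nat.card (Sylow 2 G) ∣ (P : Subgroup G).index := P.card_dvd_index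
  have hPc := P.card_eq_multiplicity
  have hidx := (P : Subgroup G).index_mul_card
  -- `P` is normal or `|Syl| ≥ 3`
  by_cases hone : Nat.card (Sylow 2 G) = 1
  · -- `P` normal
    have hN : (P : Subgroup G).Normal := by
      have h4 : Nat.card (Sylow 2 G) = (Subgroup.normalizer ((P : Subgroup G) : Set G)).index :=
        P.card_eq_index_normalizer
      rw [hone] at h4
      exact Subgroup.normalizer_eq_top_iff.mp (Subgroup.index_eq_one.mp h4.symm)
    rcases hN.eq_bot_or_eq_top with h | h
    · exact P.ne_bot_of_dvd_card h2 h
    · -- `G` is a `2`-group of order `2` or `4`: abelian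
      have hcP : Nat.card P = Nat.card G := by
        rw [h]; exact Subgroup.card_top
      have hpg : IsPGroup 2 G := by
        intro g
        have hg : g ∈ (P : Subgroup G) := by rw [h]; exact Subgroup.mem_top g
        obtain ⟨k, hk⟩ := P.isPGroup' ⟨g, hg⟩
        refine ⟨k, ?_⟩
        have := congrArg Subtype.val hk
        simpa using this
      haveI : Nontrivial G := IsSimpleGroup.toNontrivial
      have hcn := hpg.center_nontrivial
      have hct : Subgroup.center G = ⊤ := by
        rcases (inferInstance : (Subgroup.center G).Normal).eq_bot_or_eq_top with h1 | h1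
        · exfalso
          rw [h1] at hcn
          exact not_nontrivial _ hcn
        · exact h1
      have hcomm : ∀ a b : G, a * b = b * a := by
        intro a b
        have ha : b ∈ Subgroup.center G := by rw [hct]; exact Subgroup.mem_top b
        exact Subgroup.mem_center_iff.mp ha a
      apply hG
      obtain ⟨g, hg⟩ := exists_ne (1 : G)
      have hzn : (Subgroup.zpowers g).Normal := by
        refine ⟨fun x hx y => ?_⟩
        rw [hcomm y x, mul_inv_cancel_right]
        exact hx
      rcases hzn.eq_bot_or_eq_top with h2' | h2'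
      · exact absurd (Subgroup.zpowers_eq_bot.mp h2') hg
      · exact ⟨⟨g, fun x => by
          have : x ∈ Subgroup.zpowers g := by rw [h2']; exact Subgroup.mem_top x
          exact this⟩⟩
  · -- at least three Sylow subgroups, so the index of `P` is `≥ 3`, `|P| ≥ 2`: `|G| = 6`
    have h5 : 3 ≤ Nat.card (Sylow 2 G) := by
      have hpos : 0 < Nat.card (Sylow 2 G) := Nat.card_pos
      have hmod : Nat.card (Sylow 2 G) % 2 = 1 := by
        have := h1
        unfold Nat.ModEq at this
        simpa using this
      omega
    have hipos : 0 < (P : Subgroup G).index := by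
      rcases Nat.eq_zero_or_pos (P : Subgroup G).index with h0 | h0
      · rw [h0, zero_mul] at hidx
        have := Nat.card_pos (α := G)
        omega
      · exact h0
    have h6 : 3 ≤ (P : Subgroup G).index := h5.trans (Nat.le_of_dvd hipos h3)
    have h7 : 2 ≤ Nat.card P := by
      have hne : (P : Subgroup G) ≠ ⊥ := P.ne_bot_of_dvd_card h2
      have := (P : Subgroup G).one_lt_card_iff_ne_bot.mpr hne
      omega
    -- `|G| = index * |P| < 8` with index ≥ 3, |P| ≥ 2 a power of 2: index = 3, |P| = 2
    have h8 : (P : Subgroup G).index * Nat.card P < 8 := by rw [hidx]; exact hbig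
    have h9 : Nat.card P = 2 := by
      by_contra hne
      have : 3 ≤ Nat.card P := by omega
      nlinarith
    have h10 : (P : Subgroup G).index = 3 := by
      rw [h9] at h8
      omega
    -- the Sylow `3`-subgroup has index `2`, hence is normal
    haveI : Fact (Nat.Prime 3) := ⟨Nat.prime_three⟩
    have hG6 : Nat.card G = 6 := by rw [← hidx, h9, h10]
    obtain ⟨Q⟩ : Nonempty (Sylow 3 G) := inferInstance
    have hQc : Nat.card Q = 3 := by
      rw [Q.card_eq_multiplicity, hG6]
      have : (6 : ℕ).factorization 3 = 1 := by
        have h6 : (6 : ℕ) = 2 * 3 := by norm_num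
        rw [h6, Nat.factorization_mul (by norm_num) (by norm_num)]
        simp [Nat.Prime.factorization Nat.prime_two, Nat.Prime.factorization Nat.prime_three]
      rw [this, pow_one]
    have hQi : (Q : Subgroup G).index = 2 := by
      have := (Q : Subgroup G).index_mul_card
      rw [hQc, hG6] at this
      omega
    have hQn : (Q : Subgroup G).Normal := Subgroup.normal_of_index_eq_two hQi
    rcases hQn.eq_bot_or_eq_top with h | h
    · rw [h, Subgroup.card_bot] at hQc
      omega
    · rw [h, Subgroup.card_top, hG6] at hQc
      omega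

end Cfsg.Agent.Helper25.BRN1
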