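import Mathlib
import Cfsg.Prelude.Def_Blocks
import Cfsg.Agent.Helper79.Linear

/-!
# Brauer–Reynolds (`p³ > |G|`): shared definitions (helper25, S0999 / S4701)

`G` acts on `Sylow p G` by conjugation (Mathlib's `MulAction G (Sylow p G)`; the stabilizer of `Q`
is `N_G(Q)`).

* `fx p g`    : the number of Sylow `p`-subgroups fixed (= normalized) by `g`;
* `HasFP p g` : `g` normalizes some Sylow `p`-subgroup;
* `Rigid`     : the rigid configuration of the principal `p`-block (output of the block analysis);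
* `Config`    : the purely group-theoretic configuration (input of the final group theory).
-/

set_option autoImplicit false

namespace Cfsg.Agent.Helper25.BR

open Cfsg

universe u

variable {G : Type u} [Group G]

/-- The number of Sylow `p`-subgroups fixed by `g` under conjugation. -/
noncomputable def fx (p : ℕ) (g : G) : ℕ := Nat.card (MulAction.fixedBy (Sylow p G) g)

/-- `g` fixes (normalizes) some Sylow `p`-subgroup. -/
def HasFP (p : ℕ) (g : G) : Prop := ∃ Q : Sylow p G, g • Q = Q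

/-- The rigid configuration of the principal block: `|P| = p`, `C_G(P) = P`, `|N_G(P)| = p e`,
`e t = p - 1`, `e = 2 + t k`, `t ≥ 3`, `|G| = p (p - 1) (p - e)`; the principal block is
`{1} ∪ Xp ∪ Xm ∪ Y` with `|Xp| = k` characters of degree `t (p - e)` equal to `1` on `P \ 1`,
`|Xm| = 1 + (t - 1) k` characters of degree `p - 1` equal to `-1` on `P \ 1`, `|Y| = t`
characters of degree `p - e` with `∑_{u ∈ P} θ(u) = p`; all other irreducible characters vanish
on `P \ 1`; and `1 + ∑_{Xp} χ(g) - ∑_{Xm} χ(g) + θ(g) = 0` for `p`-regular `g`. -/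
structure Rigid [Fintype G] (p e t k : ℕ) (P : Sylow p G)
    (Xp Xm Y : Finset (IrrCharacter G)) : Prop where
  hp2 : p ≠ 2
  cardP : Nat.card P = p
  cent : Subgroup.centralizer ((P : Subgroup G) : Set G) = (P : Subgroup G)
  cardN : Nat.card (Subgroup.normalizer ((P : Subgroup G) : Set G)) = p * e
  het : e * t = p - 1
  hek : e = 2 + t * k
  ht : 3 ≤ t
  cardG : Nat.card G = p * (p - 1) * (p - e)
  one_Xp : Helper79.principalIrr G ∉ Xp
  one_Xm : Helper79.principalIrr G ∉ Xm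
  one_Y : Helper79.principalIrr G ∉ Y
  disj_pm : Disjoint Xp Xm
  disj_pY : Disjoint Xp Y
  disj_mY : Disjoint Xm Y
  cardXp : Xp.card = k
  cardXm : Xm.card = 1 + (t - 1) * k
  cardY : Y.card = t
  degXp : ∀ χ ∈ Xp, (χ : G → ℂ) 1 = ((t * (p - e) : ℕ) : ℂ)
  degXm : ∀ χ ∈ Xm, (χ : G → ℂ) 1 = ((p - 1 : ℕ) : ℂ)
  degY : ∀ θ ∈ Y, (θ : G → ℂ) 1 = ((p - e : ℕ) : ℂ)
  valXp : ∀ χ ∈ Xp, ∀ u : G, u ∈ (P : Subgroup G) → u ≠ 1 → (χ : G → ℂ) u = 1
  valXm : ∀ χ ∈ Xm, ∀ u : G, u ∈ (P : Subgroup G) → u ≠ 1 → (χ : G → ℂ) u = -1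
  sumY : ∀ θ ∈ Y, ∑ᶠ u : (P : Subgroup G), (θ : G → ℂ) (u : G) = (p : ℂ)
  other : ∀ ψ : IrrCharacter G, ψ ≠ Helper79.principalIrr G → ψ ∉ Xp → ψ ∉ Xm → ψ ∉ Y →
    ∀ u : G, u ∈ (P : Subgroup G) → u ≠ 1 → (ψ : G → ℂ) u = 0
  rel : ∀ θ ∈ Y, ∀ g : G, ¬ p ∣ orderOf g →
    1 + ∑ χ ∈ Xp, (χ : G → ℂ) g - ∑ χ ∈ Xm, (χ : G → ℂ) g + (θ : G → ℂ) g = 0

/-- The group-theoretic configuration: as in `Rigid`, with the block theory replaced by its two
consequences `exp` (every element of a subgroup of order dividing `p - 1` normalizes a Sylow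
`p`-subgroup) and `fixt` (a non-identity `p`-regular element normalizing a Sylow `p`-subgroup
normalizes exactly `t` of them). -/
structure Config [Finite G] (p e t k : ℕ) (P : Sylow p G) : Prop where
  hp2 : p ≠ 2
  cardP : Nat.card P = p
  cent : Subgroup.centralizer ((P : Subgroup G) : Set G) = (P : Subgroup G)
  cardN : Nat.card (Subgroup.normalizer ((P : Subgroup G) : Set G)) = p * e
  het : e * t = p - 1
  hek : e = 2 + t * k
  ht : 3 ≤ t
  cardG : Nat.card G = p * (p - 1) * (p - e)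
  exp : ∀ H : Subgroup G, Nat.card H ∣ p - 1 → ∀ h ∈ H, HasFP p h
  fixt : ∀ g : G, g ≠ 1 → ¬ p ∣ orderOf g → HasFP p g → fx p g = t

end Cfsg.Agent.Helper25.BR
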