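import Cfsg.Prelude.Def_LocalStructure
import Cfsg.Agent.Helper16.DefOne.Principal
import Cfsg.Agent.Helper20.D8Main
import Cfsg.Agent.Helper78.IrrBasic
import Cfsg.Agent.Helper78.IrrTransport
import Cfsg.Agent.Helper79.CharComplete
import Cfsg.Agent.Helper80.Integrality
import Cfsg.Agent.Helper82.McKayP.Singular
import Cfsg.Agent.Helper74.DefectZero
import Cfsg.Agent.Helper48.DefOneGRa

/-!
# A simple group whose Sylow `p`-subgroups are not normal has order at least `p (p² - 1) / 2`

(helper25, for S3875.)  For `|P| ≥ p²` this is Sylow counting; for `|P| = p` it follows from the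
structure of the principal block (defect one engine, `principal_structure`), the integrality of
the central characters and `∑ χ(1)² = |G|`.
-/

set_option autoImplicit false
set_option linter.style.haveILetI false

namespace Cfsg.Agent.Helper25.NPCSimple

open Cfsg
open scoped commutatorElement

universe u

/-! ## Arithmetic -/

/-- (A1) small inertial index: the sign is `+` and `u = e` -/
theorem arith_small (p e u : ℕ) (ε : ℤ) (hp3 : 3 ≤ p) (he1 : 1 ≤ e) (he : 2 * e ≤ p - 1)
    (hu1 : 1 ≤ u) (hu : 2 * u < p + 1) (hε : ε = 1 ∨ ε = -1)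
    (hmod : (u : ℤ) ≡ ε * (e : ℤ) [ZMOD p]) : ε = 1 ∧ u = e := by
  rcases hε with h | h
  · refine ⟨h, ?_⟩
    rw [h, one_mul] at hmod
    have h1 := hmod.dvd
    obtain ⟨c, hc⟩ := h1
    have h2 : (e : ℤ) - u = p * c := hc
    have hc0 : c = 0 := by
      by_contra hne
      have h3 : (1 : ℤ) ≤ |c| := Int.one_le_abs hne
      have h4 : |(e : ℤ) - u| = (p : ℤ) * |c| := by
        rw [h2, abs_mul, abs_of_nonneg (by positivity : (0 : ℤ) ≤ p)]
      have h5 : |(e : ℤ) - u| < p := by
        rw [abs_lt]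
        constructor <;> omega
      nlinarith
    rw [hc0, mul_zero] at h2
    omega
  · exfalso
    rw [h] at hmod
    have h1 := hmod.dvd
    obtain ⟨c, hc⟩ := h1
    have h2 : -1 * (e : ℤ) - u = p * c := hc
    have h3 : (p : ℤ) * (-c) = e + u := by linarith
    have h4 : (0 : ℤ) < -c := by
      by_contra hneg
      push Not at hneg
      have : (p : ℤ) * (-c) ≤ 0 := mul_nonpos_of_nonneg_of_nonpos (by positivity) hneg
      omega
    have h5 : (p : ℤ) ≤ p * (-c) := by nlinarith
    omega

/-- (A2) inertial index `p - 1`: the sign is `-` and `u = 1` -/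
theorem arith_big (p u : ℕ) (ε : ℤ) (hp3 : 3 ≤ p)
    (hu1 : 1 ≤ u) (hu : 2 * u < p + 1) (hε : ε = 1 ∨ ε = -1)
    (hmod : (u : ℤ) ≡ ε * ((p - 1 : ℕ) : ℤ) [ZMOD p]) : ε = -1 ∧ u = 1 := by
  have hcast : ((p - 1 : ℕ) : ℤ) = (p : ℤ) - 1 := by
    rw [Nat.cast_sub (by omega)]; simp
  rw [hcast] at hmod
  rcases hε with h | h
  · exfalso
    rw [h, one_mul] at hmod
    obtain ⟨c, hc⟩ := hmod.dvd
    have h2 : (p : ℤ) - 1 - u = p * c := hc
    have h3 : (p : ℤ) * (1 - c) = u + 1 := by linarith
    have h4 : (0 : ℤ) < 1 - c := by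
      by_contra hneg
      push Not at hneg
      have : (p : ℤ) * (1 - c) ≤ 0 := mul_nonpos_of_nonneg_of_nonpos (by positivity) hneg
      omega
    have h5 : (p : ℤ) ≤ p * (1 - c) := by nlinarith
    omega
  · refine ⟨h, ?_⟩
    rw [h] at hmod
    obtain ⟨c, hc⟩ := hmod.dvd
    have h2 : -1 * ((p : ℤ) - 1) - u = p * c := hc
    have h3 : (p : ℤ) * (-1 - c) = (u : ℤ) - 1 := by linarith
    have hc0 : -1 - c = 0 := by
      by_contra hne
      have h4 : (1 : ℤ) ≤ |-1 - c| := Int.one_le_abs hne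
      have h5 : |(u : ℤ) - 1| = (p : ℤ) * |-1 - c| := by
        rw [← h3, abs_mul, abs_of_nonneg (by positivity : (0 : ℤ) ≤ p)]
      have h6 : |(u : ℤ) - 1| < p := by
        rw [abs_lt]
        constructor <;> omega
      nlinarith
    rw [hc0, mul_zero] at h3
    omega

/-- (A3) the final inequality -/
theorem arith_final (p e t y g : ℕ) (hp3 : 3 ≤ p) (he2 : 2 ≤ e) (hte : t * e = p - 1)
    (hy : 1 + (e - 1) * (p + 1) ≤ y) (hg : t * y ^ 2 ≤ g) : p * (p ^ 2 - 1) < 2 * g := by
  have h1 : e * (p + 2) ≤ 2 * y := by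
    obtain ⟨k, rfl⟩ : ∃ k, e = k + 2 := ⟨e - 2, by omega⟩
    have : k + 2 - 1 = k + 1 := by omega
    rw [this] at hy
    nlinarith
  have h2 : e * (p + 2) ^ 2 ≤ 2 * y ^ 2 := by
    have h3 : (e * (p + 2)) ^ 2 ≤ (2 * y) ^ 2 := Nat.pow_le_pow_left h1 2
    have h4 : 2 * (e * (p + 2) ^ 2) ≤ (e * (p + 2)) ^ 2 := by
      have : (e * (p + 2)) ^ 2 = e * (e * (p + 2) ^ 2) := by ring
      rw [this]
      exact Nat.mul_le_mul_right _ he2
    nlinarith
  have h5 : (p - 1) * (p + 2) ^ 2 ≤ 2 * g := by
    have h6 : e * ((p - 1) * (p + 2) ^ 2) ≤ e * (2 * g) := by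
      calc e * ((p - 1) * (p + 2) ^ 2) = (t * e) * (e * (p + 2) ^ 2) := by rw [hte]; ring
        _ ≤ (t * e) * (2 * y ^ 2) := Nat.mul_le_mul_left _ h2
        _ = e * (2 * (t * y ^ 2)) := by ring
        _ ≤ e * (2 * g) := Nat.mul_le_mul_left _ (Nat.mul_le_mul_left _ hg)
    exact Nat.le_of_mul_le_mul_left h6 (by omega)
  have h7 : p * (p ^ 2 - 1) < (p - 1) * (p + 2) ^ 2 := by
    obtain ⟨k, rfl⟩ : ∃ k, p = k + 3 := ⟨p - 3, by omega⟩
    have h8 : (k + 3) ^ 2 - 1 = (k + 2) * (k + 4) := by
      have : (k + 3) ^ 2 = (k + 2) * (k + 4) + 1 := by ring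
      omega
    have h9 : k + 3 - 1 = k + 2 := by omega
    rw [h8, h9]
    nlinarith
  omega

/-! ## Group theory -/

/-- a simple group with a non-normal subgroup is perfect -/
theorem commutator_eq_top_of_simple {G : Type u} [Group G] [IsSimpleGroup G] (H : Subgroup G)
    (hH : ¬ H.Normal) : commutator G = ⊤ := by
  rcases (inferInstance : (commutator G).Normal).eq_bot_or_eq_top with h | h
  · exfalso
    apply hH
    have hcomm : ∀ a b : G, a * b = b * a := by
      intro a b
      have h1 : ⁅a, b⁆ ∈ commutator G :=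
        Subgroup.commutator_mem_commutator (Subgroup.mem_top a) (Subgroup.mem_top b)
      rw [h, Subgroup.mem_bot, commutatorElement_eq_one_iff_mul_comm] at h1
      exact h1
    refine ⟨fun n hn g => ?_⟩
    rw [hcomm g n, mul_inv_cancel_right]
    exact hn
  · exact h

variable {G : Type u} [Group G] {p : ℕ}

/-- the centralizer of a non-identity element of a Sylow subgroup of order `p` -/
theorem centralizer_singleton_eq [Finite G] [Fact p.Prime] (P : Sylow p G) (hP : Nat.card P = p) (x : G)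
    (hx : x ∈ (P : Subgroup G)) (hx1 : x ≠ 1) :
    Subgroup.centralizer ({x} : Set G) = Subgroup.centralizer ((P : Subgroup G) : Set G) := by
  have hp : p.Prime := Fact.out
  have hord : orderOf x = p := by
    have h1 : orderOf (⟨x, hx⟩ : (P : Subgroup G)) ∣ p := by
      have := orderOf_dvd_natCard (⟨x, hx⟩ : (P : Subgroup G))
      rwa [hP] at this
    have h2 : orderOf (⟨x, hx⟩ : (P : Subgroup G)) = orderOf x := Subgroup.orderOf_mk x hx
    rw [h2] at h1
    rcases (Nat.dvd_prime hp).mp h1 with h | h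
    · exact absurd (orderOf_eq_one_iff.mp h) hx1
    · exact h
  have hz := Helper82.McKayP.zpowers_eq_sylow p P hP x hx hord
  rw [← hz, Subgroup.zpowers_eq_closure, Subgroup.centralizer_closure]

/-- the number of Sylow subgroups is `≡ 1 mod p`, and `≥ p + 1` when `P` is not normal -/
theorem index_normalizer_ge [Finite G] [Fact p.Prime] (P : Sylow p G)
    (hPn : ¬ (P : Subgroup G).Normal) :
    (Subgroup.normalizer ((P : Subgroup G) : Set G)).index % p = 1 ∧
      p + 1 ≤ (Subgroup.normalizer ((P : Subgroup G) : Set G)).index := by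
  have hp : p.Prime := Fact.out
  have h1 : Nat.card (Sylow p G) ≡ 1 [MOD p] := card_sylow_modEq_one p G
  rw [P.card_eq_index_normalizer] at h1
  have h2 : (Subgroup.normalizer ((P : Subgroup G) : Set G)).index ≠ 1 := by
    intro h
    apply hPn
    rw [Subgroup.index_eq_one] at h
    exact Subgroup.normalizer_eq_top_iff.mp h
  have h4 : (Subgroup.normalizer ((P : Subgroup G) : Set G)).index % p = 1 := by
    have h5 : (1 : ℕ) % p = 1 := Nat.one_mod_eq_one.mpr hp.ne_one
    have h6 := h1
    unfold Nat.ModEq at h6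
    rw [h5] at h6
    exact h6
  refine ⟨h4, ?_⟩
  have h7 := Nat.div_add_mod (Subgroup.normalizer ((P : Subgroup G) : Set G)).index p
  rw [h4] at h7
  have h8 : (Subgroup.normalizer ((P : Subgroup G) : Set G)).index / p ≠ 0 := by
    intro h0
    rw [h0, mul_zero, zero_add] at h7
    exact h2 h7.symm
  have h9 : p ≤ p * ((Subgroup.normalizer ((P : Subgroup G) : Set G)).index / p) :=
    Nat.le_mul_of_pos_right p (Nat.pos_of_ne_zero h8)
  omega

/-- A rational number `a / b` (integers, in `ℂ`) that is an algebraic integer forces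
divisibility. -/
theorem int_dvd_of_isIntegral_div' {a : ℤ} {b : ℕ} (hb : b ≠ 0)
    (h : IsIntegral ℤ ((a : ℂ) / (b : ℂ))) : (b : ℤ) ∣ a := by
  have h1 : ((a : ℂ) / (b : ℂ)) = algebraMap ℚ ℂ ((a : ℚ) / (b : ℚ)) := by simp
  rw [h1, isIntegral_algebraMap_iff (algebraMap ℚ ℂ).injective] at h
  obtain ⟨m, hm⟩ := IsIntegrallyClosed.algebraMap_eq_of_integral h
  have hbq : (b : ℚ) ≠ 0 := by exact_mod_cast hb
  have h2 : (a : ℚ) = (m : ℚ) * (b : ℚ) := by
    have : (m : ℚ) = (a : ℚ) / (b : ℚ) := by simpa using hm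
    rw [this]; field_simp
  have h3 : a = m * (b : ℤ) := by exact_mod_cast h2
  exact ⟨m, by rw [h3, mul_comm]⟩

/-- a degree `≡ ±1 mod p`, not `1`, is at least `p - 1` -/
theorem deg_ge (p d : ℕ) (ε : ℤ) (hε : ε = 1 ∨ ε = -1) (hd1 : 1 ≤ d) (hd : d ≠ 1)
    (hmod : (d : ℤ) ≡ ε [ZMOD p]) : p - 1 ≤ d := by
  rcases hε with h | h
  · rw [h] at hmod
    obtain ⟨c, hc⟩ := hmod.symm.dvd
    have h2 : (d : ℤ) - 1 = p * c := hc
    have hc0 : 0 < c := by
      by_contra hneg
      push Not at hneg
      have : (p : ℤ) * c ≤ 0 := mul_nonpos_of_nonneg_of_nonpos (by positivity) hneg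
      omega
    have : (p : ℤ) ≤ p * c := by nlinarith
    omega
  · rw [h] at hmod
    obtain ⟨c, hc⟩ := hmod.symm.dvd
    have h2 : (d : ℤ) - -1 = p * c := hc
    have hc0 : 0 < c := by
      by_contra hneg
      push Not at hneg
      have : (p : ℤ) * c ≤ 0 := mul_nonpos_of_nonneg_of_nonpos (by positivity) hneg
      omega
    have : (p : ℤ) ≤ p * c := by nlinarith
    omega

/-- the congruence for the cofactor -/
theorem mod_lemma (p u d e n : ℕ) (ε : ℤ) (hε : ε = 1 ∨ ε = -1) (hud : u * d = e * n)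
    (hn : n % p = 1) (hd : (d : ℤ) ≡ ε [ZMOD p]) : (u : ℤ) ≡ ε * (e : ℤ) [ZMOD p] := by
  have hn' : (n : ℤ) ≡ 1 [ZMOD p] := by
    have h1 : ((n % p : ℕ) : ℤ) = 1 := by rw [hn]; rfl
    have h2 : (n : ℤ) % (p : ℤ) = 1 := by rw [← h1]; exact (Int.natCast_mod n p).symm
    unfold Int.ModEq
    rw [h2]
    by_cases hp1 : (p : ℤ) = 1
    · exfalso
      have : n % p = 0 := by
        have : p = 1 := by exact_mod_cast hp1
        rw [this]; exact Nat.mod_one n
      omega
    · by_cases hp0 : p = 0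
      · subst hp0; simp
      · have hp2 : (2 : ℤ) ≤ p := by
          have : p ≠ 1 := by intro h; apply hp1; exact_mod_cast h
          omega
        exact (Int.emod_eq_of_lt (by norm_num) (by omega)).symm
  have hε2 : ε * ε = 1 := by rcases hε with h | h <;> rw [h] <;> norm_num
  have h1 : (u : ℤ) * (d : ℤ) = (e : ℤ) * (n : ℤ) := by exact_mod_cast hud
  have h2 : (u : ℤ) * ε ≡ (u : ℤ) * (d : ℤ) [ZMOD p] := Int.ModEq.mul_left _ hd.symm
  have h3 : (e : ℤ) * (n : ℤ) ≡ (e : ℤ) * 1 [ZMOD p] := Int.ModEq.mul_left _ hn'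
  have h4 : (u : ℤ) * ε ≡ (e : ℤ) [ZMOD p] := by
    rw [h1] at h2
    rw [mul_one] at h3
    exact h2.trans h3
  have h5 : (u : ℤ) * ε * ε ≡ (e : ℤ) * ε [ZMOD p] := Int.ModEq.mul_right _ h4
  rw [mul_assoc, hε2, mul_one] at h5
  rw [mul_comm ε]
  exact h5

/-- **The simple case, `|P| = p`**: `p (p² - 1) ≤ 2 |G|`. -/
theorem two_mul_card_ge_of_card_sylow [Fintype G] [Fact p.Prime] (hp2 : p ≠ 2) [IsSimpleGroup G]
    (P : Sylow p G) (hP : Nat.card P = p) (hPn : ¬ (P : Subgroup G).Normal) :
    p * (p ^ 2 - 1) ≤ 2 * Nat.card G := by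
  classical
  have hp : p.Prime := Fact.out
  have hp3 : 3 ≤ p := by have := hp.two_le; omega
  by_contra hlt
  push Not at hlt
  obtain ⟨M, hM⟩ := Helper74.exists_isPModular p hp
  have hMp : M.IsPrime := hM.2.1.isPrime
  obtain ⟨X, Y, hXY, hdisj, hcX, hcY, εX, ε, hX, hε, -, hYeq, hrel⟩ :=
    Helper16.DefOne.principal_structure M P hM hP _ rfl
  have hperf : commutator G = ⊤ := commutator_eq_top_of_simple _ hPn
  obtain ⟨hn1, hnp⟩ := index_normalizer_ge P hPn
  have hCN : Subgroup.centralizer ((P : Subgroup G) : Set G) ≤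
      Subgroup.normalizer ((P : Subgroup G) : Set G) := Subgroup.centralizer_le_normalizer _
  have hKidx := Subgroup.relIndex_mul_index hCN
  have hPC : (P : Subgroup G) ≤ Subgroup.centralizer ((P : Subgroup G) : Set G) :=
    Helper82.DefOne.le_cen P hP
  have hcardC : p ≤ Nat.card (Subgroup.centralizer ((P : Subgroup G) : Set G)) := by
    have := Subgroup.card_le_of_le hPC
    rwa [hP] at this
  have hG := (Subgroup.centralizer ((P : Subgroup G) : Set G)).index_mul_card
  have hedvd : (Subgroup.centralizer ((P : Subgroup G) : Set G)).relIndex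
      (Subgroup.normalizer ((P : Subgroup G) : Set G)) ∣ p - 1 := by
    have h1 := Helper82.DefOne.relIndex_cen_nor_dvd P hP
    rw [Helper82.DefOne.nor_eq_normalizer P hP] at h1
    exact h1
  -- abbreviations
  generalize he : (Subgroup.centralizer ((P : Subgroup G) : Set G)).relIndex
      (Subgroup.normalizer ((P : Subgroup G) : Set G)) = e at *
  generalize hn : (Subgroup.normalizer ((P : Subgroup G) : Set G)).index = n at *
  have he1 : 1 ≤ e := by
    rcases Nat.eq_zero_or_pos e with h | h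
    · rw [h, zero_dvd_iff] at hedvd; omega
    · exact h
  have hK2 : 2 * (e * n) < p ^ 2 - 1 := by
    have h1 : 2 * (e * n) * p ≤ 2 * Nat.card G := by
      rw [← hG, ← hKidx]
      nlinarith
    have h2 : p * (2 * (e * n)) < p * (p ^ 2 - 1) := by
      calc p * (2 * (e * n)) = 2 * (e * n) * p := by ring
        _ ≤ 2 * Nat.card G := h1
        _ < p * (p ^ 2 - 1) := hlt
    exact Nat.lt_of_mul_lt_mul_left h2
  -- a generator of `P`
  obtain ⟨x₀, hx₀, hx₀p⟩ := Helper48.DefOneGR.exists_gen P hP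
  have hx₀1 : x₀ ≠ 1 := by
    intro h
    rw [h, orderOf_one] at hx₀p
    omega
  have hcent := centralizer_singleton_eq P hP x₀ hx₀ hx₀1
  have hval : ∀ χ ∈ X, (χ : G → ℂ) x₀ = (εX χ : ℂ) := by
    intro χ hχ
    have h1 := (hX χ hχ).2.2 x₀ hx₀ hx₀1 1 (one_mem _)
      (by rw [orderOf_one]; exact hp.not_dvd_one)
    rwa [mul_one] at h1
  -- degrees of the members of `X` divide `e * n`
  have hdvd : ∀ χ ∈ X, charDegree (χ : G → ℂ) ∣ e * n := by
    intro χ hχ
    have hint := Helper78.isIntegral_centralChar χ.2 x₀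
    unfold centralChar at hint
    rw [hcent, ← hKidx, hval χ hχ, Helper79.irr_one χ] at hint
    have hd0 : charDegree (χ : G → ℂ) ≠ 0 := (Helper79.irr_charDegree_pos χ).ne'
    have h2 : (((((e * n : ℕ) : ℤ) * εX χ : ℤ) : ℂ)) / ((charDegree (χ : G → ℂ) : ℕ) : ℂ) =
        ((e * n : ℕ) : ℂ) * (εX χ : ℂ) / ((charDegree (χ : G → ℂ) : ℕ) : ℂ) := by
      push_cast
      ring
    rw [← h2] at hint
    have h3 := int_dvd_of_isIntegral_div' hd0 hint
    have h4 : ((charDegree (χ : G → ℂ) : ℕ) : ℤ) ∣ ((e * n : ℕ) : ℤ) := by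
      rcases (hX χ hχ).1 with h | h
      · rw [h, mul_one] at h3; exact h3
      · rw [h, mul_neg, mul_one, dvd_neg] at h3; exact h3
    exact_mod_cast h4
  have hsq := Helper79.sum_charDegree_sq (G := G)
  -- analysis of the nontrivial members of `X`
  have hkey : ∀ χ ∈ X, χ ≠ Helper79.principalIrr G →
      ∃ u : ℕ, 1 ≤ u ∧ 2 * u < p + 1 ∧ u * charDegree (χ : G → ℂ) = e * n ∧
        (u : ℤ) ≡ εX χ * (e : ℤ) [ZMOD p] := by
    intro χ hχ hne
    have hd1 : 1 ≤ charDegree (χ : G → ℂ) := Helper79.irr_charDegree_pos χ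
    have hdne : charDegree (χ : G → ℂ) ≠ 1 := by
      intro h1
      apply hne
      apply Helper20.D8.eq_principal_of_degree_one hperf χ
      rw [Helper79.irr_one χ, h1]
      simp
    have hdge := deg_ge p _ (εX χ) (hX χ hχ).1 hd1 hdne (hX χ hχ).2.1
    obtain ⟨u, hu⟩ := hdvd χ hχ
    have hud : u * charDegree (χ : G → ℂ) = e * n := by rw [hu, mul_comm]
    have hen : 0 < e * n := by
      have : 0 < n := by omega
      positivity
    have hu1 : 1 ≤ u := by
      rcases Nat.eq_zero_or_pos u with h | h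
      · rw [h, zero_mul] at hud; omega
      · exact h
    refine ⟨u, hu1, ?_, hud, mod_lemma p u _ e n (εX χ) (hX χ hχ).1 hud hn1 (hX χ hχ).2.1⟩
    have h1 : u * (p - 1) ≤ e * n := by
      rw [← hud]
      exact Nat.mul_le_mul_left u hdge
    have h2 : p ^ 2 - 1 = (p - 1) * (p + 1) := by
      obtain ⟨k, rfl⟩ : ∃ k, p = k + 1 := ⟨p - 1, by omega⟩
      have : (k + 1) ^ 2 = (k + 1 - 1) * (k + 1 + 1) + 1 := by
        simp only [Nat.add_sub_cancel]; ring
      omega
    have h3 : (p - 1) * (2 * u) < (p - 1) * (p + 1) := by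
      calc (p - 1) * (2 * u) = 2 * (u * (p - 1)) := by ring
        _ ≤ 2 * (e * n) := Nat.mul_le_mul_left 2 h1
        _ < p ^ 2 - 1 := hK2
        _ = (p - 1) * (p + 1) := h2
    exact Nat.lt_of_mul_lt_mul_left h3
  have hprB : Helper79.principalIrr G ∈ principalBlock M G :=
    Helper78.principalIrr_mem_principalBlock M hMp G
  have hone_reg : ¬ p ∣ orderOf (1 : G) := by rw [orderOf_one]; exact hp.not_dvd_one
  have hpr1 : ((Helper79.principalIrr G : IrrCharacter G) : G → ℂ) 1 = 1 := rfl
  have hprdeg : charDegree ((Helper79.principalIrr G : IrrCharacter G) : G → ℂ) = 1 := by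
    have := Helper79.irr_one (Helper79.principalIrr G)
    rw [hpr1] at this
    exact_mod_cast this.symm
  have hte : (p - 1) / e * e = p - 1 := Nat.div_mul_cancel hedvd
  have hXfin : X.Finite := Set.toFinite X
  have hYfin : Y.Finite := Set.toFinite Y
  have hXcard : hXfin.toFinset.card = e := by
    rw [← hcX, ← Set.ncard_eq_toFinset_card _ hXfin]
    exact (Nat.card_coe_set_eq _).symm
  have hYcard : hYfin.toFinset.card = (p - 1) / e := by
    rw [← hcY, ← Set.ncard_eq_toFinset_card _ hYfin]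
    exact (Nat.card_coe_set_eq _).symm
  -- split on the inertial index
  have hsplit : e = p - 1 ∨ 2 * e ≤ p - 1 := by
    rcases Nat.lt_or_ge ((p - 1) / e) 2 with h | h
    · left
      have h1 : (p - 1) / e ≠ 0 := by
        intro h0
        rw [h0, zero_mul] at hte
        omega
      have h2 : (p - 1) / e = 1 := by omega
      rw [h2, one_mul] at hte
      exact hte
    · right
      calc 2 * e ≤ (p - 1) / e * e := Nat.mul_le_mul_right e h
        _ = p - 1 := hte
  rcases hsplit with hbig | hsmall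
  · -- `e = p - 1`
    have hex : ∃ χ ∈ X, χ ≠ Helper79.principalIrr G := by
      by_contra hall
      push Not at hall
      have hsub : hXfin.toFinset ⊆ {Helper79.principalIrr G} := by
        intro χ hχ
        rw [Finset.mem_singleton]
        exact hall χ (hXfin.mem_toFinset.mp hχ)
      have := Finset.card_le_card hsub
      rw [hXcard, Finset.card_singleton] at this
      omega
    obtain ⟨χ, hχ, hne⟩ := hex
    obtain ⟨u, hu1, hu2, hud, hmod⟩ := hkey χ hχ hne
    rw [hbig] at hmod
    obtain ⟨-, hu⟩ := arith_big p u (εX χ) hp3 hu1 hu2 (hX χ hχ).1 hmod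
    rw [hu, one_mul] at hud
    have hle : charDegree (χ : G → ℂ) ^ 2 ≤ Nat.card G := by
      rw [← hsq]
      exact Finset.single_le_sum (f := fun ψ : IrrCharacter G => charDegree (ψ : G → ℂ) ^ 2)
        (fun _ _ => Nat.zero_le _) (Finset.mem_univ χ)
    rw [hud, hbig] at hle
    have h1 : (p - 1) * (p + 1) ≤ (p - 1) * n := Nat.mul_le_mul_left _ hnp
    have h2 : ((p - 1) * (p + 1)) ^ 2 ≤ ((p - 1) * n) ^ 2 := Nat.pow_le_pow_left h1 2
    have h3 : p ^ 2 - 1 = (p - 1) * (p + 1) := by
      obtain ⟨k, rfl⟩ : ∃ k, p = k + 1 := ⟨p - 1, by omega⟩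
      have : (k + 1) ^ 2 = (k + 1 - 1) * (k + 1 + 1) + 1 := by
        simp only [Nat.add_sub_cancel]; ring
      omega
    rw [h3] at hlt
    generalize hA : (p - 1) * (p + 1) = A at *
    have hpA : p ≤ A := by
      rw [← hA]
      have h5 : 1 ≤ p - 1 := by omega
      calc p ≤ 1 * (p + 1) := by omega
        _ ≤ (p - 1) * (p + 1) := Nat.mul_le_mul_right _ h5
    have h6 : p * A ≤ A ^ 2 := by
      rw [sq]
      exact Nat.mul_le_mul_right A hpA
    have h7 : A ^ 2 ≤ Nat.card G := h2.trans hle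
    omega
  · -- `2 e ≤ p - 1`
    have hYge : 2 ≤ (p - 1) / e := by
      rw [Nat.le_div_iff_mul_le (by omega)]
      exact hsmall
    -- the principal character lies in `X`
    have hprX : Helper79.principalIrr G ∈ X := by
      rw [hXY] at hprB
      rcases hprB with h | h
      · exact h
      · exfalso
        have hsub : hYfin.toFinset ⊆ {Helper79.principalIrr G} := by
          intro θ hθ
          rw [Finset.mem_singleton]
          have hθY : θ ∈ Y := hYfin.mem_toFinset.mp hθ
          apply Helper20.D8.eq_principal_of_degree_one hperf θ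
          rw [hYeq θ hθY _ h 1 hone_reg]
          exact hpr1
        have := Finset.card_le_card hsub
        rw [hYcard, Finset.card_singleton] at this
        omega
    have hεpr : εX (Helper79.principalIrr G) = 1 := by
      rcases (hX _ hprX).1 with h | h
      · exact h
      · exfalso
        have h1 := (hX _ hprX).2.1
        rw [h, hprdeg] at h1
        obtain ⟨c, hc⟩ := h1.dvd
        have h2 : (-1 : ℤ) - ((1 : ℕ) : ℤ) = p * c := hc
        have h3 : (p : ℤ) * (-c) = 2 := by push_cast at h2; linarith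
        have h4 : (0 : ℤ) < -c := by
          by_contra hneg
          push Not at hneg
          have : (p : ℤ) * (-c) ≤ 0 := mul_nonpos_of_nonneg_of_nonpos (by positivity) hneg
          omega
        have h5 : (p : ℤ) ≤ p * (-c) := by nlinarith
        omega
    have hXdeg : ∀ χ ∈ X, χ ≠ Helper79.principalIrr G →
        εX χ = 1 ∧ charDegree (χ : G → ℂ) = n := by
      intro χ hχ hne
      obtain ⟨u, hu1, hu2, hud, hmod⟩ := hkey χ hχ hne
      obtain ⟨h1, h2⟩ := arith_small p e u (εX χ) hp3 he1 hsmall hu1 hu2 (hX χ hχ).1 hmod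
      refine ⟨h1, ?_⟩
      rw [h2] at hud
      exact Nat.eq_of_mul_eq_mul_left he1 hud
    -- a member of `Y`
    have hYne : hYfin.toFinset.Nonempty := by
      rw [← Finset.card_pos, hYcard]
      omega
    obtain ⟨θ, hθ'⟩ := hYne
    have hθ : θ ∈ Y := hYfin.mem_toFinset.mp hθ'
    have hrel1 := hrel θ hθ 1 hone_reg
    rw [finsum_mem_eq_finite_toFinset_sum _ hXfin] at hrel1
    have hprXf : Helper79.principalIrr G ∈ hXfin.toFinset := hXfin.mem_toFinset.mpr hprX
    have hsum : ∑ χ ∈ hXfin.toFinset, (εX χ : ℂ) * (χ : G → ℂ) 1 =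
        ((1 + (e - 1) * n : ℕ) : ℂ) := by
      rw [← Finset.add_sum_erase _ _ hprXf, hεpr, hpr1]
      have h1 : ∑ χ ∈ hXfin.toFinset.erase (Helper79.principalIrr G),
          (εX χ : ℂ) * (χ : G → ℂ) 1 =
          ∑ _χ ∈ hXfin.toFinset.erase (Helper79.principalIrr G), (n : ℂ) := by
        refine Finset.sum_congr rfl (fun χ hχ => ?_)
        have hχX : χ ∈ X := hXfin.mem_toFinset.mp (Finset.mem_of_mem_erase hχ)
        have hne : χ ≠ Helper79.principalIrr G := Finset.ne_of_mem_erase hχ
        obtain ⟨h2, h3⟩ := hXdeg χ hχX hne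
        rw [h2, Helper79.irr_one χ, h3]
        simp
      rw [h1, Finset.sum_const, Finset.card_erase_of_mem hprXf, hXcard]
      push_cast
      simp
    rw [hsum, Helper79.irr_one θ] at hrel1
    have hrelZ : ε * ((charDegree (θ : G → ℂ) : ℕ) : ℤ) = ((1 + (e - 1) * n : ℕ) : ℤ) := by
      exact_mod_cast hrel1
    have hεone : ε = 1 := by
      rcases hε with h | h
      · exact h
      · exfalso
        rw [h] at hrelZ
        have h1 : (0 : ℤ) ≤ ((charDegree (θ : G → ℂ) : ℕ) : ℤ) := Int.natCast_nonneg _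
        have h2 : (0 : ℤ) < ((1 + (e - 1) * n : ℕ) : ℤ) := by
          have h3 : 0 < 1 + (e - 1) * n := by omega
          exact_mod_cast h3
        linarith
    rw [hεone, one_mul] at hrelZ
    have hy : charDegree (θ : G → ℂ) = 1 + (e - 1) * n := by exact_mod_cast hrelZ
    have he2 : 2 ≤ e := by
      by_contra hlt2
      have he' : e = 1 := by omega
      rw [he'] at hy
      simp only [Nat.sub_self, zero_mul, add_zero] at hy
      have : θ = Helper79.principalIrr G := by
        apply Helper20.D8.eq_principal_of_degree_one hperf θ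
        rw [Helper79.irr_one θ, hy]
        simp
      rw [this] at hθ
      exact Set.disjoint_left.mp hdisj hprX hθ
    have hYdeg : ∀ θ' ∈ hYfin.toFinset, charDegree (θ' : G → ℂ) = charDegree (θ : G → ℂ) := by
      intro θ' hθ''
      have hθ'Y : θ' ∈ Y := hYfin.mem_toFinset.mp hθ''
      have h1 := hYeq θ' hθ'Y θ hθ 1 hone_reg
      rw [Helper79.irr_one θ', Helper79.irr_one θ] at h1
      exact_mod_cast h1
    have hle : (p - 1) / e * charDegree (θ : G → ℂ) ^ 2 ≤ Nat.card G := by
      rw [← hsq, ← hYcard]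
      calc hYfin.toFinset.card * charDegree (θ : G → ℂ) ^ 2
          = ∑ θ' ∈ hYfin.toFinset, charDegree (θ' : G → ℂ) ^ 2 := by
            rw [Finset.sum_congr rfl (fun θ' hθ'' => by rw [hYdeg θ' hθ'']), Finset.sum_const,
              smul_eq_mul]
        _ ≤ ∑ χ : IrrCharacter G, charDegree (χ : G → ℂ) ^ 2 :=
            Finset.sum_le_sum_of_subset (Finset.subset_univ _)
    have hyge : 1 + (e - 1) * (p + 1) ≤ charDegree (θ : G → ℂ) := by
      rw [hy]
      exact Nat.add_le_add_left (Nat.mul_le_mul_left _ hnp) 1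
    have := arith_final p e ((p - 1) / e) _ (Nat.card G) hp3 he2 hte hyge hle
    omega

/-- **(T) A simple group whose Sylow `p`-subgroups are not normal (`p` odd) has order at least
`p (p² - 1) / 2`.** -/
theorem card_ge_of_simple (p : ℕ) [Fact p.Prime] (hp : p ≠ 2) {G : Type u} [Group G] [Finite G]
    [IsSimpleGroup G] (hG : ¬ Cfsg.IsPClosed p G) : p * (p ^ 2 - 1) / 2 ≤ Nat.card G := by
  classical
  letI : Fintype G := Fintype.ofFinite G
  have hpp : p.Prime := Fact.out
  unfold IsPClosed at hG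
  push Not at hG
  obtain ⟨P, hPn⟩ := hG
  have key : p * (p ^ 2 - 1) ≤ 2 * Nat.card G := by
    by_cases hP : Nat.card P = p
    · exact two_mul_card_ge_of_card_sylow hp P hP hPn
    · have hk := P.card_eq_multiplicity
      generalize (Nat.card G).factorization p = k at hk
      have hk0 : k ≠ 0 := by
        intro h0
        rw [h0, pow_zero] at hk
        apply hPn
        have hbot : (P : Subgroup G) = ⊥ := Subgroup.card_eq_one.mp hk
        rw [hbot]
        infer_instance
      have hk1 : k ≠ 1 := by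
        intro h1
        rw [h1, pow_one] at hk
        exact hP hk
      have hk2 : 2 ≤ k := by omega
      have hp2le : p ^ 2 ≤ Nat.card P := by
        rw [hk]
        exact Nat.pow_le_pow_right hpp.pos hk2
      obtain ⟨-, hnp⟩ := index_normalizer_ge P hPn
      have hN : Nat.card P ≤ Nat.card (Subgroup.normalizer ((P : Subgroup G) : Set G)) :=
        Subgroup.card_le_of_le Subgroup.le_normalizer
      have hG' := (Subgroup.normalizer ((P : Subgroup G) : Set G)).index_mul_card
      have h1 : (p + 1) * p ^ 2 ≤ Nat.card G := by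
        rw [← hG']
        exact Nat.mul_le_mul hnp (hp2le.trans hN)
      have h2 : p * (p ^ 2 - 1) ≤ p * p ^ 2 := Nat.mul_le_mul_left _ (Nat.sub_le _ _)
      have h3 : p * p ^ 2 ≤ (p + 1) * p ^ 2 := Nat.mul_le_mul_right _ (Nat.le_succ p)
      omega
  omega

end Cfsg.Agent.Helper25.NPCSimple
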