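import Cfsg.Agent.Helper25.BRRigid
import Cfsg.Agent.Helper25.BRN1
import Cfsg.Agent.Helper79.BRPCa
import Cfsg.Agent.Helper79.BRPCb
import Cfsg.Agent.Helper41.BREXPa
import Cfsg.Agent.Helper81.BREXPb
import Cfsg.Agent.Helper70.BRGT0
import Cfsg.Agent.Helper50.BRGT1
import Cfsg.Agent.Helper50.BRGT2
import Cfsg.Agent.Helper50.BRGT3
import Cfsg.Agent.Helper70.BRGT4
import Cfsg.Agent.Helper50.BRGT5
import Cfsg.Agent.Helper19.BRGT6

/-!
# Brauer–Reynolds (`p ^ 3 > |G|`), helper25: the assembly for simple groups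

`main_simple`: a finite simple non-cyclic group `G` with `p ∣ |G| < p ^ 3` is `PSL₂(p)` (`p > 3`)
or `SL₂(2 ^ m)` with `p = 2 ^ m + 1` a Fermat prime.  Pieces: (P2),(N1) `Helper25.BRN1`,
(A) `Helper25.BRRigid`, (PCa),(PCb) helper79, (EXPa) helper41, (EXPb) helper81,
(GT0),(GT4) helper70, (GT1),(GT2),(GT3),(GT5) helper50, (GT6) helper19.
-/

set_option autoImplicit false
set_option linter.style.haveILetI false
set_option linter.unusedSectionVars false
set_option linter.unusedVariables false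

namespace Cfsg.Agent.Helper25.BRMain

open Cfsg Cfsg.Agent.Helper25.BR

universe u

theorem config_of_small {G : Type u} [Group G] [Finite G] [IsSimpleGroup G] {p : ℕ}
    [Fact p.Prime] (hp2 : p ≠ 2) (P : Sylow p G) (hP : Nat.card P = p)
    (hPn : ¬ (P : Subgroup G).Normal) (hbig : Nat.card G < p ^ 3) (n : ℕ) (hn : 2 ≤ n)
    (hsyl : Nat.card (Sylow p G) = 1 + n * p) :
    ∃ (e t k : ℕ), Config p e t k P := by
  classical
  letI : Fintype G := Fintype.ofFinite G
  obtain ⟨e, t, k, Xp, Xm, Y, hR, htn⟩ := rigid_of_small hp2 P hP hPn hbig n hn hsyl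
  refine ⟨e, t, k, Helper81.BR.config_of_rigid hR (fun g hg1 hg => Helper79.BR.fx_formula hR (Helper79.BR.mult_perm hR) g hg1 hg) ?_⟩
  intro g hg1 hg hfp
  rw [htn]
  exact Helper41.BREXPa.fx_le P hP hR.cent n hsyl g hg1 hg hfp

theorem sl2_of_config {G : Type u} [Group G] [Finite G] [IsSimpleGroup G] {p e t k : ℕ}
    [Fact p.Prime] {P : Sylow p G} (h : Config p e t k P) :
    ∃ (m : ℕ) (F : Type) (_ : Field F) (_ : Fintype F), Fintype.card F = 2 ^ m ∧ p = 2 ^ m + 1 ∧
      3 < p ∧ Nonempty (G ≃* Matrix.SpecialLinearGroup (Fin 2) F) := by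
  have hc := Helper50.BR.gt1 h
  have he2 : 2 ∣ e := by
    obtain ⟨c, hc2, hct⟩ := hc
    rw [h.hek, hct]
    obtain ⟨c', rfl⟩ : ∃ c', c = c' + 1 := ⟨c - 1, by omega⟩
    rw [pow_succ]
    exact ⟨1 + 2 ^ c' * k, by ring⟩
  have h0 := Helper70.BR.gt0 h he2
  have h2 := Helper50.BR.gt2 h hc
  have h3 := Helper50.BR.gt3 h (fun Q => ⟨(h0 Q).1, (h0 Q).2.1⟩)
  have hk : k = 0 := Helper70.BR.gt4 h (fun Q => (h0 Q).2.2) hc h2 h3.2
  subst hk
  exact Helper19.BR.gt6 h (Helper50.BR.gt5 h hc h3)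

theorem main_simple {G : Type u} [Group G] [Finite G] [IsSimpleGroup G] (hG : ¬ IsCyclic G)
    (p : ℕ) (hp : p.Prime) (hdvd : p ∣ Nat.card G) (hbig : Nat.card G < p ^ 3) :
    (3 < p ∧ Nonempty (G ≃* Matrix.ProjectiveSpecialLinearGroup (Fin 2) (ZMod p))) ∨
    (∃ (m : ℕ) (F : Type) (_ : Field F) (_ : Fintype F), Fintype.card F = 2 ^ m ∧
      p = 2 ^ m + 1 ∧ 3 < p ∧ Nonempty (G ≃* Matrix.SpecialLinearGroup (Fin 2) F)) := by
  classical
  haveI : Fact p.Prime := ⟨hp⟩
  have hp2 : p ≠ 2 := by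
    rintro rfl
    exact BRN1.p2_false hG hdvd hbig
  -- a Sylow subgroup, not normal, of order `p`
  obtain ⟨P⟩ : Nonempty (Sylow p G) := inferInstance
  have hPn : ¬ (P : Subgroup G).Normal := not_normal_of_simple hG p hdvd P
  obtain ⟨hn1, hnp⟩ := NPCSimple.index_normalizer_ge P hPn
  have hP : Nat.card P = p := by
    by_contra hP
    have hk := P.card_eq_multiplicity
    generalize (Nat.card G).factorization p = k at hk
    have hk0 : k ≠ 0 := by
      intro h0
      rw [h0, pow_zero] at hk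
      apply hPn
      have hbot : (P : Subgroup G) = ⊥ := Subgroup.card_eq_one.mp hk
      rw [hbot]
      infer_instance
    have hk1 : k ≠ 1 := by
      intro h1
      rw [h1, pow_one] at hk
      exact hP hk
    have hk2 : 2 ≤ k := by omega
    have hp2le : p ^ 2 ≤ Nat.card P := by
      rw [hk]
      exact Nat.pow_le_pow_right hp.pos hk2
    have hN : Nat.card P ≤ Nat.card (Subgroup.normalizer ((P : Subgroup G) : Set G)) :=
      Subgroup.card_le_of_le Subgroup.le_normalizer
    have hG' := (Subgroup.normalizer ((P : Subgroup G) : Set G)).index_mul_card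
    have h1 : (p + 1) * p ^ 2 ≤ Nat.card G := by
      rw [← hG']
      exact Nat.mul_le_mul hnp (hp2le.trans hN)
    have h3 : p ^ 3 < (p + 1) * p ^ 2 := by
      have : 0 < p ^ 2 := pow_pos hp.pos 2
      nlinarith
    omega
  -- the number of Sylow subgroups
  have hsyl0 : Nat.card (Sylow p G) =
      (Subgroup.normalizer ((P : Subgroup G) : Set G)).index := P.card_eq_index_normalizer
  obtain ⟨n, hn⟩ : ∃ n, Nat.card (Sylow p G) = 1 + n * p := by
    refine ⟨(Subgroup.normalizer ((P : Subgroup G) : Set G)).index / p, ?_⟩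
    rw [hsyl0]
    have := Nat.div_add_mod (Subgroup.normalizer ((P : Subgroup G) : Set G)).index p
    rw [hn1] at this
    rw [mul_comm] at this
    omega
  rcases Nat.lt_or_ge n 2 with hn2 | hn2
  · -- `n = 1`
    have hn1' : n = 1 := by
      rcases Nat.eq_zero_or_pos n with h0 | h0
      · rw [h0, zero_mul, add_zero] at hn
        rw [hsyl0] at hn
        have := hp.two_le
        omega
      · omega
    left
    exact BRN1.psl_of_card_sylow_succ hG p hp2 (by rw [hn, hn1']; ring) hbig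
  · right
    obtain ⟨e, t, k, hC⟩ := config_of_small hp2 P hP hPn hbig n hn2 hn
    exact sl2_of_config hC

end Cfsg.Agent.Helper25.BRMain
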