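import Mathlib.GroupTheory.OrderOfElement
import Mathlib.Data.Nat.ModEq
import Mathlib.Tactic.Group

set_option autoImplicit false

namespace Cfsg.Agent.Helper25

/-- If `a`, `u` commute, `a ^ m = 1`, `u ^ n = 1`, `k ≡ 1 [MOD m]` and `k ≡ 0 [MOD n]`
then `(a * u) ^ k = a`. -/
theorem mul_pow_eq_left_of_modEq {G : Type*} [Monoid G] {a u : G} (h : Commute a u) {m n k : ℕ}
    (ha : a ^ m = 1) (hu : u ^ n = 1) (hk1 : k ≡ 1 [MOD m]) (hk0 : k ≡ 0 [MOD n]) :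
    (a * u) ^ k = a := by
  rw [h.mul_pow, pow_eq_pow_of_modEq hk1 ha, pow_eq_pow_of_modEq hk0 hu, pow_one, pow_zero, mul_one]

/-- For coprime `m`, `n` there is an exponent `k` with `k ≡ 1 [MOD m]` and `k ≡ 0 [MOD n]`. -/
theorem exists_modEq_one_zero {m n : ℕ} (h : Nat.Coprime m n) :
    ∃ k : ℕ, k ≡ 1 [MOD m] ∧ k ≡ 0 [MOD n] :=
  ⟨(Nat.chineseRemainder h 1 0 : ℕ), (Nat.chineseRemainder h 1 0).2.1, (Nat.chineseRemainder h 1 0).2.2⟩

/-- Conjugation commutes with powers. -/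
theorem conj_pow' {G : Type*} [Group G] (g x : G) (k : ℕ) : (g * x * g⁻¹) ^ k = g * x ^ k * g⁻¹ := by
  induction k with
  | zero => simp
  | succ j ih => rw [pow_succ, ih, pow_succ]; group

end Cfsg.Agent.Helper25
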