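import Mathlib.GroupTheory.OrderOfElement
import Mathlib.Algebra.Group.Subgroup.Pointwise
import Mathlib.Tactic.Group

set_option autoImplicit false

namespace Cfsg.Agent.Helper25

/-- If `C` normalizes `N`, then `(h * c) ^ k ∈ N * c ^ k` for `h ∈ N`, `c ∈ C`. -/
theorem mul_pow_mem_mul_pow {G : Type*} [Group G] (N C : Subgroup G)
    (hCN : C ≤ Subgroup.normalizer (N : Set G)) {h c : G} (hh : h ∈ N) (hc : c ∈ C) (k : ℕ) :
    (h * c) ^ k * (c ^ k)⁻¹ ∈ N := by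
  induction k with
  | zero => simp
  | succ j ih =>
    have hcj : c ^ j ∈ Subgroup.normalizer (N : Set G) := hCN (C.pow_mem hc j)
    have h1 : c ^ j * h * (c ^ j)⁻¹ ∈ N := (Subgroup.mem_normalizer_iff.mp hcj h).mp hh
    have e : (h * c) ^ (j + 1) * (c ^ (j + 1))⁻¹ =
        ((h * c) ^ j * (c ^ j)⁻¹) * (c ^ j * h * (c ^ j)⁻¹) := by
      rw [pow_succ, pow_succ]; group
    rw [e]
    exact N.mul_mem ih h1

/-- A "normal Hall subgroup" absorbs elements of coprime order: if `C` normalizes `N`, `N ⊓ C = ⊥`,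
`y ∈ N ⊔ C` and `y ^ n = 1` with `n` coprime to the order of `C`, then `y ∈ N`. -/
theorem mem_of_mem_sup_of_pow_eq_one {G : Type*} [Group G] (N C : Subgroup G)
    (hCN : C ≤ Subgroup.normalizer (N : Set G)) (hNC : N ⊓ C = ⊥) {y : G} (hy : y ∈ N ⊔ C)
    {n : ℕ} (hyn : y ^ n = 1) (hcop : Nat.Coprime n (Nat.card C)) : y ∈ N := by
  have hy' : y ∈ ((N ⊔ C : Subgroup G) : Set G) := hy
  rw [Subgroup.coe_mul_of_right_le_normalizer_left N C hCN] at hy'
  obtain ⟨h, hh, c, hc, rfl⟩ := hy'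
  have h1 := mul_pow_mem_mul_pow N C hCN hh hc n
  rw [hyn, one_mul] at h1
  have h2 : c ^ n ∈ N := by simpa using N.inv_mem h1
  have h3 : c ^ n ∈ N ⊓ C := ⟨h2, C.pow_mem hc n⟩
  rw [hNC, Subgroup.mem_bot] at h3
  have h4 : orderOf c ∣ n := orderOf_dvd_of_pow_eq_one h3
  have h5 : orderOf c ∣ Nat.card C := Subgroup.orderOf_dvd_natCard C hc
  have h6 : orderOf c = 1 := Nat.eq_one_of_dvd_coprimes hcop h4 h5
  rw [orderOf_eq_one_iff] at h6
  subst h6
  simpa using hh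

end Cfsg.Agent.Helper25
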