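import Mathlib.GroupTheory.PGroup
import Mathlib.GroupTheory.GroupAction.Quotient
import Mathlib.GroupTheory.GroupAction.SubMulAction
import Mathlib.Algebra.Group.Subgroup.Pointwise
import Cfsg.Agent.Helper25.HallMem
import Cfsg.Agent.Helper25.CoprimePow

set_option autoImplicit false

namespace Cfsg.Agent.Helper25

/-- A Sylow-type lemma: if `Q` normalizes `H`, `H ⊓ Q = ⊥`, `p ∤ |H|`, then every `p`-subgroup `P` of
`H ⊔ Q` is conjugate into `Q` by an element of `H`. -/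
theorem exists_conj_mem_of_isPGroup {G : Type*} [Group G] [Finite G] {p : ℕ} [Fact p.Prime]
    (H Q P : Subgroup G) (hQH : Q ≤ Subgroup.normalizer (H : Set G)) (hHQ : H ⊓ Q = ⊥)
    (hP : IsPGroup p P) (hPle : P ≤ H ⊔ Q) (hpH : ¬ p ∣ Nat.card H) :
    ∃ x ∈ H, ∀ w ∈ P, x⁻¹ * w * x ∈ Q := by
  classical
  let f : H → G ⧸ Q := fun x => ((x : G) : G ⧸ Q)
  have hf : Function.Injective f := by
    intro x y hxy
    have h1 : (x : G)⁻¹ * y ∈ Q := QuotientGroup.eq.mp hxy
    have h2 : (x : G)⁻¹ * y ∈ H ⊓ Q := ⟨H.mul_mem (H.inv_mem x.2) y.2, h1⟩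
    rw [hHQ, Subgroup.mem_bot] at h2
    exact Subtype.ext (inv_mul_eq_one.mp h2)
  let Ω : SubMulAction P (G ⧸ Q) :=
    { carrier := Set.range f
      smul_mem' := by
        rintro w _ ⟨x, rfl⟩
        have hw : (w : G) ∈ ((H ⊔ Q : Subgroup G) : Set G) := hPle w.2
        rw [Subgroup.coe_mul_of_right_le_normalizer_left H Q hQH] at hw
        obtain ⟨h, hh, q, hq, hw'⟩ := hw
        have hq' : q * x * q⁻¹ ∈ H := (Subgroup.mem_normalizer_iff.mp (hQH hq) x).mp x.2
        refine ⟨⟨h * (q * x * q⁻¹), H.mul_mem hh hq'⟩, ?_⟩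
        show ((h * (q * x * q⁻¹) : G) : G ⧸ Q) = (((w : G) * (x : G) : G) : G ⧸ Q)
        apply QuotientGroup.eq.mpr
        have hw'' : (w : G) = h * q := hw'.symm
        rw [hw'']
        have : (h * (q * x * q⁻¹))⁻¹ * (h * q * x) = q := by group
        rw [this]
        exact hq }
  have hcard : Nat.card Ω = Nat.card H := by
    have : Nat.card Ω = Nat.card (Set.range f) := rfl
    rw [this, Nat.card_range_of_injective hf]
  have hfix := hP.nonempty_fixed_point_of_prime_not_dvd_card Ω (by rw [hcard]; exact hpH)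
  obtain ⟨⟨_, ⟨x, rfl⟩⟩, hx⟩ := hfix
  refine ⟨x, x.2, ?_⟩
  intro w hw
  have h1 := hx ⟨w, hw⟩
  have h2 : (⟨w, hw⟩ : P) • f x = f x := by
    have := congrArg Subtype.val h1
    exact this
  have h3 : (((w * x : G)) : G ⧸ Q) = ((x : G) : G ⧸ Q) := h2
  have h4 := QuotientGroup.eq.mp h3
  have h5 : (x : G)⁻¹ * w * (x : G) = ((w * (x : G))⁻¹ * (x : G))⁻¹ := by group
  rw [h5]
  exact Q.inv_mem h4

end Cfsg.Agent.Helper25
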