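import Mathlib.Data.Nat.Factorization.Basic
import Cfsg.Agent.Helper25.CoprimeConj

set_option autoImplicit false

namespace Cfsg.Agent.Helper25

theorem exists_prime_pow_decomp (n : ℕ) (hn : 1 < n) :
    ∃ p k b : ℕ, p.Prime ∧ n = p ^ k * b ∧ Nat.Coprime (p ^ k) b ∧ b < n ∧ p ∣ n := by
  have hn0 : n ≠ 0 := by omega
  have hp : (n.minFac).Prime := Nat.minFac_prime (by omega)
  have hpn : n.minFac ∣ n := Nat.minFac_dvd n
  refine ⟨n.minFac, n.factorization n.minFac, n / n.minFac ^ n.factorization n.minFac, hp,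
    (Nat.ordProj_mul_ordCompl_eq_self n n.minFac).symm, ?_, ?_, hpn⟩
  · exact Nat.Coprime.pow_left _ (Nat.coprime_ordCompl hp hn0)
  · have hk : 0 < n.factorization n.minFac := hp.factorization_pos_of_dvd hn0 hpn
    have h2 : 2 ≤ n.minFac ^ n.factorization n.minFac := by
      calc 2 ≤ n.minFac := hp.two_le
        _ = n.minFac ^ 1 := (pow_one _).symm
        _ ≤ n.minFac ^ n.factorization n.minFac := Nat.pow_le_pow_right hp.pos hk
    exact Nat.div_lt_self (by omega) h2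

/-- Lemma A: a `p`-element `z` of the coset `H g`, where `g` is a `p`-element normalizing the `p'`-group
`H`, is conjugate to `g` under `H`. -/
theorem exists_conj_eq_of_pow_eq_one {G : Type*} [Group G] [Finite G] {p : ℕ} [Fact p.Prime]
    (H : Subgroup G) (g : G) (hg : g ∈ Subgroup.normalizer (H : Set G)) (k : ℕ)
    (hgp : g ^ (p ^ k) = 1) (hpH : ¬ p ∣ Nat.card H) (z : G) (hz : z * g⁻¹ ∈ H)
    (hzp : z ^ (p ^ k) = 1) : ∃ x ∈ H, x * z * x⁻¹ = g := by
  have hp : p.Prime := Fact.out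
  have hQH : Subgroup.zpowers g ≤ Subgroup.normalizer (H : Set G) := by
    rw [Subgroup.zpowers_le]; exact hg
  have hcop : Nat.Coprime (p ^ k) (Nat.card H) :=
    Nat.Coprime.pow_left _ ((Nat.Prime.coprime_iff_not_dvd hp).mpr hpH)
  have hHQ : H ⊓ Subgroup.zpowers g = ⊥ := by
    rw [eq_bot_iff]
    rintro t ⟨htH, htQ⟩
    rw [Subgroup.mem_bot]
    have h1 : orderOf t ∣ Nat.card H := Subgroup.orderOf_dvd_natCard H htH
    have h2 : orderOf t ∣ p ^ k := by
      apply orderOf_dvd_of_pow_eq_one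
      obtain ⟨i, rfl⟩ := Subgroup.mem_zpowers_iff.mp htQ
      rw [← zpow_natCast, ← zpow_mul, mul_comm, zpow_mul, zpow_natCast, hgp, one_zpow]
    have h3 : orderOf t = 1 := Nat.eq_one_of_dvd_coprimes hcop h2 h1
    exact orderOf_eq_one_iff.mp h3
  have hP : IsPGroup p (Subgroup.zpowers z) := by
    rintro ⟨w, hw⟩
    refine ⟨k, ?_⟩
    obtain ⟨i, rfl⟩ := Subgroup.mem_zpowers_iff.mp hw
    apply Subtype.ext
    show (z ^ i) ^ (p ^ k) = 1
    rw [← zpow_natCast, ← zpow_mul, mul_comm, zpow_mul, zpow_natCast, hzp, one_zpow]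
  have hPle : Subgroup.zpowers z ≤ H ⊔ Subgroup.zpowers g := by
    rw [Subgroup.zpowers_le]
    have : z = (z * g⁻¹) * g := by group
    rw [this]
    exact Subgroup.mul_mem _ (Subgroup.mem_sup_left hz) (Subgroup.mem_sup_right (Subgroup.mem_zpowers g))
  obtain ⟨x, hx, hxP⟩ := exists_conj_mem_of_isPGroup H (Subgroup.zpowers g) (Subgroup.zpowers z) hQH hHQ hP hPle hpH
  have h1 : x⁻¹ * z * x ∈ Subgroup.zpowers g := hxP z (Subgroup.mem_zpowers z)
  have hgx : g * x * g⁻¹ ∈ H := (Subgroup.mem_normalizer_iff.mp hg x).mp hx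
  have h2 : x⁻¹ * z * x * g⁻¹ ∈ H := by
    have : x⁻¹ * z * x * g⁻¹ = x⁻¹ * (z * g⁻¹) * (g * x * g⁻¹) := by group
    rw [this]
    exact H.mul_mem (H.mul_mem (H.inv_mem hx) hz) hgx
  have h3 : x⁻¹ * z * x * g⁻¹ ∈ H ⊓ Subgroup.zpowers g :=
    ⟨h2, Subgroup.mul_mem _ h1 (Subgroup.inv_mem _ (Subgroup.mem_zpowers g))⟩
  rw [hHQ, Subgroup.mem_bot] at h3
  refine ⟨x⁻¹, H.inv_mem hx, ?_⟩
  rw [inv_inv]
  exact mul_inv_eq_one.mp h3

/-- Twisted conjugacy for a coprime cyclic action: if `g` normalizes `H` and has order coprime to `|H|`,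
every element of the coset `H g` is `H`-conjugate to an element `c g` with `c ∈ C_H(g)`. -/
theorem exists_conj_eq_centralizer_mul {G : Type*} [Group G] [Finite G] :
    ∀ (n : ℕ) (H : Subgroup G) (g : G), orderOf g = n → g ∈ Subgroup.normalizer (H : Set G) →
      Nat.Coprime n (Nat.card H) → ∀ h ∈ H, ∃ x ∈ H, ∃ c ∈ H, c * g = g * c ∧ x * (h * g) * x⁻¹ = c * g := by
  intro n
  induction n using Nat.strong_induction_on with
  | _ n ih =>
  intro H g hgn hg hcop h hh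
  have hn0 : n ≠ 0 := by rw [← hgn]; exact (orderOf_pos g).ne'
  by_cases hn1 : n = 1
  · rw [hn1, orderOf_eq_one_iff] at hgn
    subst hgn
    exact ⟨1, H.one_mem, h, hh, by simp, by simp⟩
  have hn2 : 1 < n := by omega
  obtain ⟨p, k, b, hp, hnab, hab, hbn, hpn⟩ := exists_prime_pow_decomp n hn2
  have : Fact p.Prime := ⟨hp⟩
  set a := p ^ k with ha
  have hgn1 : g ^ n = 1 := by rw [← hgn]; exact pow_orderOf_eq_one g
  have hcopa : Nat.Coprime a (Nat.card H) := Nat.Coprime.coprime_dvd_left ⟨b, hnab⟩ hcop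
  have hcopb : Nat.Coprime b (Nat.card H) := Nat.Coprime.coprime_dvd_left ⟨a, by rw [hnab, mul_comm]⟩ hcop
  have hpH : ¬ p ∣ Nat.card H := by
    intro hdvd
    have := Nat.Coprime.coprime_dvd_left hpn hcop
    rw [Nat.Prime.coprime_iff_not_dvd hp] at this
    exact this hdvd
  -- exponents
  obtain ⟨e, he1, he0⟩ := exists_modEq_one_zero (Nat.Coprime.mul_right hab hcopa)
  obtain ⟨f', hf1', hf0'⟩ := exists_modEq_one_zero hab.symm
  -- f' ≡ 1 [MOD b], f' ≡ 0 [MOD a]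
  have hbH_e : b * Nat.card H ∣ e := Nat.modEq_zero_iff_dvd.mp he0
  have hb_e : b ∣ e := (dvd_mul_right b (Nat.card H)).trans hbH_e
  have ha_f : a ∣ f' := Nat.modEq_zero_iff_dvd.mp hf0'
  have hef : e + f' ≡ 1 [MOD n] := by
    rw [hnab]
    apply (Nat.modEq_and_modEq_iff_modEq_mul hab).mp
    constructor
    · have : e + f' ≡ 1 + 0 [MOD a] := Nat.ModEq.add he1 hf0'
      simpa using this
    · have h0 : e ≡ 0 [MOD b] := Nat.modEq_zero_iff_dvd.mpr hb_e
      have : e + f' ≡ 0 + 1 [MOD b] := Nat.ModEq.add h0 hf1'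
      simpa using this
  set gp := g ^ e with hgp
  set gq := g ^ f' with hgq
  have hgpq : gp * gq = g := by
    rw [hgp, hgq, ← pow_add, pow_eq_pow_of_modEq hef hgn1, pow_one]
  have hcomm_pq : Commute gp gq := (Commute.refl g).pow_pow e f'
  have hcomm_gp : Commute g gp := (Commute.refl g).pow_right e
  have hgpa : gp ^ a = 1 := by
    rw [hgp, ← pow_mul]
    obtain ⟨t, ht⟩ := hb_e
    have : e * a = n * t := by rw [ht, hnab]; ring
    rw [this, pow_mul, hgn1, one_pow]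
  have hgqb : gq ^ b = 1 := by
    rw [hgq, ← pow_mul]
    obtain ⟨t, ht⟩ := ha_f
    have : f' * b = n * t := by rw [ht, hnab]; ring
    rw [this, pow_mul, hgn1, one_pow]
  have hNpow : ∀ j : ℕ, g ^ j ∈ Subgroup.normalizer (H : Set G) := fun j => Subgroup.pow_mem _ hg j
  -- the element y = h * g
  set y := h * g with hy
  have hyn : y ^ n ∈ H := by
    have := mul_pow_mem_mul_pow H (Subgroup.normalizer (H : Set G)) le_rfl hh hg n
    rw [hgn1, inv_one, mul_one] at this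
    exact this
  have hynH : y ^ (n * Nat.card H) = 1 := by
    rw [pow_mul]
    exact orderOf_dvd_iff_pow_eq_one.mp (Subgroup.orderOf_dvd_natCard H hyn)
  set z := y ^ e with hz
  have hzH : z * gp⁻¹ ∈ H := mul_pow_mem_mul_pow H (Subgroup.normalizer (H : Set G)) le_rfl hh hg e
  have hza : z ^ a = 1 := by
    rw [hz, ← pow_mul]
    obtain ⟨t, ht⟩ := hbH_e
    have : e * a = (n * Nat.card H) * t := by rw [ht, hnab]; ring
    rw [this, pow_mul, hynH, one_pow]
  obtain ⟨x₁, hx₁, hx₁z⟩ := exists_conj_eq_of_pow_eq_one H gp (hNpow e) k hgpa hpH z hzH hza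
  -- y' = x₁ y x₁⁻¹ = h' g
  set y' := x₁ * y * x₁⁻¹ with hy'
  have hy'e : y' ^ e = gp := by rw [hy', conj_pow']; exact hx₁z
  have hgx₁ : g * x₁⁻¹ * g⁻¹ ∈ H := (Subgroup.mem_normalizer_iff.mp hg x₁⁻¹).mp (H.inv_mem hx₁)
  set h' := x₁ * h * (g * x₁⁻¹ * g⁻¹) with hh'
  have hh'H : h' ∈ H := H.mul_mem (H.mul_mem hx₁ hh) hgx₁
  have hy'h' : y' = h' * g := by rw [hy', hh', hy]; group
  have hcomm_y' : Commute y' gp := by
    rw [← hy'e]; exact (Commute.refl y').pow_right e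
  have hcomm_h' : Commute h' gp := by
    have h1 : h' = y' * g⁻¹ := by rw [hy'h']; group
    rw [h1]
    exact Commute.mul_left hcomm_y' hcomm_gp.inv_left
  -- the subgroup H' = H ⊓ C(gp)
  set H' := H ⊓ Subgroup.centralizer ({gp} : Set G) with hH'
  have hmemC : ∀ t : G, t ∈ Subgroup.centralizer ({gp} : Set G) ↔ Commute t gp := by
    intro t
    rw [Subgroup.mem_centralizer_singleton_iff]
    exact Iff.rfl
  have hh'H' : h' ∈ H' := ⟨hh'H, (hmemC h').mpr hcomm_h'⟩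
  have hgqC : gq ∈ Subgroup.centralizer ({gp} : Set G) := (hmemC gq).mpr hcomm_pq.symm
  have hgqN : gq ∈ Subgroup.normalizer (H' : Set G) := by
    rw [Subgroup.mem_normalizer_iff]
    intro t
    have hN := Subgroup.mem_normalizer_iff.mp (hNpow f') t
    constructor
    · rintro ⟨h1, h2⟩
      exact ⟨hN.mp h1, Subgroup.mul_mem _ (Subgroup.mul_mem _ hgqC h2) (Subgroup.inv_mem _ hgqC)⟩
    · rintro ⟨h1, h2⟩
      refine ⟨hN.mpr h1, ?_⟩
      have : t = gq⁻¹ * (gq * t * gq⁻¹) * gq := by group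
      rw [this]
      exact Subgroup.mul_mem _ (Subgroup.mul_mem _ (Subgroup.inv_mem _ hgqC) h2) hgqC
  have hordq : orderOf gq ∣ b := orderOf_dvd_of_pow_eq_one hgqb
  have hb0 : b ≠ 0 := by
    rintro rfl
    rw [mul_zero] at hnab
    exact hn0 hnab
  have hltq : orderOf gq < n := lt_of_le_of_lt (Nat.le_of_dvd (Nat.pos_of_ne_zero hb0) hordq) hbn
  have hcopq : Nat.Coprime (orderOf gq) (Nat.card H') := by
    apply Nat.Coprime.coprime_dvd_left hordq
    exact Nat.Coprime.coprime_dvd_right (Subgroup.card_dvd_of_le inf_le_left) hcopb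
  obtain ⟨x₂, hx₂, c, hc, hcgq, hx₂c⟩ := ih (orderOf gq) hltq H' gq rfl hgqN hcopq h' hh'H'
  have hx₂gp : Commute x₂ gp := (hmemC x₂).mp hx₂.2
  have hcgp : Commute c gp := (hmemC c).mp hc.2
  refine ⟨x₂ * x₁, H.mul_mem hx₂.1 hx₁, c, hc.1, ?_, ?_⟩
  · rw [← hgpq]
    have : Commute c (gp * gq) := Commute.mul_right hcgp hcgq
    exact this
  · have e1 : x₂ * x₁ * (h * g) * (x₂ * x₁)⁻¹ = x₂ * y' * x₂⁻¹ := by rw [hy', hy]; group
    rw [e1, hy'h']
    have e2 : h' * g = (h' * gq) * gp := by rw [← hgpq, hcomm_pq.eq]; group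
    rw [e2]
    have e3 : x₂ * (h' * gq * gp) * x₂⁻¹ = (x₂ * (h' * gq) * x₂⁻¹) * (x₂ * gp * x₂⁻¹) := by group
    rw [e3, hx₂c]
    have e4 : x₂ * gp * x₂⁻¹ = gp := by rw [hx₂gp.eq]; group
    rw [e4, ← hgpq, hcomm_pq.eq]
    group

end Cfsg.Agent.Helper25
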