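import Mathlib

set_option autoImplicit false

/-! The internal direct product `W₁ × W₂ ≃* W₁ ⊔ W₂` for commuting subgroups meeting trivially,
and the two projections as endomorphisms of `W₁ ⊔ W₂`. -/

namespace Cfsg.Agent.Helper25

variable {G : Type*} [Group G] {W₁ W₂ : Subgroup G}

/-- The multiplication map `W₁ × W₂ → G`. -/
noncomputable def mulHom (hcomm : ∀ a ∈ W₁, ∀ b ∈ W₂, a * b = b * a) : ↥W₁ × ↥W₂ →* G :=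
  MonoidHom.noncommCoprod W₁.subtype W₂.subtype
    (fun a b => show Commute (W₁.subtype a) (W₂.subtype b) from hcomm a a.2 b b.2)

theorem mulHom_apply (hcomm : ∀ a ∈ W₁, ∀ b ∈ W₂, a * b = b * a) (p : ↥W₁ × ↥W₂) :
    mulHom hcomm p = (p.1 : G) * (p.2 : G) := rfl

theorem mulHom_range (hcomm : ∀ a ∈ W₁, ∀ b ∈ W₂, a * b = b * a) :
    (mulHom hcomm).range = W₁ ⊔ W₂ := by
  have h := MonoidHom.noncommCoprod_range W₁.subtype W₂.subtype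
    (fun a b => show Commute (W₁.subtype a) (W₂.subtype b) from hcomm a a.2 b b.2)
  rw [Subgroup.range_subtype, Subgroup.range_subtype] at h
  exact h

theorem mulHom_injective (hdisj : W₁ ⊓ W₂ = ⊥) (hcomm : ∀ a ∈ W₁, ∀ b ∈ W₂, a * b = b * a) :
    Function.Injective (mulHom hcomm) := by
  refine (MonoidHom.noncommCoprod_injective W₁.subtype W₂.subtype
    (fun a b => show Commute (W₁.subtype a) (W₂.subtype b) from hcomm a a.2 b b.2)).mpr ?_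
  refine ⟨Subtype.val_injective, Subtype.val_injective, ?_⟩
  rw [Subgroup.range_subtype, Subgroup.range_subtype, disjoint_iff, hdisj]

/-- `W₁ × W₂ ≃* W₁ ⊔ W₂`. -/
noncomputable def prodEquivSup (hdisj : W₁ ⊓ W₂ = ⊥) (hcomm : ∀ a ∈ W₁, ∀ b ∈ W₂, a * b = b * a) :
    ↥W₁ × ↥W₂ ≃* ↥(W₁ ⊔ W₂) :=
  (MonoidHom.ofInjective (mulHom_injective hdisj hcomm)).trans
    (MulEquiv.subgroupCongr (mulHom_range hcomm))

theorem prodEquivSup_coe (hdisj : W₁ ⊓ W₂ = ⊥) (hcomm : ∀ a ∈ W₁, ∀ b ∈ W₂, a * b = b * a)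
    (p : ↥W₁ × ↥W₂) : ((prodEquivSup hdisj hcomm p : ↥(W₁ ⊔ W₂)) : G) = (p.1 : G) * (p.2 : G) :=
  rfl

theorem card_sup_eq_mul (hdisj : W₁ ⊓ W₂ = ⊥) (hcomm : ∀ a ∈ W₁, ∀ b ∈ W₂, a * b = b * a) :
    Nat.card ↥(W₁ ⊔ W₂) = Nat.card W₁ * Nat.card W₂ := by
  rw [← Nat.card_congr (prodEquivSup hdisj hcomm).toEquiv, Nat.card_prod]

/-- Every element of `W₁ ⊔ W₂` is a product. -/
theorem exists_mul_of_mem_sup (hdisj : W₁ ⊓ W₂ = ⊥) (hcomm : ∀ a ∈ W₁, ∀ b ∈ W₂, a * b = b * a)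
    (w : ↥(W₁ ⊔ W₂)) : ∃ a : ↥W₁, ∃ b : ↥W₂, (w : G) = (a : G) * (b : G) := by
  obtain ⟨p, hp⟩ := (prodEquivSup hdisj hcomm).surjective w
  exact ⟨p.1, p.2, by rw [← hp, prodEquivSup_coe]⟩

/-- First projection `W₁ ⊔ W₂ → W₁ ⊔ W₂` (onto `W₁`). -/
noncomputable def proj₁ (hdisj : W₁ ⊓ W₂ = ⊥) (hcomm : ∀ a ∈ W₁, ∀ b ∈ W₂, a * b = b * a) :
    ↥(W₁ ⊔ W₂) →* ↥(W₁ ⊔ W₂) :=
  ((Subgroup.inclusion (le_sup_left : W₁ ≤ W₁ ⊔ W₂)).comp (MonoidHom.fst ↥W₁ ↥W₂)).comp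
    (prodEquivSup hdisj hcomm).symm.toMonoidHom

/-- Second projection `W₁ ⊔ W₂ → W₁ ⊔ W₂` (onto `W₂`). -/
noncomputable def proj₂ (hdisj : W₁ ⊓ W₂ = ⊥) (hcomm : ∀ a ∈ W₁, ∀ b ∈ W₂, a * b = b * a) :
    ↥(W₁ ⊔ W₂) →* ↥(W₁ ⊔ W₂) :=
  ((Subgroup.inclusion (le_sup_right : W₂ ≤ W₁ ⊔ W₂)).comp (MonoidHom.snd ↥W₁ ↥W₂)).comp
    (prodEquivSup hdisj hcomm).symm.toMonoidHom

section
variable (hdisj : W₁ ⊓ W₂ = ⊥) (hcomm : ∀ a ∈ W₁, ∀ b ∈ W₂, a * b = b * a)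

theorem proj₁_mem (w : ↥(W₁ ⊔ W₂)) : ((proj₁ hdisj hcomm w : ↥(W₁ ⊔ W₂)) : G) ∈ W₁ := by
  simp [proj₁]

theorem proj₂_mem (w : ↥(W₁ ⊔ W₂)) : ((proj₂ hdisj hcomm w : ↥(W₁ ⊔ W₂)) : G) ∈ W₂ := by
  simp [proj₂]

theorem proj₁_mul_proj₂ (w : ↥(W₁ ⊔ W₂)) : proj₁ hdisj hcomm w * proj₂ hdisj hcomm w = w := by
  obtain ⟨p, rfl⟩ := (prodEquivSup hdisj hcomm).surjective w
  apply Subtype.ext
  simp [proj₁, proj₂, prodEquivSup_coe]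

theorem proj₁_apply_mul (a : ↥W₁) (b : ↥W₂) (w : ↥(W₁ ⊔ W₂)) (h : (w : G) = (a : G) * (b : G)) :
    ((proj₁ hdisj hcomm w : ↥(W₁ ⊔ W₂)) : G) = a := by
  have : w = prodEquivSup hdisj hcomm (a, b) := Subtype.ext (by rw [h, prodEquivSup_coe])
  subst this
  simp [proj₁]

theorem proj₂_apply_mul (a : ↥W₁) (b : ↥W₂) (w : ↥(W₁ ⊔ W₂)) (h : (w : G) = (a : G) * (b : G)) :
    ((proj₂ hdisj hcomm w : ↥(W₁ ⊔ W₂)) : G) = b := by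
  have : w = prodEquivSup hdisj hcomm (a, b) := Subtype.ext (by rw [h, prodEquivSup_coe])
  subst this
  simp [proj₂]

theorem proj₁_of_mem_left (w : ↥(W₁ ⊔ W₂)) (hw : (w : G) ∈ W₁) : proj₁ hdisj hcomm w = w := by
  apply Subtype.ext
  exact proj₁_apply_mul hdisj hcomm ⟨w, hw⟩ 1 w (by simp)

theorem proj₁_of_mem_right (w : ↥(W₁ ⊔ W₂)) (hw : (w : G) ∈ W₂) : proj₁ hdisj hcomm w = 1 := by
  apply Subtype.ext
  exact proj₁_apply_mul hdisj hcomm 1 ⟨w, hw⟩ w (by simp)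

theorem proj₂_of_mem_right (w : ↥(W₁ ⊔ W₂)) (hw : (w : G) ∈ W₂) : proj₂ hdisj hcomm w = w := by
  apply Subtype.ext
  exact proj₂_apply_mul hdisj hcomm 1 ⟨w, hw⟩ w (by simp)

theorem proj₂_of_mem_left (w : ↥(W₁ ⊔ W₂)) (hw : (w : G) ∈ W₁) : proj₂ hdisj hcomm w = 1 := by
  apply Subtype.ext
  exact proj₂_apply_mul hdisj hcomm ⟨w, hw⟩ 1 w (by simp)

end

end Cfsg.Agent.Helper25
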