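import Mathlib
import Cfsg.Agent.Helper52.PQDefs
import Cfsg.Agent.Helper1.ShultAmb
import Cfsg.Agent.Helper75.ShultNilA
import Cfsg.Agent.Helper71.UniqueOrderP
import Cfsg.Agent.Helper65.Metacyclic

/-!
# Piece (L) of helper52's WANTED #5134 (for S4306): coprime lifting of fixed points for a `FrobPair`

Two steps: first `σ` (a group of prime order `s` acting on the `σ`-invariant coset `y N`), then `τ`
on the coset `y₁ C_N(σ)`.
-/

set_option autoImplicit false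
set_option linter.style.haveILetI false

namespace Cfsg.Agent.Helper25.PQ

open Subgroup Cfsg.Agent.Helper1.Shult Cfsg.Agent.Helper52.PQ

variable {H : Type*} [Group H] [Finite H]

/-- if `u σ u⁻¹` is a power of `σ` (of prime order) then conjugation by `u` preserves `C(σ)`. -/
theorem commute_conj_of_norm {s : ℕ} (hs : s.Prime) {σ u : H} (hσ : orderOf σ = s)
    (hu : u * σ * u⁻¹ ∈ zpowers σ) (x : H) (hx : σ * x = x * σ) :
    σ * (u * x * u⁻¹) = (u * x * u⁻¹) * σ := by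
  have hσ1 : σ ≠ 1 := by
    intro h1
    rw [h1, orderOf_one] at hσ
    exact hs.ne_one hσ.symm
  have hσs : σ ^ s = 1 := by rw [← hσ, pow_orderOf_eq_one]
  have hne : u * σ * u⁻¹ ≠ 1 := by
    intro h1
    apply hσ1
    have : σ = u⁻¹ * (u * σ * u⁻¹) * u := by group
    rw [this, h1]
    group
  have hmem : σ ∈ zpowers (u * σ * u⁻¹) :=
    Cfsg.Agent.Helper71.mem_zpowers_of_prime_order hs hσs hu hne
  have hc : Commute (u * σ * u⁻¹) (u * x * u⁻¹) := by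
    show u * σ * u⁻¹ * (u * x * u⁻¹) = u * x * u⁻¹ * (u * σ * u⁻¹)
    calc u * σ * u⁻¹ * (u * x * u⁻¹) = u * (σ * x) * u⁻¹ := by group
      _ = u * (x * σ) * u⁻¹ := by rw [hx]
      _ = u * x * u⁻¹ * (u * σ * u⁻¹) := by group
  obtain ⟨m, hm⟩ := Subgroup.mem_zpowers_iff.mp hmem
  rw [← hm]
  exact (hc.zpow_left m).eq

/-- `τ⁻¹` also normalizes `⟨σ⟩`. -/
theorem inv_conj_mem_zpowers {s t : ℕ} {σ τ : H} (h : FrobPair s t σ τ) :
    τ⁻¹ * σ * τ⁻¹⁻¹ ∈ zpowers σ := by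
  have h1 := h.norm
  rw [← mem_powers_iff_mem_zpowers] at h1
  obtain ⟨k, hk⟩ := h1
  have h2 := Cfsg.Agent.Helper65.pow_conj_eq hk.symm (t - 1)
  have hτt : τ ^ t = 1 := by rw [← h.oτ, pow_orderOf_eq_one]
  have hinv : τ ^ (t - 1) = τ⁻¹ := by
    have h3 : τ ^ (t - 1) * τ = 1 := by
      rw [← pow_succ, Nat.sub_add_cancel h.ht.one_le, hτt]
    exact eq_inv_of_mul_eq_one_left h3
  rw [hinv] at h2
  rw [h2]
  exact Subgroup.pow_mem _ (mem_zpowers σ) _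

/-- **(L)** of #5134. -/
theorem pq_fixed_lift {s t : ℕ} {σ τ : H} (h : FrobPair s t σ τ) (N : Subgroup H)
    (hN : Inv σ τ N) (hcop : (Nat.card N).Coprime (s * t)) (y : H)
    (hyσ : y⁻¹ * (σ * y * σ⁻¹) ∈ N) (hyτ : y⁻¹ * (τ * y * τ⁻¹) ∈ N) :
    ∃ n ∈ N, σ * (y * n) * σ⁻¹ = y * n ∧ τ * (y * n) * τ⁻¹ = y * n := by
  classical
  haveI : Fact s.Prime := ⟨h.hs⟩
  haveI : Fact t.Prime := ⟨h.ht⟩
  have hsN : ¬ s ∣ Nat.card N := by
    intro hd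
    have : s ∣ Nat.gcd (Nat.card N) (s * t) := Nat.dvd_gcd hd (dvd_mul_right s t)
    rw [hcop] at this
    exact h.hs.one_lt.ne' (Nat.dvd_one.mp this)
  have htN : ¬ t ∣ Nat.card N := by
    intro hd
    have : t ∣ Nat.gcd (Nat.card N) (s * t) := Nat.dvd_gcd hd (dvd_mul_left t s)
    rw [hcop] at this
    exact h.ht.one_lt.ne' (Nat.dvd_one.mp this)
  -- step 1: `σ`
  have hσpg : IsPGroup s (zpowers σ) := by
    apply IsPGroup.of_card (n := 1)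
    rw [Nat.card_zpowers, h.oσ, pow_one]
  have hσS : zpowers σ ≤ cosetStab N y := by
    rw [zpowers_le]
    exact ⟨hN.1, hyσ⟩
  obtain ⟨y₁, hy₁N, hy₁fix⟩ :=
    Cfsg.Agent.Helper75.ShultNil.exists_fixed_in_coset hσpg hsN
      (fun a ha => (hσS ha).1) y (fun a ha => (hσS ha).2)
  have hσy₁ : σ * y₁ * σ⁻¹ = y₁ := hy₁fix σ (mem_zpowers σ)
  have hσy₁' : σ * y₁ = y₁ * σ := by
    calc σ * y₁ = (σ * y₁ * σ⁻¹) * σ := by group
      _ = y₁ * σ := by rw [hσy₁]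
  -- step 2: `τ` on `N₁ = C_N(σ)`
  set N₁ : Subgroup H := N ⊓ centralizer ({σ} : Set H) with hN₁
  have hcentσ : ∀ x : H, σ * x = x * σ → σ * (τ * x * τ⁻¹) = (τ * x * τ⁻¹) * σ :=
    fun x hx => commute_conj_of_norm h.hs h.oσ h.norm x hx
  have hcentσ' : ∀ x : H, σ * x = x * σ → σ * (τ⁻¹ * x * τ) = (τ⁻¹ * x * τ) * σ := by
    intro x hx
    have := commute_conj_of_norm h.hs h.oσ (inv_conj_mem_zpowers h) x hx
    rwa [inv_inv] at this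
  have hτN₁ : τ ∈ normalizer (N₁ : Set H) := by
    rw [mem_normalizer_iff]
    intro x
    rw [hN₁, Subgroup.mem_inf, Subgroup.mem_inf, mem_centralizer_iff, mem_centralizer_iff]
    constructor
    · rintro ⟨hxN, hxc⟩
      refine ⟨(mem_normalizer_iff.mp hN.2 x).mp hxN, ?_⟩
      intro s' hs'
      rw [Set.mem_singleton_iff] at hs'
      subst hs'
      have := hxc s' (Set.mem_singleton s')
      exact hcentσ x this
    · rintro ⟨hxN, hxc⟩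
      refine ⟨(mem_normalizer_iff.mp hN.2 x).mpr hxN, ?_⟩
      intro s' hs'
      rw [Set.mem_singleton_iff] at hs'
      subst hs'
      have h1 := hxc s' (Set.mem_singleton s')
      have h2 := hcentσ' _ h1
      have e : τ⁻¹ * (τ * x * τ⁻¹) * τ = x := by group
      rw [e] at h2
      exact h2
  have hy₁τ : y₁⁻¹ * (τ * y₁ * τ⁻¹) ∈ N₁ := by
    rw [hN₁, Subgroup.mem_inf]
    constructor
    · have h1 : τ * (y⁻¹ * y₁) * τ⁻¹ ∈ N := (mem_normalizer_iff.mp hN.2 _).mp hy₁N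
      have e : y₁⁻¹ * (τ * y₁ * τ⁻¹) =
          (y⁻¹ * y₁)⁻¹ * (y⁻¹ * (τ * y * τ⁻¹)) * (τ * (y⁻¹ * y₁) * τ⁻¹) := by group
      rw [e]
      exact N.mul_mem (N.mul_mem (N.inv_mem hy₁N) hyτ) h1
    · rw [mem_centralizer_iff]
      intro s' hs'
      rw [Set.mem_singleton_iff] at hs'
      subst hs'
      have h1 := hcentσ y₁ hσy₁'
      have h2 : s' * y₁⁻¹ = y₁⁻¹ * s' := by
        calc s' * y₁⁻¹ = y₁⁻¹ * (y₁ * s') * y₁⁻¹ := by group
          _ = y₁⁻¹ * (s' * y₁) * y₁⁻¹ := by rw [hσy₁']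
          _ = y₁⁻¹ * s' := by group
      calc s' * (y₁⁻¹ * (τ * y₁ * τ⁻¹)) = (s' * y₁⁻¹) * (τ * y₁ * τ⁻¹) := by group
        _ = y₁⁻¹ * (s' * (τ * y₁ * τ⁻¹)) := by rw [h2]; group
        _ = y₁⁻¹ * ((τ * y₁ * τ⁻¹) * s') := by rw [h1]
        _ = y₁⁻¹ * (τ * y₁ * τ⁻¹) * s' := by group
  have hτpg : IsPGroup t (zpowers τ) := by
    apply IsPGroup.of_card (n := 1)
    rw [Nat.card_zpowers, h.oτ, pow_one]
  have htN₁ : ¬ t ∣ Nat.card N₁ :=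
    fun hd => htN (hd.trans (Subgroup.card_dvd_of_le inf_le_left))
  have hτS : zpowers τ ≤ cosetStab N₁ y₁ := by
    rw [zpowers_le]
    exact ⟨hτN₁, hy₁τ⟩
  obtain ⟨y₂, hy₂N, hy₂fix⟩ :=
    Cfsg.Agent.Helper75.ShultNil.exists_fixed_in_coset hτpg htN₁
      (fun a ha => (hτS ha).1) y₁ (fun a ha => (hτS ha).2)
  have hτy₂ : τ * y₂ * τ⁻¹ = y₂ := hy₂fix τ (mem_zpowers τ)
  have hy₂N' : y₁⁻¹ * y₂ ∈ N ∧ y₁⁻¹ * y₂ ∈ centralizer ({σ} : Set H) := by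
    rw [← Subgroup.mem_inf]
    exact hy₂N
  have hσn : σ * (y₁⁻¹ * y₂) = (y₁⁻¹ * y₂) * σ :=
    (mem_centralizer_iff.mp hy₂N'.2) σ (Set.mem_singleton σ)
  refine ⟨y⁻¹ * y₂, ?_, ?_, ?_⟩
  · have e : y⁻¹ * y₂ = (y⁻¹ * y₁) * (y₁⁻¹ * y₂) := by group
    rw [e]
    exact N.mul_mem hy₁N hy₂N'.1
  · have e : y * (y⁻¹ * y₂) = y₁ * (y₁⁻¹ * y₂) := by group
    rw [e]
    calc σ * (y₁ * (y₁⁻¹ * y₂)) * σ⁻¹ = (σ * y₁) * (y₁⁻¹ * y₂) * σ⁻¹ := by group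
      _ = y₁ * (σ * (y₁⁻¹ * y₂)) * σ⁻¹ := by rw [hσy₁']; group
      _ = y₁ * ((y₁⁻¹ * y₂) * σ) * σ⁻¹ := by rw [hσn]
      _ = y₁ * (y₁⁻¹ * y₂) := by group
  · have e : y * (y⁻¹ * y₂) = y₂ := by group
    rw [e]
    exact hτy₂

end Cfsg.Agent.Helper25.PQ
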