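import Cfsg.Agent.Helper74.CharComplete
import Cfsg.Prelude.Def_OddOrderChar

set_option autoImplicit false

namespace Cfsg.Agent.Helper25

open Cfsg
open scoped ComplexConjugate

universe u

variable {X : Type u} [Group X]

/-- A function that is an irreducible character up to sign. -/
def SignedIrr (X : Type u) [Group X] (φ : X → ℂ) : Prop :=
  IsIrrCharacter X φ ∨ IsIrrCharacter X (-φ)

theorem SignedIrr.exists_sign {φ : X → ℂ} (h : SignedIrr X φ) :
    ∃ (s : ℂ) (χ : IrrCharacter X), (s = 1 ∨ s = -1) ∧ φ = s • (χ : X → ℂ) := by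
  rcases h with h | h
  · exact ⟨1, ⟨φ, h⟩, Or.inl rfl, by simp⟩
  · exact ⟨-1, ⟨-φ, h⟩, Or.inr rfl, by simp⟩

theorem irr_apply_one_ne_zero (χ : IrrCharacter X) : (χ : X → ℂ) 1 ≠ 0 := by
  obtain ⟨n, ρ, hρ, hχ⟩ := χ.2
  rw [← hχ, Representation.char_one]
  have : Nontrivial (Fin n → ℂ) := Helper74.nontrivial_of_isIrreducible ρ hρ
  have hpos : 0 < Module.finrank ℂ (Fin n → ℂ) := Module.finrank_pos
  exact_mod_cast hpos.ne'

theorem SignedIrr.apply_one_ne_zero {φ : X → ℂ} (h : SignedIrr X φ) : φ 1 ≠ 0 := by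
  obtain ⟨s, χ, hs, rfl⟩ := h.exists_sign
  have hχ := irr_apply_one_ne_zero χ
  rcases hs with rfl | rfl <;> simpa using hχ

/-- Two signed irreducibles are orthogonal or equal up to a sign `t`, which is then their inner product. -/
theorem SignedIrr.inner_eq_zero_or [Fintype X] {φ₁ φ₂ : X → ℂ} (h₁ : SignedIrr X φ₁)
    (h₂ : SignedIrr X φ₂) :
    classInner φ₁ φ₂ = 0 ∨ ∃ t : ℂ, (t = 1 ∨ t = -1) ∧ φ₂ = t • φ₁ ∧ classInner φ₁ φ₂ = t := by
  classical
  obtain ⟨s₁, χ₁, hs₁, rfl⟩ := h₁.exists_sign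
  obtain ⟨s₂, χ₂, hs₂, rfl⟩ := h₂.exists_sign
  have hinner : classInner (s₁ • (χ₁ : X → ℂ)) (s₂ • (χ₂ : X → ℂ)) =
      s₁ * (conj s₂ * classInner (χ₁ : X → ℂ) (χ₂ : X → ℂ)) := by
    rw [Helper74.classInner_smul_left, Helper74.classInner_smul_right]
  by_cases hχ : χ₁ = χ₂
  · right
    subst hχ
    refine ⟨s₁ * s₂, ?_, ?_, ?_⟩
    · rcases hs₁ with rfl | rfl <;> rcases hs₂ with rfl | rfl <;> simp
    · have hs : s₁ * s₁ = 1 := by rcases hs₁ with rfl | rfl <;> simp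
      rw [smul_smul, mul_assoc, mul_comm s₂ s₁, ← mul_assoc, hs, one_mul]
    · rw [hinner, Helper74.irr_inner_self]
      rcases hs₂ with rfl | rfl <;> simp
  · left
    rw [hinner, Helper74.irr_inner_ne hχ]
    simp

theorem SignedIrr.neg {φ : X → ℂ} (h : SignedIrr X φ) : SignedIrr X (-φ) := by
  rcases h with h | h
  · right; simpa using h
  · left; exact h

end Cfsg.Agent.Helper25
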