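import Mathlib
import Cfsg.Prelude.Def_OddOrderChar
import Cfsg.Agent.Helper74.CharComplete
import Cfsg.Agent.Helper15.IndChar
import Cfsg.Agent.Helper15.Clifford
import Cfsg.Agent.Helper25.SignedIrr

set_option autoImplicit false

/-! Generalized (virtual) characters: closure properties, integrality of inner products,
decomposition, and the structure of generalized characters of norm `1` and `2`. -/

namespace Cfsg.Agent.Helper25

open Cfsg
open scoped ComplexConjugate

universe u

variable {G : Type u} [Group G]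

theorem isGenChar_of_isCharacter {χ : G → ℂ} (h : IsCharacter G χ) :
    IsGeneralizedCharacter G χ :=
  ⟨χ, 0, h, Helper74.isCharacter_zero, by simp⟩

theorem isGenChar_zero : IsGeneralizedCharacter G (0 : G → ℂ) :=
  isGenChar_of_isCharacter Helper74.isCharacter_zero

theorem isGenChar_neg {α : G → ℂ} (h : IsGeneralizedCharacter G α) :
    IsGeneralizedCharacter G (-α) := by
  obtain ⟨χ, ψ, hχ, hψ, rfl⟩ := h
  exact ⟨ψ, χ, hψ, hχ, by simp⟩

theorem isGenChar_add {α β : G → ℂ} (hα : IsGeneralizedCharacter G α)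
    (hβ : IsGeneralizedCharacter G β) : IsGeneralizedCharacter G (α + β) := by
  obtain ⟨χ, ψ, hχ, hψ, rfl⟩ := hα
  obtain ⟨χ', ψ', hχ', hψ', rfl⟩ := hβ
  exact ⟨χ + χ', ψ + ψ', Helper74.isCharacter_add hχ hχ', Helper74.isCharacter_add hψ hψ',
    by abel⟩

theorem isGenChar_sub {α β : G → ℂ} (hα : IsGeneralizedCharacter G α)
    (hβ : IsGeneralizedCharacter G β) : IsGeneralizedCharacter G (α - β) := by
  rw [sub_eq_add_neg]
  exact isGenChar_add hα (isGenChar_neg hβ)

theorem isGenChar_sum {ι : Type*} (s : Finset ι) {f : ι → G → ℂ}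
    (h : ∀ i ∈ s, IsGeneralizedCharacter G (f i)) :
    IsGeneralizedCharacter G (∑ i ∈ s, f i) := by
  classical
  induction s using Finset.induction_on with
  | empty => simpa using isGenChar_zero
  | insert a s ha ih =>
    rw [Finset.sum_insert ha]
    exact isGenChar_add (h a (Finset.mem_insert_self a s))
      (ih (fun i hi => h i (Finset.mem_insert_of_mem hi)))

theorem isGenChar_nsmul (n : ℕ) {α : G → ℂ} (hα : IsGeneralizedCharacter G α) :
    IsGeneralizedCharacter G (n • α) := by
  induction n with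
  | zero => simpa using isGenChar_zero
  | succ k ih => rw [succ_nsmul]; exact isGenChar_add ih hα

theorem isGenChar_zsmul (n : ℤ) {α : G → ℂ} (hα : IsGeneralizedCharacter G α) :
    IsGeneralizedCharacter G (n • α) := by
  obtain ⟨k, rfl | rfl⟩ := n.eq_nat_or_neg
  · rw [natCast_zsmul]; exact isGenChar_nsmul k hα
  · rw [neg_zsmul, natCast_zsmul]; exact isGenChar_neg (isGenChar_nsmul k hα)

theorem isGenChar_isClassFunction {α : G → ℂ} (h : IsGeneralizedCharacter G α) :
    IsClassFunction G α := by
  obtain ⟨χ, ψ, hχ, hψ, rfl⟩ := h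
  exact Helper74.isClassFunction_sub (Helper74.isClassFunction_of_isCharacter hχ)
    (Helper74.isClassFunction_of_isCharacter hψ)

theorem SignedIrr.isGenChar {α : G → ℂ} (h : SignedIrr G α) : IsGeneralizedCharacter G α := by
  rcases h with h | h
  · exact isGenChar_of_isCharacter (Helper74.isCharacter_of_isIrr h)
  · have := isGenChar_neg (isGenChar_of_isCharacter (Helper74.isCharacter_of_isIrr h))
    simpa using this

section inner
variable [Fintype G]

/-- The inner product of two generalized characters is an integer. -/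
theorem isGenChar_inner_int {α β : G → ℂ} (hα : IsGeneralizedCharacter G α)
    (hβ : IsGeneralizedCharacter G β) : ∃ m : ℤ, classInner α β = m := by
  obtain ⟨χ, ψ, hχ, hψ, rfl⟩ := hα
  obtain ⟨χ', ψ', hχ', hψ', rfl⟩ := hβ
  obtain ⟨a, ha⟩ := Helper15.isCharacter_inner_nat hχ hχ'
  obtain ⟨b, hb⟩ := Helper15.isCharacter_inner_nat hχ hψ'
  obtain ⟨c, hc⟩ := Helper15.isCharacter_inner_nat hψ hχ'
  obtain ⟨d, hd⟩ := Helper15.isCharacter_inner_nat hψ hψ'
  refine ⟨(a : ℤ) - b - (c - d), ?_⟩
  rw [Helper74.classInner_sub_left, Helper74.classInner_sub_right, Helper74.classInner_sub_right,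
    ha, hb, hc, hd]
  push_cast
  ring

theorem signedIrr_inner_self {α : G → ℂ} (h : SignedIrr G α) : classInner α α = 1 := by
  obtain ⟨s, χ, hs, rfl⟩ := h.exists_sign
  rw [Helper74.classInner_smul_left, Helper74.classInner_smul_right, Helper74.irr_inner_self]
  rcases hs with rfl | rfl <;> simp

/-- A generalized character is the integer combination of irreducibles given by inner products. -/
theorem isGenChar_eq_sum [Fintype (IrrCharacter G)] {α : G → ℂ}
    (hα : IsGeneralizedCharacter G α) :
    α = ∑ ψ : IrrCharacter G, classInner α (ψ : G → ℂ) • (ψ : G → ℂ) :=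
  Helper74.classFunction_eq_sum_irr (isGenChar_isClassFunction hα)

/-- A generalized character of norm one is an irreducible character up to sign. -/
theorem signedIrr_of_inner_self_eq_one {α : G → ℂ} (hα : IsGeneralizedCharacter G α)
    (h1 : classInner α α = 1) : SignedIrr G α := by
  classical
  let _ := Helper74.irrFintype G
  choose a ha using fun ψ : IrrCharacter G =>
    isGenChar_inner_int hα (isGenChar_of_isCharacter (Helper74.isCharacter_of_isIrr ψ.2))
  have hpars := Helper15.classInner_eq_sum_irr (isGenChar_isClassFunction hα) α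
  rw [h1] at hpars
  have hsum : (1 : ℤ) = ∑ ψ : IrrCharacter G, a ψ * a ψ := by
    have : ((1 : ℤ) : ℂ) = ((∑ ψ : IrrCharacter G, a ψ * a ψ : ℤ) : ℂ) := by
      push_cast
      rw [hpars]
      refine Finset.sum_congr rfl (fun ψ _ => ?_)
      rw [ha ψ]; simp
    exact_mod_cast this
  -- some coefficient is nonzero
  have hex : ∃ ψ, a ψ ≠ 0 := by
    by_contra hcon
    push Not at hcon
    simp [hcon] at hsum
  obtain ⟨χ, hχ⟩ := hex
  have hsplit : ∑ ψ : IrrCharacter G, a ψ * a ψ =
      a χ * a χ + ∑ ψ ∈ Finset.univ.erase χ, a ψ * a ψ :=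
    (Finset.add_sum_erase _ _ (Finset.mem_univ χ)).symm
  have hnn : 0 ≤ ∑ ψ ∈ Finset.univ.erase χ, a ψ * a ψ :=
    Finset.sum_nonneg (fun ψ _ => mul_self_nonneg _)
  have hχ1 : a χ * a χ = 1 := by
    have : 1 ≤ a χ * a χ := by
      have := mul_self_pos.mpr hχ
      omega
    omega
  have hrest : ∑ ψ ∈ Finset.univ.erase χ, a ψ * a ψ = 0 := by omega
  have hzero : ∀ ψ, ψ ≠ χ → a ψ = 0 := by
    intro ψ hψ
    have := (Finset.sum_eq_zero_iff_of_nonneg (fun ψ _ => mul_self_nonneg (a ψ))).mp hrest ψ
      (Finset.mem_erase.mpr ⟨hψ, Finset.mem_univ _⟩)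
    exact mul_self_eq_zero.mp this
  have hα' : α = (a χ : ℂ) • (χ : G → ℂ) := by
    conv_lhs => rw [isGenChar_eq_sum hα]
    rw [Finset.sum_eq_single χ]
    · rw [ha χ]
    · intro ψ _ hψ
      rw [ha ψ, hzero ψ hψ]; simp
    · intro h; exact absurd (Finset.mem_univ _) h
  rcases mul_self_eq_one_iff.mp hχ1 with h | h
  · left
    rw [hα', h]; simpa using χ.2
  · right
    rw [hα', h]; simpa using χ.2

end inner

end Cfsg.Agent.Helper25
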