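import Mathlib
import Cfsg.Agent.Helper25.GenChar

set_option autoImplicit false

/-! Generalized characters of norm `2`, and the orthogonality argument for pairs of such
characters vanishing at `1`. -/

namespace Cfsg.Agent.Helper25

open Cfsg
open scoped ComplexConjugate

universe u

variable {G : Type u} [Group G] [Fintype G]

/-- A generalized character of norm two is a sum of two orthogonal signed irreducibles. -/
theorem exists_two_signedIrr {α : G → ℂ} (hα : IsGeneralizedCharacter G α)
    (h2 : classInner α α = 2) :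
    ∃ α₁ α₂ : G → ℂ, SignedIrr G α₁ ∧ SignedIrr G α₂ ∧ classInner α₁ α₂ = 0 ∧ α = α₁ + α₂ := by
  classical
  let _ := Helper74.irrFintype G
  choose a ha using fun ψ : IrrCharacter G =>
    isGenChar_inner_int hα (isGenChar_of_isCharacter (Helper74.isCharacter_of_isIrr ψ.2))
  have hpars := Helper15.classInner_eq_sum_irr (isGenChar_isClassFunction hα) α
  rw [h2] at hpars
  have hsum : (2 : ℤ) = ∑ ψ : IrrCharacter G, a ψ * a ψ := by
    have : ((2 : ℤ) : ℂ) = ((∑ ψ : IrrCharacter G, a ψ * a ψ : ℤ) : ℂ) := by
      push_cast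
      rw [hpars]
      refine Finset.sum_congr rfl (fun ψ _ => ?_)
      rw [ha ψ]; simp
    exact_mod_cast this
  have hex : ∃ ψ, a ψ ≠ 0 := by
    by_contra hcon
    push Not at hcon
    simp [hcon] at hsum
  obtain ⟨χ, hχ⟩ := hex
  have hsplit : ∑ ψ : IrrCharacter G, a ψ * a ψ =
      a χ * a χ + ∑ ψ ∈ Finset.univ.erase χ, a ψ * a ψ :=
    (Finset.add_sum_erase _ _ (Finset.mem_univ χ)).symm
  have hnn : 0 ≤ ∑ ψ ∈ Finset.univ.erase χ, a ψ * a ψ :=
    Finset.sum_nonneg (fun ψ _ => mul_self_nonneg _)
  have hχ1 : a χ * a χ = 1 := by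
    have h1 : 1 ≤ a χ * a χ := by
      have := mul_self_pos.mpr hχ
      omega
    have h2' : a χ * a χ ≤ 2 := by omega
    have hb1 : a χ ≤ 1 := by nlinarith
    have hb2 : -1 ≤ a χ := by nlinarith
    have h3 : a χ = -1 ∨ a χ = 0 ∨ a χ = 1 := by omega
    rcases h3 with h | h | h
    · rw [h]; norm_num
    · exact absurd h hχ
    · rw [h]; norm_num
  set α₁ : G → ℂ := (a χ : ℂ) • (χ : G → ℂ) with hα₁
  have hs₁ : SignedIrr G α₁ := by
    rcases mul_self_eq_one_iff.mp hχ1 with h | h
    · left; rw [hα₁, h]; simpa using χ.2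
    · right; rw [hα₁, h]; simpa using χ.2
  have haχc : ((a χ : ℤ) : ℂ) * ((a χ : ℤ) : ℂ) = 1 := by exact_mod_cast hχ1
  have hconj : conj ((a χ : ℤ) : ℂ) = ((a χ : ℤ) : ℂ) := map_intCast _ _
  have hinner₁ : classInner α α₁ = 1 := by
    rw [hα₁, Helper74.classInner_smul_right, ha χ, hconj, haχc]
  have hinner₁' : classInner α₁ α = 1 := by
    rw [← Helper74.classInner_conj_symm, hinner₁, map_one]
  have hself₁ : classInner α₁ α₁ = 1 := signedIrr_inner_self hs₁
  have hg₂ : IsGeneralizedCharacter G (α - α₁) := isGenChar_sub hα (SignedIrr.isGenChar hs₁)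
  have hself₂ : classInner (α - α₁) (α - α₁) = 1 := by
    rw [Helper74.classInner_sub_left, Helper74.classInner_sub_right,
      Helper74.classInner_sub_right, h2, hinner₁, hinner₁', hself₁]
    ring
  refine ⟨α₁, α - α₁, hs₁, signedIrr_of_inner_self_eq_one hg₂ hself₂, ?_, by abel⟩
  rw [Helper74.classInner_sub_right, hinner₁', hself₁, sub_self]

/-- Two pairs of orthogonal signed irreducibles, each pair summing to a function vanishing at `1`,
whose sums are orthogonal, are pairwise orthogonal. -/
theorem signedIrr_pairs_orthogonal {α₁ α₂ β₁ β₂ : G → ℂ}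
    (hα₁ : SignedIrr G α₁) (hα₂ : SignedIrr G α₂) (hβ₁ : SignedIrr G β₁) (hβ₂ : SignedIrr G β₂)
    (hα : classInner α₁ α₂ = 0) (hβ : classInner β₁ β₂ = 0)
    (hα1 : α₁ 1 + α₂ 1 = 0) (hβ1 : β₁ 1 + β₂ 1 = 0)
    (horth : classInner (α₁ + α₂) (β₁ + β₂) = 0) :
    classInner α₁ β₁ = 0 ∧ classInner α₁ β₂ = 0 ∧ classInner α₂ β₁ = 0 ∧ classInner α₂ β₂ = 0 := by
  have hα' : classInner α₂ α₁ = 0 := by
    rw [← Helper74.classInner_conj_symm, hα, map_zero]
  have hβ' : classInner β₂ β₁ = 0 := by
    rw [← Helper74.classInner_conj_symm, hβ, map_zero]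
  have hexp : classInner α₁ β₁ + classInner α₁ β₂ + classInner α₂ β₁ + classInner α₂ β₂ = 0 := by
    rw [Helper74.classInner_add_left, Helper74.classInner_add_right,
      Helper74.classInner_add_right] at horth
    linear_combination horth
  -- general principle: if β = t • α (t = ±1) for one pair, derive a contradiction
  have key : ∀ {a a' b b' : G → ℂ}, SignedIrr G a → SignedIrr G a' → SignedIrr G b →
      SignedIrr G b' → classInner a a' = 0 → classInner a' a = 0 → classInner b b' = 0 →
      classInner b' b = 0 → a 1 + a' 1 = 0 → b 1 + b' 1 = 0 →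
      classInner a b + classInner a b' + classInner a' b + classInner a' b' = 0 →
      classInner a b = 0 := by
    intro a a' b b' ha ha' hb hb' haa' ha'a hbb' hb'b ha1 hb1 hsum
    rcases SignedIrr.inner_eq_zero_or ha hb with h | ⟨t, ht, hbt, hinner⟩
    · exact h
    · exfalso
      have htt : t * t = 1 := by rcases ht with rfl | rfl <;> simp
      have htc : conj t = t := by rcases ht with rfl | rfl <;> simp
      -- ⟨a, b'⟩ = 0 and ⟨a', b⟩ = 0
      have h1 : classInner a b' = 0 := by
        have : classInner b b' = t * classInner a b' := by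
          rw [hbt, Helper74.classInner_smul_left]
        rw [hbb'] at this
        rcases mul_eq_zero.mp this.symm with h | h
        · rw [h] at htt; simp at htt
        · exact h
      have h2 : classInner a' b = 0 := by
        rw [hbt, Helper74.classInner_smul_right, ha'a, mul_zero]
      rw [hinner, h1, h2] at hsum
      have h3 : classInner a' b' = -t := by
        rw [add_zero, add_zero] at hsum
        linear_combination hsum
      rcases SignedIrr.inner_eq_zero_or ha' hb' with h | ⟨t', _, hb't', hinner'⟩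
      · rw [h] at h3
        have : t = 0 := by linear_combination h3
        rw [this] at htt; simp at htt
      · have ht' : t' = -t := by rw [← hinner', h3]
        rw [ht'] at hb't'
        -- b 1 + b' 1 = t (a 1 - a' 1) = 0 and a 1 + a' 1 = 0 give a 1 = 0
        have e1 : b 1 = t * a 1 := by rw [hbt]; simp
        have e2 : b' 1 = -t * a' 1 := by rw [hb't']; simp
        rw [e1, e2] at hb1
        have e3 : t * (a 1 - a' 1) = 0 := by linear_combination hb1
        have e4 : a 1 - a' 1 = 0 := by
          rcases mul_eq_zero.mp e3 with h | h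
          · rw [h] at htt; simp at htt
          · exact h
        have e5 : a 1 = 0 := by
          have : (2 : ℂ) * a 1 = 0 := by linear_combination ha1 + e4
          rcases mul_eq_zero.mp this with h | h
          · norm_num at h
          · exact h
        exact SignedIrr.apply_one_ne_zero ha e5
  refine ⟨?_, ?_, ?_, ?_⟩
  · exact key hα₁ hα₂ hβ₁ hβ₂ hα hα' hβ hβ' hα1 hβ1 hexp
  · exact key hα₁ hα₂ hβ₂ hβ₁ hα hα' hβ' hβ hα1 (by rw [add_comm]; exact hβ1)
      (by linear_combination hexp)
  · exact key hα₂ hα₁ hβ₁ hβ₂ hα' hα hβ hβ' (by rw [add_comm]; exact hα1) hβ1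
      (by linear_combination hexp)
  · exact key hα₂ hα₁ hβ₂ hβ₁ hα' hα hβ' hβ (by rw [add_comm]; exact hα1)
      (by rw [add_comm]; exact hβ1) (by linear_combination hexp)

end Cfsg.Agent.Helper25
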