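import Mathlib.GroupTheory.Coset.Basic
import Mathlib.GroupTheory.QuotientGroup.Defs
import Mathlib.Algebra.BigOperators.Group.Finset.Basic
import Mathlib.SetTheory.Cardinal.Finite
import Mathlib.Analysis.Complex.Basic

set_option autoImplicit false

namespace Cfsg.Agent.Helper25

variable {G : Type*} [Group G]

/-- The bijection `(G ⧸ A) × A ≃ G`, `(q, a) ↦ q.out * a`. -/
noncomputable def quotProdEquiv (A : Subgroup G) : (G ⧸ A) × A ≃ G where
  toFun p := p.1.out * (p.2 : G)
  invFun g := ((g : G ⧸ A), ⟨((g : G ⧸ A)).out⁻¹ * g,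
    QuotientGroup.eq.mp (QuotientGroup.out_eq' (g : G ⧸ A))⟩)
  left_inv := by
    rintro ⟨q, a⟩
    have h1 : ((q.out * (a : G) : G) : G ⧸ A) = q := by
      rw [QuotientGroup.mk_mul_of_mem _ a.2, QuotientGroup.out_eq']
    ext
    · exact h1
    · simp only [h1, inv_mul_cancel_left]
  right_inv := by
    intro g
    simp

theorem quotProdEquiv_mk (A : Subgroup G) (p : (G ⧸ A) × A) :
    ((quotProdEquiv A p : G) : G ⧸ A) = p.1 := by
  show ((p.1.out * (p.2 : G) : G) : G ⧸ A) = p.1
  rw [QuotientGroup.mk_mul_of_mem _ p.2.2, QuotientGroup.out_eq']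

/-- Summing a function of the coset over the group. -/
theorem sum_comp_mk [Fintype G] (A : Subgroup G) [Fintype (G ⧸ A)] (F : G ⧸ A → ℂ) :
    ∑ x : G, F (x : G ⧸ A) = (Nat.card A : ℂ) * ∑ q : G ⧸ A, F q := by
  classical
  have : Fintype A := Fintype.ofFinite A
  rw [← Equiv.sum_comp (quotProdEquiv A) (fun x : G => F (x : G ⧸ A))]
  simp only [quotProdEquiv_mk]
  rw [Fintype.sum_prod_type]
  simp only [Finset.sum_const, Finset.card_univ, nsmul_eq_mul]
  rw [← Finset.mul_sum, Nat.card_eq_fintype_card]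

end Cfsg.Agent.Helper25
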