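import Mathlib
import Cfsg.Prelude.Def_OddOrderChar
import Cfsg.Agent.Helper74.CharBasic
import Cfsg.Agent.Helper80.CharLevel

set_option autoImplicit false

/-! Basic facts on `classInner`: conjugate functions, positivity, Bessel's inequality for an
orthogonal family. -/

namespace Cfsg.Agent.Helper25

open Cfsg
open scoped ComplexConjugate

universe u

section conjsec
variable {X : Type u}

theorem conjFun_conjFun' (f : X → ℂ) : conjFun (conjFun f) = f := by
  funext x; simp [conjFun]

theorem conjFun_apply' (f : X → ℂ) (x : X) : conjFun f x = conj (f x) := rfl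

end conjsec

section inner
variable {G : Type u} [Group G] [Fintype G]

theorem classInner_conjFun_conjFun' (f g : G → ℂ) :
    classInner (conjFun f) (conjFun g) = conj (classInner f g) := by
  simp only [Helper74.classInner_def, conjFun, map_mul, map_sum, map_inv₀, Complex.conj_natCast,
    Complex.conj_conj]

/-- `⟨f, f⟩` is a nonnegative real. -/
theorem classInner_self_eq_ofReal (f : G → ℂ) :
    ∃ r : ℝ, 0 ≤ r ∧ classInner f f = (r : ℂ) := by
  refine ⟨(Nat.card G : ℝ)⁻¹ * ∑ g : G, Complex.normSq (f g), ?_, ?_⟩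
  · apply mul_nonneg
    · positivity
    · exact Finset.sum_nonneg (fun g _ => Complex.normSq_nonneg _)
  · rw [Helper74.classInner_self]
    push_cast
    rfl

theorem classInner_self_re_nonneg (f : G → ℂ) : 0 ≤ (classInner f f).re := by
  obtain ⟨r, hr, h⟩ := classInner_self_eq_ofReal f
  rw [h]; simpa using hr

/-- Pythagoras for the projection onto a finite orthogonal family with positive norms. -/
theorem classInner_sub_proj {ι : Type*} [DecidableEq ι] (s : Finset ι) (v : ι → G → ℂ)
    (N : ι → ℝ) (hN : ∀ i ∈ s, 0 < N i)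
    (horth : ∀ i ∈ s, ∀ j ∈ s, classInner (v i) (v j) = if i = j then (N i : ℂ) else 0)
    (Z : G → ℂ) :
    classInner (Z - ∑ i ∈ s, (classInner Z (v i) / (N i : ℂ)) • v i)
        (Z - ∑ i ∈ s, (classInner Z (v i) / (N i : ℂ)) • v i) =
      classInner Z Z - ∑ i ∈ s, ((‖classInner Z (v i)‖ ^ 2 / N i : ℝ) : ℂ) := by
  set c : ι → ℂ := fun i => classInner Z (v i) / (N i : ℂ) with hc
  set P : G → ℂ := ∑ i ∈ s, c i • v i with hP
  have hNne : ∀ i ∈ s, (N i : ℂ) ≠ 0 := fun i hi => by
    exact_mod_cast (hN i hi).ne'
  have hZP : classInner Z P = ∑ i ∈ s, ((‖classInner Z (v i)‖ ^ 2 / N i : ℝ) : ℂ) := by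
    rw [hP, Helper74.classInner_sum_right]
    refine Finset.sum_congr rfl (fun i hi => ?_)
    rw [Helper74.classInner_smul_right, hc]
    simp only [map_div₀, Complex.conj_ofReal]
    rw [div_mul_eq_mul_div, mul_comm, Complex.mul_conj, Complex.normSq_eq_norm_sq]
    push_cast
    rfl
  have hPZ : classInner P Z = ∑ i ∈ s, ((‖classInner Z (v i)‖ ^ 2 / N i : ℝ) : ℂ) := by
    rw [← Helper74.classInner_conj_symm, hZP, map_sum]
    refine Finset.sum_congr rfl (fun i _ => ?_)
    rw [Complex.conj_ofReal]
  have hPP : classInner P P = ∑ i ∈ s, ((‖classInner Z (v i)‖ ^ 2 / N i : ℝ) : ℂ) := by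
    rw [hP, Helper74.classInner_sum_left]
    refine Finset.sum_congr rfl (fun i hi => ?_)
    rw [Helper74.classInner_smul_left, Helper74.classInner_sum_right]
    rw [Finset.sum_eq_single i]
    · rw [Helper74.classInner_smul_right, horth i hi i hi, if_pos rfl, hc]
      simp only [map_div₀, Complex.conj_ofReal]
      have hne := hNne i hi
      have : classInner Z (v i) / (N i : ℂ) * (conj (classInner Z (v i)) / (N i : ℂ) * (N i : ℂ))
          = (classInner Z (v i) * conj (classInner Z (v i))) / (N i : ℂ) := by
        field_simp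
      rw [this, Complex.mul_conj, Complex.normSq_eq_norm_sq]
      push_cast
      rfl
    · intro j hj hji
      rw [Helper74.classInner_smul_right, horth i hi j hj, if_neg (fun h => hji h.symm), mul_zero]
    · intro h; exact absurd hi h
  rw [Helper74.classInner_sub_left, Helper74.classInner_sub_right,
    Helper74.classInner_sub_right, hZP, hPZ, hPP]
  ring

/-- Bessel's inequality for a finite orthogonal family with positive norms. -/
theorem bessel_orthogonal {ι : Type*} [DecidableEq ι] (s : Finset ι) (v : ι → G → ℂ)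
    (N : ι → ℝ) (hN : ∀ i ∈ s, 0 < N i)
    (horth : ∀ i ∈ s, ∀ j ∈ s, classInner (v i) (v j) = if i = j then (N i : ℂ) else 0)
    (Z : G → ℂ) :
    ∑ i ∈ s, ‖classInner Z (v i)‖ ^ 2 / N i ≤ (classInner Z Z).re := by
  have hexp := classInner_sub_proj s v N hN horth Z
  have hnn := classInner_self_re_nonneg (Z - ∑ i ∈ s, (classInner Z (v i) / (N i : ℂ)) • v i)
  rw [hexp, Complex.sub_re, ← Complex.ofReal_sum, Complex.ofReal_re] at hnn
  linarith

end inner

section chars
variable {L : Type u} [Group L] [Finite L]

theorem isCharacter_eq_zero_of_apply_one {φ : L → ℂ} (hφ : IsCharacter L φ) (h1 : φ 1 = 0) :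
    φ = 0 := by
  funext g
  have h := Helper80.IsCharacter.norm_le hφ g
  have hd : charDegree φ = 0 := by
    rw [charDegree, h1]; simp
  rw [hd] at h
  have : ‖φ g‖ = 0 := le_antisymm (by simpa using h) (norm_nonneg _)
  simpa using this

end chars

end Cfsg.Agent.Helper25
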