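import Cfsg.Agent.Helper16.DT.Defs

/-!
# DT farm (helper16 #13881), pieces (IND) and (INJ): cores

Brauer characters of pairwise inequivalent irreducible matrix representations over the residue
field are linearly independent over `ℂ`; irreducible matrix representations with the same Brauer
character are equivalent.  Here the pieces (AC), (CHP), (INa), (INb), (INc) enter as hypotheses.
-/

set_option autoImplicit false
set_option linter.unusedSectionVars false
set_option linter.unusedVariables false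

namespace Cfsg.Agent.Helper25.DT

open Cfsg Cfsg.Agent.Helper16 Cfsg.Agent.Helper16.DT Polynomial Matrix

universe u v w

section Res

variable {p : ℕ} [Fact p.Prime] {M : Ideal AlgInt} [M.IsMaximal] {G : Type u} [Group G]

theorem brauerChar_of_pRegular {ι : Type w} [Fintype ι] [DecidableEq ι]
    (ρ : G →* Matrix ι ι (AlgInt ⧸ M)) {g : G} (hg : IsPRegular p g) :
    brauerChar p M ρ g = bfull p M (ρ g) := by
  classical
  unfold brauerChar pRegularPart brauerFull
  rw [if_pos hg]

theorem brauerChar_of_not_pRegular {ι : Type w} [Fintype ι] [DecidableEq ι]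
    (ρ : G →* Matrix ι ι (AlgInt ⧸ M)) {g : G} (hg : ¬ IsPRegular p g) :
    brauerChar p M ρ g = 0 := by
  classical
  unfold brauerChar pRegularPart brauerFull
  rw [if_neg hg]

/-- (IND), core: the pieces (INa) [with (AC), (CHP) already supplied], (INb), (INc) are
hypotheses. -/
theorem brauerChar_linearIndependent_of [Fintype G] {r : ℕ} (d : Fin r → ℕ)
    (ρ : ∀ i, G →* Matrix (Fin (d i)) (Fin (d i)) (AlgInt ⧸ M)) (hirr : ∀ i, IsIrredMat (ρ i))
    (hne : ∀ i j, i ≠ j → ¬ MatEquiv (ρ i) (ρ j))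
    (hINa : ∀ c : Fin r → (AlgInt ⧸ M),
      (∀ g : G, IsPRegular p g → ∑ i, c i * (ρ i g).trace = 0) → c = 0)
    (hINb : ∀ i g, MemLocalRing M (bfull p M (ρ i g)) ∧
      resC M (bfull p M (ρ i g)) = (ρ i g).trace)
    (hINc : ∀ v : Fin r → G → ℂ, (∀ i x, MemLocalRing M (v i x)) →
      LinearIndependent (AlgInt ⧸ M) (fun i : Fin r => fun x : G => resC M (v i x)) →
      LinearIndependent ℂ v) :
    LinearIndependent ℂ (fun i => brauerChar p M (ρ i)) := by
  classical
  refine hINc (fun i => brauerChar p M (ρ i)) ?_ ?_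
  · intro i g
    by_cases hg : IsPRegular p g
    · rw [brauerChar_of_pRegular _ hg]
      exact (hINb i g).1
    · rw [brauerChar_of_not_pRegular _ hg]
      exact memLocalRing_zero
  · rw [Fintype.linearIndependent_iff]
    intro c hc
    have h0 : c = 0 := by
      refine hINa c ?_
      intro g hg
      have h1 := congrFun hc g
      simp only [Finset.sum_apply, Pi.smul_apply, smul_eq_mul, Pi.zero_apply] at h1
      rw [← h1]
      refine Finset.sum_congr rfl fun i _ => ?_
      rw [brauerChar_of_pRegular _ hg, (hINb i g).2]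
    intro i
    rw [h0]
    rfl

/-- Auxiliary: degrees of a pair of representations. -/
def d2 (m n : ℕ) : Fin 2 → ℕ := fun i => match i with
  | ⟨0, _⟩ => m
  | ⟨1, _⟩ => n

/-- Auxiliary: a pair of representations as a family over `Fin 2`. -/
def rho2 {K : Type v} [Field K] {m n : ℕ} (ρ : G →* Matrix (Fin m) (Fin m) K)
    (σ : G →* Matrix (Fin n) (Fin n) K) :
    ∀ i : Fin 2, G →* Matrix (Fin (d2 m n i)) (Fin (d2 m n i)) K := fun i => match i with
  | ⟨0, _⟩ => ρ
  | ⟨1, _⟩ => σ

theorem matEquiv_symm' {K : Type v} [Field K] {ι : Type w} [Fintype ι] [DecidableEq ι] {κ : Type*}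
    [Fintype κ] [DecidableEq κ] {ρ : G →* Matrix ι ι K} {σ : G →* Matrix κ κ K}
    (h : MatEquiv ρ σ) : MatEquiv σ ρ := by
  obtain ⟨P, Q, hPQ, hQP, hg⟩ := h
  refine ⟨Q, P, hQP, hPQ, fun g => ?_⟩
  rw [← hg g]
  calc Q * (P * σ g * Q) * P = (Q * P) * σ g * (Q * P) := by
        simp only [Matrix.mul_assoc]
    _ = σ g := by rw [hQP, Matrix.one_mul, Matrix.mul_one]

/-- (INJ), core: from (IND) for the family `rho2 ρ σ` over `Fin 2`. -/
theorem matEquiv_of_brauerChar_eq_of [Fintype G] {m n : ℕ}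
    (ρ : G →* Matrix (Fin m) (Fin m) (AlgInt ⧸ M)) (σ : G →* Matrix (Fin n) (Fin n) (AlgInt ⧸ M))
    (hρ : IsIrredMat ρ) (hσ : IsIrredMat σ) (h : brauerChar p M ρ = brauerChar p M σ)
    (hIND : (∀ i, IsIrredMat (rho2 ρ σ i)) →
      (∀ i j, i ≠ j → ¬ MatEquiv (rho2 ρ σ i) (rho2 ρ σ j)) →
      LinearIndependent ℂ (fun i => brauerChar p M (rho2 ρ σ i))) :
    MatEquiv ρ σ := by
  by_contra hcon
  have hirr : ∀ i, IsIrredMat (rho2 ρ σ i) := fun i => match i with
    | ⟨0, _⟩ => hρ
    | ⟨1, _⟩ => hσ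
  have hne : ∀ i j, i ≠ j → ¬ MatEquiv (rho2 ρ σ i) (rho2 ρ σ j) := fun i j => match i, j with
    | ⟨0, _⟩, ⟨0, _⟩ => fun hij => absurd rfl hij
    | ⟨0, _⟩, ⟨1, _⟩ => fun _ => hcon
    | ⟨1, _⟩, ⟨0, _⟩ => fun _ h' => hcon (matEquiv_symm' h')
    | ⟨1, _⟩, ⟨1, _⟩ => fun hij => absurd rfl hij
  have hli := hIND hirr hne
  have hinj := hli.injective
  have h01 : (0 : Fin 2) = 1 := hinj (by
    show brauerChar p M (rho2 ρ σ 0) = brauerChar p M (rho2 ρ σ 1)
    exact h)
  exact absurd h01 (by decide)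

end Res

end Cfsg.Agent.Helper25.DT
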