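import Mathlib
import Cfsg.Prelude.Def_Blocks
import Cfsg.Agent.Helper80.Induced
import Cfsg.Agent.Helper80.Degree
import Cfsg.Agent.Helper80.Pullback

set_option autoImplicit false

/-! Constituents of characters, their kernels, and the bound `θ(1)² |S| ≤ |C|` for a subgroup `S`
acting by scalars. -/

namespace Cfsg.Agent.Helper25

open Cfsg Cfsg.Agent.Helper80

universe u

section constituents
variable {G : Type u} [Group G] [Fintype G]

/-- A character with nonzero degree has an irreducible constituent. -/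
theorem exists_constituent {χ : G → ℂ} (hχ : IsCharacter G χ) (h1 : χ 1 ≠ 0) :
    ∃ θ : IrrCharacter G, 1 ≤ mult χ hχ θ := by
  classical
  let _ : Fintype (IrrCharacter G) := Helper74.irrFintype G
  by_contra hcon
  push Not at hcon
  have h0 : ∀ θ : IrrCharacter G, mult χ hχ θ = 0 := fun θ => Nat.lt_one_iff.mp (hcon θ)
  have := eq_sum_mult χ hχ
  simp only [h0, Nat.cast_zero, zero_smul, Finset.sum_const_zero] at this
  apply h1
  rw [this]; rfl

/-- If `χ g = χ 1` then every irreducible constituent `θ` of `χ` has `θ g = θ 1`. -/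
theorem constituent_apply_eq {χ : G → ℂ} (hχ : IsCharacter G χ) (θ : IrrCharacter G)
    (hθ : 1 ≤ mult χ hχ θ) {g : G} (hg : χ g = χ 1) : (θ : G → ℂ) g = (θ : G → ℂ) 1 := by
  classical
  let _ : Fintype (IrrCharacter G) := Helper74.irrFintype G
  have hdec := eq_sum_mult χ hχ
  have hg' := congrFun hdec g
  have h1' := congrFun hdec 1
  simp only [Finset.sum_apply, Pi.smul_apply, smul_eq_mul] at hg' h1'
  -- real parts
  have hre : ∀ ψ : IrrCharacter G, ((ψ : G → ℂ) g).re ≤ ((ψ : G → ℂ) 1).re := by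
    intro ψ
    have h2 := IsCharacter.norm_le (IsIrrCharacter.isCharacter ψ.2) g
    have h3 := IsCharacter.charDegree_cast (IsIrrCharacter.isCharacter ψ.2)
    have h4 : ((ψ : G → ℂ) 1).re = (charDegree (ψ : G → ℂ) : ℝ) := by
      rw [← h3]; simp
    rw [h4]
    exact (Complex.re_le_norm _).trans h2
  have hsum : ∑ ψ : IrrCharacter G, (mult χ hχ ψ : ℝ) *
      (((ψ : G → ℂ) 1).re - ((ψ : G → ℂ) g).re) = 0 := by
    have e1 : (χ 1).re = ∑ ψ : IrrCharacter G, (mult χ hχ ψ : ℝ) * ((ψ : G → ℂ) 1).re := by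
      rw [h1', Complex.re_sum]
      refine Finset.sum_congr rfl (fun ψ _ => ?_)
      rw [← Complex.ofReal_natCast, Complex.re_ofReal_mul]
    have e2 : (χ g).re = ∑ ψ : IrrCharacter G, (mult χ hχ ψ : ℝ) * ((ψ : G → ℂ) g).re := by
      rw [hg', Complex.re_sum]
      refine Finset.sum_congr rfl (fun ψ _ => ?_)
      rw [← Complex.ofReal_natCast, Complex.re_ofReal_mul]
    simp only [mul_sub, Finset.sum_sub_distrib]
    rw [← e1, ← e2, hg, sub_self]
  have hterm := (Finset.sum_eq_zero_iff_of_nonneg (fun ψ _ =>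
    mul_nonneg (Nat.cast_nonneg _) (sub_nonneg.mpr (hre ψ)))).mp hsum θ (Finset.mem_univ θ)
  have hm : (mult χ hχ θ : ℝ) ≠ 0 := by
    have : mult χ hχ θ ≠ 0 := by omega
    exact_mod_cast this
  have hre_eq : ((θ : G → ℂ) g).re = ((θ : G → ℂ) 1).re := by
    rcases mul_eq_zero.mp hterm with h | h
    · exact absurd h hm
    · linarith
  -- norm bound gives imaginary part zero
  have h2 := IsCharacter.norm_le (IsIrrCharacter.isCharacter θ.2) g
  have h3 := IsCharacter.charDegree_cast (IsIrrCharacter.isCharacter θ.2)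
  have h4 : ((θ : G → ℂ) 1).re = (charDegree (θ : G → ℂ) : ℝ) := by
    rw [← h3]; simp
  have h5 : ((θ : G → ℂ) 1).im = 0 := by
    rw [← h3]; simp
  have hsq : ‖(θ : G → ℂ) g‖ ^ 2 ≤ (charDegree (θ : G → ℂ) : ℝ) ^ 2 :=
    pow_le_pow_left₀ (norm_nonneg _) h2 2
  rw [← Complex.normSq_eq_norm_sq, Complex.normSq_apply, hre_eq, h4] at hsq
  have him : ((θ : G → ℂ) g).im = 0 := by
    have : ((θ : G → ℂ) g).im * ((θ : G → ℂ) g).im ≤ 0 := by nlinarith
    have h6 := mul_self_nonneg ((θ : G → ℂ) g).im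
    have : ((θ : G → ℂ) g).im * ((θ : G → ℂ) g).im = 0 := le_antisymm this h6
    exact mul_self_eq_zero.mp this
  apply Complex.ext
  · exact hre_eq
  · rw [him, h5]

end constituents

section central
variable {C : Type u} [Group C] [Finite C]

/-- An element central modulo a normal subgroup in the kernel of the irreducible `θ` has
`‖θ d‖ = θ 1`. -/
theorem norm_eq_of_central_mod {θ : C → ℂ} (hθ : IsIrrCharacter C θ) (K : Subgroup C)
    [K.Normal] (hK : ∀ k ∈ K, θ k = θ 1) {d : C} (hd : ∀ c : C, d * c * d⁻¹ * c⁻¹ ∈ K) :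
    ‖θ d‖ = (charDegree θ : ℝ) := by
  obtain ⟨θ', hθ', hθθ'⟩ := IsIrrCharacter.exists_descend hθ (QuotientGroup.mk' K)
    (QuotientGroup.mk'_surjective K) (fun g hg => hK g ((QuotientGroup.eq_one_iff g).mp hg))
  have hdeg : charDegree θ' = charDegree θ := by
    have := hθθ' 1
    rw [map_one] at this
    rw [charDegree, charDegree, this]
  have hcen : (QuotientGroup.mk' K d) ∈ Subgroup.center (C ⧸ K) := by
    rw [Subgroup.mem_center_iff]
    intro x
    obtain ⟨c, rfl⟩ := QuotientGroup.mk'_surjective K x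
    have h1 : QuotientGroup.mk' K (d * c * d⁻¹ * c⁻¹) = 1 :=
      (QuotientGroup.eq_one_iff _).mpr (hd c)
    rw [map_mul, map_mul, map_mul, map_inv, map_inv] at h1
    have h2 := mul_inv_eq_one.mp h1
    have h3 := mul_inv_eq_iff_eq_mul.mp h2
    exact h3.symm
  rw [hθθ' d, ← hdeg]
  exact IsIrrCharacter.norm_eq_of_mem_center hθ' hcen

/-- If a subgroup `S` acts by scalars of absolute value one then `θ(1)² |S| ≤ |C|`. -/
theorem charDegree_sq_mul_card_le {θ : C → ℂ} (hθ : IsIrrCharacter C θ) (S : Subgroup C)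
    (hS : ∀ d ∈ S, ‖θ d‖ = (charDegree θ : ℝ)) :
    charDegree θ ^ 2 * Nat.card S ≤ Nat.card C := by
  classical
  cases nonempty_fintype C
  have h1 := IsIrrCharacter.sum_normSq hθ
  have h2 : ∑ g ∈ (Finset.univ.filter fun g : C => g ∈ S), ‖θ g‖ ^ 2 ≤ ∑ g : C, ‖θ g‖ ^ 2 :=
    Finset.sum_le_sum_of_subset_of_nonneg (Finset.filter_subset _ _) (fun _ _ _ => by positivity)
  have h3 : ∑ g ∈ (Finset.univ.filter fun g : C => g ∈ S), ‖θ g‖ ^ 2 =
      ((Finset.univ.filter fun g : C => g ∈ S).card : ℝ) * (charDegree θ : ℝ) ^ 2 := by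
    rw [← nsmul_eq_mul, ← Finset.sum_const]
    refine Finset.sum_congr rfl fun g hg => ?_
    rw [hS g (Finset.mem_filter.mp hg).2]
  have h4 : (Finset.univ.filter fun g : C => g ∈ S).card = Nat.card S := by
    rw [Nat.card_eq_fintype_card, Fintype.card_subtype]
  rw [h3, h1, h4] at h2
  rw [Nat.card_eq_fintype_card (α := C)]
  have h5 : ((charDegree θ ^ 2 * Nat.card S : ℕ) : ℝ) ≤ (Fintype.card C : ℝ) := by
    push_cast; linarith
  exact_mod_cast h5

end central

section induced
variable {G : Type u} [Group G] [Fintype G]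

/-- If `θ ∈ Irr(H)` is a constituent of `ψ|_H`, `ψ ∈ Irr(G)`, then `ψ(1) ≤ [G:H] θ(1)`. -/
theorem charDegree_le_index_mul {ψ : G → ℂ} (hψ : IsIrrCharacter G ψ) (H : Subgroup G)
    [Fintype H] {θ : H → ℂ} (hθ : IsCharacter H θ)
    (hne : classInner (fun h : H => ψ h) θ ≠ 0) :
    charDegree ψ ≤ H.index * charDegree θ := by
  classical
  let _ : Fintype (IrrCharacter G) := Helper74.irrFintype G
  have hI := Helper15.isCharacter_indFun H hθ
  set I := indFun H θ with hIdef
  set X : IrrCharacter G := ⟨ψ, hψ⟩ with hX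
  have hcf : IsClassFunction G ψ := IsCharacter.isClassFunction (IsIrrCharacter.isCharacter hψ)
  have hm : (mult I hI X : ℂ) ≠ 0 := by
    rw [← mult_spec, hIdef, Helper15.frobenius_reciprocity H θ ψ hcf,
      ← Helper15.classInner_conj_symm]
    simpa using hne
  have hm1 : 1 ≤ mult I hI X := Nat.one_le_iff_ne_zero.mpr (by exact_mod_cast hm)
  have hdegI := charDegree_eq_sum_mult I hI
  rw [charDegree_indFun H hθ] at hdegI
  rw [hdegI]
  calc charDegree ψ = 1 * charDegree (X : G → ℂ) := by rw [one_mul]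
    _ ≤ mult I hI X * charDegree (X : G → ℂ) := Nat.mul_le_mul_right _ hm1
    _ ≤ ∑ φ : IrrCharacter G, mult I hI φ * charDegree (φ : G → ℂ) :=
        Finset.single_le_sum (f := fun φ : IrrCharacter G => mult I hI φ * charDegree (φ : G → ℂ))
          (fun _ _ => Nat.zero_le _) (Finset.mem_univ X)

end induced

end Cfsg.Agent.Helper25
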