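import Mathlib
import Cfsg.Prelude.Def_Characters
import Cfsg.Agent.Helper74.LinTwist
import Cfsg.Agent.Helper15.CliffordCorr
import Cfsg.Agent.Helper25.CentralBound

set_option autoImplicit false

/-! Induction of an invariant irreducible character `θ` of a normal subgroup `N` with abelian
quotient: `Ind θ = e • ∑_{χ ∈ C} χ`, all `χ` of degree `e θ(1)`, and `e² |C| |N| = |T|`. -/

namespace Cfsg.Agent.Helper25

open Cfsg
open scoped ComplexConjugate

universe u

section dual
variable {A : Type*} [CommGroup A] [Finite A]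

/-- Sum of the values of all linear characters of a finite abelian group at an element. -/
theorem sum_monoidHom_apply_of_ne [Fintype (A →* ℂˣ)] {a : A} (ha : a ≠ 1) :
    ∑ φ : A →* ℂˣ, ((φ a : ℂˣ) : ℂ) = 0 := by
  have : NeZero (Monoid.exponent A) := ⟨Monoid.exponent_ne_zero_of_finite⟩
  obtain ⟨φ₀, hφ₀⟩ := CommGroup.exists_apply_ne_one_of_hasEnoughRootsOfUnity A ℂ ha
  have h := Fintype.sum_equiv (Equiv.mulLeft φ₀)
    (fun φ : A →* ℂˣ => ((φ₀ a : ℂˣ) : ℂ) * ((φ a : ℂˣ) : ℂ))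
    (fun φ => ((φ a : ℂˣ) : ℂ)) (fun φ => by simp)
  rw [← Finset.mul_sum] at h
  have hne' : ((φ₀ a : ℂˣ) : ℂ) ≠ 1 := fun h' => hφ₀ (Units.ext h')
  have : (((φ₀ a : ℂˣ) : ℂ) - 1) * ∑ φ : A →* ℂˣ, ((φ a : ℂˣ) : ℂ) = 0 := by
    rw [sub_mul, h, one_mul, sub_self]
  rcases mul_eq_zero.mp this with h' | h'
  · exact absurd (sub_eq_zero.mp h') hne'
  · exact h'

theorem sum_monoidHom_apply_one [Fintype (A →* ℂˣ)] :
    ∑ φ : A →* ℂˣ, ((φ (1 : A) : ℂˣ) : ℂ) = (Nat.card A : ℂ) := by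
  have : NeZero (Monoid.exponent A) := ⟨Monoid.exponent_ne_zero_of_finite⟩
  simp only [map_one, Units.val_one, Finset.sum_const, Finset.card_univ, nsmul_eq_mul, mul_one]
  rw [← Nat.card_eq_fintype_card, CommGroup.card_monoidHom_of_hasEnoughRootsOfUnity A ℂ]

end dual

section main
variable {T : Type u} [Group T] [Fintype T] (N : Subgroup T) [hN : N.Normal]

/-- The principal character of a normal subgroup with abelian quotient induces to the sum of the
linear characters of the quotient. -/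
theorem indFun_one_eq_sum (hab : ∀ x y : T, x * y * x⁻¹ * y⁻¹ ∈ N)
    [Fintype ((T ⧸ N) →* ℂˣ)] (t : T) :
    indFun N (fun _ => (1 : ℂ)) t =
      ∑ φ : (T ⧸ N) →* ℂˣ, ((φ (QuotientGroup.mk' N t) : ℂˣ) : ℂ) := by
  classical
  letI : CommGroup (T ⧸ N) :=
    { (inferInstance : Group (T ⧸ N)) with
      mul_comm := by
        intro a b
        obtain ⟨x, rfl⟩ := QuotientGroup.mk'_surjective N a
        obtain ⟨y, rfl⟩ := QuotientGroup.mk'_surjective N b
        have h1 : QuotientGroup.mk' N (x * y * x⁻¹ * y⁻¹) = 1 :=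
          (QuotientGroup.eq_one_iff _).mpr (hab x y)
        rw [map_mul, map_mul, map_mul, map_inv, map_inv] at h1
        have h2 := mul_inv_eq_one.mp h1
        exact mul_inv_eq_iff_eq_mul.mp h2 }
  by_cases ht : t ∈ N
  · have h1 : QuotientGroup.mk' N t = 1 := (QuotientGroup.eq_one_iff t).mpr ht
    rw [h1, sum_monoidHom_apply_one]
    have := Helper15.indFun_normal_apply N (fun _ => (1 : ℂ)) ⟨t, ht⟩
    simp only [Helper15.conjFun_apply, Finset.sum_const, Finset.card_univ, nsmul_eq_mul,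
      mul_one] at this
    rw [this, ← Nat.card_eq_fintype_card, ← Subgroup.index_eq_card, ← N.card_mul_index]
    have hN0 : (Nat.card N : ℂ) ≠ 0 := by exact_mod_cast Nat.card_pos.ne'
    push_cast
    field_simp
  · have h1 : QuotientGroup.mk' N t ≠ 1 := fun h => ht ((QuotientGroup.eq_one_iff t).mp h)
    rw [sum_monoidHom_apply_of_ne h1, Helper15.indFun_normal_of_not_mem N _ ht]

/-- Main theorem at the level of the inertia group. -/
theorem abelian_inertia {θ : N → ℂ} (hθ : IsIrrCharacter N θ)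
    (hinv : ∀ t : T, Helper15.conjFun N t θ = θ) (hab : ∀ x y : T, x * y * x⁻¹ * y⁻¹ ∈ N) :
    ∃ (e : ℕ) (C : Finset (T → ℂ)), 0 < e ∧ (∀ χ ∈ C, IsIrrCharacter T χ) ∧
      (∀ χ ∈ C, classInner (indFun N θ) χ ≠ 0) ∧
      e ^ 2 * C.card * Nat.card N = Nat.card T ∧ indFun N θ = (e : ℂ) • ∑ χ ∈ C, χ ∧
      ∀ χ ∈ C, χ 1 = (e : ℂ) * θ 1 := by
  classical
  let _ : Fintype N := Fintype.ofFinite N
  let _ : Fintype (IrrCharacter T) := Helper74.irrFintype T
  let _ : Fintype ((T ⧸ N) →* ℂˣ) := Fintype.ofFinite _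
  have hθc : IsCharacter N θ := Helper74.isCharacter_of_isIrr hθ
  have hθ1 : θ 1 ≠ 0 := Helper80.IsIrrCharacter.map_one_ne_zero hθ
  have hθθ : classInner θ θ = 1 := Helper74.irr_inner_self ⟨θ, hθ⟩
  have hI : IsCharacter T (indFun N θ) := Helper15.isCharacter_indFun N hθc
  have hindex : (N.index : ℂ) ≠ 0 := by
    have : N.index ≠ 0 := Subgroup.index_ne_zero_of_finite
    exact_mod_cast this
  have hI1 : indFun N θ 1 ≠ 0 := by
    rw [Helper15.indFun_apply_one]
    exact mul_ne_zero hindex hθ1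
  -- a constituent ψ
  obtain ⟨ψ, hψm⟩ := exists_constituent hI hI1
  have hψcf : IsClassFunction T (ψ : T → ℂ) := Helper74.irr_isClassFunction ψ
  -- for any constituent χ: χ_N = e_χ θ
  have hres : ∀ χ : IrrCharacter T, classInner (indFun N θ) (χ : T → ℂ) ≠ 0 →
      ∃ k : ℕ, k ≠ 0 ∧ (fun n : N => (χ : T → ℂ) n) = (k : ℂ) • θ ∧
        classInner (indFun N θ) (χ : T → ℂ) = k := by
    intro χ hχ
    have hfr := Helper15.frobenius_reciprocity N θ (χ : T → ℂ) (Helper74.irr_isClassFunction χ)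
    have hne : classInner (fun n : N => (χ : T → ℂ) n) θ ≠ 0 := by
      rw [← Helper74.classInner_conj_symm, ← hfr]
      simpa using hχ
    have hsm := Helper15.restrict_eq_smul_of_invariant N χ.2 hθ hne hinv
    obtain ⟨k, hk⟩ := Helper15.isCharacter_inner_nat
      (Helper74.isCharacter_restrict N (Helper74.irr_isCharacter χ)) hθc
    refine ⟨k, ?_, ?_, ?_⟩
    · intro h0; apply hne; rw [hk, h0]; simp
    · rw [← hk]; exact hsm
    · rw [hfr, ← Helper74.classInner_conj_symm, hk]; simp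
  have hψne : classInner (indFun N θ) (ψ : T → ℂ) ≠ 0 := by
    rw [Helper80.mult_spec _ hI ψ]
    have : Helper80.mult _ hI ψ ≠ 0 := by omega
    exact_mod_cast this
  obtain ⟨e, he0, hψN, hψe⟩ := hres ψ hψne
  have hψ1 : (ψ : T → ℂ) 1 = (e : ℂ) * θ 1 := by
    have := congrFun hψN 1
    simpa using this
  -- e • Ind θ = ∑ twists of ψ
  have hkey : (e : ℂ) • indFun N θ =
      ∑ φ : (T ⧸ N) →* ℂˣ,
        ((Helper74.twist (φ.comp (QuotientGroup.mk' N)) ψ : IrrCharacter T) : T → ℂ) := by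
    rw [← Helper15.indFun_smul, ← hψN]
    have h1 : (fun n : N => (ψ : T → ℂ) n) = (fun _ : N => (1 : ℂ)) * fun n : N => (ψ : T → ℂ) n := by
      funext n; simp
    rw [h1, Helper15.indFun_mul_restrict N (fun _ : N => (1 : ℂ)) (ψ : T → ℂ) hψcf]
    funext t
    rw [Pi.mul_apply, indFun_one_eq_sum N hab t, Finset.sum_apply, Finset.sum_mul]
    refine Finset.sum_congr rfl (fun φ _ => ?_)
    rw [Helper74.twist_apply]
    rfl
  -- every constituent has e_χ = e
  have hconst : ∀ χ : IrrCharacter T, classInner (indFun N θ) (χ : T → ℂ) ≠ 0 →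
      classInner (indFun N θ) (χ : T → ℂ) = e ∧ (χ : T → ℂ) 1 = (e : ℂ) * θ 1 := by
    intro χ hχ
    obtain ⟨k, hk0, hχN, hχk⟩ := hres χ hχ
    have hχ1 : (χ : T → ℂ) 1 = (k : ℂ) * θ 1 := by
      have := congrFun hχN 1
      simpa using this
    -- χ is a twist of ψ
    have h2 : classInner ((e : ℂ) • indFun N θ) (χ : T → ℂ) ≠ 0 := by
      rw [Helper74.classInner_smul_left]
      exact mul_ne_zero (by exact_mod_cast he0) hχ
    rw [hkey, Helper74.classInner_sum_left] at h2
    obtain ⟨φ, -, hφ⟩ := Finset.exists_ne_zero_of_sum_ne_zero h2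
    have heq : Helper74.twist (φ.comp (QuotientGroup.mk' N)) ψ = χ := by
      by_contra hne
      exact hφ (Helper74.irr_inner_ne hne)
    have h3 : (χ : T → ℂ) 1 = (ψ : T → ℂ) 1 := by
      rw [← heq, Helper74.twist_apply]; simp
    have hke : k = e := by
      have : (k : ℂ) * θ 1 = (e : ℂ) * θ 1 := by rw [← hχ1, h3, hψ1]
      have := mul_right_cancel₀ hθ1 this
      exact_mod_cast this
    rw [hχk, hχ1, hke]
    exact ⟨rfl, rfl⟩
  -- the constituent set
  set C' : Finset (IrrCharacter T) :=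
    Finset.univ.filter (fun χ => classInner (indFun N θ) (χ : T → ℂ) ≠ 0) with hC'
  have hdec : indFun N θ = (e : ℂ) • ∑ χ ∈ C', (χ : T → ℂ) := by
    conv_lhs => rw [Helper74.isCharacter_eq_sum_irr hI]
    rw [Finset.smul_sum, hC', Finset.sum_filter]
    refine Finset.sum_congr rfl (fun χ _ => ?_)
    by_cases hχ : classInner (indFun N θ) (χ : T → ℂ) ≠ 0
    · rw [if_pos hχ, (hconst χ hχ).1]
    · rw [if_neg hχ]
      push Not at hχ
      rw [hχ, zero_smul]
  have hcard : e ^ 2 * C'.card * Nat.card N = Nat.card T := by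
    have h1 := congrFun hdec 1
    rw [Helper15.indFun_apply_one, Pi.smul_apply, Finset.sum_apply] at h1
    have h2 : ∑ χ ∈ C', (χ : T → ℂ) 1 = (C'.card : ℂ) * ((e : ℂ) * θ 1) := by
      rw [Finset.sum_congr rfl (fun χ hχ => (hconst χ (Finset.mem_filter.mp hχ).2).2)]
      rw [Finset.sum_const, nsmul_eq_mul]
    rw [h2, smul_eq_mul] at h1
    have h3 : (N.index : ℂ) = ((e ^ 2 * C'.card : ℕ) : ℂ) := by
      have : (N.index : ℂ) * θ 1 = ((e : ℂ) ^ 2 * (C'.card : ℂ)) * θ 1 := by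
        rw [h1]; ring
      have := mul_right_cancel₀ hθ1 this
      rw [this]; push_cast; ring
    have h4 : N.index = e ^ 2 * C'.card := by exact_mod_cast h3
    rw [← h4, mul_comm, N.card_mul_index]
  refine ⟨e, C'.image Subtype.val, Nat.pos_of_ne_zero he0, ?_, ?_, ?_, ?_, ?_⟩
  · intro χ hχ
    obtain ⟨χ', _, rfl⟩ := Finset.mem_image.mp hχ
    exact χ'.2
  · intro χ hχ
    obtain ⟨χ', hχ', rfl⟩ := Finset.mem_image.mp hχ
    exact (Finset.mem_filter.mp hχ').2
  · rw [Finset.card_image_of_injective _ Subtype.val_injective]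
    exact hcard
  · rw [Finset.sum_image (fun a _ b _ h => Subtype.val_injective h)]
    exact hdec
  · intro χ hχ
    obtain ⟨χ', hχ', rfl⟩ := Finset.mem_image.mp hχ
    exact (hconst χ' (Finset.mem_filter.mp hχ').2).2

end main

end Cfsg.Agent.Helper25
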