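import Cfsg.Agent.Helper15.CliffordCorr

/-!
# Clifford correspondence, induction direction

`T` the inertia group of the irreducible character `θ` of the normal subgroup `H`; for
`ψ ∈ Irr(T | θ)` the induced function `ψ^G` is irreducible, and `ψ ↦ ψ^G` is injective on `Irr(T | θ)`.
-/

set_option autoImplicit false

namespace Cfsg.Agent.Helper25

open Cfsg Cfsg.Agent.Helper15
open scoped ComplexConjugate

universe u

variable {G : Type u} [Group G] [Fintype G] (H T : Subgroup G) [hN : H.Normal] [Fintype T]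

/-- Step I: the restriction of `ψ ∈ Irr(T | θ)` to `H` is a positive multiple of `θ`. -/
theorem resTo_eq_smul_of_inertia {θ : H → ℂ} (hθ : IsIrrCharacter H θ)
    (hT : ∀ g : G, g ∈ T ↔ ∀ h : H, θ ⟨g * h * g⁻¹, hN.conj_mem h h.2 g⟩ = θ h) (hHT : H ≤ T)
    {ψ : T → ℂ} (hψ : IsIrrCharacter T ψ)
    (hc : classInner (indFun (H.subgroupOf T) (toSub H T hHT θ)) ψ ≠ 0) :
    ∃ e : ℕ, e ≠ 0 ∧ resTo H T hHT ψ = (e : ℂ) • θ := by
  classical
  let _ : Fintype (H.subgroupOf T) := Fintype.ofFinite _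
  have hψc : IsCharacter T ψ := Helper74.isCharacter_of_isIrr hψ
  have hψcf : IsClassFunction T ψ := Helper74.isClassFunction_of_isCharacter hψc
  have hθ' : IsIrrCharacter (H.subgroupOf T) (toSub H T hHT θ) := isIrrCharacter_toSub H T hHT hθ
  have hinv' : ∀ t : T, conjFun (H.subgroupOf T) t (toSub H T hHT θ) = toSub H T hHT θ := by
    intro t
    rw [conjFun_toSub]
    congr 1
    funext h
    exact (hT (t : G)).mp t.2 h
  have hne : classInner (fun x : H.subgroupOf T => ψ x) (toSub H T hHT θ) ≠ 0 := by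
    rw [frobenius_reciprocity (H.subgroupOf T) (toSub H T hHT θ) ψ hψcf] at hc
    rw [← classInner_conj_symm]
    intro h0
    apply hc
    have := congrArg conj h0
    simpa using this
  have hcl := restrict_eq_smul_of_invariant (H.subgroupOf T) hψ hθ' hne hinv'
  obtain ⟨e, he⟩ := isCharacter_inner_nat (Helper74.isCharacter_restrict (H.subgroupOf T) hψc)
    (Helper74.isCharacter_of_isIrr hθ')
  refine ⟨e, ?_, ?_⟩
  · intro h0
    apply hne
    rw [he, h0]; simp
  · rw [he, restrict_subgroupOf H T hHT ψ, ← toSub_smul] at hcl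
    exact toSub_injective H T hHT hcl

/-- Step II: if `ψ_H = e θ` then `⟨(ψ^G)_H, θ⟩ = e`. -/
theorem classInner_restrict_indFun_of_inertia {θ : H → ℂ} (hθ : IsIrrCharacter H θ)
    (hT : ∀ g : G, g ∈ T ↔ ∀ h : H, θ ⟨g * h * g⁻¹, hN.conj_mem h h.2 g⟩ = θ h) (hHT : H ≤ T)
    (ψ : T → ℂ) (e : ℂ) (hψe : resTo H T hHT ψ = e • θ) [Fintype H] :
    classInner (fun h : H => indFun T ψ h) θ = e := by
  classical
  have hform : (fun h : H => indFun T ψ h) =
      ((Nat.card T : ℂ)⁻¹ * e) • ∑ y : G, conjFun H y⁻¹ θ := by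
    funext h
    rw [indFun_apply, Pi.smul_apply, Finset.sum_apply, smul_eq_mul, mul_assoc]
    congr 1
    rw [Finset.mul_sum]
    apply Finset.sum_congr rfl
    intro y _
    have hmem : y⁻¹ * (h : G) * y ∈ H := by
      have := hN.conj_mem h h.2 y⁻¹
      simpa using this
    rw [extendByZero_of_mem T ψ (hHT hmem)]
    have h1 : ψ ⟨y⁻¹ * (h : G) * y, hHT hmem⟩ = resTo H T hHT ψ ⟨y⁻¹ * (h : G) * y, hmem⟩ := rfl
    rw [h1, hψe, Pi.smul_apply, smul_eq_mul, conjFun_apply]
    congr 2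
    apply Subtype.ext
    simp
  rw [hform, classInner_smul_left, classInner_finset_sum_left]
  have hterm : ∀ y : G, classInner (conjFun H y⁻¹ θ) θ = if y ∈ T then 1 else 0 := by
    intro y
    have hirr : IsIrrCharacter H (conjFun H y⁻¹ θ) := isIrrCharacter_conjFun H hθ y⁻¹
    have horth := Helper74.irr_orthonormal (⟨conjFun H y⁻¹ θ, hirr⟩ : IrrCharacter H) ⟨θ, hθ⟩
    simp only at horth
    rw [horth]
    have hiff : ((⟨conjFun H y⁻¹ θ, hirr⟩ : IrrCharacter H) = ⟨θ, hθ⟩) ↔ y ∈ T := by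
      rw [Subtype.mk.injEq]
      constructor
      · intro h
        have h1 : y⁻¹ ∈ T := (hT y⁻¹).mpr (fun n => congrFun h n)
        simpa using T.inv_mem h1
      · intro h
        funext n
        exact (hT y⁻¹).mp (T.inv_mem h) n
    by_cases hy : y ∈ T
    · rw [if_pos (hiff.mpr hy), if_pos hy]
    · rw [if_neg (fun h => hy (hiff.mp h)), if_neg hy]
  simp only [hterm]
  rw [Finset.sum_boole]
  have hcard : ((Finset.univ.filter (fun y : G => y ∈ T)).card : ℂ) = (Nat.card T : ℂ) := by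
    rw [Nat.card_eq_fintype_card, Fintype.card_subtype]
  rw [hcard]
  have hT0 : (Nat.card T : ℂ) ≠ 0 := by
    have : Nat.card T ≠ 0 := Nat.card_pos.ne'
    exact_mod_cast this
  field_simp

/-- Key multiplicity identity: decomposing `(ψ^G)_T` into irreducibles of `T` and restricting to `H`. -/
theorem exists_mult_decomp {θ : H → ℂ} (hθ : IsIrrCharacter H θ) (hHT : H ≤ T)
    {Φ : G → ℂ} (hΦ : IsCharacter G Φ) [Fintype H] [Fintype (IrrCharacter T)] :
    ∃ (m f : IrrCharacter T → ℕ),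
      (∀ ξ : IrrCharacter T, classInner (fun t : T => Φ t) (ξ : T → ℂ) = m ξ) ∧
      (∀ ξ : IrrCharacter T, classInner (resTo H T hHT (ξ : T → ℂ)) θ = f ξ) ∧
      classInner (fun h : H => Φ h) θ = ((∑ ξ : IrrCharacter T, m ξ * f ξ : ℕ) : ℂ) := by
  classical
  have hΦT : IsCharacter T (fun t : T => Φ t) := Helper74.isCharacter_restrict T hΦ
  have hθc : IsCharacter H θ := Helper74.isCharacter_of_isIrr hθ
  have hdec := Helper74.isCharacter_eq_sum_irr hΦT
  choose m hm using fun ξ : IrrCharacter T => Helper74.isCharacter_inner_irr_nat hΦT ξ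
  choose f hf using fun ξ : IrrCharacter T =>
    isCharacter_inner_nat (isCharacter_resTo H T hHT (Helper74.irr_isCharacter ξ)) hθc
  refine ⟨m, f, hm, hf, ?_⟩
  have h1 : (fun h : H => Φ h)
      = ∑ ξ : IrrCharacter T, classInner (fun t : T => Φ t) (ξ : T → ℂ) •
          resTo H T hHT (ξ : T → ℂ) := by
    have := congrArg (resTo H T hHT) hdec
    rw [resTo_restrict, resTo_finset_sum] at this
    exact this
  conv_lhs => rw [h1]
  rw [classInner_finset_sum_left]
  push_cast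
  apply Finset.sum_congr rfl
  intro ξ _
  rw [classInner_smul_left, hm ξ, hf ξ]

/-- **Clifford correspondence, induction direction.** -/
theorem clifford_induce {θ : H → ℂ} (hθ : IsIrrCharacter H θ)
    (hT : ∀ g : G, g ∈ T ↔ ∀ h : H, θ ⟨g * h * g⁻¹, hN.conj_mem h h.2 g⟩ = θ h) (hHT : H ≤ T)
    {ψ ψ' : T → ℂ} (hψ : IsIrrCharacter T ψ) (hψ' : IsIrrCharacter T ψ')
    (hc : classInner (indFun (H.subgroupOf T) (toSub H T hHT θ)) ψ ≠ 0)
    (hc' : classInner (indFun (H.subgroupOf T) (toSub H T hHT θ)) ψ' ≠ 0) :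
    IsIrrCharacter G (indFun T ψ) ∧ (indFun T ψ = indFun T ψ' → ψ = ψ') := by
  classical
  let _ : Fintype H := Fintype.ofFinite H
  let _ := Helper74.irrFintype T
  have hψc : IsCharacter T ψ := Helper74.isCharacter_of_isIrr hψ
  have hψ'c : IsCharacter T ψ' := Helper74.isCharacter_of_isIrr hψ'
  have hΦ : IsCharacter G (indFun T ψ) := isCharacter_indFun T hψc
  have hΦcf : IsClassFunction G (indFun T ψ) := isClassFunction_indFun T ψ
  obtain ⟨e, he0, hψe⟩ := resTo_eq_smul_of_inertia H T hθ hT hHT hψ hc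
  obtain ⟨e', he'0, hψ'e⟩ := resTo_eq_smul_of_inertia H T hθ hT hHT hψ' hc'
  have hII := classInner_restrict_indFun_of_inertia H T hθ hT hHT ψ (e : ℂ) hψe
  obtain ⟨m, f, hm, hf, hsum⟩ := exists_mult_decomp H T hθ hHT hΦ
  rw [hII] at hsum
  have hsum' : e = ∑ ξ : IrrCharacter T, m ξ * f ξ := by exact_mod_cast hsum
  have hθθ : classInner θ θ = 1 := Helper74.irr_inner_self ⟨θ, hθ⟩
  -- f at ψ and ψ'
  have hfψ : f ⟨ψ, hψ⟩ = e := by
    have := hf ⟨ψ, hψ⟩
    simp only at this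
    rw [hψe, classInner_smul_left, hθθ, mul_one] at this
    exact_mod_cast this.symm
  have hfψ' : f ⟨ψ', hψ'⟩ = e' := by
    have := hf ⟨ψ', hψ'⟩
    simp only at this
    rw [hψ'e, classInner_smul_left, hθθ, mul_one] at this
    exact_mod_cast this.symm
  -- m at ψ equals the norm of Φ
  have hmψ : classInner (indFun T ψ) (indFun T ψ) = m ⟨ψ, hψ⟩ := by
    rw [frobenius_reciprocity T ψ _ hΦcf, ← classInner_conj_symm]
    have := hm ⟨ψ, hψ⟩
    simp only at this
    rw [this]; simp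
  have hle : m ⟨ψ, hψ⟩ * e ≤ e := by
    conv_rhs => rw [hsum']
    rw [← hfψ]
    exact Finset.single_le_sum (f := fun ξ => m ξ * f ξ) (fun _ _ => Nat.zero_le _)
      (Finset.mem_univ _)
  have hm_le : m ⟨ψ, hψ⟩ ≤ 1 := by
    by_contra hgt
    have hgt' : 2 ≤ m ⟨ψ, hψ⟩ := by omega
    have : 2 * e ≤ m ⟨ψ, hψ⟩ * e := Nat.mul_le_mul_right e hgt'
    have he_pos : 0 < e := Nat.pos_of_ne_zero he0
    omega
  have hm_ne : m ⟨ψ, hψ⟩ ≠ 0 := by
    intro h0
    rw [h0] at hmψ
    have hz : indFun T ψ = 0 := Helper74.classInner_self_eq_zero (by simpa using hmψ)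
    have h1 : indFun T ψ 1 = 0 := by rw [hz]; rfl
    rw [indFun_apply_one] at h1
    rcases mul_eq_zero.mp h1 with h | h
    · have : (T.index : ℂ) ≠ 0 := by
        have : T.index ≠ 0 := Subgroup.index_ne_zero_of_finite
        exact_mod_cast this
      exact this h
    · exact Helper80.IsIrrCharacter.map_one_ne_zero hψ h
  have hm1 : m ⟨ψ, hψ⟩ = 1 := by omega
  have hnorm : classInner (indFun T ψ) (indFun T ψ) = 1 := by rw [hmψ, hm1]; simp
  refine ⟨(isIrrCharacter_iff_inner_self hΦ).mpr hnorm, ?_⟩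
  intro heq
  by_contra hne
  have hne' : (⟨ψ, hψ⟩ : IrrCharacter T) ≠ ⟨ψ', hψ'⟩ := by
    intro h
    exact hne (congrArg Subtype.val h)
  have hmψ' : m ⟨ψ', hψ'⟩ = 1 := by
    have h1 : classInner (indFun T ψ') (indFun T ψ) = 1 := by rw [← heq]; exact hnorm
    rw [frobenius_reciprocity T ψ' _ hΦcf, ← classInner_conj_symm] at h1
    have h2 := hm ⟨ψ', hψ'⟩
    simp only at h2
    rw [h2] at h1
    have h3 : ((m ⟨ψ', hψ'⟩ : ℕ) : ℂ) = 1 := by simpa using h1
    exact_mod_cast h3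
  have hpair : m ⟨ψ, hψ⟩ * f ⟨ψ, hψ⟩ + m ⟨ψ', hψ'⟩ * f ⟨ψ', hψ'⟩ ≤ e := by
    conv_rhs => rw [hsum']
    rw [← Finset.sum_pair (f := fun ξ => m ξ * f ξ) hne']
    exact Finset.sum_le_sum_of_subset (Finset.subset_univ _)
  rw [hm1, hmψ', hfψ, hfψ'] at hpair
  have he'_pos : 0 < e' := Nat.pos_of_ne_zero he'0
  omega

end Cfsg.Agent.Helper25
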