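import Mathlib
import Cfsg.Prelude.Def_Characters
import Cfsg.Agent.Helper74.CharComplete
import Cfsg.Agent.Helper15.CliffordCorr

set_option autoImplicit false

/-! Transitivity of induction in the form `Ind_T^G (Ind_{H ⊓ T}^T θ) = Ind_H^G θ` for `H ≤ T`,
proved through Frobenius reciprocity. -/

namespace Cfsg.Agent.Helper25

open Cfsg
open scoped ComplexConjugate

universe u

variable {G : Type u} [Group G] [Fintype G]

/-- Two class functions with the same inner products against all irreducible characters agree. -/
theorem classFunction_ext_inner {f g : G → ℂ} (hf : IsClassFunction G f)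
    (hg : IsClassFunction G g)
    (h : ∀ χ : IrrCharacter G, classInner f (χ : G → ℂ) = classInner g (χ : G → ℂ)) : f = g := by
  classical
  let _ : Fintype (IrrCharacter G) := Helper74.irrFintype G
  rw [Helper74.classFunction_eq_sum_irr hf, Helper74.classFunction_eq_sum_irr hg]
  exact Finset.sum_congr rfl (fun χ _ => by rw [h χ])

/-- Transitivity of induction through an intermediate subgroup `T ≥ H`. -/
theorem indFun_indFun_toSub (H T : Subgroup G) (hHT : H ≤ T) [Fintype T] (θ : H → ℂ) :
    indFun T (indFun (H.subgroupOf T) (Helper15.toSub H T hHT θ)) = indFun H θ := by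
  classical
  let _ : Fintype H := Fintype.ofFinite H
  let _ : Fintype (H.subgroupOf T) := Fintype.ofFinite _
  refine classFunction_ext_inner (Helper15.isClassFunction_indFun T _)
    (Helper15.isClassFunction_indFun H _) (fun χ => ?_)
  have hχcf : IsClassFunction G (χ : G → ℂ) := Helper74.irr_isClassFunction χ
  have hχT : IsClassFunction T (fun t : T => (χ : G → ℂ) t) := by
    intro a b
    have := hχcf (a : G) (b : G)
    simpa using this
  rw [Helper15.frobenius_reciprocity T _ (χ : G → ℂ) hχcf,
    Helper15.frobenius_reciprocity (H.subgroupOf T) _ (fun t : T => (χ : G → ℂ) t) hχT,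
    Helper15.frobenius_reciprocity H θ (χ : G → ℂ) hχcf,
    Helper15.restrict_subgroupOf H T hHT (fun t : T => (χ : G → ℂ) t),
    Helper15.classInner_toSub]

end Cfsg.Agent.Helper25
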