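import Mathlib
import Cfsg.Agent.Helper15.TIInvDefs

/-!
# Piece (GA1) of helper15's WANTED #5017 (for S4018): `C_G(P)` is abelian with a unique involution
-/

set_option autoImplicit false
set_option linter.style.haveILetI false
set_option linter.deprecated false

namespace Cfsg.Agent.Helper25.TIInv

open Cfsg Cfsg.Agent.Helper15.TIInv

universe u

variable {G : Type u} [Group G] [Finite G] (P : Sylow 3 G)

theorem P_le_CP (h : Hyp P) :
    (P : Subgroup G) ≤ Subgroup.centralizer ((P : Subgroup G) : Set G) := by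
  intro p hp
  rw [Subgroup.mem_centralizer_iff]
  intro q hq
  exact h.hab q hq p hp

theorem CP_le_NP : Subgroup.centralizer ((P : Subgroup G) : Set G) ≤
    Subgroup.normalizer ((P : Subgroup G) : Set G) := by
  intro c hc
  rw [Subgroup.mem_centralizer_iff] at hc
  rw [Subgroup.mem_normalizer_iff]
  intro q
  constructor
  · intro hq
    have : c * q * c⁻¹ = q := by rw [← hc q hq, mul_inv_cancel_right]
    rw [this]
    exact hq
  · intro hq
    have h1 := hc _ hq
    have : q = c * q * c⁻¹ := by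
      have h2 : c * q * c⁻¹ * c = c * (c * q * c⁻¹) := h1
      have h3 : c * q = c * (c * q * c⁻¹) := by rw [← h2]; group
      exact mul_left_cancel h3
    rw [this]
    exact hq

/-- `G` is not commutative. -/
theorem not_comm (h : Hyp P) : ¬ ∀ x y : G, x * y = y * x := by
  intro hc
  have h1 : Subgroup.centralizer ((P : Subgroup G) : Set G) = ⊤ := by
    rw [eq_top_iff]
    intro x _
    rw [Subgroup.mem_centralizer_iff]
    intro q _
    exact hc q x
  have h2 : Subgroup.normalizer ((P : Subgroup G) : Set G) = ⊤ :=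
    top_le_iff.mp (h1 ▸ CP_le_NP P)
  have h3 := h.hN
  have h4 := h.hC
  rw [h2] at h3
  rw [h1] at h4
  have hpos : 0 < Nat.card (P : Subgroup G) := Nat.card_pos
  omega

/-- **(GA1)** of #5017. -/
theorem hyp_basic (h : Hyp P) :
    (∃ a : ℕ, 1 ≤ a ∧ Nat.card (P : Subgroup G) = 3 ^ a) ∧
    (∀ x ∈ Subgroup.centralizer ((P : Subgroup G) : Set G),
      ∀ y ∈ Subgroup.centralizer ((P : Subgroup G) : Set G), x * y = y * x) ∧
    ∃ z ∈ Subgroup.centralizer ((P : Subgroup G) : Set G), orderOf z = 2 ∧
      ∀ x ∈ Subgroup.centralizer ((P : Subgroup G) : Set G), x * x = 1 → x = 1 ∨ x = z := by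
  classical
  have hPC := P_le_CP P h
  obtain ⟨a, ha⟩ := IsPGroup.iff_card.mp P.2
  have hpos : 0 < Nat.card (P : Subgroup G) := Nat.card_pos
  -- a ≥ 1
  have ha1 : 1 ≤ a := by
    by_contra h0
    have ha0 : a = 0 := by omega
    rw [ha0, pow_zero] at ha
    have hbot : (P : Subgroup G) = ⊥ := Subgroup.card_eq_one.mp ha
    have h1 : Subgroup.centralizer ((P : Subgroup G) : Set G) = ⊤ := by
      rw [eq_top_iff]
      intro x _
      rw [Subgroup.mem_centralizer_iff]
      intro q hq
      rw [SetLike.mem_coe, hbot, Subgroup.mem_bot] at hq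
      rw [hq, one_mul, mul_one]
    have h2 : Subgroup.normalizer ((P : Subgroup G) : Set G) = ⊤ :=
      top_le_iff.mp (h1 ▸ CP_le_NP P)
    have h3 := h.hN
    have h4 := h.hC
    rw [h2] at h3
    rw [h1] at h4
    omega
  -- `C_G(P)` is abelian
  have hcomm : ∀ x ∈ Subgroup.centralizer ((P : Subgroup G) : Set G),
      ∀ y ∈ Subgroup.centralizer ((P : Subgroup G) : Set G), x * y = y * x := by
    set C := Subgroup.centralizer ((P : Subgroup G) : Set G) with hC
    have hcen : (P : Subgroup G).subgroupOf C ≤ Subgroup.center ↥C := by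
      intro p hp
      rw [Subgroup.mem_subgroupOf] at hp
      rw [Subgroup.mem_center_iff]
      intro c
      apply Subtype.ext
      have := (Subgroup.mem_centralizer_iff.mp c.2) (p : G) hp
      simpa using this.symm
    have hcardsub : Nat.card ((P : Subgroup G).subgroupOf C) = Nat.card (P : Subgroup G) :=
      Nat.card_congr (Subgroup.subgroupOfEquivOfLe hPC).toEquiv
    have hidx : ((P : Subgroup G).subgroupOf C).index = 2 := by
      have h1 := ((P : Subgroup G).subgroupOf C).card_mul_index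
      rw [hcardsub, h.hC] at h1
      have : Nat.card (P : Subgroup G) * ((P : Subgroup G).subgroupOf C).index =
          Nat.card (P : Subgroup G) * 2 := by rw [h1, mul_comm]
      exact Nat.eq_of_mul_eq_mul_left hpos this
    haveI : ((P : Subgroup G).subgroupOf C).Normal := Subgroup.normal_of_index_eq_two hidx
    have hcardq : Nat.card (↥C ⧸ (P : Subgroup G).subgroupOf C) = 2 := hidx
    haveI : Fact (Nat.Prime 2) := ⟨Nat.prime_two⟩
    haveI : IsCyclic (↥C ⧸ (P : Subgroup G).subgroupOf C) := isCyclic_of_prime_card hcardq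
    intro x hx y hy
    have := commutative_of_cyclic_center_quotient
      (QuotientGroup.mk' ((P : Subgroup G).subgroupOf C))
      (by rw [QuotientGroup.ker_mk']; exact hcen) (⟨x, hx⟩ : ↥C) ⟨y, hy⟩
    exact congrArg Subtype.val this
  refine ⟨⟨a, ha1, ha⟩, hcomm, ?_⟩
  -- an involution
  have h2dvd : 2 ∣ Nat.card ↥(Subgroup.centralizer ((P : Subgroup G) : Set G)) := by
    rw [h.hC]
    exact dvd_mul_right 2 _
  haveI : Fact (Nat.Prime 2) := ⟨Nat.prime_two⟩
  obtain ⟨z', hz'⟩ := exists_prime_orderOf_dvd_card' 2 h2dvd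
  have hz2 : orderOf (z' : G) = 2 := by rw [Subgroup.orderOf_coe]; exact hz'
  refine ⟨(z' : G), z'.2, hz2, ?_⟩
  -- the subgroup of elements of square one
  let T : Subgroup G :=
    { carrier := {x | x ∈ Subgroup.centralizer ((P : Subgroup G) : Set G) ∧ x * x = 1}
      mul_mem' := by
        rintro x y ⟨hx, hx2⟩ ⟨hy, hy2⟩
        refine ⟨mul_mem hx hy, ?_⟩
        calc x * y * (x * y) = x * (y * x) * y := by group
          _ = x * (x * y) * y := by rw [hcomm y hy x hx]
          _ = (x * x) * (y * y) := by group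
          _ = 1 := by rw [hx2, hy2, one_mul]
      one_mem' := ⟨one_mem _, one_mul 1⟩
      inv_mem' := by
        rintro x ⟨hx, hx2⟩
        refine ⟨inv_mem hx, ?_⟩
        rw [← mul_inv_rev, hx2, inv_one] }
  have hTmem : ∀ x : G, x ∈ T ↔
      x ∈ Subgroup.centralizer ((P : Subgroup G) : Set G) ∧ x * x = 1 := fun _ => Iff.rfl
  have hTle : T ≤ Subgroup.centralizer ((P : Subgroup G) : Set G) := fun x hx => hx.1
  have hTp : IsPGroup 2 T := by
    intro g
    refine ⟨1, ?_⟩
    apply Subtype.ext
    have := g.2.2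
    simpa [pow_two] using this
  obtain ⟨k, hk⟩ := IsPGroup.iff_card.mp hTp
  have hTdvd : Nat.card T ∣ 2 * 3 ^ a := by
    have := Subgroup.card_dvd_of_le hTle
    rwa [h.hC, ha] at this
  have hk1 : k ≤ 1 := by
    by_contra hk2
    have hk2 : 2 ≤ k := by omega
    have h4 : 2 ^ 2 ∣ 2 * 3 ^ a := dvd_trans (pow_dvd_pow 2 hk2) (hk ▸ hTdvd)
    have h2 : 2 ∣ 3 ^ a := by
      have : 2 * 2 ∣ 2 * 3 ^ a := by simpa [pow_two] using h4
      exact (Nat.mul_dvd_mul_iff_left (by norm_num)).mp this
    have := Nat.Prime.dvd_of_dvd_pow Nat.prime_two h2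
    norm_num at this
  have hTcard : Nat.card T ≤ 2 := by
    rw [hk]
    calc 2 ^ k ≤ 2 ^ 1 := Nat.pow_le_pow_right (by norm_num) hk1
      _ = 2 := by norm_num
  intro x hx hx2
  by_contra hne
  push Not at hne
  obtain ⟨hx1, hxz⟩ := hne
  have hz1 : (z' : G) ≠ 1 := by
    intro h1
    rw [h1, orderOf_one] at hz2
    norm_num at hz2
  have hzz : (z' : G) * (z' : G) = 1 := by
    rw [← pow_two, ← hz2, pow_orderOf_eq_one]
  haveI : Fintype T := Fintype.ofFinite T
  have h3 : 2 < Fintype.card T := by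
    rw [Fintype.two_lt_card_iff]
    refine ⟨1, ⟨(z' : G), z'.2, hzz⟩, ⟨x, hx, hx2⟩, ?_, ?_, ?_⟩
    · intro h1
      exact hz1 (congrArg Subtype.val h1).symm
    · intro h1
      exact hx1 (congrArg Subtype.val h1).symm
    · intro h1
      exact hxz (congrArg Subtype.val h1).symm
  rw [← Nat.card_eq_fintype_card] at h3
  omega

end Cfsg.Agent.Helper25.TIInv
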