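import Mathlib
import Cfsg.Agent.Helper15.TIInvDefs
import Cfsg.Agent.Helper25.TIInvGA1

/-!
# Piece (GA2) of helper15's WANTED #5017 (for S4018): `C_G(z) = N_G(P)` and the TI property
-/

set_option autoImplicit false
set_option linter.style.haveILetI false

namespace Cfsg.Agent.Helper25.TIInv

open Cfsg Cfsg.Agent.Helper15.TIInv

universe u

variable {G : Type u} [Group G] [Finite G] (P : Sylow 3 G)

/-- `N_G(P)` normalizes `C_G(P)`. -/
theorem conj_mem_CP_of_mem_NP {n : G} (hn : n ∈ Subgroup.normalizer ((P : Subgroup G) : Set G))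
    {c : G} (hc : c ∈ Subgroup.centralizer ((P : Subgroup G) : Set G)) :
    n * c * n⁻¹ ∈ Subgroup.centralizer ((P : Subgroup G) : Set G) := by
  rw [Subgroup.mem_centralizer_iff] at hc ⊢
  intro q hq
  have hn' := Subgroup.inv_mem _ hn
  have hq' : n⁻¹ * q * n⁻¹⁻¹ ∈ ((P : Subgroup G) : Set G) :=
    (Subgroup.mem_normalizer_iff.mp hn' q).mp hq
  have h1 := hc _ hq'
  rw [inv_inv] at h1
  calc q * (n * c * n⁻¹) = n * ((n⁻¹ * q * n) * c) * n⁻¹ := by group
    _ = n * (c * (n⁻¹ * q * n)) * n⁻¹ := by rw [h1]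
    _ = n * c * n⁻¹ * q := by group

/-- **(GA2)** of #5017. -/
theorem hyp_cent (h : Hyp P) (z : G)
    (hzC : z ∈ Subgroup.centralizer ((P : Subgroup G) : Set G)) (hz2 : orderOf z = 2)
    (hzu : ∀ x ∈ Subgroup.centralizer ((P : Subgroup G) : Set G), x * x = 1 → x = 1 ∨ x = z) :
    Subgroup.centralizer ({z} : Set G) = Subgroup.normalizer ((P : Subgroup G) : Set G) ∧
    ∀ g : G, ∀ x ∈ Subgroup.centralizer ((P : Subgroup G) : Set G), x ≠ 1 →
      g * x * g⁻¹ ∈ Subgroup.centralizer ((P : Subgroup G) : Set G) →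
      g ∈ Subgroup.normalizer ((P : Subgroup G) : Set G) := by
  classical
  have hz1 : z ≠ 1 := by
    intro h1
    rw [h1, orderOf_one] at hz2
    norm_num at hz2
  have hzz : z * z = 1 := by rw [← pow_two, ← hz2, pow_orderOf_eq_one]
  -- a conjugate of `z` inside `C_G(P)` is `z`
  have hconj : ∀ g : G, g * z * g⁻¹ ∈ Subgroup.centralizer ((P : Subgroup G) : Set G) →
      g * z * g⁻¹ = z := by
    intro g hg
    have hsq : g * z * g⁻¹ * (g * z * g⁻¹) = 1 := by
      calc g * z * g⁻¹ * (g * z * g⁻¹) = g * (z * z) * g⁻¹ := by group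
        _ = 1 := by rw [hzz]; group
    rcases hzu _ hg hsq with h1 | h1
    · exfalso
      apply hz1
      have : z = g⁻¹ * (g * z * g⁻¹) * g := by group
      rw [this, h1]
      group
    · exact h1
  -- `N_G(P) ≤ C_G(z)`
  have hle : Subgroup.normalizer ((P : Subgroup G) : Set G) ≤ Subgroup.centralizer ({z} : Set G) := by
    intro n hn
    rw [Subgroup.mem_centralizer_iff]
    intro y hy
    rw [Set.mem_singleton_iff] at hy
    subst hy
    have h1 := hconj n (conj_mem_CP_of_mem_NP P hn hzC)
    have : n * y = n * y * n⁻¹ * n := by group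
    rw [this, h1]
  -- `C_G(z) ≠ ⊤`
  have hne : Subgroup.centralizer ({z} : Set G) ≠ ⊤ := by
    intro htop
    have hzcen : z ∈ Subgroup.center G := by
      rw [Subgroup.mem_center_iff]
      intro g
      have hg : g ∈ Subgroup.centralizer ({z} : Set G) := htop ▸ Subgroup.mem_top g
      exact (Subgroup.mem_centralizer_iff.mp hg z rfl).symm
    rcases h.hsimple.eq_bot_or_eq_top_of_normal (Subgroup.center G) inferInstance with hc | hc
    · rw [hc, Subgroup.mem_bot] at hzcen
      exact hz1 hzcen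
    · apply not_comm P h
      intro x y
      have hx : x ∈ Subgroup.center G := hc ▸ Subgroup.mem_top x
      exact ((Subgroup.mem_center_iff.mp hx) y).symm
  -- even order
  have heven : 2 ∣ Nat.card (Subgroup.centralizer ({z} : Set G)) := by
    have hzmem : z ∈ Subgroup.centralizer ({z} : Set G) := by
      rw [Subgroup.mem_centralizer_iff]
      intro y hy
      rw [Set.mem_singleton_iff] at hy
      rw [hy]
    have := orderOf_dvd_natCard (⟨z, hzmem⟩ : Subgroup.centralizer ({z} : Set G))
    rwa [← Subgroup.orderOf_coe, hz2] at this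
  have hdvd := h.heven _ hne heven
  have hcard : Nat.card (Subgroup.centralizer ({z} : Set G)) ≤
      Nat.card (Subgroup.normalizer ((P : Subgroup G) : Set G)) := by
    rw [h.hN]
    exact Nat.le_of_dvd (by have : 0 < Nat.card (P : Subgroup G) := Nat.card_pos; omega) hdvd
  have heq : Subgroup.normalizer ((P : Subgroup G) : Set G) = Subgroup.centralizer ({z} : Set G) :=
    Subgroup.eq_of_le_of_card_ge hle hcard
  refine ⟨heq.symm, ?_⟩
  intro g x hx hx1 hgx
  -- `g` normalizes `C_G(P)`
  have hgN : g ∈ Subgroup.normalizer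
      ((Subgroup.centralizer ((P : Subgroup G) : Set G) : Subgroup G) : Set G) := by
    by_contra hg
    exact hx1 (h.hTI g hg x hx hgx)
  have h1 : g * z * g⁻¹ ∈ Subgroup.centralizer ((P : Subgroup G) : Set G) :=
    (Subgroup.mem_normalizer_iff.mp hgN z).mp hzC
  have h2 := hconj g h1
  rw [heq, Subgroup.mem_centralizer_iff]
  intro y hy
  rw [Set.mem_singleton_iff] at hy
  subst hy
  have : g * y = g * y * g⁻¹ * g := by group
  rw [this, h2]

end Cfsg.Agent.Helper25.TIInv
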