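import Mathlib

/-!
# Piece (P3) of helper15's WANTED #5017 (for S4018): no simple group of order 372
-/

set_option autoImplicit false

namespace Cfsg.Agent.Helper25.TIInv

universe u

/-- **(P3)** of #5017. -/
theorem not_simple_of_card_372 {G : Type u} [Group G] [Finite G] (hcard : Nat.card G = 372) :
    ¬ IsSimpleGroup G := by
  intro hs
  have : Fact (Nat.Prime 31) := ⟨by norm_num⟩
  obtain ⟨Q⟩ : Nonempty (Sylow 31 G) := inferInstance
  -- the order of `Q`
  obtain ⟨k, hk⟩ := IsPGroup.iff_card.mp Q.2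
  have hdvd : Nat.card (Q : Subgroup G) ∣ 372 := hcard ▸ Subgroup.card_subgroup_dvd_card _
  have h31 : 31 ∣ Nat.card (Q : Subgroup G) := Q.dvd_card_of_dvd_card (by rw [hcard]; norm_num)
  have hk1 : k = 1 := by
    rw [hk] at hdvd h31
    have hk0 : k ≠ 0 := by
      rintro rfl
      norm_num at h31
    have hk2 : k < 2 := by
      by_contra hge
      have hge := Nat.le_of_not_lt hge
      have : 31 ^ 2 ∣ 372 := dvd_trans (pow_dvd_pow 31 hge) hdvd
      norm_num at this
    omega
  have hQ : Nat.card (Q : Subgroup G) = 31 := by rw [hk, hk1, pow_one]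
  have hidx : (Q : Subgroup G).index = 12 := by
    have := (Q : Subgroup G).card_mul_index
    rw [hQ, hcard] at this
    omega
  have hn1 : Nat.card (Sylow 31 G) ∣ 12 := hidx ▸ Q.card_dvd_index
  have hn2 : Nat.card (Sylow 31 G) ≡ 1 [MOD 31] := card_sylow_modEq_one 31 G
  have hn : Nat.card (Sylow 31 G) = 1 := by
    have hle := Nat.le_of_dvd (by norm_num) hn1
    unfold Nat.ModEq at hn2
    omega
  have : Subsingleton (Sylow 31 G) := (Nat.card_eq_one_iff_unique.mp hn).1
  have hnorm : (Q : Subgroup G).Normal := Q.normal_of_subsingleton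
  rcases hs.eq_bot_or_eq_top_of_normal _ hnorm with h | h
  · rw [h, Subgroup.card_bot] at hQ
    norm_num at hQ
  · rw [h, Subgroup.card_top, hcard] at hQ
    norm_num at hQ

end Cfsg.Agent.Helper25.TIInv
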