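import Mathlib
import Cfsg.Prelude.Def_OddOrderChar
import Cfsg.Prelude.Def_OddOrderLocal
import Cfsg.Prelude.Def_OddOrder

/-!
# Peterfalvi (8.8)-type assembly: the Dade hypothesis for `A₁(M)`, `A(M)`, `A₀(M)`

Everything here is *assembly*: the Bender–Glauberman Theorem II (statement S1391) and the
first clauses of S1355 enter only as hypotheses in statement shape.
-/

set_option autoImplicit false

namespace Cfsg.Agent.Helper25.PF8

open Cfsg
open scoped commutatorElement

variable {G : Type*} [Group G]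

/-! ### (L0) normalizers of `M`-invariant subsets of a maximal subgroup -/

/-- (L0) In a simple group, an `M`-invariant subset of the maximal subgroup `M` containing a
non-identity element has set normalizer `M`. -/
theorem normalizer_eq_of_invariant [IsSimpleGroup G] {M : Subgroup G}
    (hM : IsCoatom M) {A : Set G} (hne : ∃ a ∈ A, a ≠ 1) (hAM : A ⊆ (M : Set G))
    (hconj : ∀ m ∈ M, ∀ a ∈ A, m * a * m⁻¹ ∈ A) : Subgroup.normalizer A = M := by
  have hle : M ≤ Subgroup.normalizer A := by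
    intro m hm
    rw [Subgroup.mem_set_normalizer_iff]
    intro n
    constructor
    · exact hconj m hm n
    · intro h
      have := hconj m⁻¹ (M.inv_mem hm) _ h
      simpa [mul_assoc] using this
  by_contra hne'
  have hlt : M < Subgroup.normalizer A := lt_of_le_of_ne hle (Ne.symm hne')
  have htop : Subgroup.normalizer A = ⊤ := hM.2 _ hlt
  have hN : Subgroup.normalClosure A ≤ M := by
    unfold Subgroup.normalClosure
    rw [Subgroup.closure_le]
    intro x hx
    rw [Group.mem_conjugatesOfSet_iff] at hx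
    obtain ⟨b, hb, hbx⟩ := hx
    rw [isConj_iff] at hbx
    obtain ⟨c, rfl⟩ := hbx
    have hc : c ∈ Subgroup.normalizer A := by rw [htop]; trivial
    rw [Subgroup.mem_set_normalizer_iff] at hc
    exact hAM ((hc b).mp hb)
  obtain ⟨a, ha, ha1⟩ := hne
  rcases (Subgroup.normalClosure_normal (s := A)).eq_bot_or_eq_top with h | h
  · have : a ∈ Subgroup.normalClosure A := Subgroup.subset_normalClosure ha
    rw [h, Subgroup.mem_bot] at this
    exact ha1 this
  · rw [h] at hN
    exact hM.1 (top_le_iff.mp hN)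

/-! ### invariance of the basic subgroups under `M` -/

theorem commutator_self_le (M : Subgroup G) : ⁅M, M⁆ ≤ M :=
  Subgroup.commutator_le.mpr fun a ha b hb =>
    M.mul_mem (M.mul_mem (M.mul_mem ha hb) (M.inv_mem ha)) (M.inv_mem hb)

theorem conj_mem_commutator_self {M : Subgroup G} {m x : G} (hm : m ∈ M) (hx : x ∈ ⁅M, M⁆) :
    m * x * m⁻¹ ∈ ⁅M, M⁆ := by
  have h1 : ⁅m, x⁆ ∈ ⁅M, M⁆ := Subgroup.commutator_mem_commutator hm (commutator_self_le M hx)
  have e : m * x * m⁻¹ = ⁅m, x⁆ * x := by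
    rw [commutatorElement_def]; group
  rw [e]
  exact Subgroup.mul_mem _ h1 hx

theorem fittingHallOf_le (M : Subgroup G) : fittingHallOf M ≤ M := by
  unfold fittingHallOf
  exact Subgroup.map_subtype_le _

theorem conj_mem_fittingHallOf {M : Subgroup G} {m x : G} (hm : m ∈ M) (hx : x ∈ fittingHallOf M) :
    m * x * m⁻¹ ∈ fittingHallOf M := by
  unfold fittingHallOf at hx ⊢
  obtain ⟨y, hy, rfl⟩ := hx
  refine ⟨⟨m, hm⟩ * y * ⟨m, hm⟩⁻¹, ?_, by simp⟩
  exact (fittingHall_normal ↥M).conj_mem y hy ⟨m, hm⟩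

theorem typeCore_eq_or (M : Subgroup G) : typeCore M = ⁅M, M⁆ ∨ typeCore M = fittingHallOf M := by
  unfold typeCore
  split_ifs
  · exact Or.inl rfl
  · exact Or.inr rfl

theorem typeCore_le (M : Subgroup G) : typeCore M ≤ M := by
  rcases typeCore_eq_or M with h | h <;> rw [h]
  · exact commutator_self_le M
  · exact fittingHallOf_le M

theorem conj_mem_typeCore {M : Subgroup G} {m x : G} (hm : m ∈ M) (hx : x ∈ typeCore M) :
    m * x * m⁻¹ ∈ typeCore M := by
  rcases typeCore_eq_or M with h | h <;> rw [h] at hx ⊢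
  · exact conj_mem_commutator_self hm hx
  · exact conj_mem_fittingHallOf hm hx

/-! ### (L4) the three sets are `M`-invariant subsets of `M` without the identity -/

theorem typeA1_subset (M : Subgroup G) : typeA1 M ⊆ (M : Set G) := fun _ hx => typeCore_le M hx.1

theorem one_not_mem_typeA1 (M : Subgroup G) : (1 : G) ∉ typeA1 M := fun h => h.2 rfl

theorem conj_mem_typeA1 {M : Subgroup G} {m a : G} (hm : m ∈ M) (ha : a ∈ typeA1 M) :
    m * a * m⁻¹ ∈ typeA1 M := by
  refine ⟨conj_mem_typeCore hm ha.1, ?_⟩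
  intro h
  rw [Set.mem_singleton_iff] at h
  apply ha.2
  rw [Set.mem_singleton_iff]
  have : a = m⁻¹ * (m * a * m⁻¹) * m := by group
  rw [this, h]; group

theorem conj_ne_one {m a : G} (ha : a ≠ 1) : m * a * m⁻¹ ≠ 1 := by
  intro h
  apply ha
  have : a = m⁻¹ * (m * a * m⁻¹) * m := by group
  rw [this, h]; group

theorem conj_comm {m a x : G} (h : a * x = x * a) :
    m * a * m⁻¹ * (m * x * m⁻¹) = m * x * m⁻¹ * (m * a * m⁻¹) := by
  calc m * a * m⁻¹ * (m * x * m⁻¹) = m * (a * x) * m⁻¹ := by group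
    _ = m * (x * a) * m⁻¹ := by rw [h]
    _ = m * x * m⁻¹ * (m * a * m⁻¹) := by group

theorem typeA_subset (M : Subgroup G) : typeA M ⊆ (M : Set G) := by
  intro a ha
  unfold typeA at ha
  split_ifs at ha
  · exact ha.1
  · exact commutator_self_le M ha.1

theorem one_not_mem_typeA (M : Subgroup G) : (1 : G) ∉ typeA M := by
  intro ha
  unfold typeA at ha
  split_ifs at ha
  · exact ha.2.1 rfl
  · exact ha.2.1 rfl

theorem conj_mem_typeA {M : Subgroup G} {m a : G} (hm : m ∈ M) (ha : a ∈ typeA M) :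
    m * a * m⁻¹ ∈ typeA M := by
  unfold typeA at ha ⊢
  split_ifs at ha ⊢
  · obtain ⟨h1, h2, x, hx, hx1, hc⟩ := ha
    exact ⟨M.mul_mem (M.mul_mem hm h1) (M.inv_mem hm), conj_ne_one h2, m * x * m⁻¹,
      conj_mem_fittingHallOf hm hx, conj_ne_one hx1, conj_comm hc⟩
  · obtain ⟨h1, h2, x, hx, hx1, hc⟩ := ha
    exact ⟨conj_mem_commutator_self hm h1, conj_ne_one h2, m * x * m⁻¹,
      conj_mem_typeCore hm hx, conj_ne_one hx1, conj_comm hc⟩

theorem typeA_subset_typeA0 (M : Subgroup G) : typeA M ⊆ typeA0 M := Set.subset_union_left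

theorem typeA0_subset (M : Subgroup G) : typeA0 M ⊆ (M : Set G) := by
  intro a ha
  rcases ha with ha | ha
  · exact typeA_subset M ha
  · obtain ⟨-, W₁, U, W₂, hP, m, hm, w, hw, -, -, rfl⟩ := ha
    have h1 : W₁ ≤ M := hP.W₁_compl.2.1
    have h2 : W₂ ≤ M := (hP.W₂_le.trans inf_le_left).trans (fittingHallOf_le M)
    exact M.mul_mem (M.mul_mem hm (sup_le h1 h2 hw)) (M.inv_mem hm)

theorem one_not_mem_typeA0 (M : Subgroup G) : (1 : G) ∉ typeA0 M := by
  intro ha
  rcases ha with ha | ha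
  · exact one_not_mem_typeA M ha
  · obtain ⟨-, W₁, U, W₂, hP, m, hm, w, hw, hw1, -, h⟩ := ha
    apply hw1
    have : w = 1 := by
      have : w = m⁻¹ * (m * w * m⁻¹) * m := by group
      rw [this, ← h]; group
    rw [this]; exact W₁.one_mem

theorem conj_mem_typeA0 {M : Subgroup G} {m a : G} (hm : m ∈ M) (ha : a ∈ typeA0 M) :
    m * a * m⁻¹ ∈ typeA0 M := by
  rcases ha with ha | ha
  · exact Or.inl (conj_mem_typeA hm ha)
  · obtain ⟨hI, W₁, U, W₂, hP, m', hm', w, hw, hw1, hw2, rfl⟩ := ha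
    refine Or.inr ⟨hI, W₁, U, W₂, hP, m * m', M.mul_mem hm hm', w, hw, hw1, hw2, ?_⟩
    group


/-! ### (L5) unfolding `supportR` -/

theorem supportR_of_le {M : Subgroup G} {a : G}
    (h : Subgroup.centralizer ({a} : Set G) ≤ M) : supportR M a = ⊥ := by
  unfold supportR
  rw [dif_neg]
  intro h'
  exact h'.1 h

theorem supportR_of_not_le {M : Subgroup G} {a : G}
    (h : ¬ Subgroup.centralizer ({a} : Set G) ≤ M)
    (hu : ∃! L : Subgroup G, IsCoatom L ∧ Subgroup.centralizer ({a} : Set G) ≤ L) :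
    ∃ L : Subgroup G, IsCoatom L ∧ Subgroup.centralizer ({a} : Set G) ≤ L ∧
      supportR M a = fittingHallOf L ⊓ Subgroup.centralizer ({a} : Set G) := by
  unfold supportR
  rw [dif_pos ⟨h, hu⟩]
  exact ⟨_, (Classical.choose_spec hu.exists).1, (Classical.choose_spec hu.exists).2, rfl⟩

/-- The part of the conclusion of S1391 (B-G Theorem II) for `(M, X)` that the Dade hypothesis
needs. -/
def BGII (M : Subgroup G) (X : Set G) : Prop :=
  (∀ x ∈ X, ∀ g : G, g * x * g⁻¹ ∈ X → ∃ m ∈ M, m * x * m⁻¹ = g * x * g⁻¹) ∧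
    (∀ x ∈ X, ¬ Subgroup.centralizer ({x} : Set G) ≤ M → x ∈ typeA1 M ∧
      ∃! L : Subgroup G, IsCoatom L ∧ Subgroup.centralizer ({x} : Set G) ≤ L) ∧
    ∀ x ∈ X, ¬ Subgroup.centralizer ({x} : Set G) ≤ M → ∀ L : Subgroup G, IsCoatom L →
      Subgroup.centralizer ({x} : Set G) ≤ L →
        Subgroup.centralizer ({x} : Set G) ≤ Subgroup.normalizer
          ((fittingHallOf L ⊓ Subgroup.centralizer ({x} : Set G) : Subgroup G) : Set G) ∧
        IsComplIn (fittingHallOf L ⊓ Subgroup.centralizer ({x} : Set G))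
          (M ⊓ Subgroup.centralizer ({x} : Set G)) (Subgroup.centralizer ({x} : Set G)) ∧
        (∀ y ∈ X, (Nat.card (fittingHallOf L)).Coprime
          (Nat.card ↥(M ⊓ Subgroup.centralizer ({y} : Set G))))

/-- The Dade hypothesis for an `M`-invariant subset `A ⊆ X` of `M` without the identity, from the
B-G Theorem II data for `X`. -/
theorem dadeHypothesis_of_BGII [Finite G] {M : Subgroup G} {X A : Set G} (hX : BGII M X)
    (hsub : A ⊆ X)
    (h1 : (1 : G) ∉ A) (hAM : A ⊆ (M : Set G)) (hconj : ∀ m ∈ M, ∀ a ∈ A, m * a * m⁻¹ ∈ A) :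
    DadeHypothesis A M (supportR M) := by
  obtain ⟨hfus, huniq, hstr⟩ := hX
  -- the two cases for `supportR`
  have hcase : ∀ a ∈ A, (Subgroup.centralizer ({a} : Set G) ≤ M ∧ supportR M a = ⊥) ∨
      (∃ L : Subgroup G, supportR M a = fittingHallOf L ⊓ Subgroup.centralizer ({a} : Set G) ∧
        Subgroup.centralizer ({a} : Set G) ≤ Subgroup.normalizer
          ((fittingHallOf L ⊓ Subgroup.centralizer ({a} : Set G) : Subgroup G) : Set G) ∧
        IsComplIn (fittingHallOf L ⊓ Subgroup.centralizer ({a} : Set G))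
          (M ⊓ Subgroup.centralizer ({a} : Set G)) (Subgroup.centralizer ({a} : Set G)) ∧
        (∀ y ∈ X, (Nat.card (fittingHallOf L)).Coprime
          (Nat.card ↥(M ⊓ Subgroup.centralizer ({y} : Set G))))) := by
    intro a ha
    by_cases hc : Subgroup.centralizer ({a} : Set G) ≤ M
    · exact Or.inl ⟨hc, supportR_of_le hc⟩
    · right
      obtain ⟨L, hL, hCL, hR⟩ := supportR_of_not_le hc (huniq a (hsub ha) hc).2
      exact ⟨L, hR, hstr a (hsub ha) hc L hL hCL⟩
  refine ⟨h1, hAM, hconj, ?_, ?_, ?_, ?_, ?_, ?_⟩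
  · intro a ha g hg
    exact hfus a (hsub ha) g (hsub hg)
  · intro a ha
    rcases hcase a ha with ⟨-, h⟩ | ⟨L, h, -⟩ <;> rw [h]
    · exact bot_le
    · exact inf_le_right
  · intro a ha c hc u hu
    rcases hcase a ha with ⟨-, h⟩ | ⟨L, h, hn, -⟩ <;> rw [h] at hu ⊢
    · rw [Subgroup.mem_bot] at hu ⊢
      rw [hu]; group
    · exact ((Subgroup.mem_normalizer_iff.mp (hn hc)) u).mp hu
  · intro a ha
    rcases hcase a ha with ⟨-, h⟩ | ⟨L, h, -, hc, -⟩ <;> rw [h]
    · exact bot_inf_eq _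
    · exact hc.2.2.1
  · intro a ha
    rcases hcase a ha with ⟨hle, h⟩ | ⟨L, h, -, hc, -⟩ <;> rw [h]
    · rw [bot_sup_eq]
      exact inf_eq_right.mpr hle
    · apply le_antisymm
      · exact sup_le hc.1 hc.2.1
      · intro m hm
        obtain ⟨x, hx, y, hy, rfl⟩ := hc.2.2.2 m hm
        exact Subgroup.mul_mem _ (Subgroup.mem_sup_left hx) (Subgroup.mem_sup_right hy)
  · intro a ha b hb
    rcases hcase a ha with ⟨-, h⟩ | ⟨L, h, -, -, hcop⟩ <;> rw [h]
    · rw [Subgroup.card_bot]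
      exact Nat.coprime_one_left _
    · exact Nat.Coprime.coprime_dvd_left (Subgroup.card_dvd_of_le inf_le_left) (hcop b (hsub hb))

end Cfsg.Agent.Helper25.PF8
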