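import Mathlib
import Cfsg.Prelude.Def_OddOrderLocal
import Cfsg.Agent.Helper25.PF8

/-!
# Exclusivity of the types: Frobenius type versus type `P`
-/

set_option autoImplicit false

namespace Cfsg.Agent.Helper25.PF8

open Cfsg

variable {G : Type*} [Group G]

/-- a conjugate of an element of prime order `s` of `M` lies in a subgroup `W` of `M` whose order is
divisible by `s` and coprime to its index. -/
theorem exists_conj_mem_of_hall {M : Type*} [Group M] [Finite M] (W : Subgroup M)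
    (hW : (Nat.card W).Coprime W.index) {s : ℕ} [hs : Fact s.Prime] (hsW : s ∣ Nat.card W)
    {u : M} (hu : orderOf u = s) : ∃ g : M, g * u * g⁻¹ ∈ W := by
  classical
  obtain P : Sylow s ↥W := default
  have hP' : IsPGroup s ((P : Subgroup ↥W).map W.subtype) := P.2.map _
  have hidx : ¬ s ∣ ((P : Subgroup ↥W).map W.subtype).index := by
    rw [Subgroup.index_map_subtype]
    intro h
    rcases (Nat.Prime.dvd_mul hs.out).mp h with h | h
    · exact P.not_dvd_index h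
    · exact hs.out.one_lt.ne' (Nat.eq_one_of_dvd_coprimes hW hsW h)
  set S : Sylow s M := hP'.toSylow hidx with hS
  have hzp : IsPGroup s (Subgroup.zpowers u) := by
    apply IsPGroup.of_card (n := 1)
    rw [Nat.card_zpowers, hu, pow_one]
  obtain ⟨Q, hQ⟩ := hzp.exists_le_sylow
  obtain ⟨g, hg⟩ := MulAction.exists_smul_eq M Q S
  refine ⟨g, ?_⟩
  have huQ : u ∈ (Q : Subgroup M) := hQ (Subgroup.mem_zpowers u)
  have h1 : g * u * g⁻¹ ∈ ((g • Q : Sylow s M) : Subgroup M) := by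
    rw [Sylow.coe_subgroup_smul]
    have := Subgroup.smul_mem_pointwise_smul u (MulAut.conj g) (Q : Subgroup M) huQ
    simpa [MulAut.smul_def] using this
  rw [hg, hS] at h1
  have h2 : g * u * g⁻¹ ∈ (P : Subgroup ↥W).map W.subtype := h1
  obtain ⟨y, -, hy⟩ := h2
  rw [← hy]
  exact y.2

/-- (L1) A subgroup cannot be both of Frobenius type and of type `P`. -/
theorem not_typeF_of_typeP [Finite G] {M W₁ U W₂ : Subgroup G} (hF : IsOfTypeF ↥M)
    (hP : IsTypePWith M W₁ U W₂) : False := by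
  classical
  obtain ⟨-, -, -, -, UF, -, hcompl, -, ⟨U₀, -, hexp, hfpf⟩⟩ := hF
  have hW₁M : W₁ ≤ M := hP.W₁_compl.2.1
  -- a prime `s` dividing `|W₁|`
  have hcard1 : Nat.card W₁ ≠ 1 := by
    intro h
    exact hP.W₁_ne ((Subgroup.card_eq_one).mp h)
  set s := (Nat.card W₁).minFac with hs
  have hsp : Fact s.Prime := ⟨Nat.minFac_prime hcard1⟩
  have hsW : s ∣ Nat.card W₁ := Nat.minFac_dvd _
  obtain ⟨w, hw⟩ := exists_prime_orderOf_dvd_card' s hsW
  -- `w` as an element of `M`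
  set wM : ↥M := ⟨(w : G), hW₁M w.2⟩ with hwM
  have hwMord : orderOf wM = s := by
    rw [← hw]
    have h1 : orderOf (wM : G) = orderOf wM := Subgroup.orderOf_coe wM
    have h2 : orderOf (w : G) = orderOf w := Subgroup.orderOf_coe w
    rw [← h1, ← h2]
  have hw1 : (w : G) ≠ 1 := by
    intro h
    have : w = 1 := Subtype.ext h
    rw [this, orderOf_one] at hw
    exact hsp.out.one_lt.ne hw
  have hwnot : wM ∉ fittingHall ↥M := by
    intro h
    have h1 : (w : G) ∈ fittingHallOf M := ⟨wM, h, rfl⟩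
    have h2 : (w : G) ∈ ⁅M, M⁆ ⊓ W₁ := ⟨hP.U_compl.1 h1, w.2⟩
    rw [hP.W₁_compl.2.2.1, Subgroup.mem_bot] at h2
    exact hw1 h2
  have hsidx : s ∣ (fittingHall ↥M).index := by
    by_contra hnd
    have hcop : ((fittingHall ↥M).index).Coprime (orderOf wM) := by
      rw [hwMord]
      exact ((Nat.Prime.coprime_iff_not_dvd hsp.out).mpr hnd).symm
    obtain ⟨k, hk⟩ := exists_pow_eq_self_of_coprime hcop
    apply hwnot
    rw [← hk]
    exact Subgroup.pow_mem _ ((fittingHall ↥M).pow_index_mem wM) k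
  have hsUF : s ∣ Nat.card UF := by
    rw [← hcompl.symm.index_eq_card]; exact hsidx
  obtain ⟨u, hu⟩ := exists_prime_orderOf_dvd_card' s hsUF
  have hsexp : s ∣ Monoid.exponent ↥U₀ := by
    rw [hexp, ← hu]; exact Monoid.order_dvd_exponent u
  have hsU₀ : s ∣ Nat.card U₀ := hsexp.trans Group.exponent_dvd_nat_card
  obtain ⟨u₀, hu₀⟩ := exists_prime_orderOf_dvd_card' s hsU₀
  have hu₀ord : orderOf (u₀ : ↥M) = s := by rw [Subgroup.orderOf_coe, hu₀]
  -- conjugate into `W₁`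
  have hWcard : Nat.card (W₁.subgroupOf M) = Nat.card W₁ :=
    Nat.card_congr (Subgroup.subgroupOfEquivOfLe hW₁M).toEquiv
  have hWhall : (Nat.card (W₁.subgroupOf M)).Coprime (W₁.subgroupOf M).index := by
    rw [hWcard]; exact hP.W₁_hall
  obtain ⟨g, hg⟩ := exists_conj_mem_of_hall (W₁.subgroupOf M) hWhall (by rw [hWcard]; exact hsW)
    hu₀ord
  rw [Subgroup.mem_subgroupOf] at hg
  -- a non-identity element of `W₂`
  obtain ⟨y, hy, hy1⟩ := (Subgroup.ne_bot_iff_exists_ne_one (H := W₂)).mp hP.selfNormalizing.2.1 |>.imp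
    (fun y hy => hy) |> fun ⟨y, hy⟩ => (⟨(y : G), y.2, fun h => hy (Subtype.ext h)⟩ :
      ∃ y : G, y ∈ W₂ ∧ y ≠ 1)
  have hyH : y ∈ fittingHallOf M := (hP.W₂_le.trans inf_le_left) hy
  obtain ⟨yM, hyM, hyMe⟩ := hyH
  have hcomm : ((g * (u₀ : ↥M) * g⁻¹ : ↥M) : G) * y = y * ((g * (u₀ : ↥M) * g⁻¹ : ↥M) : G) :=
    hP.selfNormalizing.2.2.2.1 _ hg y hy
  -- transport back
  have hz : g⁻¹ * yM * g ∈ fittingHall ↥M := by
    have := (fittingHall_normal ↥M).conj_mem yM hyM g⁻¹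
    simpa using this
  have hcomm' : (u₀ : ↥M) * (g⁻¹ * yM * g) = (g⁻¹ * yM * g) * (u₀ : ↥M) := by
    have h3 : (g * (u₀ : ↥M) * g⁻¹) * yM = yM * (g * (u₀ : ↥M) * g⁻¹) := by
      apply Subtype.ext
      have e : (yM : G) = y := hyMe
      simp only [Subgroup.coe_mul] at hcomm ⊢
      rw [e]
      exact hcomm
    calc (u₀ : ↥M) * (g⁻¹ * yM * g) = g⁻¹ * ((g * (u₀ : ↥M) * g⁻¹) * yM) * g := by group
      _ = g⁻¹ * (yM * (g * (u₀ : ↥M) * g⁻¹)) * g := by rw [h3]
      _ = (g⁻¹ * yM * g) * (u₀ : ↥M) := by group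
  have hu₀1 : (u₀ : ↥M) ≠ 1 := by
    intro h
    rw [h, orderOf_one] at hu₀ord
    exact hsp.out.one_lt.ne hu₀ord
  have := hfpf (u₀ : ↥M) u₀.2 hu₀1 _ hz hcomm'
  have hyM1 : yM = 1 := by
    have e : yM = g * (g⁻¹ * yM * g) * g⁻¹ := by group
    rw [e, this]; group
  apply hy1
  rw [← hyMe, hyM1]
  rfl

end Cfsg.Agent.Helper25.PF8
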