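import Mathlib
import Cfsg.Prelude.Def_OddOrderChar
import Cfsg.Prelude.Def_OddOrderLocal
import Cfsg.Prelude.Def_OddOrder
import Cfsg.Agent.Helper25.PF8
import Cfsg.Agent.Helper25.PF8Excl

/-!
# Assembly of S1537 from B-G Theorem II (S1391) and S1355, both as hypotheses
-/

set_option autoImplicit false

namespace Cfsg.Agent.Helper25.PF8

open Cfsg

variable {G : Type*} [Group G]

/-- `M_s = M_F` when `M` is of Type I. -/
theorem typeCore_of_typeI [Finite G] {M : Subgroup G} (hI : IsOfTypeI M) :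
    typeCore M = fittingHallOf M := by
  unfold typeCore
  rw [if_neg]
  rintro (⟨W₁, U, W₂, hP, -⟩ | ⟨W₁, U, W₂, hP, -⟩)
  · exact not_typeF_of_typeP hI.1 hP
  · exact not_typeF_of_typeP hI.1 hP

theorem fittingHallOf_le_typeCore {M : Subgroup G} (hHM' : fittingHallOf M ≤ ⁅M, M⁆) :
    fittingHallOf M ≤ typeCore M := by
  rcases typeCore_eq_or M with h | h <;> rw [h]
  exact hHM'

/-- (L3) `A₁(M) ⊆ A(M)`. -/
theorem typeA1_subset_typeA [Finite G] {M : Subgroup G} (hHM' : fittingHallOf M ≤ ⁅M, M⁆) :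
    typeA1 M ⊆ typeA M := by
  intro x hx
  obtain ⟨hx1, hx2⟩ := hx
  have hx2' : x ≠ 1 := fun h => hx2 (by rw [h]; rfl)
  unfold typeA
  split_ifs with hI
  · rw [SetLike.mem_coe, typeCore_of_typeI hI] at hx1
    exact ⟨fittingHallOf_le M hx1, hx2', x, hx1, hx2', rfl⟩
  · refine ⟨?_, hx2', x, hx1, hx2', rfl⟩
    rcases typeCore_eq_or M with h | h <;> rw [SetLike.mem_coe, h] at hx1
    · exact hx1
    · exact hHM' hx1

theorem exists_ne_one_typeA1 {M : Subgroup G} (hH : fittingHallOf M ≠ ⊥)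
    (hHM' : fittingHallOf M ≤ ⁅M, M⁆) : ∃ a ∈ typeA1 M, a ≠ 1 := by
  obtain ⟨x, hx, hx1⟩ := (Subgroup.ne_bot_iff_exists_ne_one (H := fittingHallOf M)).mp hH |>
    fun ⟨y, hy⟩ => (⟨(y : G), y.2, fun h => hy (Subtype.ext h)⟩ :
      ∃ y : G, y ∈ fittingHallOf M ∧ y ≠ 1)
  exact ⟨x, ⟨fittingHallOf_le_typeCore hHM' hx, fun h => hx1 h⟩, hx1⟩

/-- The full conclusion of S1391 gives `BGII`. -/
theorem BGII.of_full {M : Subgroup G} {X : Set G}
    (h : (∀ x ∈ X, ∀ g : G, g * x * g⁻¹ ∈ X → ∃ m ∈ M, m * x * m⁻¹ = g * x * g⁻¹) ∧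
      (∀ x ∈ X, ¬ Subgroup.centralizer ({x} : Set G) ≤ M → x ∈ Cfsg.typeA1 M ∧ ∃! L : Subgroup G, IsCoatom L ∧ Subgroup.centralizer ({x} : Set G) ≤ L) ∧
      ∀ x ∈ X, ¬ Subgroup.centralizer ({x} : Set G) ≤ M → ∀ L : Subgroup G, IsCoatom L → Subgroup.centralizer ({x} : Set G) ≤ L →
        Cfsg.IsComplIn (Cfsg.fittingHallOf L) (M ⊓ L) L ∧
        Subgroup.centralizer ({x} : Set G) ≤ Subgroup.normalizer ((Cfsg.fittingHallOf L ⊓ Subgroup.centralizer ({x} : Set G) : Subgroup G) : Set G) ∧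
        Cfsg.IsComplIn (Cfsg.fittingHallOf L ⊓ Subgroup.centralizer ({x} : Set G)) (M ⊓ Subgroup.centralizer ({x} : Set G)) (Subgroup.centralizer ({x} : Set G)) ∧
        (∀ y ∈ X, (Nat.card (Cfsg.fittingHallOf L)).Coprime (Nat.card ↥(M ⊓ Subgroup.centralizer ({y} : Set G)))) ∧
        (x ∈ Cfsg.typeA L ∧ x ∉ Cfsg.typeA1 L) ∧
        (Cfsg.IsOfTypeI L ∨ Cfsg.IsOfTypeII L) ∧
        (Cfsg.IsOfTypeII L → ∃ E : Subgroup ↥M, Cfsg.IsFrobeniusComplement E ∧ Cfsg.frobeniusKernel E = ((Cfsg.fittingHall ↥M : Subgroup ↥M) : Set ↥M))) :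
    BGII M X := by
  refine ⟨h.1, h.2.1, ?_⟩
  intro x hx hc L hL hCL
  obtain ⟨-, h2, h3, h4, -⟩ := h.2.2 x hx hc L hL hCL
  exact ⟨h2, h3, h4⟩

/-- S1537 with S1391 (for `A(M)` and `A₀(M)`) and the needed clauses of S1355 as hypotheses. -/
theorem dade_of_theoremII [Finite G] (hG : Cfsg.IsMinSimpleOddOrder G) (M : Subgroup G)
    (hM : IsCoatom M) (hH : fittingHallOf M ≠ ⊥) (hHM' : fittingHallOf M ≤ ⁅M, M⁆)
    (hXA : BGII M (typeA M)) (hXA0 : BGII M (typeA0 M)) (A : Set G)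
    (hA : A = Cfsg.typeA1 M ∨ A = Cfsg.typeA M ∨ A = Cfsg.typeA0 M) :
    Subgroup.normalizer A = M ∧ Cfsg.DadeHypothesis A M (Cfsg.supportR M) := by
  haveI : IsSimpleGroup G := hG.2.1
  obtain ⟨a, ha, ha1⟩ := exists_ne_one_typeA1 hH hHM'
  have h1A : typeA1 M ⊆ typeA M := typeA1_subset_typeA hHM'
  rcases hA with rfl | rfl | rfl
  · refine ⟨normalizer_eq_of_invariant hM ⟨a, ha, ha1⟩ (typeA1_subset M)
      (fun m hm a ha => conj_mem_typeA1 hm ha), ?_⟩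
    exact dadeHypothesis_of_BGII hXA h1A (one_not_mem_typeA1 M) (typeA1_subset M)
      (fun m hm a ha => conj_mem_typeA1 hm ha)
  · refine ⟨normalizer_eq_of_invariant hM ⟨a, h1A ha, ha1⟩ (typeA_subset M)
      (fun m hm a ha => conj_mem_typeA hm ha), ?_⟩
    exact dadeHypothesis_of_BGII hXA subset_rfl (one_not_mem_typeA M) (typeA_subset M)
      (fun m hm a ha => conj_mem_typeA hm ha)
  · refine ⟨normalizer_eq_of_invariant hM ⟨a, typeA_subset_typeA0 M (h1A ha), ha1⟩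
      (typeA0_subset M) (fun m hm a ha => conj_mem_typeA0 hm ha), ?_⟩
    exact dadeHypothesis_of_BGII hXA0 subset_rfl (one_not_mem_typeA0 M) (typeA0_subset M)
      (fun m hm a ha => conj_mem_typeA0 hm ha)

end Cfsg.Agent.Helper25.PF8
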