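import Mathlib
import Cfsg.Prelude.Def_OddOrderChar
import Cfsg.Prelude.Def_OddOrderLocal
import Cfsg.Prelude.Def_OddOrder
import Cfsg.Agent.S0001
import Cfsg.Agent.Helper23.FittingHall
import Cfsg.Agent.Helper25.PF8
import Cfsg.Agent.Helper25.PF8Main

/-!
# Type II: exclusivity against Types III/IV and the TI property of `A₁(M)`, `A(M)`, `A₀(M)`
-/

set_option autoImplicit false

namespace Cfsg.Agent.Helper25.PF8

open Cfsg
open scoped Pointwise

variable {G : Type*} [Group G]

/-- Schur–Zassenhaus conjugacy for two `IsComplIn`-complements of a normal Hall subgroup `H` of a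
solvable subgroup `D`. -/
theorem exists_conj_of_isComplIn [Finite G] {H U U' D : Subgroup G} (hD : Group.IsSolvable ↥D)
    (hHn : D ≤ Subgroup.normalizer (H : Set G)) (hcop : (Nat.card H).Coprime (H.relIndex D))
    (h : IsComplIn H U D) (h' : IsComplIn H U' D) :
    ∃ d ∈ D, (∀ x ∈ U, d * x * d⁻¹ ∈ U') ∧ ∀ y ∈ U', d⁻¹ * y * d ∈ U := by
  haveI hN : (H.subgroupOf D).Normal := (Subgroup.normal_subgroupOf_iff_le_normalizer h.1).mpr hHn
  haveI := hD
  have hcard : Nat.card (H.subgroupOf D) = Nat.card H :=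
    Nat.card_congr (Subgroup.subgroupOfEquivOfLe h.1).toEquiv
  have hcop' : (Nat.card (H.subgroupOf D)).Coprime (H.subgroupOf D).index := by
    rw [hcard]; exact hcop
  have key : ∀ V : Subgroup G, IsComplIn H V D →
      Subgroup.IsComplement' (H.subgroupOf D) (V.subgroupOf D) := by
    intro V hV
    apply Subgroup.isComplement'_of_disjoint_and_mul_eq_univ
    · rw [disjoint_iff, Subgroup.eq_bot_iff_forall]
      intro x hx
      have h1 : (x : G) ∈ H ⊓ V := ⟨hx.1, hx.2⟩
      rw [hV.2.2.1, Subgroup.mem_bot] at h1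
      exact Subtype.ext h1
    · rw [Set.eq_univ_iff_forall]
      intro m
      obtain ⟨a, ha, b, hb, hab⟩ := hV.2.2.2 m m.2
      refine Set.mem_mul.mpr ⟨⟨a, hV.1 ha⟩, ha, ⟨b, hV.2.1 hb⟩, hb, ?_⟩
      exact Subtype.ext hab.symm
  obtain ⟨g, hg⟩ := Cfsg.Agent.S0001.result (H.subgroupOf D) hcop' (Or.inl inferInstance)
    (U.subgroupOf D) (U'.subgroupOf D) (key U h) (key U' h')
  refine ⟨g, g.2, ?_, ?_⟩
  · intro x hx
    have h1 : (⟨x, h.2.1 hx⟩ : ↥D) ∈ U.subgroupOf D := hx
    have h2 : MulAut.conj g • (⟨x, h.2.1 hx⟩ : ↥D) ∈ MulAut.conj g • U.subgroupOf D :=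
      Subgroup.smul_mem_pointwise_smul _ _ _ h1
    rw [hg, Subgroup.mem_subgroupOf] at h2
    simpa [MulAut.smul_def] using h2
  · intro y hy
    have h1 : (⟨y, h'.2.1 hy⟩ : ↥D) ∈ MulAut.conj g • U.subgroupOf D := by
      rw [hg]; exact hy
    rw [Subgroup.mem_pointwise_smul_iff_inv_smul_mem, Subgroup.mem_subgroupOf] at h1
    simpa [MulAut.smul_def] using h1

/-- (L2) A subgroup of Type II is not of Type III or IV. -/
theorem not_typeIII_or_IV_of_typeII [Finite G] (hG : Cfsg.IsMinSimpleOddOrder G)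
    {M : Subgroup G} (hM : IsCoatom M)
    {W₁ U W₂ W₁' U' W₂' : Subgroup G} (hP : IsTypePWith M W₁ U W₂)
    (hNU : ¬ Subgroup.normalizer (U : Set G) ≤ M) (hP' : IsTypePWith M W₁' U' W₂')
    (hNU' : Subgroup.normalizer (U' : Set G) ≤ M) : False := by
  have hDM : ⁅M, M⁆ ≤ M := commutator_self_le M
  have hDtop : ⁅M, M⁆ ≠ ⊤ := fun h => hM.1 (top_le_iff.mp (h ▸ hDM))
  have hD : Group.IsSolvable ↥⁅M, M⁆ := hG.2.2.2 _ hDtop
  have hHn : ⁅M, M⁆ ≤ Subgroup.normalizer ((fittingHallOf M : Subgroup G) : Set G) := by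
    intro d hd
    rw [Subgroup.mem_normalizer_iff]
    intro x
    constructor
    · exact fun hx => conj_mem_fittingHallOf (hDM hd) hx
    · intro hx
      have := conj_mem_fittingHallOf (M.inv_mem (hDM hd)) hx
      simpa [mul_assoc] using this
  have hcop : (Nat.card (fittingHallOf M)).Coprime ((fittingHallOf M).relIndex ⁅M, M⁆) := by
    have h1 := Cfsg.Agent.Helper23.fittingHall_coprime ↥M
    have h2 : Nat.card (fittingHallOf M) = Nat.card (fittingHall ↥M) := by
      unfold fittingHallOf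
      rw [Subgroup.card_map_of_injective M.subtype_injective]
    have h3 : (fittingHallOf M).relIndex M = (fittingHall ↥M).index := by
      unfold Subgroup.relIndex fittingHallOf
      congr 1
      ext x
      simp [Subgroup.mem_subgroupOf]
    have h4 := Subgroup.relIndex_mul_relIndex _ _ _ hP.U_compl.1 hDM
    rw [h2]
    apply Nat.Coprime.coprime_dvd_right (Dvd.intro _ h4)
    rw [h3]; exact h1
  obtain ⟨d, hd, h1, h2⟩ := exists_conj_of_isComplIn hD hHn hcop hP.U_compl hP'.U_compl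
  apply hNU
  intro n hn
  rw [Subgroup.mem_normalizer_iff] at hn
  have hdM : d ∈ M := hDM hd
  have hmem : d * n * d⁻¹ ∈ Subgroup.normalizer (U' : Set G) := by
    rw [Subgroup.mem_normalizer_iff]
    intro y
    constructor
    · intro hy
      have := h1 _ ((hn _).mp (h2 y hy))
      have e : d * n * d⁻¹ * y * (d * n * d⁻¹)⁻¹ = d * (n * (d⁻¹ * y * d) * n⁻¹) * d⁻¹ := by group
      rw [e]; exact this
    · intro hz
      have h3 := h2 _ hz
      have e : d⁻¹ * (d * n * d⁻¹ * y * (d * n * d⁻¹)⁻¹) * d = n * (d⁻¹ * y * d) * n⁻¹ := by group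
      rw [e] at h3
      have h4 := h1 _ ((hn _).mpr h3)
      have e2 : d * (d⁻¹ * y * d) * d⁻¹ = y := by group
      rwa [e2] at h4
  have h5 := hNU' hmem
  have e : n = d⁻¹ * (d * n * d⁻¹) * d := by group
  rw [e]
  exact M.mul_mem (M.mul_mem (M.inv_mem hdM) h5) hdM

/-- `M_s = M_F` when `M` is of Type II. -/
theorem typeCore_of_typeII [Finite G] (hG : Cfsg.IsMinSimpleOddOrder G) {M : Subgroup G}
    (hM : IsCoatom M) (hII : IsOfTypeII M) : typeCore M = fittingHallOf M := by
  obtain ⟨W₁, U, W₂, hP, -, -, -, -, hNU, -⟩ := hII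
  unfold typeCore
  rw [if_neg]
  rintro (⟨W₁', U', W₂', hP', -, -, -, -, hNU'⟩ | ⟨W₁', U', W₂', hP', -, -, -, -, hNU'⟩)
  · exact not_typeIII_or_IV_of_typeII hG hM hP hNU hP' hNU'
  · exact not_typeIII_or_IV_of_typeII hG hM hP hNU hP' hNU'

theorem fittingOf_le (M : Subgroup G) : fittingOf M ≤ M := by
  unfold fittingOf
  exact Subgroup.map_subtype_le _

theorem conj_mem_fittingOf {M : Subgroup G} {m x : G} (hm : m ∈ M) (hx : x ∈ fittingOf M) :
    m * x * m⁻¹ ∈ fittingOf M := by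
  unfold fittingOf at hx ⊢
  obtain ⟨y, hy, rfl⟩ := hx
  refine ⟨⟨m, hm⟩ * y * ⟨m, hm⟩⁻¹, ?_, by simp⟩
  have hn : (fittingSubgroup ↥M).Normal := Subgroup.sSup_normal _ (fun _ h => h.1)
  exact hn.conj_mem y hy ⟨m, hm⟩

/-- S1538 with S1391 (for `A(M)` and `A₀(M)`) as hypotheses. -/
theorem ti_of_typeII [Finite G] (hG : Cfsg.IsMinSimpleOddOrder G) (M : Subgroup G)
    (hM : IsCoatom M) (hII : Cfsg.IsOfTypeII M)
    (hXA : BGII M (typeA M)) (hXA0 : BGII M (typeA0 M)) :
    (Cfsg.IsTISubset (Cfsg.typeA0 M) ∧ Subgroup.normalizer (Cfsg.typeA0 M) = M) ∧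
      (Cfsg.IsTISubset (Cfsg.typeA M) ∧ Subgroup.normalizer (Cfsg.typeA M) = M) ∧
      (Cfsg.IsTISubset (Cfsg.typeA1 M) ∧ Subgroup.normalizer (Cfsg.typeA1 M) = M) := by
  haveI : IsSimpleGroup G := hG.2.1
  have hcore := typeCore_of_typeII hG hM hII
  obtain ⟨W₁, U, W₂, hP, -, -, hTI, -, -, -, -⟩ := hII
  have hHM' : fittingHallOf M ≤ ⁅M, M⁆ := hP.U_compl.1
  have hH : fittingHallOf M ≠ ⊥ := by
    intro h
    apply hP.H_not_cyclic
    rw [h]
    infer_instance
  have hHF : fittingHallOf M ≤ fittingOf M := by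
    rw [← hP.fitting_eq]; exact le_sup_left
  obtain ⟨a, ha, ha1⟩ := exists_ne_one_typeA1 hH hHM'
  have h1A : typeA1 M ⊆ typeA M := typeA1_subset_typeA hHM'
  -- normalizers
  have hN1 : Subgroup.normalizer (typeA1 M) = M :=
    normalizer_eq_of_invariant hM ⟨a, ha, ha1⟩ (typeA1_subset M)
      (fun m hm a ha => conj_mem_typeA1 hm ha)
  have hNA : Subgroup.normalizer (typeA M) = M :=
    normalizer_eq_of_invariant hM ⟨a, h1A ha, ha1⟩ (typeA_subset M)
      (fun m hm a ha => conj_mem_typeA hm ha)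
  have hNA0 : Subgroup.normalizer (typeA0 M) = M :=
    normalizer_eq_of_invariant hM ⟨a, typeA_subset_typeA0 M (h1A ha), ha1⟩ (typeA0_subset M)
      (fun m hm a ha => conj_mem_typeA0 hm ha)
  have hNF : Subgroup.normalizer ((fittingOf M : Subgroup G) : Set G) = M := by
    have haH : a ∈ fittingHallOf M := by
      have := ha.1
      rwa [SetLike.mem_coe, hcore] at this
    exact normalizer_eq_of_invariant hM ⟨a, hHF haH, ha1⟩ (fun x hx => fittingOf_le M hx)
      (fun m hm a ha => conj_mem_fittingOf hm ha)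
  -- TI of `A₁(M)`
  have hTI1 : IsTISubset (typeA1 M) := by
    intro g hg x hx hgx
    rw [hN1] at hg
    apply hTI g (by rw [hNF]; exact hg) x
    · have := hx.1
      rw [SetLike.mem_coe, hcore] at this
      exact hHF this
    · have := hgx.1
      rw [SetLike.mem_coe, hcore] at this
      exact hHF this
  -- centralizers of elements of `A₁(M)` lie in `M`
  have hcent : ∀ x ∈ typeA1 M, Subgroup.centralizer ({x} : Set G) ≤ M := by
    intro x hx c hc
    by_contra hcM
    have hcx : c * x * c⁻¹ = x := by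
      have := Subgroup.mem_centralizer_iff.mp hc x rfl
      rw [← this]; group
    have := hTI1 c (by rw [hN1]; exact hcM) x hx (by rw [hcx]; exact hx)
    exact hx.2 this
  -- TI of `X`
  have hTIX : ∀ X : Set G, BGII M X → Subgroup.normalizer X = M → IsTISubset X := by
    intro X hX hNX g hg x hx hgx
    exfalso
    rw [hNX] at hg
    obtain ⟨m, hm, hmx⟩ := hX.1 x hx g hgx
    have hc : m⁻¹ * g ∈ Subgroup.centralizer ({x} : Set G) := by
      rw [Subgroup.mem_centralizer_iff]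
      intro y hy
      rw [Set.mem_singleton_iff] at hy
      subst hy
      have e : m⁻¹ * g * y = m⁻¹ * (g * y * g⁻¹) * g := by group
      rw [e, ← hmx]; group
    have hnot : ¬ Subgroup.centralizer ({x} : Set G) ≤ M := by
      intro hle
      apply hg
      have h1 := hle hc
      have e : g = m * (m⁻¹ * g) := by group
      rw [e]
      exact M.mul_mem hm h1
    exact hnot (hcent x (hX.2.1 x hx hnot).1)
  exact ⟨⟨hTIX _ hXA0 hNA0, hNA0⟩, ⟨hTIX _ hXA hNA, hNA⟩, ⟨hTI1, hN1⟩⟩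

end Cfsg.Agent.Helper25.PF8
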