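import Mathlib
import Cfsg.Prelude.Def_OddOrderChar

set_option autoImplicit false

/-! `Cfsg.zspan`, `Cfsg.zspanOn` closure lemmas and additivity of `IsLinearIsometryOn` maps. -/

namespace Cfsg.Agent.Helper25

open Cfsg

universe u v

section zspan
variable {X : Type u} {S T : Set (X → ℂ)} {A : Set X}

theorem mem_zspan_of_mem {φ : X → ℂ} (h : φ ∈ S) : φ ∈ zspan S := Submodule.subset_span h

theorem zspan_zero : (0 : X → ℂ) ∈ zspan S := Submodule.zero_mem _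

theorem zspan_add {α β : X → ℂ} (hα : α ∈ zspan S) (hβ : β ∈ zspan S) : α + β ∈ zspan S :=
  Submodule.add_mem _ hα hβ

theorem zspan_sub {α β : X → ℂ} (hα : α ∈ zspan S) (hβ : β ∈ zspan S) : α - β ∈ zspan S :=
  Submodule.sub_mem _ hα hβ

theorem zspan_zsmul {α : X → ℂ} (hα : α ∈ zspan S) (n : ℤ) : n • α ∈ zspan S :=
  Submodule.smul_mem _ n hα

theorem zspan_sum {ι : Type*} (s : Finset ι) {f : ι → X → ℂ} (h : ∀ i ∈ s, f i ∈ zspan S) :
    ∑ i ∈ s, f i ∈ zspan S := Submodule.sum_mem _ h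

theorem zspan_mono (h : S ⊆ T) : zspan S ⊆ zspan T := Submodule.span_mono h

theorem zspanOn_mono (h : S ⊆ T) : zspanOn S A ⊆ zspanOn T A :=
  fun _ hα => ⟨zspan_mono h hα.1, hα.2⟩

theorem zspanOn_add {α β : X → ℂ} (hα : α ∈ zspanOn S A) (hβ : β ∈ zspanOn S A) :
    α + β ∈ zspanOn S A :=
  ⟨zspan_add hα.1 hβ.1, fun x hx => by rw [Pi.add_apply, hα.2 x hx, hβ.2 x hx, add_zero]⟩

theorem zspanOn_sub {α β : X → ℂ} (hα : α ∈ zspanOn S A) (hβ : β ∈ zspanOn S A) :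
    α - β ∈ zspanOn S A :=
  ⟨zspan_sub hα.1 hβ.1, fun x hx => by rw [Pi.sub_apply, hα.2 x hx, hβ.2 x hx, sub_zero]⟩

theorem zspanOn_zsmul {α : X → ℂ} (hα : α ∈ zspanOn S A) (n : ℤ) : n • α ∈ zspanOn S A :=
  ⟨zspan_zsmul hα.1 n, fun x hx => by rw [Pi.smul_apply, hα.2 x hx, smul_zero]⟩

theorem zspanOn_subset_zspan : zspanOn S A ⊆ zspan S := fun _ h => h.1

/-- Elements of the integer span of a finset are integer combinations. -/
theorem exists_coeff_of_mem_zspan {s : Finset (X → ℂ)} {α : X → ℂ}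
    (h : α ∈ zspan (↑s : Set (X → ℂ))) :
    ∃ m : (X → ℂ) → ℤ, α = ∑ φ ∈ s, m φ • φ := by
  obtain ⟨f, -, hf⟩ := Submodule.mem_span_finset.mp h
  exact ⟨f, hf.symm⟩

end zspan

section additive
variable {L : Type u} [Group L] [Fintype L] {G : Type v} [Group G] [Fintype G]
variable {E : Set (L → ℂ)} {τ : (L → ℂ) → (G → ℂ)}

theorem isoOn_map_zsmul_add (hτ : IsLinearIsometryOn E τ)
    (hEs : ∀ α ∈ E, ∀ n : ℤ, n • α ∈ E) {α β : L → ℂ} (hα : α ∈ E) (hβ : β ∈ E) (m n : ℤ) :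
    τ (m • α + n • β) = m • τ α + n • τ β := by
  rw [hτ.1 _ (hEs α hα m) _ (hEs β hβ n), hτ.2.1 α hα m, hτ.2.1 β hβ n]

theorem isoOn_map_sub (hτ : IsLinearIsometryOn E τ)
    (hEs : ∀ α ∈ E, ∀ n : ℤ, n • α ∈ E) {α β : L → ℂ} (hα : α ∈ E) (hβ : β ∈ E) :
    τ (α - β) = τ α - τ β := by
  have h := isoOn_map_zsmul_add hτ hEs hα hβ 1 (-1)
  simp only [one_smul, neg_smul] at h
  rw [sub_eq_add_neg, sub_eq_add_neg]
  exact h

theorem isoOn_map_zero (hτ : IsLinearIsometryOn E τ) {α : L → ℂ} (hα : α ∈ E) :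
    τ 0 = 0 := by
  have := hτ.2.1 α hα 0
  simpa using this

theorem isoOn_map_sum (hτ : IsLinearIsometryOn E τ)
    (hEa : ∀ α ∈ E, ∀ β ∈ E, α + β ∈ E) (hEs : ∀ α ∈ E, ∀ n : ℤ, n • α ∈ E)
    {ι : Type*} (s : Finset ι) (f : ι → L → ℂ) (m : ι → ℤ) (hf : ∀ i ∈ s, f i ∈ E)
    {α₀ : L → ℂ} (hα₀ : α₀ ∈ E) :
    τ (∑ i ∈ s, m i • f i) = ∑ i ∈ s, m i • τ (f i) := by
  classical
  have hmem : ∀ t : Finset ι, t ⊆ s → ∑ i ∈ t, m i • f i ∈ E := by
    intro t
    induction t using Finset.induction_on with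
    | empty =>
      intro _
      have := hEs α₀ hα₀ 0
      simpa using this
    | insert a t ha ih =>
      intro hsub
      rw [Finset.sum_insert ha]
      exact hEa _ (hEs _ (hf a (hsub (Finset.mem_insert_self a t))) _) _
        (ih (fun i hi => hsub (Finset.mem_insert_of_mem hi)))
  have key : ∀ t : Finset ι, t ⊆ s → τ (∑ i ∈ t, m i • f i) = ∑ i ∈ t, m i • τ (f i) := by
    intro t
    induction t using Finset.induction_on with
    | empty =>
      intro _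
      simp only [Finset.sum_empty]
      exact isoOn_map_zero hτ hα₀
    | insert a t ha ih =>
      intro hsub
      have hat : a ∈ s := hsub (Finset.mem_insert_self a t)
      have hts : t ⊆ s := fun i hi => hsub (Finset.mem_insert_of_mem hi)
      rw [Finset.sum_insert ha, Finset.sum_insert ha,
        hτ.1 _ (hEs _ (hf a hat) _) _ (hmem t hts), hτ.2.1 _ (hf a hat), ih hts]
  exact key s subset_rfl

end additive

end Cfsg.Agent.Helper25
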