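import Mathlib
import Cfsg.Prelude.Def_OddOrderChar
import Cfsg.Agent.Helper25.InnerBasics
import Cfsg.Agent.Helper25.GenChar
import Cfsg.Agent.Helper25.ZSpan

set_option autoImplicit false

/-! Peterfalvi (5.5): in a coherence system, an isometric image of `ξ ∈ S` compatible with
`τ (ξ - conj ξ)` lies in the span of `R ξ`. -/

namespace Cfsg.Agent.Helper25

open Cfsg
open scoped ComplexConjugate

universe u v

variable {L : Type u} [Group L] [Fintype L] {G : Type v} [Group G] [Fintype G]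
variable {S : Set (L → ℂ)} {τ : (L → ℂ) → (G → ℂ)} {R : (L → ℂ) → Finset (G → ℂ)}

/-- For integers `m i` the sum is at most the sum of squares. -/
theorem sum_int_le_sum_sq {ι : Type*} (s : Finset ι) (m : ι → ℤ) :
    ∑ i ∈ s, (m i : ℝ) ≤ ∑ i ∈ s, (m i : ℝ) ^ 2 :=
  Finset.sum_le_sum (fun i _ => by exact_mod_cast Int.le_self_sq (m i))

theorem coh_eq_sum_R (hS : IsCoherenceSystem S τ R) {ξ : L → ℂ} (hξ : ξ ∈ S) {Z : G → ℂ}
    (hZ : IsGeneralizedCharacter G Z) (hZZ : classInner Z Z = classInner ξ ξ)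
    (hZτ : classInner Z (τ (ξ - conjFun ξ)) = classInner ξ ξ) :
    Z = ∑ β ∈ R ξ, classInner Z β • β := by
  classical
  -- integrality
  have hint : ∀ β : G → ℂ, ∃ m : ℤ, β ∈ R ξ → classInner Z β = m := by
    intro β
    by_cases hβ : β ∈ R ξ
    · obtain ⟨m, hm⟩ := isGenChar_inner_int hZ (hS.virtual ξ hξ β hβ)
      exact ⟨m, fun _ => hm⟩
    · exact ⟨0, fun h => absurd h hβ⟩
  choose m hm using hint
  obtain ⟨r, hr0, hr⟩ := classInner_self_eq_ofReal ξ
  have hsum : ∑ β ∈ R ξ, classInner Z β = classInner ξ ξ := by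
    rw [← Helper74.classInner_sum_right, ← hS.sum_eq ξ hξ, hZτ]
  have hsumm : r = ∑ β ∈ R ξ, (m β : ℝ) := by
    have : (r : ℂ) = ((∑ β ∈ R ξ, (m β : ℝ) : ℝ) : ℂ) := by
      rw [← hr, ← hsum]
      push_cast
      exact Finset.sum_congr rfl (fun β hβ => hm β hβ)
    exact_mod_cast this
  -- Pythagoras with the orthonormal family R ξ
  have hpyth := classInner_sub_proj (R ξ) (fun β => β) (fun _ => (1 : ℝ)) (fun _ _ => one_pos)
    (fun α hα β hβ => by
      rw [hS.orthonormal ξ hξ α hα β hβ]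
      by_cases h : α = β
      · rw [if_pos h, if_pos h]; simp
      · rw [if_neg h, if_neg h]) Z
  simp only [Complex.ofReal_one, div_one] at hpyth
  set P : G → ℂ := ∑ β ∈ R ξ, classInner Z β • β with hP
  have hsq : ∑ β ∈ R ξ, ((‖classInner Z β‖ ^ 2 : ℝ) : ℂ) =
      ((∑ β ∈ R ξ, (m β : ℝ) ^ 2 : ℝ) : ℂ) := by
    push_cast
    refine Finset.sum_congr rfl (fun β hβ => ?_)
    rw [hm β hβ, Complex.norm_intCast]
    have : ((|(m β : ℝ)| : ℝ) : ℂ) ^ 2 = ((m β : ℝ) : ℂ) ^ 2 := by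
      rw [← Complex.ofReal_pow, sq_abs, Complex.ofReal_pow]
    rw [this]
    push_cast
    rfl
  rw [hsq, hZZ, hr] at hpyth
  obtain ⟨r', hr'0, hr'⟩ := classInner_self_eq_ofReal (Z - P)
  rw [hr'] at hpyth
  have hreal : r' = r - ∑ β ∈ R ξ, (m β : ℝ) ^ 2 := by
    have : (r' : ℂ) = ((r - ∑ β ∈ R ξ, (m β : ℝ) ^ 2 : ℝ) : ℂ) := by
      rw [hpyth]; push_cast; rfl
    exact_mod_cast this
  have hle := sum_int_le_sum_sq (R ξ) m
  have hr'z : r' = 0 := by
    apply le_antisymm _ hr'0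
    rw [hreal, hsumm]; linarith
  rw [hr'z] at hr'
  have := Helper74.classInner_self_eq_zero (by simpa using hr')
  exact sub_eq_zero.mp this

/-- Consequence: such a `Z` is orthogonal to `R χ` whenever `ξ ⊥ χ` and `ξ ⊥ conj χ`. -/
theorem coh_orth_R (hS : IsCoherenceSystem S τ R) {ξ χ : L → ℂ} (hξ : ξ ∈ S) (hχ : χ ∈ S)
    (h1 : classInner ξ χ = 0) (h2 : classInner ξ (conjFun χ) = 0) {Z : G → ℂ}
    (hZ : Z = ∑ β ∈ R ξ, classInner Z β • β) : ∀ α ∈ R χ, classInner Z α = 0 := by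
  intro α hα
  rw [hZ, Helper74.classInner_sum_left]
  refine Finset.sum_eq_zero (fun β hβ => ?_)
  rw [Helper74.classInner_smul_left, hS.disjoint χ hχ ξ hξ h1 h2 β hβ α hα, mul_zero]

end Cfsg.Agent.Helper25
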