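import Mathlib
import Cfsg.Prelude.Def_OddOrderChar
import Cfsg.Agent.Helper25.InnerBasics
import Cfsg.Agent.Helper25.GenChar
import Cfsg.Agent.Helper25.ZSpan

set_option autoImplicit false

/-! Linear extension of a map given on a finite orthogonal family of functions, and the
fact that it is a linear isometry on the integer span when it is isometric on the family. -/

namespace Cfsg.Agent.Helper25

open Cfsg
open scoped ComplexConjugate

universe u v

variable {L : Type u} [Group L] [Fintype L] {G : Type v} [Group G] [Fintype G]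

theorem classInner_zsmul_left {X : Type*} [Group X] [Fintype X] (m : ℤ) (f g : X → ℂ) :
    classInner (m • f) g = (m : ℂ) * classInner f g := by
  rw [← Int.cast_smul_eq_zsmul ℂ m f, Helper74.classInner_smul_left]

theorem classInner_zsmul_right {X : Type*} [Group X] [Fintype X] (m : ℤ) (f g : X → ℂ) :
    classInner f (m • g) = (m : ℂ) * classInner f g := by
  rw [← Int.cast_smul_eq_zsmul ℂ m g, Helper74.classInner_smul_right, map_intCast]

/-- Bilinear expansion of the inner product of two integer combinations. -/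
theorem classInner_sum_zsmul {X : Type*} [Group X] [Fintype X] {ι κ : Type*} (s : Finset ι)
    (t : Finset κ) (a : ι → ℤ) (b : κ → ℤ) (f : ι → X → ℂ) (g : κ → X → ℂ) :
    classInner (∑ i ∈ s, a i • f i) (∑ j ∈ t, b j • g j) =
      ∑ i ∈ s, ∑ j ∈ t, (a i : ℂ) * (b j : ℂ) * classInner (f i) (g j) := by
  rw [Helper74.classInner_sum_left]
  refine Finset.sum_congr rfl (fun i _ => ?_)
  rw [Helper74.classInner_sum_right]
  refine Finset.sum_congr rfl (fun j _ => ?_)
  rw [classInner_zsmul_left, classInner_zsmul_right]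
  ring

/-- The linear extension to all functions of a map `T` given on the orthogonal family `s`. -/
noncomputable def orthExt (s : Finset (L → ℂ)) (T : (L → ℂ) → (G → ℂ)) : (L → ℂ) → (G → ℂ) :=
  fun α => ∑ φ ∈ s, (classInner α φ / classInner φ φ) • T φ

section
variable (s : Finset (L → ℂ)) (T : (L → ℂ) → (G → ℂ))

theorem orthExt_add (α β : L → ℂ) : orthExt s T (α + β) = orthExt s T α + orthExt s T β := by
  simp only [orthExt, Helper74.classInner_add_left, add_div, add_smul, Finset.sum_add_distrib]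

theorem orthExt_zsmul (n : ℤ) (α : L → ℂ) : orthExt s T (n • α) = n • orthExt s T α := by
  simp only [orthExt, classInner_zsmul_left, Finset.smul_sum]
  refine Finset.sum_congr rfl (fun φ _ => ?_)
  rw [← Int.cast_smul_eq_zsmul ℂ n, smul_smul, mul_div_assoc]

variable (horth : ∀ φ ∈ s, ∀ φ' ∈ s, φ ≠ φ' → classInner φ φ' = 0)
  (hne : ∀ φ ∈ s, classInner φ φ ≠ 0)

include horth in
theorem classInner_sum_zsmul_mem (m : (L → ℂ) → ℤ) {ψ : L → ℂ} (hψ : ψ ∈ s) :
    classInner (∑ φ ∈ s, m φ • φ) ψ = (m ψ : ℂ) * classInner ψ ψ := by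
  rw [Helper74.classInner_sum_left, Finset.sum_eq_single ψ]
  · rw [classInner_zsmul_left]
  · intro φ hφ hne'
    rw [classInner_zsmul_left, horth φ hφ ψ hψ hne', mul_zero]
  · intro h; exact absurd hψ h

include horth hne in
theorem orthExt_sum_zsmul (m : (L → ℂ) → ℤ) :
    orthExt s T (∑ φ ∈ s, m φ • φ) = ∑ φ ∈ s, m φ • T φ := by
  unfold orthExt
  refine Finset.sum_congr rfl (fun ψ hψ => ?_)
  rw [classInner_sum_zsmul_mem s horth m hψ, mul_div_assoc, div_self (hne ψ hψ), mul_one,
    Int.cast_smul_eq_zsmul]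

include horth hne in
theorem orthExt_apply_mem {ψ : L → ℂ} (hψ : ψ ∈ s) : orthExt s T ψ = T ψ := by
  classical
  have h := orthExt_sum_zsmul s T horth hne (fun φ => if φ = ψ then 1 else 0)
  simp only [ite_smul, one_smul, zero_smul, Finset.sum_ite_eq', hψ, if_true] at h
  exact h

include horth hne in
theorem orthExt_isLinearIsometryOn
    (hT : ∀ φ ∈ s, ∀ φ' ∈ s, classInner (T φ) (T φ') = classInner φ φ')
    (hTg : ∀ φ ∈ s, IsGeneralizedCharacter G (T φ)) :
    IsLinearIsometryOn (zspan (↑s : Set (L → ℂ))) (orthExt s T) := by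
  refine ⟨fun α _ β _ => orthExt_add s T α β, fun α _ n => orthExt_zsmul s T n α, ?_, ?_⟩
  · intro α hα β hβ
    obtain ⟨m, rfl⟩ := exists_coeff_of_mem_zspan hα
    obtain ⟨m', rfl⟩ := exists_coeff_of_mem_zspan hβ
    rw [orthExt_sum_zsmul s T horth hne, orthExt_sum_zsmul s T horth hne,
      classInner_sum_zsmul, classInner_sum_zsmul]
    refine Finset.sum_congr rfl (fun φ hφ => Finset.sum_congr rfl (fun φ' hφ' => ?_))
    rw [hT φ hφ φ' hφ']
  · intro α hα
    obtain ⟨m, rfl⟩ := exists_coeff_of_mem_zspan hα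
    rw [orthExt_sum_zsmul s T horth hne]
    exact isGenChar_sum s (fun φ hφ => isGenChar_zsmul (m φ) (hTg φ hφ))

end

end Cfsg.Agent.Helper25
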