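import Mathlib
import Cfsg.Prelude.Def_OddOrderChar
import Cfsg.Agent.Helper25.CoherenceSpan
import Cfsg.Agent.Helper25.OrthExt

set_option autoImplicit false

/-! Peterfalvi (5.6)/(5.7): extending a coherent subset of a coherence system by a pair
`χ, conj χ`. -/

namespace Cfsg.Agent.Helper25

open Cfsg
open scoped ComplexConjugate

universe u v

variable {L : Type u} [Group L] [Fintype L] {G : Type v} [Group G] [Fintype G]
variable {S : Set (L → ℂ)} {τ : (L → ℂ) → (G → ℂ)} {R : (L → ℂ) → Finset (G → ℂ)}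

theorem classInner_eq_zero_symm {X : Type*} [Group X] [Fintype X] {f g : X → ℂ}
    (h : classInner f g = 0) : classInner g f = 0 := by
  rw [← Helper74.classInner_conj_symm, h, map_zero]

/-- Basic facts about members of a coherence system. -/
theorem coh_ne_zero (hS : IsCoherenceSystem S τ R) {φ : L → ℂ} (hφ : φ ∈ S) : φ ≠ 0 := by
  intro h0
  apply hS.conj_ne φ hφ
  rw [h0]; funext x; simp [conjFun]

theorem coh_inner_self_ne_zero (hS : IsCoherenceSystem S τ R) {φ : L → ℂ} (hφ : φ ∈ S) :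
    classInner φ φ ≠ 0 := fun h => coh_ne_zero hS hφ (Helper74.classInner_self_eq_zero h)

theorem coh_apply_one_ne_zero (hS : IsCoherenceSystem S τ R) {φ : L → ℂ} (hφ : φ ∈ S) :
    φ 1 ≠ 0 := fun h =>
  coh_ne_zero hS hφ (isCharacter_eq_zero_of_apply_one (hS.isCharacter φ hφ) h)

theorem coh_sub_conj_mem (hS : IsCoherenceSystem S τ R) {φ : L → ℂ} (hφ : φ ∈ S)
    {S' : Set (L → ℂ)} (h1 : φ ∈ S') (h2 : conjFun φ ∈ S') :
    φ - conjFun φ ∈ zspanOn S' {1}ᶜ := by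
  refine ⟨zspan_sub (mem_zspan_of_mem h1) (mem_zspan_of_mem h2), ?_⟩
  intro x hx
  have hx1 : x = 1 := by simpa using hx
  subst hx1
  obtain ⟨k, hk⟩ := Helper74.isCharacter_apply_one (hS.isCharacter φ hφ)
  simp [conjFun, hk]

/-- The key orthogonality: `τ₁ ξ ⊥ R χ` for `ξ` in a coherent subset not containing `χ`, `conj χ`. -/
theorem coh_tau1_orth_R (hS : IsCoherenceSystem S τ R) (S₁ : Finset (L → ℂ))
    (hS₁ : ↑S₁ ⊆ S) (hS₁c : ∀ φ ∈ S₁, conjFun φ ∈ S₁) (τ₁ : (L → ℂ) → (G → ℂ))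
    (hτ₁ : IsLinearIsometryOn (zspan (↑S₁ : Set (L → ℂ))) τ₁)
    (hagree : ∀ α ∈ zspanOn (↑S₁ : Set (L → ℂ)) {1}ᶜ, τ₁ α = τ α)
    {χ : L → ℂ} (hχ : χ ∈ S) (hχ₁ : χ ∉ S₁) (hχ₂ : conjFun χ ∉ S₁) {ξ : L → ℂ} (hξ : ξ ∈ S₁) :
    ∀ α ∈ R χ, classInner (τ₁ ξ) α = 0 := by
  have hξS : ξ ∈ S := hS₁ (Finset.mem_coe.mpr hξ)
  have hξc : conjFun ξ ∈ S₁ := hS₁c ξ hξ
  have hξz : ξ ∈ zspan (↑S₁ : Set (L → ℂ)) := mem_zspan_of_mem (Finset.mem_coe.mpr hξ)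
  have hmem : ξ - conjFun ξ ∈ zspanOn (↑S₁ : Set (L → ℂ)) {1}ᶜ :=
    coh_sub_conj_mem hS hξS (Finset.mem_coe.mpr hξ) (Finset.mem_coe.mpr hξc)
  have h1 : classInner ξ χ = 0 := hS.orthogonal ξ hξS χ hχ (fun h => hχ₁ (h ▸ hξ))
  have h2 : classInner ξ (conjFun χ) = 0 :=
    hS.orthogonal ξ hξS _ (hS.conj_mem χ hχ) (fun h => hχ₂ (h ▸ hξ))
  have h3 : classInner ξ (conjFun ξ) = 0 :=
    hS.orthogonal ξ hξS _ (hS.conj_mem ξ hξS) (fun h => hS.conj_ne ξ hξS h.symm)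
  have hZ := coh_eq_sum_R hS hξS (hτ₁.2.2.2 ξ hξz) (hτ₁.2.2.1 ξ hξz ξ hξz) (by
    rw [← hagree _ hmem, hτ₁.2.2.1 ξ hξz _ hmem.1, Helper74.classInner_sub_right, h3, sub_zero])
  exact coh_orth_R hS hξS hχ h1 h2 hZ

end Cfsg.Agent.Helper25

namespace Cfsg.Agent.Helper25

open Cfsg
open scoped ComplexConjugate

universe u v

variable {L : Type u} [Group L] [Fintype L] {G : Type v} [Group G] [Fintype G]
variable {S : Set (L → ℂ)} {τ : (L → ℂ) → (G → ℂ)} {R : (L → ℂ) → Finset (G → ℂ)}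

/-- The heart of Peterfalvi (5.7): with `X = τ (χ - a χ₁) + a τ₁ χ₁`, the numerical hypothesis
forces `X ⊥ τ₁ S₁` and `⟨X, X⟩ = ⟨χ, χ⟩`. -/
theorem coh_ext_key (hS : IsCoherenceSystem S τ R) (d n : (L → ℂ) → ℕ)
    (hd : ∀ φ ∈ S, φ 1 = (d φ : ℂ)) (hn : ∀ φ ∈ S, classInner φ φ = (n φ : ℂ))
    (S₁ : Finset (L → ℂ)) (hS₁ : ↑S₁ ⊆ S) (hS₁c : ∀ φ ∈ S₁, conjFun φ ∈ S₁)
    (τ₁ : (L → ℂ) → (G → ℂ)) (hτ₁ : IsLinearIsometryOn (zspan (↑S₁ : Set (L → ℂ))) τ₁)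
    (hagree : ∀ α ∈ zspanOn (↑S₁ : Set (L → ℂ)) {1}ᶜ, τ₁ α = τ α)
    (χ : L → ℂ) (hχ : χ ∈ S) (hχ₁ : χ ∉ S₁) (hχ₂ : conjFun χ ∉ S₁) (χ₁ : L → ℂ)
    (hχ₁S : χ₁ ∈ S₁) (a : ℕ) (ha : d χ = d χ₁ * a)
    (hineq : (2 * d χ * d χ₁ : ℝ) < ∑ φ ∈ S₁, ((d φ : ℝ) ^ 2 / (n φ : ℝ))) :
    (∀ ξ ∈ S₁, classInner (τ (χ - (a : ℤ) • χ₁) + (a : ℤ) • τ₁ χ₁) (τ₁ ξ) = 0) ∧
    classInner (τ (χ - (a : ℤ) • χ₁) + (a : ℤ) • τ₁ χ₁)
      (τ (χ - (a : ℤ) • χ₁) + (a : ℤ) • τ₁ χ₁) = (n χ : ℂ) ∧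
    classInner (τ (χ - (a : ℤ) • χ₁) + (a : ℤ) • τ₁ χ₁) (τ (χ - conjFun χ)) = (n χ : ℂ) := by
  classical
  obtain ⟨hτadd, hτsmul, hτinner, hτgen⟩ := hS.isometry
  obtain ⟨h₁add, h₁smul, h₁inner, h₁gen⟩ := id hτ₁
  have hχcS : conjFun χ ∈ S := hS.conj_mem χ hχ
  have hχ₁S' : χ₁ ∈ S := hS₁ (Finset.mem_coe.mpr hχ₁S)
  have hmemS : ∀ ξ ∈ S₁, ξ ∈ S := fun ξ hξ => hS₁ (Finset.mem_coe.mpr hξ)
  have hz : ∀ ξ ∈ S₁, ξ ∈ zspan (↑S₁ : Set (L → ℂ)) := fun ξ hξ =>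
    mem_zspan_of_mem (Finset.mem_coe.mpr hξ)
  have hs₁s : ∀ α ∈ zspan (↑S₁ : Set (L → ℂ)), ∀ k : ℤ, k • α ∈ zspan (↑S₁ : Set (L → ℂ)) :=
    fun α hα k => zspan_zsmul hα k
  -- orthogonality relations in `L`
  have oχξ : ∀ ξ ∈ S₁, classInner χ ξ = 0 := fun ξ hξ =>
    hS.orthogonal χ hχ ξ (hmemS ξ hξ) (fun h => hχ₁ (h ▸ hξ))
  have oξχ : ∀ ξ ∈ S₁, classInner ξ χ = 0 := fun ξ hξ => classInner_eq_zero_symm (oχξ ξ hξ)
  have oξχc : ∀ ξ ∈ S₁, classInner ξ (conjFun χ) = 0 := fun ξ hξ =>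
    hS.orthogonal ξ (hmemS ξ hξ) _ hχcS (fun h => hχ₂ (h ▸ hξ))
  have oχχc : classInner χ (conjFun χ) = 0 :=
    hS.orthogonal χ hχ _ hχcS (fun h => hS.conj_ne χ hχ h.symm)
  -- the elements β, γ
  set β : L → ℂ := χ - (a : ℤ) • χ₁ with hβ
  set γ : L → ℂ := χ - conjFun χ with hγ
  have hx1 : ∀ x : L, x ∉ ({1}ᶜ : Set L) → x = 1 := by intro x hx; simpa using hx
  have hβE : β ∈ zspanOn S {1}ᶜ := by
    refine ⟨zspan_sub (mem_zspan_of_mem hχ) (zspan_zsmul (mem_zspan_of_mem hχ₁S') _), ?_⟩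
    intro x hx
    rw [hx1 x hx, hβ]
    show χ 1 - ((a : ℤ) • χ₁) 1 = 0
    rw [Pi.smul_apply, hd χ hχ, hd χ₁ hχ₁S', zsmul_eq_mul, ha]
    push_cast; ring
  have hγE : γ ∈ zspanOn S {1}ᶜ := coh_sub_conj_mem hS hχ hχ hχcS
  set Y := τ β with hY
  set Γ := τ γ with hΓdef
  have hΓ : Γ = ∑ α ∈ R χ, α := hS.sum_eq χ hχ
  set Z₁ := τ₁ χ₁ with hZ₁
  set X : G → ℂ := Y + (a : ℤ) • Z₁ with hX
  have hYg : IsGeneralizedCharacter G Y := hτgen β hβE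
  have hZ₁g : IsGeneralizedCharacter G Z₁ := h₁gen χ₁ (hz χ₁ hχ₁S)
  have hXg : IsGeneralizedCharacter G X := isGenChar_add hYg (isGenChar_zsmul _ hZ₁g)
  -- τ₁ ξ ⊥ R χ
  have hF8 : ∀ ξ ∈ S₁, ∀ α ∈ R χ, classInner (τ₁ ξ) α = 0 := fun ξ hξ =>
    coh_tau1_orth_R hS S₁ hS₁ hS₁c τ₁ hτ₁ hagree hχ hχ₁ hχ₂ hξ
  have hF8Γ : ∀ ξ ∈ S₁, classInner (τ₁ ξ) Γ = 0 := by
    intro ξ hξ
    rw [hΓ, Helper74.classInner_sum_right]
    exact Finset.sum_eq_zero (fun α hα => hF8 ξ hξ α hα)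
  -- F9: the relation between ⟨X, τ₁ ξ⟩ and ⟨X, τ₁ χ₁⟩
  have hF9 : ∀ ξ ∈ S₁, (d ξ : ℂ) * classInner X Z₁ = (d χ₁ : ℂ) * classInner X (τ₁ ξ) := by
    intro ξ hξ
    set ζ : L → ℂ := (d ξ : ℤ) • χ₁ + (-(d χ₁ : ℤ)) • ξ with hζ
    have hζz : ζ ∈ zspan (↑S₁ : Set (L → ℂ)) :=
      zspan_add (zspan_zsmul (hz χ₁ hχ₁S) _) (zspan_zsmul (hz ξ hξ) _)
    have hζ1 : ζ ∈ zspanOn (↑S₁ : Set (L → ℂ)) {1}ᶜ := by
      refine ⟨hζz, ?_⟩
      intro x hx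
      rw [hx1 x hx, hζ]
      show ((d ξ : ℤ) • χ₁) 1 + ((-(d χ₁ : ℤ)) • ξ) 1 = 0
      rw [Pi.smul_apply, Pi.smul_apply, hd χ₁ hχ₁S', hd ξ (hmemS ξ hξ), zsmul_eq_mul,
        zsmul_eq_mul]
      push_cast; ring
    have hζE : ζ ∈ zspanOn S {1}ᶜ := zspanOn_mono hS₁ hζ1
    have e1 : τ₁ ζ = (d ξ : ℤ) • Z₁ + (-(d χ₁ : ℤ)) • τ₁ ξ :=
      isoOn_map_zsmul_add hτ₁ hs₁s (hz χ₁ hχ₁S) (hz ξ hξ) _ _
    have e2 : classInner Y (τ₁ ζ) = classInner β ζ := by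
      rw [hagree ζ hζ1, hY, hτinner β hβE ζ hζE]
    have e3 : classInner Z₁ (τ₁ ζ) = classInner χ₁ ζ := h₁inner χ₁ (hz χ₁ hχ₁S) ζ hζz
    have e4 : classInner X (τ₁ ζ) = 0 := by
      rw [hX, Helper74.classInner_add_left, classInner_zsmul_left, e2, e3, hβ,
        Helper74.classInner_sub_left, classInner_zsmul_left, hζ, Helper74.classInner_add_right,
        classInner_zsmul_right, classInner_zsmul_right, oχξ χ₁ hχ₁S, oχξ ξ hξ]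
      ring
    rw [e1, Helper74.classInner_add_right, classInner_zsmul_right, classInner_zsmul_right] at e4
    push_cast at e4
    linear_combination e4
  -- integrality
  obtain ⟨z, hzint⟩ := isGenChar_inner_int hXg hZ₁g
  have hzint' : classInner Z₁ X = (z : ℂ) := by
    rw [← Helper74.classInner_conj_symm, hzint, map_intCast]
  -- ⟨X, X⟩
  have hZ₁Z₁ : classInner Z₁ Z₁ = (n χ₁ : ℂ) := by
    rw [hZ₁, h₁inner χ₁ (hz χ₁ hχ₁S) χ₁ (hz χ₁ hχ₁S), hn χ₁ hχ₁S']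
  have hYY : classInner Y Y = (n χ : ℂ) + (a : ℂ) * (a : ℂ) * (n χ₁ : ℂ) := by
    rw [hY, hτinner β hβE β hβE, hβ, Helper74.classInner_sub_left, Helper74.classInner_sub_right,
      Helper74.classInner_sub_right, classInner_zsmul_left, classInner_zsmul_right,
      classInner_zsmul_left, classInner_zsmul_right, oχξ χ₁ hχ₁S, oξχ χ₁ hχ₁S, hn χ hχ,
      hn χ₁ hχ₁S']
    push_cast; ring
  have hXX : classInner X X = (n χ : ℂ) + 2 * (a : ℂ) * (z : ℂ) := by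
    have hYX : Y = X - (a : ℤ) • Z₁ := by rw [hX]; abel
    have := hYY
    rw [hYX, Helper74.classInner_sub_left, Helper74.classInner_sub_right,
      Helper74.classInner_sub_right, classInner_zsmul_left, classInner_zsmul_right,
      classInner_zsmul_left, classInner_zsmul_right, hzint, hzint', hZ₁Z₁] at this
    push_cast at this
    linear_combination this
  -- ⟨X, Γ⟩
  have hXΓ : classInner X Γ = (n χ : ℂ) := by
    rw [hX, Helper74.classInner_add_left, classInner_zsmul_left, hF8Γ χ₁ hχ₁S, mul_zero, add_zero,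
      hY, hΓdef, hτinner β hβE γ hγE, hβ, hγ, Helper74.classInner_sub_left,
      Helper74.classInner_sub_right, Helper74.classInner_sub_right, classInner_zsmul_left,
      classInner_zsmul_left, oχχc, oξχ χ₁ hχ₁S, oξχc χ₁ hχ₁S, hn χ hχ]
    ring
  -- integrality of ⟨X, α⟩, α ∈ R χ
  have hint : ∀ α : G → ℂ, ∃ m : ℤ, α ∈ R χ → classInner X α = m := by
    intro α
    by_cases hα : α ∈ R χ
    · obtain ⟨m, hm⟩ := isGenChar_inner_int hXg (hS.virtual χ hχ α hα)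
      exact ⟨m, fun _ => hm⟩
    · exact ⟨0, fun h => absurd h hα⟩
  choose m hm using hint
  have hsumm : (n χ : ℝ) = ∑ α ∈ R χ, (m α : ℝ) := by
    have : ((n χ : ℝ) : ℂ) = ((∑ α ∈ R χ, (m α : ℝ) : ℝ) : ℂ) := by
      push_cast
      rw [← hXΓ, hΓ, Helper74.classInner_sum_right]
      exact Finset.sum_congr rfl (fun α hα => hm α hα)
    exact_mod_cast this
  -- positivity facts
  have hn0 : ∀ φ ∈ S, (0 : ℝ) < (n φ : ℝ) := by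
    intro φ hφ
    have : n φ ≠ 0 := by
      intro h0
      apply coh_inner_self_ne_zero hS hφ
      rw [hn φ hφ, h0]; simp
    exact_mod_cast Nat.pos_of_ne_zero this
  have hdχ₁ : d χ₁ ≠ 0 := by
    intro h0
    apply coh_apply_one_ne_zero hS hχ₁S'
    rw [hd χ₁ hχ₁S', h0]; simp
  have hdχ₁pos : (0 : ℝ) < (d χ₁ : ℝ) := by exact_mod_cast Nat.pos_of_ne_zero hdχ₁
  -- Bessel
  have hbessel := bessel_orthogonal (S₁.disjSum (R χ)) (Sum.elim τ₁ id)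
    (Sum.elim (fun ξ => (n ξ : ℝ)) (fun _ => 1)) (by
      intro i hi
      rcases Finset.mem_disjSum.mp hi with ⟨ξ, hξ, rfl⟩ | ⟨α, hα, rfl⟩
      · exact hn0 ξ (hmemS ξ hξ)
      · exact one_pos) (by
      intro i hi j hj
      rcases Finset.mem_disjSum.mp hi with ⟨ξ, hξ, rfl⟩ | ⟨α, hα, rfl⟩ <;>
        rcases Finset.mem_disjSum.mp hj with ⟨ξ', hξ', rfl⟩ | ⟨α', hα', rfl⟩
      · simp only [Sum.elim_inl, Sum.inl.injEq]
        rw [h₁inner ξ (hz ξ hξ) ξ' (hz ξ' hξ')]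
        by_cases h : ξ = ξ'
        · rw [if_pos h, ← h, hn ξ (hmemS ξ hξ)]; simp
        · rw [if_neg h, hS.orthogonal ξ (hmemS ξ hξ) ξ' (hmemS ξ' hξ') h]
      · simp only [Sum.elim_inl, Sum.elim_inr, id, reduceCtorEq, if_false]
        exact hF8 ξ hξ α' hα'
      · simp only [Sum.elim_inl, Sum.elim_inr, id, reduceCtorEq, if_false]
        exact classInner_eq_zero_symm (hF8 ξ' hξ' α hα)
      · simp only [Sum.elim_inr, id, Sum.inr.injEq]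
        rw [hS.orthonormal χ hχ α hα α' hα']
        by_cases h : α = α'
        · rw [if_pos h, if_pos h]; simp
        · rw [if_neg h, if_neg h]) X
  rw [Finset.sum_disjSum] at hbessel
  simp only [Sum.elim_inl, Sum.elim_inr, id, div_one] at hbessel
  rw [hXX] at hbessel
  have hre : ((n χ : ℂ) + 2 * (a : ℂ) * (z : ℂ)).re = (n χ : ℝ) + 2 * (a : ℝ) * (z : ℝ) := by
    simp
  rw [hre] at hbessel
  -- the R χ part
  have hpartR : (n χ : ℝ) ≤ ∑ α ∈ R χ, ‖classInner X α‖ ^ 2 := by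
    have h1 : ∑ α ∈ R χ, ‖classInner X α‖ ^ 2 = ∑ α ∈ R χ, (m α : ℝ) ^ 2 := by
      refine Finset.sum_congr rfl (fun α hα => ?_)
      rw [hm α hα, Complex.norm_intCast, sq_abs]
    rw [h1, hsumm]
    exact sum_int_le_sum_sq (R χ) m
  -- the S₁ part
  have hpartS : ∑ ξ ∈ S₁, ‖classInner X (τ₁ ξ)‖ ^ 2 / (n ξ : ℝ) =
      ((z : ℝ) / (d χ₁ : ℝ)) ^ 2 * ∑ ξ ∈ S₁, ((d ξ : ℝ) ^ 2 / (n ξ : ℝ)) := by
    rw [Finset.mul_sum]
    refine Finset.sum_congr rfl (fun ξ hξ => ?_)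
    have h9 := hF9 ξ hξ
    rw [hzint] at h9
    have hval : classInner X (τ₁ ξ) = (((d ξ : ℝ) * (z : ℝ) / (d χ₁ : ℝ) : ℝ) : ℂ) := by
      have hne : (d χ₁ : ℂ) ≠ 0 := by exact_mod_cast hdχ₁
      push_cast
      field_simp
      linear_combination -h9
    rw [hval, Complex.norm_real, Real.norm_eq_abs, sq_abs]
    field_simp
  rw [hpartS] at hbessel
  -- conclude z = 0
  set D : ℝ := ∑ ξ ∈ S₁, ((d ξ : ℝ) ^ 2 / (n ξ : ℝ)) with hD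
  have hDpos : 0 < D := lt_of_le_of_lt (by positivity) hineq
  have hkey : (z : ℝ) ^ 2 * D ≤ 2 * (z : ℝ) * ((d χ : ℝ) * (d χ₁ : ℝ)) := by
    have h1 : ((z : ℝ) / (d χ₁ : ℝ)) ^ 2 * D ≤ 2 * (a : ℝ) * (z : ℝ) := by linarith
    have h2 : (d χ : ℝ) = (d χ₁ : ℝ) * (a : ℝ) := by exact_mod_cast ha
    rw [h2]
    have h3 : ((z : ℝ) / (d χ₁ : ℝ)) ^ 2 * D * (d χ₁ : ℝ) ^ 2 ≤
        2 * (a : ℝ) * (z : ℝ) * (d χ₁ : ℝ) ^ 2 :=
      mul_le_mul_of_nonneg_right h1 (by positivity)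
    have h4 : ((z : ℝ) / (d χ₁ : ℝ)) ^ 2 * D * (d χ₁ : ℝ) ^ 2 = (z : ℝ) ^ 2 * D := by
      field_simp
    rw [h4] at h3
    linarith
  have hz0 : z = 0 := by
    by_contra hzne
    rcases lt_or_gt_of_ne hzne with hneg | hpos
    · have hzr : (z : ℝ) < 0 := by exact_mod_cast hneg
      have h1 : 0 < (z : ℝ) ^ 2 * D := mul_pos (by positivity) hDpos
      have h2 : 2 * (z : ℝ) * ((d χ : ℝ) * (d χ₁ : ℝ)) ≤ 0 := by
        have : (0 : ℝ) ≤ (d χ : ℝ) * (d χ₁ : ℝ) := by positivity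
        nlinarith
      linarith
    · have hzr : (1 : ℝ) ≤ (z : ℝ) := by exact_mod_cast hpos
      have h1 : (z : ℝ) * D ≤ 2 * ((d χ : ℝ) * (d χ₁ : ℝ)) := by
        have hzpos : (0 : ℝ) < (z : ℝ) := by linarith
        have : (z : ℝ) * ((z : ℝ) * D) ≤ (z : ℝ) * (2 * ((d χ : ℝ) * (d χ₁ : ℝ))) := by
          nlinarith
        exact le_of_mul_le_mul_left this hzpos
      have h2 : D ≤ (z : ℝ) * D := by nlinarith
      linarith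
  refine ⟨?_, ?_, hXΓ⟩
  · intro ξ hξ
    have h9 := hF9 ξ hξ
    rw [hzint, hz0] at h9
    have hne : (d χ₁ : ℂ) ≠ 0 := by exact_mod_cast hdχ₁
    have h9' : (d χ₁ : ℂ) * classInner X (τ₁ ξ) = 0 := by rw [← h9]; simp
    rcases mul_eq_zero.mp h9' with h | h
    · exact absurd h hne
    · exact h
  · rw [hXX, hz0]; simp

end Cfsg.Agent.Helper25
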