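import Mathlib
import Cfsg.Prelude.Def_OddOrderChar
import Cfsg.Agent.Helper25.CoherenceExt

set_option autoImplicit false

/-! Peterfalvi (5.7): final assembly of the coherence extension. -/

namespace Cfsg.Agent.Helper25

open Cfsg
open scoped ComplexConjugate

universe u v

variable {L : Type u} [Group L] [Fintype L] {G : Type v} [Group G] [Fintype G]
variable {S : Set (L → ℂ)} {τ : (L → ℂ) → (G → ℂ)} {R : (L → ℂ) → Finset (G → ℂ)}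

theorem coh_ext (hS : IsCoherenceSystem S τ R) (d n : (L → ℂ) → ℕ)
    (hd : ∀ φ ∈ S, φ 1 = (d φ : ℂ)) (hn : ∀ φ ∈ S, classInner φ φ = (n φ : ℂ))
    (S₁ : Finset (L → ℂ)) (hS₁ : ↑S₁ ⊆ S) (hS₁c : ∀ φ ∈ S₁, conjFun φ ∈ S₁)
    (hcoh : IsCoherent (↑S₁ : Set (L → ℂ)) {1}ᶜ τ)
    (χ : L → ℂ) (hχ : χ ∈ S) (hχ₁ : χ ∉ S₁) (hχ₂ : conjFun χ ∉ S₁) (χ₁ : L → ℂ)
    (hχ₁S : χ₁ ∈ S₁) (hdvd : d χ₁ ∣ d χ)
    (hineq : (2 * d χ * d χ₁ : ℝ) < ∑ φ ∈ S₁, ((d φ : ℝ) ^ 2 / (n φ : ℝ))) :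
    IsCoherent (↑S₁ ∪ {χ, conjFun χ} : Set (L → ℂ)) {1}ᶜ τ := by
  classical
  obtain ⟨_, τ₁, hτ₁, hagree⟩ := hcoh
  obtain ⟨a, ha⟩ := hdvd
  obtain ⟨hτadd, hτsmul, hτinner, hτgen⟩ := hS.isometry
  obtain ⟨h₁add, h₁smul, h₁inner, h₁gen⟩ := id hτ₁
  obtain ⟨hXorth, hXX, hXΓ⟩ := coh_ext_key hS d n hd hn S₁ hS₁ hS₁c τ₁ hτ₁ hagree χ hχ hχ₁ hχ₂
    χ₁ hχ₁S a ha hineq
  set χc := conjFun χ with hχc
  have hχcS : χc ∈ S := hS.conj_mem χ hχ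
  have hχne : χc ≠ χ := hS.conj_ne χ hχ
  have hχ₁S' : χ₁ ∈ S := hS₁ (Finset.mem_coe.mpr hχ₁S)
  have hmemS : ∀ ξ ∈ S₁, ξ ∈ S := fun ξ hξ => hS₁ (Finset.mem_coe.mpr hξ)
  have hz : ∀ ξ ∈ S₁, ξ ∈ zspan (↑S₁ : Set (L → ℂ)) := fun ξ hξ =>
    mem_zspan_of_mem (Finset.mem_coe.mpr hξ)
  have hx1 : ∀ x : L, x ∉ ({1}ᶜ : Set L) → x = 1 := by intro x hx; simpa using hx
  set β : L → ℂ := χ - (a : ℤ) • χ₁ with hβ
  set γ : L → ℂ := χ - χc with hγ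
  have hβE : β ∈ zspanOn S {1}ᶜ := by
    refine ⟨zspan_sub (mem_zspan_of_mem hχ) (zspan_zsmul (mem_zspan_of_mem hχ₁S') _), ?_⟩
    intro x hx
    rw [hx1 x hx, hβ]
    show χ 1 - ((a : ℤ) • χ₁) 1 = 0
    rw [Pi.smul_apply, hd χ hχ, hd χ₁ hχ₁S', zsmul_eq_mul, ha]
    push_cast; ring
  have hγE : γ ∈ zspanOn S {1}ᶜ := coh_sub_conj_mem hS hχ hχ hχcS
  set Y := τ β with hY
  set Γ := τ γ with hΓdef
  have hΓ : Γ = ∑ α ∈ R χ, α := hS.sum_eq χ hχ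
  set Z₁ := τ₁ χ₁ with hZ₁
  set X : G → ℂ := Y + (a : ℤ) • Z₁ with hX
  set X' : G → ℂ := X - Γ with hX'
  have hYg : IsGeneralizedCharacter G Y := hτgen β hβE
  have hZ₁g : IsGeneralizedCharacter G Z₁ := h₁gen χ₁ (hz χ₁ hχ₁S)
  have hXg : IsGeneralizedCharacter G X := isGenChar_add hYg (isGenChar_zsmul _ hZ₁g)
  have hΓg : IsGeneralizedCharacter G Γ := hτgen γ hγE
  have hX'g : IsGeneralizedCharacter G X' := isGenChar_sub hXg hΓg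
  -- inner products
  have hnc : classInner χc χc = (n χ : ℂ) := by
    rw [hχc, classInner_conjFun_conjFun', hn χ hχ, Complex.conj_natCast]
  have oχχc : classInner χ χc = 0 :=
    hS.orthogonal χ hχ _ hχcS (fun h => hχne h.symm)
  have oχcχ : classInner χc χ = 0 := classInner_eq_zero_symm oχχc
  have oχξ : ∀ ξ ∈ S₁, classInner χ ξ = 0 := fun ξ hξ =>
    hS.orthogonal χ hχ ξ (hmemS ξ hξ) (fun h => hχ₁ (h ▸ hξ))
  have oχcξ : ∀ ξ ∈ S₁, classInner χc ξ = 0 := fun ξ hξ =>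
    hS.orthogonal χc hχcS ξ (hmemS ξ hξ) (fun h => hχ₂ (h ▸ hξ))
  have hF8 : ∀ ξ ∈ S₁, ∀ α ∈ R χ, classInner (τ₁ ξ) α = 0 := fun ξ hξ =>
    coh_tau1_orth_R hS S₁ hS₁ hS₁c τ₁ hτ₁ hagree hχ hχ₁ hχ₂ hξ
  have hF8Γ : ∀ ξ ∈ S₁, classInner (τ₁ ξ) Γ = 0 := by
    intro ξ hξ
    rw [hΓ, Helper74.classInner_sum_right]
    exact Finset.sum_eq_zero (fun α hα => hF8 ξ hξ α hα)
  have hΓΓ : classInner Γ Γ = 2 * (n χ : ℂ) := by
    rw [hΓdef, hτinner γ hγE γ hγE, hγ, Helper74.classInner_sub_left,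
      Helper74.classInner_sub_right, Helper74.classInner_sub_right, oχχc, oχcχ, hnc, hn χ hχ]
    ring
  have hΓX : classInner Γ X = (n χ : ℂ) := by
    rw [← Helper74.classInner_conj_symm, hXΓ, Complex.conj_natCast]
  have hXX' : classInner X X' = 0 := by
    rw [hX', Helper74.classInner_sub_right, hXX, hXΓ, sub_self]
  have hX'X' : classInner X' X' = (n χ : ℂ) := by
    rw [hX', Helper74.classInner_sub_left, Helper74.classInner_sub_right,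
      Helper74.classInner_sub_right, hXX, hXΓ, hΓX, hΓΓ]
    ring
  have hX'orth : ∀ ξ ∈ S₁, classInner X' (τ₁ ξ) = 0 := by
    intro ξ hξ
    rw [hX', Helper74.classInner_sub_left, hXorth ξ hξ, classInner_eq_zero_symm (hF8Γ ξ hξ),
      sub_zero]
  -- the extended family
  set S₂ : Finset (L → ℂ) := insert χ (insert χc S₁) with hS₂
  have hχc_notin : χc ∉ S₁ := hχ₂
  have hχ_notin : χ ∉ insert χc S₁ := by
    rw [Finset.mem_insert, not_or]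
    exact ⟨fun h => hχne h.symm, hχ₁⟩
  have hS₂S : ∀ φ ∈ S₂, φ ∈ S := by
    intro φ hφ
    rw [hS₂, Finset.mem_insert, Finset.mem_insert] at hφ
    rcases hφ with rfl | rfl | hφ
    · exact hχ
    · exact hχcS
    · exact hmemS φ hφ
  have hcoe : (↑S₂ : Set (L → ℂ)) = ↑S₁ ∪ {χ, χc} := by
    ext φ
    simp only [hS₂, Finset.coe_insert, Set.mem_insert_iff, Finset.mem_coe, Set.mem_union,
      Set.mem_singleton_iff]
    tauto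
  set T : (L → ℂ) → (G → ℂ) := fun φ => if φ = χ then X else if φ = χc then X' else τ₁ φ with hT
  have hTχ : T χ = X := by simp only [hT, if_true]
  have hTχc : T χc = X' := by simp only [hT, if_neg hχne, if_true]
  have hTξ : ∀ ξ ∈ S₁, T ξ = τ₁ ξ := by
    intro ξ hξ
    have h1 : ξ ≠ χ := fun h => hχ₁ (h ▸ hξ)
    have h2 : ξ ≠ χc := fun h => hχ₂ (h ▸ hξ)
    simp only [hT, if_neg h1, if_neg h2]
  have horth₂ : ∀ φ ∈ S₂, ∀ φ' ∈ S₂, φ ≠ φ' → classInner φ φ' = 0 := fun φ hφ φ' hφ' hne =>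
    hS.orthogonal φ (hS₂S φ hφ) φ' (hS₂S φ' hφ') hne
  have hne₂ : ∀ φ ∈ S₂, classInner φ φ ≠ 0 := fun φ hφ =>
    coh_inner_self_ne_zero hS (hS₂S φ hφ)
  have hTiso : ∀ φ ∈ S₂, ∀ φ' ∈ S₂, classInner (T φ) (T φ') = classInner φ φ' := by
    intro φ hφ φ' hφ'
    rw [hS₂, Finset.mem_insert, Finset.mem_insert] at hφ hφ'
    rcases hφ with rfl | rfl | hφ <;> rcases hφ' with rfl | rfl | hφ'
    · rw [hTχ, hXX, hn _ hχ]
    · rw [hTχ, hTχc, hXX', oχχc]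
    · rw [hTχ, hTξ φ' hφ', hXorth φ' hφ', oχξ φ' hφ']
    · rw [hTχc, hTχ, classInner_eq_zero_symm hXX', oχcχ]
    · rw [hTχc, hX'X', hnc]
    · rw [hTχc, hTξ φ' hφ', hX'orth φ' hφ', oχcξ φ' hφ']
    · rw [hTξ φ hφ, hTχ, classInner_eq_zero_symm (hXorth φ hφ),
        classInner_eq_zero_symm (oχξ φ hφ)]
    · rw [hTξ φ hφ, hTχc, classInner_eq_zero_symm (hX'orth φ hφ),
        classInner_eq_zero_symm (oχcξ φ hφ)]
    · rw [hTξ φ hφ, hTξ φ' hφ', h₁inner φ (hz φ hφ) φ' (hz φ' hφ')]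
  have hTg : ∀ φ ∈ S₂, IsGeneralizedCharacter G (T φ) := by
    intro φ hφ
    rw [hS₂, Finset.mem_insert, Finset.mem_insert] at hφ
    rcases hφ with rfl | rfl | hφ
    · rw [hTχ]; exact hXg
    · rw [hTχc]; exact hX'g
    · rw [hTξ φ hφ]; exact h₁gen φ (hz φ hφ)
  have hiso₂ := orthExt_isLinearIsometryOn S₂ T horth₂ hne₂ hTiso hTg
  rw [← hcoe]
  refine ⟨⟨γ, ?_, sub_ne_zero.mpr hχne.symm⟩, orthExt S₂ T, hiso₂, ?_⟩
  · rw [hcoe]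
    exact coh_sub_conj_mem hS hχ (Or.inr (Or.inl rfl)) (Or.inr (Or.inr rfl))
  · -- agreement with τ
    intro α hα
    obtain ⟨m, hm⟩ := exists_coeff_of_mem_zspan hα.1
    set k := m χ with hk
    set k' := m χc with hk'
    set σ : L → ℂ := ∑ φ ∈ S₁, m φ • φ with hσ
    have hαdec : α = k • χ + (k' • χc + σ) := by
      rw [hm, hS₂, Finset.sum_insert hχ_notin, Finset.sum_insert hχc_notin]
    have hτ₂α : orthExt S₂ T α = k • X + (k' • X' + ∑ φ ∈ S₁, m φ • τ₁ φ) := by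
      rw [hm, orthExt_sum_zsmul S₂ T horth₂ hne₂, hS₂, Finset.sum_insert hχ_notin,
        Finset.sum_insert hχc_notin, hTχ, hTχc]
      congr 2
      exact Finset.sum_congr rfl (fun φ hφ => by rw [hTξ φ hφ])
    have hσz : σ ∈ zspan (↑S₁ : Set (L → ℂ)) :=
      zspan_sum S₁ (fun φ hφ => zspan_zsmul (hz φ hφ) _)
    -- α₁
    set α₁ : L → ℂ := σ + ((k + k') * (a : ℤ)) • χ₁ with hα₁
    have hα₁z : α₁ ∈ zspan (↑S₁ : Set (L → ℂ)) := zspan_add hσz (zspan_zsmul (hz χ₁ hχ₁S) _)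
    have hα1 : α 1 = 0 := hα.2 1 (by simp)
    have hdc : χc 1 = (d χ : ℂ) := by
      rw [hχc, conjFun_apply', hd χ hχ, Complex.conj_natCast]
    have hα₁1 : α₁ ∈ zspanOn (↑S₁ : Set (L → ℂ)) {1}ᶜ := by
      refine ⟨hα₁z, ?_⟩
      intro x hx
      rw [hx1 x hx]
      have e : α 1 = (k : ℂ) * (d χ : ℂ) + ((k' : ℂ) * (d χ : ℂ) + σ 1) := by
        rw [hαdec]
        show (k • χ) 1 + ((k' • χc) 1 + σ 1) = _
        rw [Pi.smul_apply, Pi.smul_apply, hd χ hχ, hdc, zsmul_eq_mul, zsmul_eq_mul]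
      rw [hα₁]
      show σ 1 + (((k + k') * (a : ℤ)) • χ₁) 1 = 0
      rw [Pi.smul_apply, hd χ₁ hχ₁S', zsmul_eq_mul]
      rw [hα1] at e
      have ha' : (d χ : ℂ) = (d χ₁ : ℂ) * (a : ℂ) := by exact_mod_cast ha
      rw [ha'] at e
      push_cast
      linear_combination -e
    have hα₁E : α₁ ∈ zspanOn S {1}ᶜ := zspanOn_mono hS₁ hα₁1
    have hEs : ∀ α ∈ zspanOn S ({1}ᶜ : Set L), ∀ n : ℤ, n • α ∈ zspanOn S ({1}ᶜ : Set L) :=
      fun α hα n => zspanOn_zsmul hα n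
    have hs₁s : ∀ α ∈ zspan (↑S₁ : Set (L → ℂ)), ∀ k : ℤ, k • α ∈ zspan (↑S₁ : Set (L → ℂ)) :=
      fun α hα k => zspan_zsmul hα k
    have hαeq : α = α₁ + ((k + k') • β + (-k') • γ) := by
      rw [hαdec, hα₁, hβ, hγ]
      module
    have hrest : (k + k') • β + (-k') • γ ∈ zspanOn S {1}ᶜ :=
      zspanOn_add (zspanOn_zsmul hβE _) (zspanOn_zsmul hγE _)
    have hτα : τ α = (∑ φ ∈ S₁, m φ • τ₁ φ + ((k + k') * (a : ℤ)) • Z₁) +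
        ((k + k') • Y + (-k') • Γ) := by
      rw [hαeq, hτadd α₁ hα₁E _ hrest, isoOn_map_zsmul_add hS.isometry hEs hβE hγE,
        ← hagree α₁ hα₁1, hα₁, h₁add σ hσz _ (zspan_zsmul (hz χ₁ hχ₁S) _),
        h₁smul χ₁ (hz χ₁ hχ₁S), hσ,
        isoOn_map_sum hτ₁ (fun α hα β hβ => zspan_add hα hβ) hs₁s S₁ (fun φ => φ) m
          (fun φ hφ => hz φ hφ) (hz χ₁ hχ₁S)]
    rw [hτ₂α, hτα, hX', hX]
    module

end Cfsg.Agent.Helper25
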