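import Mathlib
import Cfsg.Prelude.Def_OddOrderChar
import Cfsg.Agent.Helper15.IndFun
import Cfsg.Agent.Helper15.IndChar
import Cfsg.Agent.Helper74.CharBasic
import Cfsg.Agent.Helper79.CharComplete
import Cfsg.Agent.Helper80.Induced
import Cfsg.Agent.Helper80.Pullback
import Cfsg.Agent.Helper80.Linear
import Cfsg.Agent.Helper81.ConjIrr

set_option autoImplicit false

/-! Basic facts on the sets `inducedIrrAbove K X` of characters induced from the non-principal
irreducible characters of a subgroup `K` whose kernel contains `X`: closure under complex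
conjugation, finiteness, and the "mass" inequality
`[L:K] (|K:X| - 1) ≤ Σ_φ φ(1)² / ⟨φ, φ⟩`. -/

namespace Cfsg.Agent.Helper25

open Cfsg Cfsg.Agent.Helper80

section basic
variable {L : Type*} [Group L] [Fintype L] (K : Subgroup L)

theorem inducedIrrAbove_anti {X Y : Subgroup L} (h : X ≤ Y) :
    inducedIrrAbove K Y ⊆ inducedIrrAbove K X := by
  rintro φ ⟨θ, hθ, hne, hker, rfl⟩
  exact ⟨θ, hθ, hne, fun a ha => hker a (h ha), rfl⟩

theorem inducedIrrAbove_subset_bot (X : Subgroup L) :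
    inducedIrrAbove K X ⊆ inducedIrrAbove K ⊥ :=
  inducedIrrAbove_anti K bot_le

theorem extendByZero_conjFun (θ : K → ℂ) (g : L) :
    extendByZero K (conjFun θ) g = (starRingEnd ℂ) (extendByZero K θ g) := by
  by_cases hg : g ∈ K
  · rw [Helper15.extendByZero_of_mem K _ hg, Helper15.extendByZero_of_mem K _ hg]
    rfl
  · rw [Helper15.extendByZero_of_not_mem K _ hg, Helper15.extendByZero_of_not_mem K _ hg, map_zero]

theorem conjFun_indFun (θ : K → ℂ) : conjFun (indFun K θ) = indFun K (conjFun θ) := by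
  funext g
  simp only [conjFun, indFun, map_mul, map_inv₀, map_natCast, map_sum, extendByZero_conjFun]

theorem conjFun_conjFun {X : Type*} (φ : X → ℂ) : conjFun (conjFun φ) = φ := by
  funext x
  simp [conjFun]

theorem inducedIrrAbove_conj_mem {X : Subgroup L} {φ : L → ℂ} (h : φ ∈ inducedIrrAbove K X) :
    conjFun φ ∈ inducedIrrAbove K X := by
  obtain ⟨θ, hθ, hne, hker, rfl⟩ := h
  have : Finite K := inferInstance
  refine ⟨conjFun θ, Helper81.isIrrCharacter_conj hθ, ?_, ?_, conjFun_indFun K θ⟩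
  · intro h1
    apply hne
    have h2 := congrArg conjFun h1
    rw [conjFun_conjFun] at h2
    rw [h2]
    funext x
    simp [conjFun]
  · intro a ha
    simp only [conjFun]
    rw [hker a ha]

theorem inducedIrrAbove_finite (X : Subgroup L) : (inducedIrrAbove K X).Finite := by
  classical
  have : Fintype K := Fintype.ofFinite K
  have : Fintype (IrrCharacter K) := Helper74.irrFintype K
  apply Set.Finite.subset (Set.finite_range (fun θ : IrrCharacter K => indFun K (θ : K → ℂ)))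
  rintro φ ⟨θ, hθ, -, -, rfl⟩
  exact ⟨⟨θ, hθ⟩, rfl⟩

theorem isCharacter_of_mem_inducedIrrAbove {X : Subgroup L} {φ : L → ℂ}
    (h : φ ∈ inducedIrrAbove K X) : IsCharacter L φ := by
  obtain ⟨θ, hθ, -, -, rfl⟩ := h
  exact Helper15.isCharacter_indFun K (Helper74.isCharacter_of_isIrr hθ)

end basic

theorem isIrrCharacter_const_one (W : Type*) [Group W] :
    IsIrrCharacter W (fun _ => (1 : ℂ)) := by
  have h := Helper80.isIrrCharacter_of_monoidHom (1 : W →* ℂˣ)
  simpa using h

/-- The principal character as an irreducible character. -/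
noncomputable def prinIrr (W : Type*) [Group W] : IrrCharacter W :=
  ⟨fun _ => 1, isIrrCharacter_const_one W⟩

section mass
variable {L : Type*} [Group L] [Fintype L] (K : Subgroup L)

open Classical in
/-- The irreducible characters `θ` of `K` inducing a given character `φ` of `L` satisfy
`Σ_θ [L:K] θ(1)² ≤ φ(1)² / ⟨φ, φ⟩`. -/
theorem fiber_mass [Fintype K] [Fintype (IrrCharacter K)] {φ : L → ℂ} (hφ : IsCharacter L φ)
    {n : ℕ} (hn : classInner φ φ = n) (hn0 : n ≠ 0) :
    ∑ θ ∈ Finset.univ.filter (fun θ : IrrCharacter K => indFun K (θ : K → ℂ) = φ),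
      (K.index : ℝ) * (charDegree (θ : K → ℂ) : ℝ) ^ 2 ≤ (charDegree φ : ℝ) ^ 2 / n := by
  set F := Finset.univ.filter (fun θ : IrrCharacter K => indFun K (θ : K → ℂ) = φ) with hF
  have hρ : IsCharacter K (fun k : K => φ k) := Helper74.isCharacter_restrict K hφ
  have hcf : IsClassFunction L φ := IsCharacter.isClassFunction hφ
  have hmult : ∀ θ ∈ F, mult _ hρ θ = n := by
    intro θ hθ
    have hθ' : indFun K (θ : K → ℂ) = φ := (Finset.mem_filter.mp hθ).2
    have h1 : classInner (indFun K (θ : K → ℂ)) φ = classInner (θ : K → ℂ) (fun k : K => φ k) :=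
      Helper15.frobenius_reciprocity K _ φ hcf
    rw [hθ', hn] at h1
    have h2 : classInner (fun k : K => φ k) (θ : K → ℂ) = (n : ℂ) := by
      rw [← Helper15.classInner_conj_symm, ← h1]
      simp
    rw [mult_spec _ hρ θ] at h2
    exact_mod_cast h2
  have hdegρ : charDegree (fun k : K => φ k) = charDegree φ := by
    simp [charDegree]
  have hdeg : ∀ θ ∈ F, charDegree φ = K.index * charDegree (θ : K → ℂ) := by
    intro θ hθ
    have hθ' := (Finset.mem_filter.mp hθ).2
    rw [← hθ']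
    exact charDegree_indFun K (IsIrrCharacter.isCharacter θ.2)
  have hsum : n * ∑ θ ∈ F, charDegree (θ : K → ℂ) ≤ charDegree φ := by
    rw [← hdegρ, charDegree_eq_sum_mult _ hρ, Finset.mul_sum]
    calc ∑ θ ∈ F, n * charDegree (θ : K → ℂ)
        = ∑ θ ∈ F, mult _ hρ θ * charDegree (θ : K → ℂ) :=
          Finset.sum_congr rfl (fun θ hθ => by rw [hmult θ hθ])
      _ ≤ ∑ θ, mult _ hρ θ * charDegree (θ : K → ℂ) :=
          Finset.sum_le_sum_of_subset (Finset.subset_univ _)
  have h3 : ∑ θ ∈ F, (K.index : ℝ) * (charDegree (θ : K → ℂ) : ℝ) ^ 2 =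
      (charDegree φ : ℝ) * ∑ θ ∈ F, (charDegree (θ : K → ℂ) : ℝ) := by
    rw [Finset.mul_sum]
    refine Finset.sum_congr rfl fun θ hθ => ?_
    have h' : (charDegree φ : ℝ) = (K.index : ℝ) * (charDegree (θ : K → ℂ) : ℝ) := by
      exact_mod_cast hdeg θ hθ
    rw [h']
    ring
  rw [h3]
  have hnpos : (0 : ℝ) < n := by exact_mod_cast Nat.pos_of_ne_zero hn0
  rw [le_div_iff₀ hnpos]
  have h4 : (n : ℝ) * ∑ θ ∈ F, (charDegree (θ : K → ℂ) : ℝ) ≤ (charDegree φ : ℝ) := by
    exact_mod_cast hsum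
  calc (charDegree φ : ℝ) * (∑ θ ∈ F, (charDegree (θ : K → ℂ) : ℝ)) * n
      = (charDegree φ : ℝ) * ((n : ℝ) * ∑ θ ∈ F, (charDegree (θ : K → ℂ) : ℝ)) := by ring
    _ ≤ (charDegree φ : ℝ) * (charDegree φ : ℝ) :=
        mul_le_mul_of_nonneg_left h4 (Nat.cast_nonneg _)
    _ = (charDegree φ : ℝ) ^ 2 := by ring

open Classical in
/-- The squares of the degrees of the irreducible characters of `K` with `X ⊓ K` in their kernel
add up to `|K : X ⊓ K|`. -/
theorem sum_charDegree_sq_above [Fintype K] [Fintype (IrrCharacter K)] (X : Subgroup L)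
    [X.Normal] :
    ∑ θ ∈ Finset.univ.filter (fun θ : IrrCharacter K =>
        ∀ a : K, (a : L) ∈ X → (θ : K → ℂ) a = (θ : K → ℂ) 1),
      charDegree (θ : K → ℂ) ^ 2 = X.relIndex K := by
  have : Fintype (K ⧸ X.subgroupOf K) := Fintype.ofFinite _
  have : Fintype (IrrCharacter (K ⧸ X.subgroupOf K)) := Helper74.irrFintype _
  have hq := Helper79.sum_charDegree_sq (G := K ⧸ X.subgroupOf K)
  have hcard : Nat.card (K ⧸ X.subgroupOf K) = X.relIndex K := by
    rw [Subgroup.relIndex, Subgroup.index_eq_card]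
  rw [← hcard, ← hq]
  rw [Finset.sum_subtype (p := fun χ : IrrCharacter K =>
      ∀ n ∈ X.subgroupOf K, (χ : K → ℂ) n = (χ : K → ℂ) 1)
    (Finset.univ.filter (fun θ : IrrCharacter K =>
        ∀ a : K, (a : L) ∈ X → (θ : K → ℂ) a = (θ : K → ℂ) 1))
    (fun θ => by simp [Subgroup.mem_subgroupOf])]
  symm
  apply Fintype.sum_equiv (irrQuotientEquiv (X.subgroupOf K))
  intro ψ
  have h1 : ((irrQuotientEquiv (X.subgroupOf K) ψ).1 : K → ℂ) 1 = (ψ : K ⧸ X.subgroupOf K → ℂ) 1 := by
    rw [irrQuotientEquiv_apply]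
    rfl
  simp only [charDegree, h1]

open Classical in
/-- The mass inequality: `[L:K] (|K : X ⊓ K| - 1) ≤ Σ_{φ ∈ T} φ(1)² / ⟨φ, φ⟩` for every finite set `T`
of characters of `L` containing `inducedIrrAbove K X`. -/
theorem mass_le [Fintype K] [Fintype (IrrCharacter K)] (X : Subgroup L) [X.Normal]
    (T : Finset (L → ℂ)) (hT : inducedIrrAbove K X ⊆ ↑T) (hTchar : ∀ φ ∈ T, IsCharacter L φ)
    (n : (L → ℂ) → ℕ) (hn : ∀ φ ∈ T, classInner φ φ = n φ) (hn0 : ∀ φ ∈ T, n φ ≠ 0) :
    (K.index : ℝ) * ((X.relIndex K : ℝ) - 1) ≤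
      ∑ φ ∈ T, (charDegree φ : ℝ) ^ 2 / (n φ : ℝ) := by
  set P : IrrCharacter K → Prop :=
    fun θ => ∀ a : K, (a : L) ∈ X → (θ : K → ℂ) a = (θ : K → ℂ) 1 with hP
  set Θ := (Finset.univ.filter P).erase (prinIrr K) with hΘ
  have hmem : prinIrr K ∈ Finset.univ.filter P := by
    simp [P, prinIrr]
  have hd1 : charDegree ((prinIrr K : IrrCharacter K) : K → ℂ) = 1 := by
    simp [charDegree, prinIrr]
  have h1 : ∑ θ ∈ Θ, (K.index : ℝ) * (charDegree (θ : K → ℂ) : ℝ) ^ 2 =
      (K.index : ℝ) * ((X.relIndex K : ℝ) - 1) := by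
    rw [← Finset.mul_sum, Finset.sum_erase_eq_sub hmem, hd1]
    have h2 := sum_charDegree_sq_above K X
    have h3 : ∑ θ ∈ Finset.univ.filter P, (charDegree (θ : K → ℂ) : ℝ) ^ 2 =
        (X.relIndex K : ℝ) := by
      exact_mod_cast h2
    rw [h3]
    norm_num
  rw [← h1]
  have hmaps : ∀ θ ∈ Θ, indFun K (θ : K → ℂ) ∈ T := by
    intro θ hθ
    apply hT
    rw [hΘ, Finset.mem_erase, Finset.mem_filter] at hθ
    refine ⟨θ, θ.2, ?_, hθ.2.2, rfl⟩
    intro h1
    apply hθ.1
    apply Subtype.ext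
    exact h1
  rw [← Finset.sum_fiberwise_of_maps_to hmaps]
  apply Finset.sum_le_sum
  intro φ hφ
  calc ∑ θ ∈ Θ.filter (fun θ : IrrCharacter K => indFun K (θ : K → ℂ) = φ),
        (K.index : ℝ) * (charDegree (θ : K → ℂ) : ℝ) ^ 2
      ≤ ∑ θ ∈ Finset.univ.filter (fun θ : IrrCharacter K => indFun K (θ : K → ℂ) = φ),
          (K.index : ℝ) * (charDegree (θ : K → ℂ) : ℝ) ^ 2 := by
        apply Finset.sum_le_sum_of_subset_of_nonneg
        · intro θ hθ
          rw [Finset.mem_filter] at hθ ⊢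
          exact ⟨Finset.mem_univ _, hθ.2⟩
        · intro θ _ _
          positivity
    _ ≤ (charDegree φ : ℝ) ^ 2 / (n φ : ℝ) := fiber_mass K (hTchar φ hφ) (hn φ hφ) (hn0 φ hφ)

end mass

end Cfsg.Agent.Helper25
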