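import Mathlib
import Cfsg.Prelude.Def_OddOrderChar
import Cfsg.Agent.Helper25.OrthExt
import Cfsg.Agent.Helper25.InnerBasics
import Cfsg.Agent.Helper25.GenChar
import Cfsg.Agent.S1515

set_option autoImplicit false

/-! Coherence for a coherence system all of whose members have the same degree. -/

namespace Cfsg.Agent.Helper25

open Cfsg
open scoped ComplexConjugate

universe u v

section basics
variable {X : Type u} {S : Set (X → ℂ)} {A : Set X}

/-- `zspanOn S A` as a submodule. -/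
def zspanOnSubmodule (S : Set (X → ℂ)) (A : Set X) : Submodule ℤ (X → ℂ) where
  carrier := zspanOn S A
  add_mem' := fun ha hb => zspanOn_add ha hb
  zero_mem' := ⟨zspan_zero, fun _ _ => rfl⟩
  smul_mem' := fun n _ ha => zspanOn_zsmul ha n

theorem zspan_subset_zspanOn {T : Set (X → ℂ)} (h : T ⊆ zspanOn S A) : zspan T ⊆ zspanOn S A := by
  have : Submodule.span ℤ T ≤ zspanOnSubmodule S A := Submodule.span_le.mpr h
  exact this

end basics

section
variable {L : Type u} [Group L] [Fintype L] {G : Type v} [Group G] [Fintype G]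

theorem isLinearIsometryOn_mono {E E' : Set (L → ℂ)} {τ : (L → ℂ) → (G → ℂ)} (h : E' ⊆ E)
    (hτ : IsLinearIsometryOn E τ) : IsLinearIsometryOn E' τ :=
  ⟨fun α hα β hβ => hτ.1 α (h hα) β (h hβ), fun α hα n => hτ.2.1 α (h hα) n,
    fun α hα β hβ => hτ.2.2.1 α (h hα) β (h hβ), fun α hα => hτ.2.2.2 α (h hα)⟩

/-- A set of pairwise orthogonal functions of nonzero norm is finite. -/
theorem finite_of_orthogonal (S : Set (L → ℂ))
    (horth : ∀ χ ∈ S, ∀ φ ∈ S, χ ≠ φ → classInner χ φ = 0)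
    (hne : ∀ χ ∈ S, classInner χ χ ≠ 0) : S.Finite := by
  classical
  have hli : LinearIndependent ℂ (fun χ : S => (χ : L → ℂ)) := by
    rw [linearIndependent_iff']
    intro s c hc χ hχ
    have h1 := congrArg (fun f => classInner f (χ : L → ℂ)) hc
    simp only [Helper74.classInner_sum_left, Helper74.classInner_smul_left] at h1
    rw [Finset.sum_eq_single χ] at h1
    · have h2 : classInner (0 : L → ℂ) (χ : L → ℂ) = 0 := by
        unfold classInner; simp
      rw [h2] at h1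
      rcases mul_eq_zero.mp h1 with h | h
      · exact h
      · exact absurd h (hne χ χ.2)
    · intro φ _ hφ
      rw [horth φ φ.2 χ χ.2 (fun h => hφ (Subtype.ext h)), mul_zero]
    · intro h; exact absurd hχ h
  exact hli.set_finite_of_isNoetherian

end

section pair
variable {L : Type u} [Group L] [Fintype L] {G : Type v} [Group G] [Fintype G]
variable {S : Set (L → ℂ)} {τ : (L → ℂ) → (G → ℂ)} {R : (L → ℂ) → Finset (G → ℂ)}

/-- Differences of members of equal degree vanish at `1`. -/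
theorem sub_mem_zspanOn (hdeg : ∀ φ ∈ S, ∀ ψ ∈ S, φ 1 = ψ 1) {ξ η : L → ℂ} (hξ : ξ ∈ S)
    (hη : η ∈ S) : ξ - η ∈ zspanOn S {1}ᶜ := by
  refine ⟨zspan_sub (mem_zspan_of_mem hξ) (mem_zspan_of_mem hη), ?_⟩
  intro x hx
  have hx1 : x = 1 := by simpa using hx
  rw [hx1, Pi.sub_apply, hdeg ξ hξ η hη, sub_self]

/-- The decomposition of `τ (ξ - η)` along `R ξ ∪ R η`. -/
theorem coh_pair_decomp (hS : IsCoherenceSystem S τ R) (hdeg : ∀ φ ∈ S, ∀ ψ ∈ S, φ 1 = ψ 1)
    {ξ η : L → ℂ} (hξ : ξ ∈ S) (hη : η ∈ S) (h1 : η ≠ ξ) (h2 : η ≠ conjFun ξ) :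
    (∀ α ∈ R ξ, classInner (τ (ξ - η)) α = 0 ∨ classInner (τ (ξ - η)) α = 1) ∧
    (∑ α ∈ R ξ, ‖classInner (τ (ξ - η)) α‖ ^ 2 = (classInner ξ ξ).re) ∧
    τ (ξ - η) = ∑ γ ∈ R ξ ∪ R η, classInner (τ (ξ - η)) γ • γ := by
  classical
  have hE := sub_mem_zspanOn hdeg hξ hη
  have hξη : classInner ξ η = 0 := hS.orthogonal ξ hξ η hη (Ne.symm h1)
  have hηξ : classInner η ξ = 0 := hS.orthogonal η hη ξ hξ h1
  have hcξη : classInner (conjFun ξ) η = 0 :=
    hS.orthogonal _ (hS.conj_mem ξ hξ) η hη (Ne.symm h2)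
  have h3 : conjFun η ≠ ξ := by
    intro h; apply h2; rw [← h, conjFun_conjFun']
  have hcηξ : classInner (conjFun η) ξ = 0 := hS.orthogonal _ (hS.conj_mem η hη) ξ hξ h3
  have hξcη : classInner ξ (conjFun η) = 0 := by
    rw [← Helper74.classInner_conj_symm, hcηξ, map_zero]
  have hsub1 : zspan {ξ - η, ξ - conjFun ξ} ⊆ zspanOn S {1}ᶜ := zspan_subset_zspanOn (by
    intro x hx
    rcases hx with rfl | rfl
    · exact hE
    · exact sub_mem_zspanOn hdeg hξ (hS.conj_mem ξ hξ))
  have hsub2 : zspan {η - ξ, η - conjFun η} ⊆ zspanOn S {1}ᶜ := zspan_subset_zspanOn (by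
    intro x hx
    rcases hx with rfl | rfl
    · exact sub_mem_zspanOn hdeg hη hξ
    · exact sub_mem_zspanOn hdeg hη (hS.conj_mem η hη))
  have r1 := Cfsg.Agent.S1515.result S τ R hS ξ hξ η (mem_zspan_of_mem hη) hξη hcξη τ
    (isLinearIsometryOn_mono hsub1 hS.isometry) (fun n => rfl)
  have r2 := Cfsg.Agent.S1515.result S τ R hS η hη ξ (mem_zspan_of_mem hξ) hηξ hcηξ τ
    (isLinearIsometryOn_mono hsub2 hS.isometry) (fun n => rfl)
  set Z := τ (ξ - η) with hZ
  have hneg : τ (η - ξ) = -Z := by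
    have := hS.isometry.2.1 (ξ - η) hE (-1)
    rw [neg_one_smul, neg_sub, neg_one_smul] at this
    exact this
  have hZZ : classInner Z Z = classInner ξ ξ + classInner η η := by
    rw [hZ, hS.isometry.2.2.1 _ hE _ hE, Helper74.classInner_sub_left,
      Helper74.classInner_sub_right, Helper74.classInner_sub_right, hξη, hηξ]
    ring
  have hdisj : ∀ α ∈ R ξ, ∀ β ∈ R η, classInner α β = 0 :=
    fun α hα β hβ => hS.disjoint η hη ξ hξ hξη hξcη α hα β hβ
  have hdisj' : ∀ α ∈ R ξ, ∀ β ∈ R η, classInner β α = 0 := by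
    intro α hα β hβ
    rw [← Helper74.classInner_conj_symm, hdisj α hα β hβ, map_zero]
  have hfd : Disjoint (R ξ) (R η) := by
    rw [Finset.disjoint_left]
    intro α hα hα'
    have h0 := hdisj α hα α hα'
    have h1' := hS.orthonormal ξ hξ α hα α hα
    rw [if_pos rfl] at h1'
    rw [h0] at h1'
    exact zero_ne_one h1'
  have hon : ∀ i ∈ R ξ ∪ R η, ∀ j ∈ R ξ ∪ R η,
      classInner (id i) (id j) = if i = j then (((fun _ => 1 : (G → ℂ) → ℝ) i : ℝ) : ℂ) else 0 := by
    intro i hi j hj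
    simp only [id, Complex.ofReal_one]
    rcases Finset.mem_union.mp hi with hi | hi <;> rcases Finset.mem_union.mp hj with hj | hj
    · exact hS.orthonormal ξ hξ i hi j hj
    · rw [hdisj i hi j hj, if_neg]
      intro hij; subst hij
      exact (Finset.disjoint_left.mp hfd hi) hj
    · rw [hdisj' j hj i hi, if_neg]
      intro hij; subst hij
      exact (Finset.disjoint_left.mp hfd hj) hi
    · exact hS.orthonormal η hη i hi j hj
  have hbes := bessel_orthogonal (R ξ ∪ R η) id (fun _ => (1 : ℝ)) (fun _ _ => one_pos) hon Z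
  simp only [id, div_one] at hbes
  rw [Finset.sum_union hfd] at hbes
  have hr2 : (classInner η η).re ≤ ∑ β ∈ R η, ‖classInner Z β‖ ^ 2 := by
    have := r2.1
    rw [hneg] at this
    simpa only [Helper74.classInner_neg_left, norm_neg] using this
  have hZZre : (classInner Z Z).re = (classInner ξ ξ).re + (classInner η η).re := by
    rw [hZZ, Complex.add_re]
  have hsumξ : ∑ α ∈ R ξ, ‖classInner Z α‖ ^ 2 = (classInner ξ ξ).re := by
    have := r1.1
    linarith
  have hsumη : ∑ β ∈ R η, ‖classInner Z β‖ ^ 2 = (classInner η η).re := by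
    have := r1.1
    linarith
  have r1' := r1.2 (by rw [hZZre, hsumξ]; linarith)
  refine ⟨r1'.2, hsumξ, ?_⟩
  -- equality in Bessel
  have hproj := classInner_sub_proj (R ξ ∪ R η) id (fun _ => (1 : ℝ)) (fun _ _ => one_pos) hon Z
  simp only [id, Complex.ofReal_one, div_one] at hproj
  obtain ⟨r, -, hr⟩ := classInner_self_eq_ofReal Z
  have hzero : classInner Z Z - ∑ i ∈ R ξ ∪ R η, ((‖classInner Z i‖ ^ 2 : ℝ) : ℂ) = 0 := by
    rw [← Complex.ofReal_sum, Finset.sum_union hfd, hsumξ, hsumη, ← hZZre, hr]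
    simp
  rw [hzero] at hproj
  have := Helper74.classInner_self_eq_zero hproj
  exact sub_eq_zero.mp this

/-- Inner products of elements of `R φ` and `R χ` vanish for `φ ∉ {χ, conj χ}`. -/
theorem coh_R_orth (hS : IsCoherenceSystem S τ R) {χ φ : L → ℂ} (hχ : χ ∈ S) (hφ : φ ∈ S)
    (h1 : φ ≠ χ) (h2 : φ ≠ conjFun χ) : ∀ β ∈ R φ, ∀ α ∈ R χ, classInner β α = 0 := by
  have hφχ : classInner φ χ = 0 := hS.orthogonal φ hφ χ hχ h1
  have hφcχ : classInner φ (conjFun χ) = 0 :=
    hS.orthogonal φ hφ _ (hS.conj_mem χ hχ) h2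
  exact fun β hβ α hα => hS.disjoint χ hχ φ hφ hφχ hφcχ β hβ α hα

/-- Existence of the `0/1` coefficient function on `R χ`. -/
theorem coh_uniform_coeff (hS : IsCoherenceSystem S τ R) (hdeg : ∀ φ ∈ S, ∀ ψ ∈ S, φ 1 = ψ 1)
    {χ : L → ℂ} (hχ : χ ∈ S) :
    ∃ c : (G → ℂ) → ℂ, (∀ α ∈ R χ, c α = 0 ∨ c α = 1) ∧
      (∑ α ∈ R χ, c α = classInner χ χ) ∧
      ∀ φ ∈ S, φ ≠ χ → φ ≠ conjFun χ → ∀ α ∈ R χ, classInner (τ (χ - φ)) α = c α := by
  classical
  have hEs : ∀ α ∈ zspanOn S ({1}ᶜ : Set L), ∀ n : ℤ, n • α ∈ zspanOn S ({1}ᶜ : Set L) :=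
    fun α hα n => zspanOn_zsmul hα n
  by_cases hB : ∃ φ₀ ∈ S, φ₀ ≠ χ ∧ φ₀ ≠ conjFun χ
  · obtain ⟨φ₀, hφ₀, h1, h2⟩ := hB
    obtain ⟨d1, d2, -⟩ := coh_pair_decomp hS hdeg hχ hφ₀ h1 h2
    refine ⟨fun α => classInner (τ (χ - φ₀)) α, d1, ?_, ?_⟩
    · obtain ⟨r, -, hr⟩ := classInner_self_eq_ofReal χ
      have h3 : ∀ α ∈ R χ, classInner (τ (χ - φ₀)) α =
          ((‖classInner (τ (χ - φ₀)) α‖ ^ 2 : ℝ) : ℂ) := by
        intro α hα
        rcases d1 α hα with h | h <;> rw [h] <;> simp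
      rw [Finset.sum_congr rfl h3, ← Complex.ofReal_sum, d2, hr]
      simp
    · intro φ hφ h1' h2' α hα
      by_cases e1 : φ = φ₀
      · rw [e1]
      have hdiff : τ (χ - φ) - τ (χ - φ₀) = τ (φ₀ - φ) := by
        rw [← isoOn_map_sub hS.isometry hEs (sub_mem_zspanOn hdeg hχ hφ)
          (sub_mem_zspanOn hdeg hχ hφ₀)]
        congr 1
        abel
      have hkey : classInner (τ (φ₀ - φ)) α = 0 := by
        by_cases e2 : φ = conjFun φ₀
        · rw [e2, hS.sum_eq φ₀ hφ₀, Helper74.classInner_sum_left]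
          exact Finset.sum_eq_zero (fun β hβ => coh_R_orth hS hχ hφ₀ h1 h2 β hβ α hα)
        · obtain ⟨-, -, d3⟩ := coh_pair_decomp hS hdeg hφ₀ hφ e1 e2
          rw [d3, Helper74.classInner_sum_left]
          refine Finset.sum_eq_zero (fun γ hγ => ?_)
          rw [Helper74.classInner_smul_left]
          rcases Finset.mem_union.mp hγ with hγ | hγ
          · rw [coh_R_orth hS hχ hφ₀ h1 h2 γ hγ α hα, mul_zero]
          · rw [coh_R_orth hS hχ hφ h1' h2' γ hγ α hα, mul_zero]
      have : classInner (τ (χ - φ)) α - classInner (τ (χ - φ₀)) α = 0 := by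
        rw [← Helper74.classInner_sub_left, hdiff, hkey]
      exact sub_eq_zero.mp this
  · push Not at hB
    -- S = {χ, conj χ}: choose half of `R χ`
    obtain ⟨k, hk⟩ := Helper15.isCharacter_inner_nat (hS.isCharacter χ hχ) (hS.isCharacter χ hχ)
    have hcc : classInner χ (conjFun χ) = 0 :=
      hS.orthogonal χ hχ _ (hS.conj_mem χ hχ) (fun h => hS.conj_ne χ hχ h.symm)
    have hcc' : classInner (conjFun χ) χ = 0 := by
      rw [← Helper74.classInner_conj_symm, hcc, map_zero]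
    have hE := sub_mem_zspanOn hdeg hχ (hS.conj_mem χ hχ)
    have hnorm : classInner (∑ α ∈ R χ, α) (∑ α ∈ R χ, α) = ((R χ).card : ℂ) := by
      rw [Helper74.classInner_sum_left]
      rw [Finset.sum_congr rfl (fun α hα => by
        rw [Helper74.classInner_sum_right, Finset.sum_eq_single α
          (fun β hβ hne => by rw [hS.orthonormal χ hχ α hα β hβ, if_neg (Ne.symm hne)])
          (fun h => absurd hα h), hS.orthonormal χ hχ α hα α hα, if_pos rfl])]
      simp
    have hnorm2 : classInner (∑ α ∈ R χ, α) (∑ α ∈ R χ, α) = ((2 * k : ℕ) : ℂ) := by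
      rw [← hS.sum_eq χ hχ, hS.isometry.2.2.1 _ hE _ hE, Helper74.classInner_sub_left,
        Helper74.classInner_sub_right, Helper74.classInner_sub_right, hcc, hcc',
        classInner_conjFun_conjFun', hk]
      simp
      ring
    have hcard : (R χ).card = 2 * k := by
      have := hnorm.symm.trans hnorm2
      exact_mod_cast this
    obtain ⟨X₀, hX₀, hX₀c⟩ := Finset.exists_subset_card_eq (s := R χ) (n := k) (by omega)
    refine ⟨fun α => if α ∈ X₀ then 1 else 0, ?_, ?_, ?_⟩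
    · intro α _
      by_cases h : α ∈ X₀
      · right; simp [h]
      · left; simp [h]
    · rw [Finset.sum_ite_mem, Finset.inter_eq_right.mpr hX₀, Finset.sum_const, hX₀c, hk]
      simp
    · intro φ hφ h1 h2
      exact absurd h2 (by simpa using hB φ hφ h1)

/-- **Uniform degree coherence** (Peterfalvi (5.7)). -/
theorem coh_uniform (hS : IsCoherenceSystem S τ R) (hdeg : ∀ φ ∈ S, ∀ ψ ∈ S, φ 1 = ψ 1) :
    IsCoherent S {1}ᶜ τ := by
  classical
  obtain ⟨χ, hχ⟩ := hS.nonempty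
  obtain ⟨c, hc1, hc2, hc3⟩ := coh_uniform_coeff hS hdeg hχ
  have hEs : ∀ α ∈ zspanOn S ({1}ᶜ : Set L), ∀ n : ℤ, n • α ∈ zspanOn S ({1}ᶜ : Set L) :=
    fun α hα n => zspanOn_zsmul hα n
  have hEa : ∀ α ∈ zspanOn S ({1}ᶜ : Set L), ∀ β ∈ zspanOn S ({1}ᶜ : Set L),
      α + β ∈ zspanOn S ({1}ᶜ : Set L) := fun α hα β hβ => zspanOn_add hα hβ
  have hnz : ∀ φ ∈ S, classInner φ φ ≠ 0 := by
    intro φ hφ h0
    have := Helper74.classInner_self_eq_zero h0
    apply hS.conj_ne φ hφ
    rw [this]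
    funext x
    simp [conjFun]
  have hfin : S.Finite := finite_of_orthogonal S hS.orthogonal hnz
  set s : Finset (L → ℂ) := hfin.toFinset with hs
  have hsS : (↑s : Set (L → ℂ)) = S := hfin.coe_toFinset
  have hmem : ∀ φ, φ ∈ s ↔ φ ∈ S := fun φ => hfin.mem_toFinset
  set X : G → ℂ := ∑ α ∈ R χ, c α • α with hX
  set T : (L → ℂ) → (G → ℂ) := fun φ => X - τ (χ - φ) with hT
  have hcconj : ∀ α ∈ R χ, conj (c α) = c α := by
    intro α hα
    rcases hc1 α hα with h | h <;> rw [h] <;> simp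
  have hcsq : ∀ α ∈ R χ, c α * c α = c α := by
    intro α hα
    rcases hc1 α hα with h | h <;> rw [h] <;> simp
  obtain ⟨r, -, hr⟩ := classInner_self_eq_ofReal χ
  have hχχconj : conj (classInner χ χ) = classInner χ χ := by
    rw [hr, Complex.conj_ofReal]
  have hcc : classInner χ (conjFun χ) = 0 :=
    hS.orthogonal χ hχ _ (hS.conj_mem χ hχ) (fun h => hS.conj_ne χ hχ h.symm)
  have hcc' : classInner (conjFun χ) χ = 0 := by
    rw [← Helper74.classInner_conj_symm, hcc, map_zero]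
  -- K1
  have K1 : classInner X X = classInner χ χ := by
    rw [hX, Helper74.classInner_sum_left, ← hc2]
    refine Finset.sum_congr rfl (fun α hα => ?_)
    rw [Helper74.classInner_smul_left, Helper74.classInner_sum_right,
      Finset.sum_eq_single α
        (fun β hβ hne => by
          rw [Helper74.classInner_smul_right, hS.orthonormal χ hχ α hα β hβ,
            if_neg (Ne.symm hne), mul_zero])
        (fun h => absurd hα h),
      Helper74.classInner_smul_right, hS.orthonormal χ hχ α hα α hα, if_pos rfl, mul_one,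
      hcconj α hα, hcsq α hα]
  -- K2
  have K2 : ∀ φ ∈ S, classInner (τ (χ - φ)) X = classInner (χ - φ) χ := by
    intro φ hφ
    have hexp : classInner (τ (χ - φ)) X =
        ∑ α ∈ R χ, c α * classInner (τ (χ - φ)) α := by
      rw [hX, Helper74.classInner_sum_right]
      refine Finset.sum_congr rfl (fun α hα => ?_)
      rw [Helper74.classInner_smul_right, hcconj α hα]
    by_cases e1 : φ = χ
    · rw [e1, sub_self, isoOn_map_zero hS.isometry (sub_mem_zspanOn hdeg hχ hχ)]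
      simp
    by_cases e2 : φ = conjFun χ
    · rw [hexp, e2, hS.sum_eq χ hχ]
      rw [Finset.sum_congr rfl (fun α hα => by
        rw [Helper74.classInner_sum_left, Finset.sum_eq_single α
          (fun β hβ hne => by rw [hS.orthonormal χ hχ β hβ α hα, if_neg hne])
          (fun h => absurd hα h), hS.orthonormal χ hχ α hα α hα, if_pos rfl, mul_one])]
      rw [hc2, Helper74.classInner_sub_left, hcc', sub_zero]
    · rw [hexp, Finset.sum_congr rfl (fun α hα => by rw [hc3 φ hφ e1 e2 α hα, hcsq α hα]), hc2,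
        Helper74.classInner_sub_left, hS.orthogonal φ hφ χ hχ e1, sub_zero]
  have K2' : ∀ φ ∈ S, classInner X (τ (χ - φ)) = classInner χ (χ - φ) := by
    intro φ hφ
    rw [← Helper74.classInner_conj_symm, K2 φ hφ, Helper74.classInner_conj_symm]
  -- properties of T
  have hTiso : ∀ φ ∈ s, ∀ φ' ∈ s, classInner (T φ) (T φ') = classInner φ φ' := by
    intro φ hφ φ' hφ'
    rw [hmem] at hφ hφ'
    simp only [hT]
    rw [Helper74.classInner_sub_left, Helper74.classInner_sub_right,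
      Helper74.classInner_sub_right, K1, K2 φ hφ, K2' φ' hφ',
      hS.isometry.2.2.1 _ (sub_mem_zspanOn hdeg hχ hφ) _ (sub_mem_zspanOn hdeg hχ hφ')]
    simp only [Helper74.classInner_sub_left, Helper74.classInner_sub_right]
    ring
  have hXg : IsGeneralizedCharacter G X := by
    rw [hX]
    refine isGenChar_sum _ (fun α hα => ?_)
    rcases hc1 α hα with h | h <;> rw [h]
    · rw [zero_smul]; exact isGenChar_zero
    · rw [one_smul]; exact hS.virtual χ hχ α hα
  have hTg : ∀ φ ∈ s, IsGeneralizedCharacter G (T φ) := by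
    intro φ hφ
    rw [hmem] at hφ
    exact isGenChar_sub hXg (hS.isometry.2.2.2 _ (sub_mem_zspanOn hdeg hχ hφ))
  have horth : ∀ φ ∈ s, ∀ φ' ∈ s, φ ≠ φ' → classInner φ φ' = 0 := by
    intro φ hφ φ' hφ' hne
    rw [hmem] at hφ hφ'
    exact hS.orthogonal φ hφ φ' hφ' hne
  have hne' : ∀ φ ∈ s, classInner φ φ ≠ 0 := fun φ hφ => hnz φ ((hmem φ).mp hφ)
  have hiso := orthExt_isLinearIsometryOn s T horth hne' hTiso hTg
  rw [hsS] at hiso
  -- degree is nonzero
  have hd0 : χ 1 ≠ 0 := by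
    intro h0
    have := isCharacter_eq_zero_of_apply_one (hS.isCharacter χ hχ) h0
    apply hnz χ hχ
    rw [this]; simp
  refine ⟨⟨χ - conjFun χ, sub_mem_zspanOn hdeg hχ (hS.conj_mem χ hχ), ?_⟩,
    orthExt s T, hiso, ?_⟩
  · intro h0
    exact hS.conj_ne χ hχ (sub_eq_zero.mp h0).symm
  · intro α hα
    have hα' : α ∈ zspan (↑s : Set (L → ℂ)) := by rw [hsS]; exact hα.1
    obtain ⟨m, rfl⟩ := exists_coeff_of_mem_zspan hα'
    rw [orthExt_sum_zsmul s T horth hne']
    -- the coefficient sum vanishes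
    have h1 := hα.2 1 (by simp)
    rw [Finset.sum_apply] at h1
    have hsum0 : ∑ φ ∈ s, (m φ : ℂ) = 0 := by
      have : ∑ φ ∈ s, (m φ • φ) 1 = (∑ φ ∈ s, (m φ : ℂ)) * χ 1 := by
        rw [Finset.sum_mul]
        refine Finset.sum_congr rfl (fun φ hφ => ?_)
        rw [Pi.smul_apply, hdeg φ ((hmem φ).mp hφ) χ hχ, zsmul_eq_mul]
      rw [this] at h1
      rcases mul_eq_zero.mp h1 with h | h
      · exact h
      · exact absurd h hd0
    have hsum0' : ∑ φ ∈ s, m φ = 0 := by exact_mod_cast hsum0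
    -- rewrite both sides
    have hL : ∑ φ ∈ s, m φ • T φ = ∑ φ ∈ s, (-m φ) • τ (χ - φ) := by
      simp only [hT, smul_sub, Finset.sum_sub_distrib, neg_smul, Finset.sum_neg_distrib]
      rw [← Finset.sum_smul, hsum0', zero_smul, zero_sub]
    have hR : ∑ φ ∈ s, m φ • φ = ∑ φ ∈ s, (-m φ) • (χ - φ) := by
      simp only [smul_sub, Finset.sum_sub_distrib, neg_smul, Finset.sum_neg_distrib]
      rw [← Finset.sum_smul, hsum0', zero_smul, neg_zero, zero_sub, neg_neg]
    rw [hL, hR]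
    exact (isoOn_map_sum hS.isometry hEa hEs s (fun φ => χ - φ) (fun φ => -m φ)
      (fun φ hφ => sub_mem_zspanOn hdeg hχ ((hmem φ).mp hφ)) (sub_mem_zspanOn hdeg hχ hχ)).symm

end pair

end Cfsg.Agent.Helper25
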