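import Mathlib
import Cfsg.Prelude.Def_OddOrderChar
import Cfsg.Agent.Helper25.IndIrrAbove
import Cfsg.Agent.Helper25.CoherenceExt2
import Cfsg.Agent.Helper25.UniformCoh
import Cfsg.Agent.S1492

set_option autoImplicit false

/-! Peterfalvi (6.2): coherence descends along a central step. -/

namespace Cfsg.Agent.Helper25

open Cfsg

section
variable {L : Type*} [Group L] [Fintype L] {G : Type*} [Group G] [Fintype G]

/-- Coherence passes to subsets that still carry a nonzero combination vanishing off `A`. -/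
theorem isCoherent_of_subset {S S' : Set (L → ℂ)} {A : Set L} {τ : (L → ℂ) → (G → ℂ)}
    (h : IsCoherent S A τ) (hsub : S' ⊆ S) (hne : ∃ α ∈ zspanOn S' A, α ≠ 0) :
    IsCoherent S' A τ := by
  obtain ⟨_, τ₁, hτ₁, hag⟩ := h
  exact ⟨hne, τ₁, isLinearIsometryOn_mono (zspan_mono hsub) hτ₁,
    fun α hα => hag α (zspanOn_mono hsub hα)⟩

end

section linear
variable {L : Type*} [Group L] [Fintype L]

/-- For a proper normal subgroup `X < K` of a solvable group `K` there is a nonprincipal linear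
character of `K` trivial on `X`. -/
theorem exists_linear_above (K X : Subgroup L) [X.Normal] (hsolv : Group.IsSolvable K) (hXK : X < K) :
    ∃ φ : K →* ℂˣ, (∃ k : K, φ k ≠ 1) ∧ ∀ a : K, (a : L) ∈ X → φ a = 1 := by
  classical
  set N : Subgroup K := X.subgroupOf K with hN
  have hNn : N.Normal := inferInstance
  obtain ⟨k, hkK, hkX⟩ := SetLike.exists_of_lt hXK
  have hnt : Nontrivial (K ⧸ N) := by
    refine ⟨⟨(QuotientGroup.mk (⟨k, hkK⟩ : K) : K ⧸ N), 1, ?_⟩⟩
    intro h
    rw [QuotientGroup.eq_one_iff] at h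
    exact hkX (Subgroup.mem_subgroupOf.mp h)
  have hsq : Group.IsSolvable (K ⧸ N) := inferInstance
  have hlt : commutator (K ⧸ N) < ⊤ := Group.IsSolvable.commutator_lt_top_of_nontrivial (K ⧸ N)
  obtain ⟨g, -, hg⟩ := SetLike.exists_of_lt hlt
  have ha : (Abelianization.of g : Abelianization (K ⧸ N)) ≠ 1 := by
    intro h1
    apply hg
    have : (QuotientGroup.mk g : (K ⧸ N) ⧸ commutator (K ⧸ N)) = 1 := h1
    rwa [QuotientGroup.eq_one_iff] at this
  have : NeZero (Monoid.exponent (Abelianization (K ⧸ N))) :=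
    ⟨Monoid.exponent_ne_zero_of_finite⟩
  obtain ⟨φ, hφ⟩ :=
    CommGroup.exists_apply_ne_one_of_hasEnoughRootsOfUnity (Abelianization (K ⧸ N)) ℂ ha
  obtain ⟨k', rfl⟩ := QuotientGroup.mk_surjective g
  refine ⟨(φ.comp Abelianization.of).comp (QuotientGroup.mk' N), ⟨k', ?_⟩, ?_⟩
  · simpa using hφ
  · intro a haX
    have h1 : (QuotientGroup.mk' N) a = 1 := by
      rw [QuotientGroup.mk'_apply, QuotientGroup.eq_one_iff]
      exact Subgroup.mem_subgroupOf.mpr haX
    simp only [MonoidHom.coe_comp, Function.comp_apply, h1, map_one]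

/-- The induced character of a nonprincipal linear character of `K` trivial on `X`. -/
theorem exists_mem_inducedIrrAbove_linear (K X : Subgroup L) [X.Normal] (hsolv : Group.IsSolvable K)
    (hXK : X < K) : ∃ φ ∈ inducedIrrAbove K X, charDegree φ = K.index := by
  obtain ⟨φ, ⟨k, hk⟩, hX⟩ := exists_linear_above K X hsolv hXK
  have hirr : IsIrrCharacter K (fun g : K => ((φ g : ℂˣ) : ℂ)) :=
    Helper80.isIrrCharacter_of_monoidHom φ
  refine ⟨indFun K (fun g : K => ((φ g : ℂˣ) : ℂ)), ⟨_, hirr, ?_, ?_, rfl⟩, ?_⟩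
  · intro h
    have := congrFun h k
    apply hk
    exact Units.ext this
  · intro a ha
    simp only [hX a ha, map_one]
  · rw [Helper80.charDegree_indFun K (Helper80.IsIrrCharacter.isCharacter hirr)]
    simp [charDegree]

end linear

section degree
variable {L : Type*} [Group L]

theorem card_eq_relIndex_mul_card {D C : Subgroup L} (h : D ≤ C) :
    Nat.card C = D.relIndex C * Nat.card D := by
  have := Subgroup.relIndex_mul_relIndex (⊥ : Subgroup L) D C bot_le h
  rw [Subgroup.relIndex_bot_left, Subgroup.relIndex_bot_left] at this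
  rw [← this, mul_comm]

variable [Fintype L]

theorem induced_degree_bound (K B C D : Subgroup L) [B.Normal] (hBD : B ≤ D)
    (hDC : D ≤ C) (hCK : C ≤ K) (hcent : ∀ x ∈ D, ∀ y ∈ C, x * y * x⁻¹ * y⁻¹ ∈ B)
    (θ : K → ℂ) (hθ : IsIrrCharacter K θ) (hker : ∀ a : K, (a : L) ∈ B → θ a = θ 1) :
    (K.index * charDegree θ) ^ 2 ≤ C.index ^ 2 * D.relIndex C := by
  have h := Cfsg.Agent.S1492.result (G := K) θ hθ (B.subgroupOf K) (C.subgroupOf K)
    (D.subgroupOf K)
    (fun x hx => Subgroup.mem_subgroupOf.mpr (hBD (Subgroup.mem_subgroupOf.mp hx)))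
    (fun x hx => Subgroup.mem_subgroupOf.mpr (hDC (Subgroup.mem_subgroupOf.mp hx)))
    (fun c _ b hb => by
      rw [Subgroup.mem_subgroupOf] at hb ⊢
      simpa using (inferInstance : B.Normal).conj_mem _ hb (c : L))
    (fun d hd c hc => by
      rw [Subgroup.mem_subgroupOf] at hd hc ⊢
      simpa using hcent _ hd _ hc)
    (fun b hb => hker b (Subgroup.mem_subgroupOf.mp hb))
  have hcd : ‖θ 1‖ = (charDegree θ : ℝ) := by
    rw [← Helper80.IsCharacter.charDegree_cast (Helper80.IsIrrCharacter.isCharacter hθ)]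
    simp
  have hC : Nat.card (C.subgroupOf K) = Nat.card C :=
    Nat.card_congr (Subgroup.subgroupOfEquivOfLe hCK).toEquiv
  have hD : Nat.card (D.subgroupOf K) = Nat.card D :=
    Nat.card_congr (Subgroup.subgroupOfEquivOfLe (hDC.trans hCK)).toEquiv
  rw [hcd, hC, hD] at h
  have h' : charDegree θ ^ 2 * Nat.card C * Nat.card D ≤ Nat.card K ^ 2 := by
    exact_mod_cast h
  have hCpos : 0 < Nat.card C := Nat.card_pos
  have hDpos : 0 < Nat.card D := Nat.card_pos
  have e1 : Nat.card L = K.index * Nat.card K := (Subgroup.index_mul_card K).symm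
  have e2 : Nat.card L = C.index * Nat.card C := (Subgroup.index_mul_card C).symm
  have e3 : Nat.card C = D.relIndex C * Nat.card D := card_eq_relIndex_mul_card hDC
  apply Nat.le_of_mul_le_mul_right _ (Nat.mul_pos hCpos hDpos)
  calc (K.index * charDegree θ) ^ 2 * (Nat.card C * Nat.card D)
      = K.index ^ 2 * (charDegree θ ^ 2 * Nat.card C * Nat.card D) := by ring
    _ ≤ K.index ^ 2 * Nat.card K ^ 2 := Nat.mul_le_mul_left _ h'
    _ = Nat.card L ^ 2 := by rw [e1]; ring
    _ = C.index ^ 2 * (Nat.card C * Nat.card C) := by rw [e2]; ring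
    _ = C.index ^ 2 * (Nat.card C * (D.relIndex C * Nat.card D)) := by rw [← e3]
    _ = C.index ^ 2 * D.relIndex C * (Nat.card C * Nat.card D) := by ring

end degree

section main
variable {L : Type*} [Group L] [Fintype L] {G : Type*} [Group G] [Fintype G]

theorem coh_bound (K : Subgroup L) [K.Normal] (hsolv : Group.IsSolvable K)
    (τ : (L → ℂ) → (G → ℂ)) (R : (L → ℂ) → Finset (G → ℂ))
    (hS : IsCoherenceSystem (inducedIrrAbove K ⊥) τ R) (A B C D : Subgroup L) [A.Normal]
    [B.Normal] [C.Normal] [D.Normal] (hAK : A < K) (hBK : B < K) (hBD : B ≤ D) (hDC : D ≤ C)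
    (hCK : C ≤ K) (hcent : ∀ x ∈ D, ∀ y ∈ C, x * y * x⁻¹ * y⁻¹ ∈ B)
    (hA : IsCoherent (inducedIrrAbove K A) {1}ᶜ τ)
    (hlt : 4 * C.index ^ 2 * D.relIndex C < (A.relIndex K - 1) ^ 2) :
    IsCoherent (inducedIrrAbove K B) {1}ᶜ τ := by
  classical
  have : Fintype K := Fintype.ofFinite K
  have : Fintype (IrrCharacter K) := Helper74.irrFintype K
  set S := inducedIrrAbove K ⊥ with hSdef
  have hfin : S.Finite := inducedIrrAbove_finite K ⊥
  set d : (L → ℂ) → ℕ := fun φ => charDegree φ with hd_def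
  set n : (L → ℂ) → ℕ := fun φ => ⌊(classInner φ φ).re⌋₊ with hn_def
  have hd : ∀ φ ∈ S, φ 1 = (d φ : ℂ) := fun φ hφ =>
    (Helper80.IsCharacter.charDegree_cast (hS.isCharacter φ hφ)).symm
  have hn : ∀ φ ∈ S, classInner φ φ = (n φ : ℂ) := by
    intro φ hφ
    obtain ⟨m, hm⟩ := Helper15.isCharacter_inner_nat (hS.isCharacter φ hφ) (hS.isCharacter φ hφ)
    simp only [hn_def, hm]
    simp
  have hn0 : ∀ φ ∈ S, n φ ≠ 0 := by
    intro φ hφ h0
    have h1 := hn φ hφ
    rw [h0] at h1
    exact coh_inner_self_ne_zero hS hφ (by simpa using h1)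
  -- the family of admissible subsets
  let P : Finset (L → ℂ) → Prop := fun T =>
    (↑T : Set (L → ℂ)) ⊆ S ∧ (∀ φ ∈ T, conjFun φ ∈ T) ∧ inducedIrrAbove K A ⊆ ↑T ∧
      IsCoherent (↑T : Set (L → ℂ)) {1}ᶜ τ
  set F := hfin.toFinset.powerset.filter P with hF
  have hmemF : ∀ T, T ∈ F ↔ P T := by
    intro T
    rw [hF, Finset.mem_filter, Finset.mem_powerset]
    constructor
    · exact fun h => h.2
    · intro h
      refine ⟨?_, h⟩
      intro φ hφ
      rw [Set.Finite.mem_toFinset]
      exact h.1 (Finset.mem_coe.mpr hφ)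
  set T₀ := (inducedIrrAbove_finite K A).toFinset with hT₀
  have hT₀coe : (↑T₀ : Set (L → ℂ)) = inducedIrrAbove K A := Set.Finite.coe_toFinset _
  have hT₀F : T₀ ∈ F := by
    rw [hmemF]
    refine ⟨?_, ?_, ?_, ?_⟩
    · rw [hT₀coe]; exact inducedIrrAbove_subset_bot K A
    · intro φ hφ
      rw [hT₀, Set.Finite.mem_toFinset] at hφ ⊢
      exact inducedIrrAbove_conj_mem K hφ
    · rw [hT₀coe]
    · rw [hT₀coe]; exact hA
  obtain ⟨T, hTF, hTmax⟩ := Finset.exists_max_image F Finset.card ⟨T₀, hT₀F⟩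
  obtain ⟨hTS, hTconj, hTA, hTcoh⟩ := (hmemF T).mp hTF
  -- S(B) ⊆ T
  have hBT : inducedIrrAbove K B ⊆ ↑T := by
    intro χ hχB
    by_contra hχT
    have hχT' : χ ∉ T := fun h => hχT (Finset.mem_coe.mpr h)
    have hχS : χ ∈ S := inducedIrrAbove_subset_bot K B hχB
    have hχcT : conjFun χ ∉ T := by
      intro h
      have := hTconj _ h
      rw [conjFun_conjFun] at this
      exact hχT' this
    obtain ⟨χ₁, hχ₁A, hχ₁deg⟩ := exists_mem_inducedIrrAbove_linear K A hsolv hAK
    have hχ₁T : χ₁ ∈ T := Finset.mem_coe.mp (hTA hχ₁A)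
    obtain ⟨θ, hθ, hθne, hθker, hχeq⟩ := id hχB
    have hdχ : d χ = K.index * charDegree θ := by
      simp only [hd_def]
      rw [hχeq]
      exact Helper80.charDegree_indFun K (Helper80.IsIrrCharacter.isCharacter hθ)
    have hdχ₁ : d χ₁ = K.index := hχ₁deg
    have hdvd : d χ₁ ∣ d χ := by
      rw [hdχ, hdχ₁]
      exact dvd_mul_right _ _
    have hbound := induced_degree_bound K B C D hBD hDC hCK hcent θ hθ hθker
    rw [← hdχ] at hbound
    -- 2 d χ < |K:A| - 1
    have h2 : (2 * d χ) ^ 2 < (A.relIndex K - 1) ^ 2 := by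
      calc (2 * d χ) ^ 2 = 4 * d χ ^ 2 := by ring
        _ ≤ 4 * (C.index ^ 2 * D.relIndex C) := Nat.mul_le_mul_left _ hbound
        _ = 4 * C.index ^ 2 * D.relIndex C := by ring
        _ < (A.relIndex K - 1) ^ 2 := hlt
    have h3 : 2 * d χ < A.relIndex K - 1 := lt_of_pow_lt_pow_left₀ 2 (Nat.zero_le _) h2
    have h4 : (2 * d χ : ℝ) + 1 ≤ (A.relIndex K : ℝ) - 1 := by
      have : 2 * d χ + 1 + 1 ≤ A.relIndex K := by omega
      have h5 : ((2 * d χ + 1 + 1 : ℕ) : ℝ) ≤ (A.relIndex K : ℝ) := by exact_mod_cast this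
      push_cast at h5
      linarith
    have hmass := mass_le K A T hTA
      (fun φ hφ => hS.isCharacter φ (hTS (Finset.mem_coe.mpr hφ))) n
      (fun φ hφ => hn φ (hTS (Finset.mem_coe.mpr hφ)))
      (fun φ hφ => hn0 φ (hTS (Finset.mem_coe.mpr hφ)))
    have hKpos : (0 : ℝ) < K.index := by
      have : 0 < K.index := Nat.pos_of_ne_zero (Subgroup.index_ne_zero_of_finite)
      exact_mod_cast this
    have hineq : (2 * d χ * d χ₁ : ℝ) < ∑ φ ∈ T, ((d φ : ℝ) ^ 2 / (n φ : ℝ)) := by
      refine lt_of_lt_of_le ?_ hmass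
      rw [hdχ₁]
      calc (2 * (d χ : ℝ) * (K.index : ℝ)) = (K.index : ℝ) * (2 * d χ) := by ring
        _ < (K.index : ℝ) * (2 * d χ + 1) := by
            apply mul_lt_mul_of_pos_left _ hKpos
            linarith
        _ ≤ (K.index : ℝ) * ((A.relIndex K : ℝ) - 1) :=
            mul_le_mul_of_nonneg_left h4 hKpos.le
    have hcoh' := coh_ext hS d n hd hn T hTS hTconj hTcoh χ hχS hχT' hχcT χ₁ hχ₁T hdvd hineq
    set T' : Finset (L → ℂ) := insert χ (insert (conjFun χ) T) with hT'
    have hcoe : (↑T' : Set (L → ℂ)) = ↑T ∪ {χ, conjFun χ} := by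
      ext φ
      simp only [hT', Finset.coe_insert, Set.mem_insert_iff, Finset.mem_coe, Set.mem_union,
        Set.mem_singleton_iff]
      tauto
    have hT'F : T' ∈ F := by
      rw [hmemF]
      refine ⟨?_, ?_, ?_, ?_⟩
      · rw [hcoe]
        intro φ hφ
        rcases hφ with hφ | hφ | hφ
        · exact hTS hφ
        · rw [hφ]; exact hχS
        · rw [Set.mem_singleton_iff] at hφ
          rw [hφ]; exact hS.conj_mem χ hχS
      · intro φ hφ
        rw [hT', Finset.mem_insert, Finset.mem_insert] at hφ ⊢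
        rcases hφ with rfl | rfl | hφ
        · right; left; rfl
        · left; exact conjFun_conjFun _
        · right; right; exact hTconj φ hφ
      · rw [hcoe]
        exact hTA.trans Set.subset_union_left
      · rw [hcoe]; exact hcoh'
    have hcard : T.card < T'.card := by
      apply Finset.card_lt_card
      rw [Finset.ssubset_iff_of_subset]
      · exact ⟨χ, Finset.mem_insert_self _ _, hχT'⟩
      · intro φ hφ
        exact Finset.mem_insert_of_mem (Finset.mem_insert_of_mem hφ)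
    exact absurd (hTmax T' hT'F) (not_le.mpr hcard)
  -- conclusion
  apply isCoherent_of_subset hTcoh hBT
  obtain ⟨χ, hχB, -⟩ := exists_mem_inducedIrrAbove_linear K B hsolv hBK
  have hχS : χ ∈ S := inducedIrrAbove_subset_bot K B hχB
  refine ⟨χ - conjFun χ, coh_sub_conj_mem hS hχS hχB (inducedIrrAbove_conj_mem K hχB), ?_⟩
  exact sub_ne_zero.mpr (hS.conj_ne χ hχS).symm

end main
end Cfsg.Agent.Helper25
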