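import Mathlib
import Cfsg.Prelude.Def_OddOrderChar
import Cfsg.Agent.Helper25.CohBound

set_option autoImplicit false

/-! Peterfalvi (6.3): coherence descends through a nilpotent section. -/

namespace Cfsg.Agent.Helper25

open scoped commutatorElement

open Cfsg

/-- In a group `H` with `H/M` nilpotent, a subgroup `X` with `M ≤ X ≤ H` and `[X, H] M = X` is `M`. -/
theorem le_of_commutator_sup_eq {L : Type*} [Group L] (M H X : Subgroup L) (hMH : M ≤ H)
    (hXH : X ≤ H) [(M.subgroupOf H).Normal] (hnil : Group.IsNilpotent (↥H ⧸ M.subgroupOf H))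
    (hX : ⁅X, H⁆ ⊔ M = X) : X ≤ M := by
  obtain ⟨n, hn⟩ := Subgroup.nilpotent_iff_lowerCentralSeries.mp hnil
  set π := QuotientGroup.mk' (M.subgroupOf H) with hπ
  have key : ∀ i : ℕ, ∀ x (hx : x ∈ X),
      π ⟨x, hXH hx⟩ ∈ Subgroup.lowerCentralSeries (⊤ : Subgroup (↥H ⧸ M.subgroupOf H)) i := by
    intro i
    induction i with
    | zero => intro x hx; simp
    | succ i ih =>
      set Z : Subgroup L :=
        ((Subgroup.lowerCentralSeries (⊤ : Subgroup (↥H ⧸ M.subgroupOf H)) (i + 1)).comap π).map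
          H.subtype with hZ
      have hXZ : X ≤ Z := by
        rw [← hX]
        apply sup_le
        · rw [Subgroup.commutator_le]
          intro x hx h hh
          rw [hZ, Subgroup.mem_map]
          refine ⟨⁅(⟨x, hXH hx⟩ : H), (⟨h, hh⟩ : H)⁆, ?_, rfl⟩
          rw [Subgroup.mem_comap, map_commutatorElement, Subgroup.lowerCentralSeries_succ]
          exact Subgroup.commutator_mem_commutator (ih x hx) (Subgroup.mem_top _)
        · intro m hm
          rw [hZ, Subgroup.mem_map]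
          refine ⟨⟨m, hMH hm⟩, ?_, rfl⟩
          rw [Subgroup.mem_comap]
          have : π ⟨m, hMH hm⟩ = 1 := by
            rw [hπ, QuotientGroup.mk'_apply, QuotientGroup.eq_one_iff]
            exact Subgroup.mem_subgroupOf.mpr hm
          rw [this]
          exact Subgroup.one_mem _
      intro x hx
      obtain ⟨y, hy, hyx⟩ := Subgroup.mem_map.mp (hXZ hx)
      have : y = ⟨x, hXH hx⟩ := Subtype.ext hyx
      rw [← this]
      exact hy
  intro x hx
  have h1 := key n x hx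
  rw [hn, Subgroup.mem_bot, hπ, QuotientGroup.mk'_apply, QuotientGroup.eq_one_iff] at h1
  exact Subgroup.mem_subgroupOf.mp h1

/-- The arithmetic behind (6.3). -/
theorem coh_nilpotent_arith (l k h : ℕ) (hk : 1 ≤ k) (hh : 4 * l ^ 2 + 2 ≤ h) :
    4 * (k * l) ^ 2 * h < (h * k - 1) ^ 2 := by
  have h1 : 1 ≤ h * k := Nat.mul_pos (by omega) hk
  zify [h1]
  have hk' : (1 : ℤ) ≤ k := by exact_mod_cast hk
  have hh' : (4 : ℤ) * l ^ 2 + 2 ≤ h := by exact_mod_cast hh
  have e1 : (0 : ℤ) ≤ (k : ℤ) * ((h : ℤ) - 4 * l ^ 2) - 2 := by nlinarith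
  have e2 : (0 : ℤ) ≤ (h : ℤ) * k := by positivity
  nlinarith [mul_nonneg e2 e1]

section main
variable {L : Type*} [Group L] [Fintype L] {G : Type*} [Group G] [Fintype G]

theorem coh_nilpotent (K : Subgroup L) [K.Normal] (hsolv : Group.IsSolvable K)
    (τ : (L → ℂ) → (G → ℂ)) (R : (L → ℂ) → Finset (G → ℂ))
    (hS : IsCoherenceSystem (inducedIrrAbove K ⊥) τ R) (M H₁ H : Subgroup L) [M.Normal]
    [H₁.Normal] [H.Normal] (hMH₁ : M ≤ H₁) (hH₁H : H₁ ≤ H) (hHK : H ≤ K)
    [(M.subgroupOf H).Normal] (hnil : Group.IsNilpotent (↥H ⧸ M.subgroupOf H))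
    (hcoh : IsCoherent (inducedIrrAbove K H₁) {1}ᶜ τ)
    (hbig : 4 * K.index ^ 2 + 1 < H₁.relIndex H) :
    IsCoherent (inducedIrrAbove K M) {1}ᶜ τ := by
  classical
  have hH₁ltH : H₁ < H := by
    refine lt_of_le_of_ne hH₁H ?_
    intro h
    rw [h, Subgroup.relIndex_self] at hbig
    omega
  have hH₁K : H₁ < K := lt_of_lt_of_le hH₁ltH hHK
  set 𝒞 : Set (Subgroup L) := {X | X.Normal ∧ M ≤ X ∧ X ≤ H₁ ∧
    IsCoherent (inducedIrrAbove K X) {1}ᶜ τ} with h𝒞
  have hne : 𝒞.Nonempty := ⟨H₁, inferInstance, hMH₁, le_refl _, hcoh⟩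
  obtain ⟨X, hX𝒞, hXmin⟩ := WellFounded.has_min (wellFounded_lt (α := Subgroup L)) 𝒞 hne
  obtain ⟨hXn, hMX, hXH₁, hXcoh⟩ := hX𝒞
  have := hXn
  set X' : Subgroup L := ⁅X, H⁆ ⊔ M with hX'
  have hX'X : X' ≤ X := sup_le (Subgroup.commutator_le_left X H) hMX
  have hXH : X ≤ H := hXH₁.trans hH₁H
  have hXK : X < K := lt_of_le_of_lt hXH₁ hH₁K
  have hX'K : X' < K := lt_of_le_of_lt hX'X hXK
  -- indices
  have e1 : H.index = H.relIndex K * K.index := (Subgroup.relIndex_mul_index hHK).symm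
  have e2 : X.relIndex K = X.relIndex H * H.relIndex K :=
    (Subgroup.relIndex_mul_relIndex X H K hXH hHK).symm
  have e3 : H₁.relIndex H ≤ X.relIndex H := by
    apply Nat.le_of_dvd
    · exact Nat.pos_of_ne_zero (by
        rw [Subgroup.relIndex]
        exact Subgroup.index_ne_zero_of_finite)
    · exact Subgroup.relIndex_dvd_of_le_left H hXH₁
  have e4 : 1 ≤ H.relIndex K := Nat.pos_of_ne_zero (by
    rw [Subgroup.relIndex]
    exact Subgroup.index_ne_zero_of_finite)
  have hlt : 4 * H.index ^ 2 * X.relIndex H < (X.relIndex K - 1) ^ 2 := by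
    rw [e1, e2]
    exact coh_nilpotent_arith K.index (H.relIndex K) (X.relIndex H) e4 (by omega)
  have hcoh' : IsCoherent (inducedIrrAbove K X') {1}ᶜ τ :=
    coh_bound K hsolv τ R hS X X' H X hXK hX'K hX'X hXH hHK
      (fun x hx y hy => Subgroup.mem_sup_left (Subgroup.commutator_mem_commutator hx hy))
      hXcoh hlt
  have hX'𝒞 : X' ∈ 𝒞 := ⟨inferInstance, le_sup_right, hX'X.trans hXH₁, hcoh'⟩
  have hXX' : X' = X := by
    by_contra hne'
    exact hXmin X' hX'𝒞 (lt_of_le_of_ne hX'X hne')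
  have hXM : X ≤ M := le_of_commutator_sup_eq M H X (hMH₁.trans hH₁H) hXH hnil hXX'
  have : X = M := le_antisymm hXM hMX
  rw [← this]
  exact hXcoh

end main

end Cfsg.Agent.Helper25
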