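import Mathlib

set_option autoImplicit false

/-! Group-theoretic facts for Peterfalvi (6.4): Frobenius counting `e ∣ |N:H₁| - 1`, nilpotent
quotients with small abelianisation, and normal subgroups between `H₁` and `K`. -/

namespace Cfsg.Agent.Helper25

open scoped commutatorElement


theorem card_conj_eq_index {Q : Type*} [Group Q] [Fintype Q] [DecidableEq Q] (y : Q) :
    (Finset.univ.filter (fun q : Q => IsConj q y)).card = (Subgroup.centralizer {y}).index := by
  have h1 := MulAction.index_stabilizer (ConjAct Q) y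
  rw [ConjAct.stabilizer_eq_centralizer] at h1
  have h2 : (Subgroup.centralizer {ConjAct.toConjAct y} : Subgroup (ConjAct Q)).index =
      (Subgroup.centralizer {y} : Subgroup Q).index := rfl
  rw [← h2, h1]
  have h3 : MulAction.orbit (ConjAct Q) y =
      ((Finset.univ.filter (fun q : Q => IsConj q y) : Finset Q) : Set Q) := by
    ext q
    simp [ConjAct.mem_orbit_conjAct]
  rw [h3, Set.ncard_coe_finset]

theorem index_dvd_card_sub_one {Q : Type*} [Group Q] [Finite Q] (Nb Kb : Subgroup Q) [Nb.Normal]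
    (hcent : ∀ y ∈ Nb, y ≠ 1 → Subgroup.centralizer {y} = Kb) : Kb.index ∣ Nat.card Nb - 1 := by
  classical
  have := Fintype.ofFinite Q
  set Y : Finset Q := Finset.univ.filter (fun q => q ∈ Nb ∧ q ≠ 1) with hY
  have hYc : Y.card = Nat.card Nb - 1 := by
    have h1 : Nat.card Nb = (Finset.univ.filter (fun q : Q => q ∈ Nb)).card := by
      rw [Nat.card_eq_fintype_card, Fintype.card_subtype]
    have h2 : Y = (Finset.univ.filter (fun q : Q => q ∈ Nb)).erase 1 := by
      ext q
      simp [hY, and_comm]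
    rw [h2, Finset.card_erase_of_mem (by simp), h1]
  rw [← hYc, Finset.card_eq_sum_card_image ConjClasses.mk Y]
  apply Finset.dvd_sum
  intro c hc
  obtain ⟨y₀, hy₀, rfl⟩ := Finset.mem_image.mp hc
  have hy₀' : y₀ ∈ Nb ∧ y₀ ≠ 1 := by simpa [hY] using hy₀
  have h3 : Y.filter (fun q => ConjClasses.mk q = ConjClasses.mk y₀) =
      Finset.univ.filter (fun q : Q => IsConj q y₀) := by
    ext q
    simp only [hY, Finset.mem_filter, Finset.mem_univ, true_and, ConjClasses.mk_eq_mk_iff_isConj]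
    constructor
    · exact fun h => h.2
    · intro h
      refine ⟨?_, h⟩
      obtain ⟨g, hg⟩ := isConj_iff.mp h.symm
      rw [← hg]
      refine ⟨(inferInstance : Nb.Normal).conj_mem _ hy₀'.1 g, ?_⟩
      intro h1
      apply hy₀'.2
      have : y₀ = g⁻¹ * (g * y₀ * g⁻¹) * g := by group
      rw [this, h1]
      group
  rw [h3, card_conj_eq_index, hcent y₀ hy₀'.1 hy₀'.2]


theorem frobenius_index_dvd {L : Type*} [Group L] [Finite L] (K H₁ N : Subgroup L)
    [H₁.Normal] [N.Normal] (hKH : ⁅K, K⁆ ≤ H₁) (hH₁K : H₁ ≤ K) (hNK : N ≤ K)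
    (hfrob : ∀ k ∈ K, k ∉ H₁ → ∀ x : L, x * k * x⁻¹ * k⁻¹ ∈ H₁ → x ∈ K) :
    K.index ∣ H₁.relIndex N - 1 := by
  set π := QuotientGroup.mk' H₁ with hπ
  have hsurj : Function.Surjective π := QuotientGroup.mk'_surjective H₁
  have hker : π.ker = H₁ := QuotientGroup.ker_mk' H₁
  have hNb : (N.map π).Normal := Subgroup.Normal.map inferInstance π hsurj
  have h1 : Nat.card (N.map π) = H₁.relIndex N := by
    rw [← Subgroup.relIndex_ker N π, hker]
  have h2 : (K.map π).index = K.index := Subgroup.index_map_eq K hsurj (by rw [hker]; exact hH₁K)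
  have hπ1 : ∀ x : L, π x = 1 ↔ x ∈ H₁ := by
    intro x
    rw [hπ, QuotientGroup.mk'_apply, QuotientGroup.eq_one_iff]
  rw [← h1, ← h2]
  apply index_dvd_card_sub_one
  intro y hy hy1
  obtain ⟨n, hnN, rfl⟩ := Subgroup.mem_map.mp hy
  have hnH : n ∉ H₁ := fun h => hy1 ((hπ1 n).mpr h)
  ext q
  obtain ⟨x, rfl⟩ := hsurj q
  rw [Subgroup.mem_centralizer_iff]
  constructor
  · intro h
    have h3 := h (π n) (Set.mem_singleton _)
    have h4 : π (x * n * x⁻¹ * n⁻¹) = 1 := by
      simp only [map_mul, map_inv]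
      rw [← h3]
      group
    exact Subgroup.mem_map_of_mem π (hfrob n (hNK hnN) hnH x ((hπ1 _).mp h4))
  · intro h y' hy'
    rw [Set.mem_singleton_iff] at hy'
    subst hy'
    obtain ⟨k, hkK, hkx⟩ := Subgroup.mem_map.mp h
    rw [← hkx]
    have h3 : π (⁅n, k⁆) = 1 :=
      (hπ1 _).mpr (hKH (Subgroup.commutator_mem_commutator (hNK hnN) hkK))
    rw [commutatorElement_def] at h3
    simp only [map_mul, map_inv] at h3
    have : π n * π k = (π n * π k * (π n)⁻¹ * (π k)⁻¹) * (π k * π n) := by group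
    rw [this, h3, one_mul]




section abstract
variable {Γ : Type*} [Group Γ]

/-- In a group with `Γ/M` nilpotent, a subgroup `X` with `[X, Γ] M = X` lies in `M`. -/
theorem le_of_commutator_top_sup_eq (M X : Subgroup Γ) [M.Normal]
    (hnil : Group.IsNilpotent (Γ ⧸ M)) (hX : ⁅X, (⊤ : Subgroup Γ)⁆ ⊔ M = X) : X ≤ M := by
  obtain ⟨n, hn⟩ := Subgroup.nilpotent_iff_lowerCentralSeries.mp hnil
  set π := QuotientGroup.mk' M with hπ
  have key : ∀ i : ℕ, X ≤ (Subgroup.lowerCentralSeries (⊤ : Subgroup (Γ ⧸ M)) i).comap π := by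
    intro i
    induction i with
    | zero => intro x _; simp
    | succ i ih =>
      rw [← hX]
      apply sup_le
      · rw [Subgroup.commutator_le]
        intro x hx h _
        rw [Subgroup.mem_comap, map_commutatorElement, Subgroup.lowerCentralSeries_succ]
        exact Subgroup.commutator_mem_commutator (ih hx) (Subgroup.mem_top _)
      · intro m hm
        rw [Subgroup.mem_comap]
        have : π m = 1 := by
          rw [hπ, QuotientGroup.mk'_apply, QuotientGroup.eq_one_iff]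
          exact hm
        rw [this]
        exact Subgroup.one_mem _
  intro x hx
  have h1 := key n hx
  rw [hn, Subgroup.mem_comap, Subgroup.mem_bot, hπ, QuotientGroup.mk'_apply,
    QuotientGroup.eq_one_iff] at h1
  exact h1

/-- A nilpotent quotient whose abelianisation is a `p`-group is a `p`-group. -/
theorem index_eq_prime_pow_of_nilpotent [Finite Γ] (M : Subgroup Γ) [M.Normal]
    (hnil : Group.IsNilpotent (Γ ⧸ M)) (p n : ℕ) (hp : p.Prime)
    (hidx : (commutator Γ ⊔ M).index = p ^ n) : ∃ m : ℕ, M.index = p ^ m := by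
  have : Fact p.Prime := ⟨hp⟩
  set π := QuotientGroup.mk' M with hπ
  have hsurj : Function.Surjective π := QuotientGroup.mk'_surjective M
  obtain ⟨P⟩ : Nonempty (Sylow p (Γ ⧸ M)) := inferInstance
  have hPn : (P : Subgroup (Γ ⧸ M)).Normal := inferInstance
  set X : Subgroup Γ := (P : Subgroup (Γ ⧸ M)).comap π with hXdef
  have hXn : X.Normal := Subgroup.Normal.comap hPn π
  have hMX : M ≤ X := by
    intro m hm
    rw [hXdef, Subgroup.mem_comap]
    have : π m = 1 := by
      rw [hπ, QuotientGroup.mk'_apply, QuotientGroup.eq_one_iff]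
      exact hm
    rw [this]
    exact Subgroup.one_mem _
  have hXidx : X.index = (P : Subgroup (Γ ⧸ M)).index :=
    Subgroup.index_comap_of_surjective _ hsurj
  have hcop : ¬ p ∣ X.index := by
    rw [hXidx]
    exact P.not_dvd_index
  -- Γ/X nilpotent
  have hnilX : Group.IsNilpotent (Γ ⧸ X) := by
    have := hnil
    exact Group.nilpotent_of_surjective (QuotientGroup.map M X (MonoidHom.id Γ) hMX)
      (QuotientGroup.map_surjective_of_surjective M X (MonoidHom.id Γ)
        (fun q => by obtain ⟨x, rfl⟩ := QuotientGroup.mk_surjective q; exact ⟨x, rfl⟩) hMX)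
  -- commutator Γ ⊔ X = ⊤
  have h1 : (commutator Γ ⊔ X).index ∣ X.index := Subgroup.index_dvd_of_le le_sup_right
  have h2 : (commutator Γ ⊔ X).index ∣ p ^ n := by
    rw [← hidx]
    exact Subgroup.index_dvd_of_le (sup_le_sup_left hMX _)
  have h3 : (commutator Γ ⊔ X).index = 1 := by
    obtain ⟨j, -, hj⟩ := (Nat.dvd_prime_pow hp).mp h2
    rcases Nat.eq_zero_or_pos j with h0 | hpos
    · rw [hj, h0, pow_zero]
    · exfalso
      apply hcop
      have : p ∣ (commutator Γ ⊔ X).index := by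
        rw [hj]
        exact dvd_pow_self p hpos.ne'
      exact this.trans h1
  have h4 : commutator Γ ⊔ X = ⊤ := Subgroup.index_eq_one.mp h3
  have h5 : (⊤ : Subgroup Γ) ≤ X := by
    apply le_of_commutator_top_sup_eq X ⊤ hnilX
    rw [← commutator_def, h4]
  have h6 : (P : Subgroup (Γ ⧸ M)) = ⊤ := by
    rw [eq_top_iff]
    intro q _
    obtain ⟨x, rfl⟩ := hsurj q
    exact h5 (Subgroup.mem_top x)
  have h7 : M.index = Nat.card (P : Subgroup (Γ ⧸ M)) := by
    rw [h6, Subgroup.card_top, Subgroup.index_eq_card]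
  obtain ⟨m, hm⟩ := (IsPGroup.iff_card).mp P.isPGroup'
  exact ⟨m, by rw [h7, hm]⟩

/-- A nilpotent quotient whose abelianisation has prime order is abelian. -/
theorem commutator_le_of_nilpotent_of_prime_index (M : Subgroup Γ) [M.Normal]
    (hnil : Group.IsNilpotent (Γ ⧸ M)) (p : ℕ) (hp : p.Prime)
    (hidx : (commutator Γ ⊔ M).index = p) : commutator Γ ≤ M := by
  have : Fact p.Prime := ⟨hp⟩
  set H₁ : Subgroup Γ := commutator Γ ⊔ M with hH₁
  have hH₁n : H₁.Normal := inferInstance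
  set N : Subgroup Γ := ⁅H₁, (⊤ : Subgroup Γ)⁆ ⊔ M with hN
  have hNn : N.Normal := inferInstance
  have hNH₁ : N ≤ H₁ := sup_le (Subgroup.commutator_le_left H₁ ⊤) le_sup_right
  have hcyc : IsCyclic (Γ ⧸ H₁) := by
    apply isCyclic_of_prime_card (p := p)
    rw [← Subgroup.index_eq_card, hidx]
  set f : Γ ⧸ N →* Γ ⧸ H₁ := QuotientGroup.map N H₁ (MonoidHom.id Γ) hNH₁ with hf
  have hker : f.ker ≤ Subgroup.center (Γ ⧸ N) := by
    intro q hq
    obtain ⟨k, rfl⟩ := QuotientGroup.mk_surjective q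
    rw [MonoidHom.mem_ker, hf] at hq
    change ((QuotientGroup.mk k : Γ ⧸ H₁)) = 1 at hq
    rw [QuotientGroup.eq_one_iff] at hq
    rw [Subgroup.mem_center_iff]
    intro q'
    obtain ⟨k', rfl⟩ := QuotientGroup.mk_surjective q'
    rw [← QuotientGroup.mk_mul, ← QuotientGroup.mk_mul, QuotientGroup.eq]
    have h1 : (k' * k)⁻¹ * (k * k') = ⁅k⁻¹, k'⁻¹⁆ := by
      rw [commutatorElement_def]; group
    rw [h1]
    exact Subgroup.mem_sup_left
      (Subgroup.commutator_mem_commutator (H₁.inv_mem hq) (Subgroup.mem_top _))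
  have hcomm := isMulCommutative_iff.mp
    (MonoidHom.isMulCommutative_of_isCyclic_of_ker_le_center f hker)
  have hcN : commutator Γ ≤ N := by
    rw [commutator_def, Subgroup.commutator_le]
    intro g₁ _ g₂ _
    have h1 := hcomm (QuotientGroup.mk g₁⁻¹) (QuotientGroup.mk g₂⁻¹)
    rw [← QuotientGroup.mk_mul, ← QuotientGroup.mk_mul, eq_comm, QuotientGroup.eq] at h1
    have h2 : (g₂⁻¹ * g₁⁻¹)⁻¹ * (g₁⁻¹ * g₂⁻¹) = ⁅g₁, g₂⁆ := by
      rw [commutatorElement_def]; group
    rw [h2] at h1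
    exact h1
  have hH₁N : H₁ ≤ N := sup_le hcN le_sup_right
  have hfix : ⁅H₁, (⊤ : Subgroup Γ)⁆ ⊔ M = H₁ := le_antisymm hNH₁ hH₁N
  have := le_of_commutator_top_sup_eq M H₁ hnil hfix
  exact le_sup_left.trans this

end abstract




theorem two_mul_add_one_le {e a : ℕ} (he : Odd e) (ha : Odd a) (h1 : 1 < a) (hd : e ∣ a - 1) :
    2 * e + 1 ≤ a := by
  obtain ⟨j, hj⟩ := hd
  have hj0 : j ≠ 0 := by
    rintro rfl
    omega
  have hj1 : j ≠ 1 := by
    rintro rfl
    rw [mul_one] at hj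
    obtain ⟨u, hu⟩ := he
    obtain ⟨v, hv⟩ := ha
    omega
  have hj2 : 2 ≤ j := by omega
  have : e * 2 ≤ e * j := Nat.mul_le_mul_left e hj2
  omega

/-- If `K/H₁` is abelian and not of prime power order, some normal subgroup of `L` lies
strictly between `H₁` and `K`. -/
theorem exists_normal_between {L : Type*} [Group L] [Finite L] (K H₁ : Subgroup L) [K.Normal]
    [H₁.Normal] (hKH : ⁅K, K⁆ ≤ H₁) (hH₁K : H₁ ≤ K)
    (hnpp : ¬ ∃ p m : ℕ, p.Prime ∧ H₁.relIndex K = p ^ m) :
    ∃ N : Subgroup L, N.Normal ∧ H₁ < N ∧ N < K := by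
  set π := QuotientGroup.mk' H₁ with hπ
  have hsurj : Function.Surjective π := QuotientGroup.mk'_surjective H₁
  have hπ1 : ∀ x : L, π x = 1 ↔ x ∈ H₁ := by
    intro x
    rw [hπ, QuotientGroup.mk'_apply, QuotientGroup.eq_one_iff]
  have hKbn : (K.map π).Normal := Subgroup.Normal.map inferInstance π hsurj
  have hcard : Nat.card (K.map π) = H₁.relIndex K := by
    rw [← Subgroup.relIndex_ker K π, QuotientGroup.ker_mk']
  set a := H₁.relIndex K with ha
  have ha1 : a ≠ 1 := by
    intro h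
    exact hnpp ⟨2, 0, Nat.prime_two, by rw [h, pow_zero]⟩
  obtain ⟨p, hp, hpa⟩ := Nat.exists_prime_and_dvd ha1
  have ha0 : a ≠ 0 := by
    rw [ha, Subgroup.relIndex]
    exact Subgroup.index_ne_zero_of_finite
  obtain ⟨q, hq, hqa, hqp⟩ : ∃ q : ℕ, q.Prime ∧ q ∣ a ∧ q ≠ p := by
    by_contra hno
    push Not at hno
    exact hnpp ⟨p, a.primeFactorsList.length, hp,
      Nat.eq_prime_pow_of_unique_prime_dvd ha0 (fun {d} hd hda => hno d hd hda)⟩
  have hcomm : ∀ z ∈ K.map π, ∀ w ∈ K.map π, z * w = w * z := by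
    intro z hz w hw
    obtain ⟨k, hk, rfl⟩ := Subgroup.mem_map.mp hz
    obtain ⟨k', hk', rfl⟩ := Subgroup.mem_map.mp hw
    have h3 : π (⁅k, k'⁆) = 1 := (hπ1 _).mpr (hKH (Subgroup.commutator_mem_commutator hk hk'))
    rw [commutatorElement_def] at h3
    simp only [map_mul, map_inv] at h3
    have : π k * π k' = (π k * π k' * (π k)⁻¹ * (π k')⁻¹) * (π k' * π k) := by group
    rw [this, h3, one_mul]
  let Nb : Subgroup (L ⧸ H₁) :=
    { carrier := {z | z ∈ K.map π ∧ z ^ p = 1}
      mul_mem' := by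
        intro z w hz hw
        refine ⟨Subgroup.mul_mem _ hz.1 hw.1, ?_⟩
        rw [(show Commute z w from hcomm z hz.1 w hw.1).mul_pow, hz.2, hw.2, one_mul]
      one_mem' := ⟨Subgroup.one_mem _, one_pow _⟩
      inv_mem' := by
        intro z hz
        refine ⟨Subgroup.inv_mem _ hz.1, ?_⟩
        rw [inv_pow, hz.2, inv_one] }
  have hNbn : Nb.Normal := by
    constructor
    intro z hz g
    refine ⟨hKbn.conj_mem z hz.1 g, ?_⟩
    rw [conj_pow, hz.2, mul_one, mul_inv_cancel]
  refine ⟨Nb.comap π, Subgroup.Normal.comap hNbn π, ?_, ?_⟩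
  · -- H₁ < N
    have hle : H₁ ≤ Nb.comap π := by
      intro h hh
      rw [Subgroup.mem_comap, (hπ1 h).mpr hh]
      exact Subgroup.one_mem _
    refine lt_of_le_of_ne hle ?_
    intro heq
    have : Fact p.Prime := ⟨hp⟩
    obtain ⟨x, hx⟩ := exists_prime_orderOf_dvd_card' (G := K.map π) p (by rw [hcard]; exact hpa)
    obtain ⟨k₀, hk₀, hk₀x⟩ := Subgroup.mem_map.mp x.2
    have hmem : k₀ ∈ Nb.comap π := by
      rw [Subgroup.mem_comap]
      refine ⟨Subgroup.mem_map_of_mem π hk₀, ?_⟩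
      rw [hk₀x]
      have := pow_orderOf_eq_one x
      rw [hx] at this
      have h2 := congrArg Subtype.val this
      simpa using h2
    rw [← heq] at hmem
    have h1 : (x : L ⧸ H₁) = 1 := by rw [← hk₀x]; exact (hπ1 k₀).mpr hmem
    have h2 : x = 1 := Subtype.ext h1
    rw [h2, orderOf_one] at hx
    exact hp.one_lt.ne hx
  · -- N < K
    have hle : Nb.comap π ≤ K := by
      intro n hn
      rw [Subgroup.mem_comap] at hn
      obtain ⟨k, hk, hkn⟩ := Subgroup.mem_map.mp hn.1
      have h1 : π (k⁻¹ * n) = 1 := by rw [map_mul, map_inv, hkn, inv_mul_cancel]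
      have h2 : k⁻¹ * n ∈ K := hH₁K ((hπ1 _).mp h1)
      have : n = k * (k⁻¹ * n) := by group
      rw [this]
      exact K.mul_mem hk h2
    refine lt_of_le_of_ne hle ?_
    intro heq
    have : Fact q.Prime := ⟨hq⟩
    obtain ⟨y, hy⟩ := exists_prime_orderOf_dvd_card' (G := K.map π) q (by rw [hcard]; exact hqa)
    obtain ⟨k₁, hk₁, hk₁y⟩ := Subgroup.mem_map.mp y.2
    rw [← heq] at hk₁
    have h1 : (y : L ⧸ H₁) ^ p = 1 := by rw [← hk₁y]; exact hk₁.2
    have h2 : y ^ p = 1 := Subtype.ext (by simpa using h1)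
    have h3 : q ∣ p := by rw [← hy]; exact orderOf_dvd_of_pow_eq_one h2
    exact hqp ((Nat.prime_dvd_prime_iff_eq hq hp).mp h3)


end Cfsg.Agent.Helper25
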