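import Mathlib
import Cfsg.Prelude.Def_OddOrderChar
import Cfsg.Agent.Helper25.CohNilpotent
import Cfsg.Agent.Helper25.FrobCount
import Cfsg.Agent.Helper25.UniformCoh
import Cfsg.Agent.Helper15.ElemFacts

set_option autoImplicit false

/-! Peterfalvi (6.4): coherence of `S(M)` unless `K/H₁` is a small `p`-chief factor. -/

namespace Cfsg.Agent.Helper25

open scoped commutatorElement

open Cfsg

section
variable {L : Type*} [Group L] [Fintype L] {G : Type*} [Group G] [Fintype G]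

/-- A conjugation-closed nonempty subset of a coherence system is a coherence system. -/
theorem isCoherenceSystem_subset {S S' : Set (L → ℂ)} {τ : (L → ℂ) → (G → ℂ)}
    {R : (L → ℂ) → Finset (G → ℂ)} (hS : IsCoherenceSystem S τ R) (hsub : S' ⊆ S)
    (hne : S'.Nonempty) (hconj : ∀ χ ∈ S', conjFun χ ∈ S') : IsCoherenceSystem S' τ R where
  nonempty := hne
  isCharacter := fun χ hχ => hS.isCharacter χ (hsub hχ)
  conj_mem := hconj
  conj_ne := fun χ hχ => hS.conj_ne χ (hsub hχ)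
  isometry := isLinearIsometryOn_mono (zspanOn_mono hsub) hS.isometry
  map_one := fun α hα => hS.map_one α (zspanOn_mono hsub hα)
  orthogonal := fun χ hχ φ hφ => hS.orthogonal χ (hsub hχ) φ (hsub hφ)
  orthonormal := fun χ hχ => hS.orthonormal χ (hsub hχ)
  virtual := fun χ hχ => hS.virtual χ (hsub hχ)
  sum_eq := fun χ hχ => hS.sum_eq χ (hsub hχ)
  disjoint := fun χ hχ φ hφ => hS.disjoint χ (hsub hχ) φ (hsub hφ)

/-- An irreducible character of `K` trivial on `X ⊇ [K, K]` is linear. -/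
theorem apply_one_eq_one_of_commutator_le (K X : Subgroup L) [X.Normal] (hKX : ⁅K, K⁆ ≤ X)
    (θ : K → ℂ) (hθ : IsIrrCharacter K θ) (hker : ∀ a : K, (a : L) ∈ X → θ a = θ 1) :
    θ 1 = 1 := by
  set N : Subgroup K := X.subgroupOf K with hN
  have hNn : N.Normal := inferInstance
  obtain ⟨ψ, hψ, hψθ⟩ := Helper80.IsIrrCharacter.exists_descend hθ (QuotientGroup.mk' N)
    (QuotientGroup.mk'_surjective N) (fun g hg => by
      rw [QuotientGroup.mk'_apply, QuotientGroup.eq_one_iff] at hg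
      exact hker g (Subgroup.mem_subgroupOf.mp hg))
  have hcomm : ∀ a b : K ⧸ N, a * b = b * a := by
    intro a b
    obtain ⟨k₁, rfl⟩ := QuotientGroup.mk_surjective a
    obtain ⟨k₂, rfl⟩ := QuotientGroup.mk_surjective b
    rw [← QuotientGroup.mk_mul, ← QuotientGroup.mk_mul, eq_comm, QuotientGroup.eq]
    have h1 : (k₂ * k₁)⁻¹ * (k₁ * k₂) = ⁅k₁⁻¹, k₂⁻¹⁆ := by
      rw [commutatorElement_def]; group
    rw [h1, hN, Subgroup.mem_subgroupOf]
    apply hKX
    have : ((⁅k₁⁻¹, k₂⁻¹⁆ : K) : L) = ⁅((k₁⁻¹ : K) : L), ((k₂⁻¹ : K) : L)⁆ := by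
      simp [commutatorElement_def]
    rw [this]
    exact Subgroup.commutator_mem_commutator (k₁⁻¹).2 (k₂⁻¹).2
  have h1 := Helper15.irr_one_eq_one_of_comm hcomm hψ
  rw [hψθ 1, map_one, h1]

/-- `S(H₁)` is coherent when `K/H₁` is abelian: all its members have degree `[L:K]`. -/
theorem coh_of_commutator_le (K : Subgroup L) [K.Normal] (hsolv : Group.IsSolvable K)
    (τ : (L → ℂ) → (G → ℂ)) (R : (L → ℂ) → Finset (G → ℂ))
    (hS : IsCoherenceSystem (inducedIrrAbove K ⊥) τ R) (H₁ : Subgroup L) [H₁.Normal]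
    (hKH : ⁅K, K⁆ ≤ H₁) (hH₁K : H₁ < K) : IsCoherent (inducedIrrAbove K H₁) {1}ᶜ τ := by
  obtain ⟨χ₀, hχ₀, -⟩ := exists_mem_inducedIrrAbove_linear K H₁ hsolv hH₁K
  have hsys : IsCoherenceSystem (inducedIrrAbove K H₁) τ R :=
    isCoherenceSystem_subset hS (inducedIrrAbove_subset_bot K H₁) ⟨χ₀, hχ₀⟩
      (fun χ hχ => inducedIrrAbove_conj_mem K hχ)
  apply coh_uniform hsys
  have hdeg : ∀ φ ∈ inducedIrrAbove K H₁, φ 1 = (K.index : ℂ) := by
    rintro φ ⟨θ, hθ, -, hker, rfl⟩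
    rw [Helper15.indFun_apply_one, apply_one_eq_one_of_commutator_le K H₁ hKH θ hθ hker, mul_one]
  intro φ hφ ψ hψ
  rw [hdeg φ hφ, hdeg ψ hψ]

end

theorem commutator_subgroupOf_self {L : Type*} [Group L] (K : Subgroup L) :
    (⁅K, K⁆).subgroupOf K = commutator K := by
  rw [← Subgroup.map_subtype_commutator K, Subgroup.subgroupOf,
    Subgroup.comap_map_eq_self_of_injective K.subtype_injective]

theorem sup_subgroupOf_self {L : Type*} [Group L] (K M : Subgroup L) [K.Normal] (hMK : M ≤ K) :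
    (⁅K, K⁆ ⊔ M).subgroupOf K = commutator K ⊔ M.subgroupOf K := by
  rw [Subgroup.subgroupOf_sup (Subgroup.commutator_le_left K K) hMK, commutator_subgroupOf_self]

theorem four_sq_lt_of_dvd_pred {e p : ℕ} (he : Odd e) (hp : Odd p) (hp1 : 1 < p)
    (hd : e ∣ p - 1) : 4 * e ^ 2 + 1 < p ^ 2 := by
  obtain ⟨j, hj⟩ := hd
  have hj0 : j ≠ 0 := by
    rintro rfl
    omega
  have hj1 : j ≠ 1 := by
    rintro rfl
    rw [mul_one] at hj
    obtain ⟨u, hu⟩ := he
    obtain ⟨v, hv⟩ := hp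
    omega
  have hj2 : 2 ≤ j := by omega
  have h1 : e * 2 ≤ e * j := Nat.mul_le_mul_left e hj2
  have h2 : 2 * e + 1 ≤ p := by omega
  nlinarith

theorem dvd_pred_of_dvd_mul_pred {e a b : ℕ} (ha : 1 ≤ a) (hb : 1 ≤ b) (hda : e ∣ a - 1)
    (hdab : e ∣ a * b - 1) : e ∣ b - 1 := by
  obtain ⟨a', rfl⟩ : ∃ a', a = a' + 1 := ⟨a - 1, by omega⟩
  obtain ⟨b', rfl⟩ : ∃ b', b = b' + 1 := ⟨b - 1, by omega⟩
  simp only [Nat.add_sub_cancel] at hda hdab ⊢
  have h1 : (a' + 1) * (b' + 1) - 1 = a' * (b' + 1) + b' := by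
    have : (a' + 1) * (b' + 1) = a' * (b' + 1) + b' + 1 := by ring
    omega
  rw [h1] at hdab
  exact (Nat.dvd_add_right (Dvd.dvd.mul_right hda (b' + 1))).mp hdab

section
variable {L : Type*} [Group L] [Fintype L] {G : Type*} [Group G] [Fintype G]

theorem coh_chief (K : Subgroup L) [K.Normal] (hsolv : Group.IsSolvable K)
    (τ : (L → ℂ) → (G → ℂ)) (R : (L → ℂ) → Finset (G → ℂ))
    (hS : IsCoherenceSystem (inducedIrrAbove K ⊥) τ R) (hodd : Odd (Nat.card L))
    (M : Subgroup L) [M.Normal] (hMK : M ≤ K) [(M.subgroupOf K).Normal]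
    (hnil : Group.IsNilpotent (↥K ⧸ M.subgroupOf K)) (H₁ : Subgroup L)
    (hH₁ : H₁ = ⁅K, K⁆ ⊔ M) (hH₁K : H₁ < K)
    (hfrob : ∀ k ∈ K, k ∉ H₁ → ∀ x : L, x * k * x⁻¹ * k⁻¹ ∈ H₁ → x ∈ K)
    (hgood : (∃ N : Subgroup L, N.Normal ∧ H₁ < N ∧ N < K) ∨
      4 * K.index ^ 2 + 1 < H₁.relIndex K ∨
      (¬ ∃ p m : ℕ, p.Prime ∧ M.relIndex K = p ^ m) ∨ ⁅K, K⁆ ≤ M ∨
      (∃ p m : ℕ, p.Prime ∧ M.relIndex K = p ^ m ∧ K.index ∣ p - 1)) :
    IsCoherent (inducedIrrAbove K M) {1}ᶜ τ := by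
  have hH₁n : H₁.Normal := by rw [hH₁]; infer_instance
  have hKH : ⁅K, K⁆ ≤ H₁ := by rw [hH₁]; exact le_sup_left
  have hMH₁ : M ≤ H₁ := by rw [hH₁]; exact le_sup_right
  have hcohH₁ : IsCoherent (inducedIrrAbove K H₁) {1}ᶜ τ :=
    coh_of_commutator_le K hsolv τ R hS H₁ hKH hH₁K
  have hsub : H₁.subgroupOf K = commutator K ⊔ M.subgroupOf K := by
    rw [hH₁]; exact sup_subgroupOf_self K M hMK
  have hoddK : Odd K.index := Odd.of_dvd_nat hodd (Subgroup.index_dvd_card K)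
  have hodd_rel : ∀ A B : Subgroup L, Odd (A.relIndex B) := fun A B =>
    Odd.of_dvd_nat hodd ((Subgroup.relIndex_dvd_card A B).trans (Subgroup.card_subgroup_dvd_card B))
  have hne1 : H₁.relIndex K ≠ 1 := by
    intro h
    exact (not_le_of_gt hH₁K) (Subgroup.relIndex_eq_one.mp h)
  -- case (b)
  have hb : 4 * K.index ^ 2 + 1 < H₁.relIndex K → IsCoherent (inducedIrrAbove K M) {1}ᶜ τ :=
    fun h => coh_nilpotent K hsolv τ R hS M H₁ K hMH₁ hH₁K.le le_rfl hnil hcohH₁ h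
  -- case (a)
  have ha : (∃ N : Subgroup L, N.Normal ∧ H₁ < N ∧ N < K) →
      IsCoherent (inducedIrrAbove K M) {1}ᶜ τ := by
    rintro ⟨N, hNn, hH₁N, hNK⟩
    apply hb
    set e := K.index with he
    set a := H₁.relIndex N with ha
    set b := N.relIndex K with hb'
    have hab : a * b = H₁.relIndex K := Subgroup.relIndex_mul_relIndex H₁ N K hH₁N.le hNK.le
    have hda : e ∣ a - 1 := frobenius_index_dvd K H₁ N hKH hH₁K.le hNK.le hfrob
    have hdab : e ∣ a * b - 1 := by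
      rw [hab]
      exact frobenius_index_dvd K H₁ K hKH hH₁K.le le_rfl hfrob
    have ha1 : 1 < a := by
      have h0 : a ≠ 0 := by
        rw [ha, Subgroup.relIndex]; exact Subgroup.index_ne_zero_of_finite
      have h1 : a ≠ 1 := fun h => (not_le_of_gt hH₁N) (Subgroup.relIndex_eq_one.mp h)
      omega
    have hb1 : 1 < b := by
      have h0 : b ≠ 0 := by
        rw [hb', Subgroup.relIndex]; exact Subgroup.index_ne_zero_of_finite
      have h1 : b ≠ 1 := fun h => (not_le_of_gt hNK) (Subgroup.relIndex_eq_one.mp h)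
      omega
    have hdb : e ∣ b - 1 := dvd_pred_of_dvd_mul_pred ha1.le hb1.le hda hdab
    have h2a := two_mul_add_one_le hoddK (hodd_rel H₁ N) ha1 hda
    have h2b := two_mul_add_one_le hoddK (hodd_rel N K) hb1 hdb
    have he1 : 1 ≤ e := Nat.pos_of_ne_zero Subgroup.index_ne_zero_of_finite
    rw [← hab]
    nlinarith [Nat.mul_le_mul h2a h2b]
  -- case (d)
  have hd : ⁅K, K⁆ ≤ M → IsCoherent (inducedIrrAbove K M) {1}ᶜ τ := by
    intro h
    have : H₁ = M := by rw [hH₁]; exact sup_eq_right.mpr h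
    rw [← this]
    exact hcohH₁
  rcases hgood with h | h | h | h | h
  · exact ha h
  · exact hb h
  · -- case (c)
    by_cases hpp : ∃ p n : ℕ, p.Prime ∧ H₁.relIndex K = p ^ n
    · exfalso
      obtain ⟨p, n, hp, hpn⟩ := hpp
      apply h
      have hidx : (commutator K ⊔ M.subgroupOf K).index = p ^ n := by
        rw [← hsub]; exact hpn
      obtain ⟨m, hm⟩ := index_eq_prime_pow_of_nilpotent (M.subgroupOf K) hnil p n hp hidx
      exact ⟨p, m, hp, hm⟩
    · exact ha (exists_normal_between K H₁ hKH hH₁K.le hpp)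
  · exact hd h
  · -- case (e)
    obtain ⟨p, m, hp, hpm, hdvd⟩ := h
    have h1 : H₁.relIndex K ∣ p ^ m := by
      rw [← hpm]; exact Subgroup.relIndex_dvd_of_le_left K hMH₁
    obtain ⟨n, hnm, hn⟩ := (Nat.dvd_prime_pow hp).mp h1
    have hn0 : n ≠ 0 := by
      rintro rfl
      exact hne1 (by rw [hn, pow_zero])
    rcases Nat.lt_or_ge n 2 with hlt | hge
    · have hn1 : n = 1 := by omega
      apply hd
      have hidx : (commutator K ⊔ M.subgroupOf K).index = p := by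
        rw [← hsub]
        show H₁.relIndex K = p
        rw [hn, hn1, pow_one]
      have h2 := commutator_le_of_nilpotent_of_prime_index (M.subgroupOf K) hnil p hp hidx
      rw [← commutator_subgroupOf_self] at h2
      intro x hx
      have hxK : x ∈ K := Subgroup.commutator_le_left K K hx
      have := h2 (show (⟨x, hxK⟩ : K) ∈ (⁅K, K⁆).subgroupOf K from Subgroup.mem_subgroupOf.mpr hx)
      exact Subgroup.mem_subgroupOf.mp this
    · apply hb
      have hpodd : Odd p := by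
        have : p ∣ M.relIndex K := by
          rw [hpm]; exact dvd_pow_self p (by omega)
        exact Odd.of_dvd_nat (hodd_rel M K) this
      have h3 := four_sq_lt_of_dvd_pred hoddK hpodd hp.one_lt hdvd
      rw [hn]
      calc 4 * K.index ^ 2 + 1 < p ^ 2 := h3
        _ ≤ p ^ n := Nat.pow_le_pow_right hp.pos hge

end

end Cfsg.Agent.Helper25
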