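import Cfsg.Agent.Helper2.SubSZ
import Cfsg.Agent.Helper46.SylowIn
import Cfsg.Prelude.Def_OddOrderLocal

/-!
# (R1) of board #3503 (helper32, sigma-partition route)

If `Ms` is a normal Hall subgroup of `M`, `S` a Sylow `q`-subgroup of `Ms` and `N_M(S) ≤ L`, then
`Ms` has a complement in `M` contained in `M ⊓ L` (Frattini argument + Schur–Zassenhaus).
-/

namespace Cfsg.Agent.Helper25.BGSigmaR1

variable {G : Type*} [Group G] [Finite G]

theorem exists_compl_le {q : ℕ} [Fact q.Prime] (M L Ms S : Subgroup G) (hMsM : Ms ≤ M)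
    (hn : M ≤ Subgroup.normalizer (Ms : Set G))
    (hcop : (Nat.card Ms).Coprime (Ms.relIndex M)) (hSMs : S ≤ Ms) (hSq : IsPGroup q S)
    (hSyl : ¬ q ∣ S.relIndex Ms) (hNS : M ⊓ Subgroup.normalizer (S : Set G) ≤ L) :
    ∃ E : Subgroup G, E ≤ M ⊓ L ∧ Cfsg.IsComplIn E Ms M := by
  classical
  -- `S` is a Sylow `q`-subgroup of `Ms`
  have hSyl' : Cfsg.Agent.Helper46.IsSylIn q S Ms := by
    have hS' : IsPGroup q ↥(S.subgroupOf Ms) := hSq.comap_subtype
    refine ⟨hS'.toSylow hSyl, ?_⟩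
    show (S.subgroupOf Ms).map Ms.subtype = S
    exact Subgroup.map_subgroupOf_eq_of_le hSMs
  set N : Subgroup G := M ⊓ Subgroup.normalizer (S : Set G) with hN
  have hNM : N ≤ M := inf_le_left
  -- Frattini
  have hfrat : ∀ m ∈ M, ∃ r ∈ Ms, ∃ n ∈ N, m = r * n := fun m hm =>
    hSyl'.frattini hMsM hn hm
  -- the normal Hall subgroup `K = Ms ⊓ N` of `N`
  set K : Subgroup G := Ms ⊓ N with hK
  have hKN : K ≤ N := inf_le_right
  have hKn : N ≤ Subgroup.normalizer (K : Set G) := by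
    intro n hnN
    rw [Subgroup.mem_normalizer_iff]
    intro x
    have h1 := Subgroup.mem_normalizer_iff.mp (hn (hNM hnN)) x
    constructor
    · intro hx
      have hx' := Subgroup.mem_inf.mp hx
      exact Subgroup.mem_inf.mpr ⟨h1.mp hx'.1, N.mul_mem (N.mul_mem hnN hx'.2) (N.inv_mem hnN)⟩
    · intro hx
      have hx' := Subgroup.mem_inf.mp hx
      refine Subgroup.mem_inf.mpr ⟨h1.mpr hx'.1, ?_⟩
      have := N.mul_mem (N.mul_mem (N.inv_mem hnN) hx'.2) hnN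
      simpa [mul_assoc] using this
  have hrel : K.relIndex N ∣ Ms.relIndex M := by
    rw [hK, Subgroup.inf_relIndex_right]
    haveI : (Ms.subgroupOf M).Normal := Subgroup.normal_subgroupOf_of_le_normalizer hn
    have h1 : (Ms.subgroupOf M).relIndex (N.subgroupOf M) ∣ (Ms.subgroupOf M).index :=
      Subgroup.relIndex_dvd_index_of_normal _ _
    rwa [Subgroup.relIndex_subgroupOf hNM] at h1
  have hcopK : (Nat.card K).Coprime (K.relIndex N) :=
    Nat.Coprime.coprime_dvd_left (Subgroup.card_dvd_of_le inf_le_left)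
      (Nat.Coprime.coprime_dvd_right hrel hcop)
  obtain ⟨C, hCN, hKC, hprod, -⟩ :=
    Cfsg.Agent.Helper2.exists_compl_of_coprime_relIndex K N hKN hKn hcopK
  refine ⟨C, le_inf (hCN.trans hNM) (hCN.trans hNS), hCN.trans hNM, hMsM, ?_, ?_⟩
  · rw [eq_bot_iff]
    intro x hx
    obtain ⟨hxC, hxMs⟩ := Subgroup.mem_inf.mp hx
    have hxK : x ∈ K := Subgroup.mem_inf.mpr ⟨hxMs, hCN hxC⟩
    have : x ∈ K ⊓ C := Subgroup.mem_inf.mpr ⟨hxK, hxC⟩
    rwa [hKC] at this
  · intro m hm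
    obtain ⟨r, hr, n, hnN, hrn⟩ := hfrat m⁻¹ (M.inv_mem hm)
    obtain ⟨a, ha, c, hc, hac⟩ := hprod n hnN
    refine ⟨c⁻¹, C.inv_mem hc, (r * a)⁻¹,
      Ms.inv_mem (Ms.mul_mem hr (Subgroup.mem_inf.mp ha).1), ?_⟩
    have h1 : m = (m⁻¹)⁻¹ := (inv_inv m).symm
    rw [h1, hrn, hac]
    group

end Cfsg.Agent.Helper25.BGSigmaR1
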