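import Mathlib
import Cfsg.Agent.S1470
import Cfsg.Agent.S1471

/-!
# B-G Appendix C, Lemma C.3: transfer of the `E = E⁻¹` condition to `GaloisField p q`

Piece (TRANSFER) of board post 4077 (helper47, S1472).
-/

set_option autoImplicit false

namespace Cfsg.Agent.Helper25.AppC

/-- In `GaloisField p q`, norm `1` to the prime field means `x ^ ((p^q-1)/(p-1)) = 1`. -/
theorem norm_eq_one_iff (p q : ℕ) [Fact p.Prime] [Fact q.Prime] (x : GaloisField p q) :
    Algebra.norm (ZMod p) x = 1 ↔ x ^ ((p ^ q - 1) / (p - 1)) = 1 := by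
  have h := FiniteField.algebraMap_norm_eq_pow (K := ZMod p) (K' := GaloisField p q) (x := x)
  rw [GaloisField.card p q (Fact.out : q.Prime).ne_zero, Nat.card_zmod] at h
  rw [← h]
  constructor
  · intro h1
    rw [h1, map_one]
  · intro h1
    have : algebraMap (ZMod p) (GaloisField p q) (Algebra.norm (ZMod p) x) =
        algebraMap (ZMod p) (GaloisField p q) 1 := by rw [h1, map_one]
    exact (algebraMap (ZMod p) (GaloisField p q)).injective this

/-- **(TRANSFER)**: if the set `E` of norm-one pairs of a field with `p ^ q` elements is closed under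
inversion, then `p ≤ q` (from S1470 and S1471). -/
theorem transfer_E (p q : ℕ) [Fact p.Prime] [Fact q.Prime] (hp : p ≠ 2) (hq : q ≠ 2)
    (hA : Nat.Coprime ((p ^ q - 1) / (p - 1)) (p - 1)) (F : Type*) [Field F] [Fintype F]
    (hF : Fintype.card F = p ^ q)
    (hE : ∀ a : F, a ^ ((p ^ q - 1) / (p - 1)) = 1 → (2 - a) ^ ((p ^ q - 1) / (p - 1)) = 1 →
      (2 - a⁻¹) ^ ((p ^ q - 1) / (p - 1)) = 1) : p ≤ q := by
  classical
  letI : Fintype (GaloisField p q) := Fintype.ofFinite _
  have hcard : Fintype.card F = Fintype.card (GaloisField p q) := by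
    rw [hF, Fintype.card_eq_nat_card, GaloisField.card p q (Fact.out : q.Prime).ne_zero]
  let e : F ≃+* GaloisField p q := FiniteField.ringEquivOfCardEq hcard
  refine Cfsg.Agent.S1470.result p q hp hq hA ?_ (Cfsg.Agent.S1471.result p q hp hq hA)
  intro a ha
  rw [Set.mem_ofPred_eq] at ha ⊢
  obtain ⟨ha1, ha2⟩ := ha
  rw [norm_eq_one_iff] at ha1 ha2 ⊢
  rw [norm_eq_one_iff]
  refine ⟨by rw [inv_pow, ha1, inv_one], ?_⟩
  have hb1 : (e.symm a) ^ ((p ^ q - 1) / (p - 1)) = 1 := by
    rw [← map_pow, ha1, map_one]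
  have hb2 : (2 - e.symm a) ^ ((p ^ q - 1) / (p - 1)) = 1 := by
    have : (2 : F) - e.symm a = e.symm (2 - a) := by
      rw [map_sub, map_ofNat]
    rw [this, ← map_pow, ha2, map_one]
  have h3 := hE (e.symm a) hb1 hb2
  have : (2 : GaloisField p q) - a⁻¹ = e (2 - (e.symm a)⁻¹) := by
    rw [map_sub, map_ofNat, map_inv₀, RingEquiv.apply_symm_apply]
  rw [this, ← map_pow, h3, map_one]

end Cfsg.Agent.Helper25.AppC
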