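import Mathlib

/-!
# (S3) of board #3503 (helper32, sigma-partition route): a coset fixed-point lemma

If `M = B ⊔ D` with `B` normal in `M`, `P ≤ D` a `p`-group with `p ∤ |B|`, and `Y ≤ M` of prime order
`u ∤ |B|` centralizing `P`, then `D` contains a subgroup of order `u` centralizing `P`.
-/

namespace Cfsg.Agent.Helper25.BGSigmaS3

variable {G : Type*} [Group G] [Finite G]

theorem exists_card_eq_le_of_sup_eq {M B D P Y : Subgroup G} {p u : ℕ} [Fact p.Prime]
    (hu : u.Prime) (hBM : B ≤ M) (hBn : M ≤ Subgroup.normalizer (B : Set G)) (hDM : D ≤ M)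
    (hsup : B ⊔ D = M) (hPD : P ≤ D) (hP : IsPGroup p P) (hpB : ¬ p ∣ Nat.card B)
    (huB : ¬ u ∣ Nat.card B) (hYM : Y ≤ M) (hYc : Nat.card Y = u)
    (hYP : Y ≤ Subgroup.centralizer (P : Set G)) :
    ∃ R : Subgroup G, R ≤ D ∧ Nat.card R = u ∧ R ≤ Subgroup.centralizer (P : Set G) := by
  classical
  -- a nontrivial element of `Y`
  have hY1 : Y ≠ ⊥ := by
    intro h
    rw [h, Subgroup.card_bot] at hYc
    exact hu.one_lt.ne hYc
  obtain ⟨y, hyY, hy1⟩ : ∃ y : G, y ∈ Y ∧ y ≠ 1 := by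
    obtain ⟨y, hy⟩ := (Subgroup.ne_bot_iff_exists_ne_one).mp hY1
    exact ⟨y.1, y.2, fun h1 => hy (Subtype.ext h1)⟩
  have hyord : orderOf y = u := by
    have hdvd : orderOf y ∣ u := hYc ▸ Subgroup.orderOf_dvd_natCard Y hyY
    rcases (Nat.dvd_prime hu).mp hdvd with h | h
    · exact absurd (orderOf_eq_one_iff.mp h) hy1
    · exact h
  have hyM : y ∈ M := hYM hyY
  -- conjugation by elements of `M` preserves `B`
  have hconj : ∀ m ∈ M, ∀ b ∈ B, m * b * m⁻¹ ∈ B := fun m hm b hb =>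
    ((Subgroup.mem_normalizer_iff.mp (hBn hm)) b).mp hb
  have hconj' : ∀ m ∈ M, ∀ b ∈ B, m⁻¹ * b * m ∈ B := by
    intro m hm b hb
    have := hconj m⁻¹ (M.inv_mem hm) b hb
    simpa using this
  -- `y` commutes with `P`
  have hyP : ∀ x ∈ P, x * y = y * x := fun x hx =>
    (Subgroup.mem_centralizer_iff.mp (hYP hyY) x hx)
  -- decompose `y`
  have hBnD : D ≤ Subgroup.normalizer (B : Set G) := hDM.trans hBn
  have hyBD : y ∈ ((B ⊔ D : Subgroup G) : Set G) := by
    rw [hsup]; exact hyM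
  rw [Subgroup.coe_mul_of_right_le_normalizer_left B D hBnD] at hyBD
  obtain ⟨b, hb, d0, hd0, hbd⟩ := hyBD
  have hd0T : y⁻¹ * d0 ∈ B := by
    have h1 : d0 = b⁻¹ * y := by rw [← hbd]; group
    rw [h1]
    have := hconj' y hyM b⁻¹ (B.inv_mem hb)
    simpa [mul_assoc] using this
  -- the coset `T = D ∩ yB`
  let T : Set G := {d | d ∈ D ∧ y⁻¹ * d ∈ B}
  have hTmem : ∀ x ∈ P, ∀ t ∈ T, x * t * x⁻¹ ∈ T := by
    intro x hx t ht
    have hxD : x ∈ D := hPD hx
    refine ⟨D.mul_mem (D.mul_mem hxD ht.1) (D.inv_mem hxD), ?_⟩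
    have h1 : y⁻¹ * (x * t * x⁻¹) = x * (y⁻¹ * t) * x⁻¹ := by
      have h2 : y⁻¹ * x = x * y⁻¹ := by
        have := hyP x hx
        calc y⁻¹ * x = y⁻¹ * (x * y) * y⁻¹ := by group
          _ = y⁻¹ * (y * x) * y⁻¹ := by rw [this]
          _ = x * y⁻¹ := by group
      calc y⁻¹ * (x * t * x⁻¹) = (y⁻¹ * x) * t * x⁻¹ := by group
        _ = (x * y⁻¹) * t * x⁻¹ := by rw [h2]
        _ = x * (y⁻¹ * t) * x⁻¹ := by group
    rw [h1]
    exact hconj x (hDM hxD) _ ht.2
  letI act : MulAction ↥P ↥T :=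
    { smul := fun x t => ⟨(x : G) * (t : G) * (x : G)⁻¹, hTmem x.1 x.2 t.1 t.2⟩
      one_smul := fun t => by
        apply Subtype.ext
        show ((1 : ↥P) : G) * (t : G) * ((1 : ↥P) : G)⁻¹ = t
        simp
      mul_smul := fun x x' t => by
        apply Subtype.ext
        show ((x * x' : ↥P) : G) * (t : G) * ((x * x' : ↥P) : G)⁻¹
          = (x : G) * ((x' : G) * (t : G) * (x' : G)⁻¹) * (x : G)⁻¹
        simp only [Subgroup.coe_mul, mul_inv_rev]
        group }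
  have hsmul : ∀ (x : ↥P) (t : ↥T), ((x • t : ↥T) : G) = (x : G) * (t : G) * (x : G)⁻¹ :=
    fun _ _ => rfl
  -- `|T| = |B ⊓ D|`
  have hcard : Nat.card ↥T = Nat.card ↥(B ⊓ D) := by
    refine Nat.card_congr
      { toFun := fun t => ⟨d0⁻¹ * (t : G), ?_⟩
        invFun := fun s => ⟨d0 * (s : G), ?_⟩
        left_inv := fun t => by apply Subtype.ext; simp
        right_inv := fun s => by apply Subtype.ext; simp }
    · rw [Subgroup.mem_inf]
      refine ⟨?_, D.mul_mem (D.inv_mem hd0) t.2.1⟩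
      have h1 : d0⁻¹ * (t : G) = (y⁻¹ * d0)⁻¹ * (y⁻¹ * (t : G)) := by group
      rw [h1]
      exact B.mul_mem (B.inv_mem hd0T) t.2.2
    · have hs := Subgroup.mem_inf.mp s.2
      refine ⟨D.mul_mem hd0 hs.2, ?_⟩
      have h1 : y⁻¹ * (d0 * (s : G)) = (y⁻¹ * d0) * (s : G) := by group
      rw [h1]
      exact B.mul_mem hd0T hs.1
  have hpT : ¬ p ∣ Nat.card ↥T := by
    rw [hcard]
    intro h
    exact hpB (h.trans (Subgroup.card_dvd_of_le inf_le_left))
  haveI : Finite ↥T := Subtype.finite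
  obtain ⟨t, ht⟩ := hP.nonempty_fixed_point_of_prime_not_dvd_card ↥T hpT
  -- the fixed point
  set d : G := (t : G) with hd
  have hdD : d ∈ D := t.2.1
  have hdB : y⁻¹ * d ∈ B := t.2.2
  have hdP : ∀ x ∈ P, x * d = d * x := by
    intro x hx
    have h1 := ht ⟨x, hx⟩
    have h2 : x * d * x⁻¹ = d := by
      have := congrArg (fun s : ↥T => (s : G)) h1
      simpa [hsmul] using this
    calc x * d = x * d * x⁻¹ * x := by group
      _ = d * x := by rw [h2]
  -- `u ∣ orderOf d`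
  have hpow : ∀ k : ℕ, (y ^ k)⁻¹ * d ^ k ∈ B := by
    intro k
    induction k with
    | zero => simp
    | succ k ih =>
      have h1 : (y ^ (k + 1))⁻¹ * d ^ (k + 1) = (y⁻¹ * ((y ^ k)⁻¹ * d ^ k) * y) * (y⁻¹ * d) := by
        rw [pow_succ, pow_succ]; group
      rw [h1]
      exact B.mul_mem (hconj' y hyM _ ih) hdB
  have hyn : y ^ orderOf d ∈ B := by
    have := hpow (orderOf d)
    rw [pow_orderOf_eq_one, mul_one] at this
    simpa using B.inv_mem this
  have hyn1 : y ^ orderOf d = 1 := by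
    by_contra hne
    have hmemY : y ^ orderOf d ∈ Y := Y.pow_mem hyY _
    have hdvd : orderOf (y ^ orderOf d) ∣ u := hYc ▸ Subgroup.orderOf_dvd_natCard Y hmemY
    rcases (Nat.dvd_prime hu).mp hdvd with h | h
    · exact hne (orderOf_eq_one_iff.mp h)
    · exact huB (h ▸ Subgroup.orderOf_dvd_natCard B hyn)
  have hudvd : u ∣ orderOf d := by
    rw [← hyord]
    exact orderOf_dvd_of_pow_eq_one hyn1
  have hdpos : orderOf d ≠ 0 := (orderOf_pos d).ne'
  refine ⟨Subgroup.zpowers (d ^ (orderOf d / u)), ?_, ?_, ?_⟩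
  · rw [Subgroup.zpowers_le]
    exact D.pow_mem hdD _
  · rw [Nat.card_zpowers]
    exact orderOf_pow_orderOf_div hdpos hudvd
  · rw [Subgroup.zpowers_le]
    refine Subgroup.pow_mem _ ?_ _
    rw [Subgroup.mem_centralizer_iff]
    intro x hx
    exact hdP x hx

end Cfsg.Agent.Helper25.BGSigmaS3
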