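import Cfsg.Agent.Helper25.BRDefs
import Cfsg.Agent.Helper25.NPCSimple
import Cfsg.Agent.Helper12.PermCharBasics
import Cfsg.Agent.Helper74.DegP
import Cfsg.Agent.Helper81.BRPB
import Cfsg.Agent.Helper8.BRArith
import Cfsg.Agent.Helper79.BRV
import Cfsg.Agent.Helper79.BRTT

/-!
# Brauer–Reynolds (`p ^ 3 > |G|`), helper25: the block analysis (glue (A))

`rigid_of_small`: in a simple group `G` with `|G| < p ^ 3`, `p` odd, `|P| = p`, `P` not normal,
`|Syl_p(G)| = 1 + n p` with `n ≥ 2`, the principal `p`-block is in the rigid configuration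
`Rigid p e t k P Xp Xm Y` with `t = n + 1`.  Pieces used: (PB) `Helper81.BR.principal_plus`,
(AR) `Helper8.BRArith.*`, (V) `Helper79.BR.cent_eq_of_char`, (TT) `Helper79.BR.tt_bound`.
-/

set_option autoImplicit false
set_option linter.style.haveILetI false
set_option linter.unusedSectionVars false
set_option linter.unusedVariables false

namespace Cfsg.Agent.Helper25.BRMain

open Cfsg Cfsg.Agent.Helper25.BR

universe u

set_option maxHeartbeats 4000000 in
open scoped commutatorElement in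
theorem rigid_of_small {G : Type u} [Group G] [Fintype G] [IsSimpleGroup G] {p : ℕ}
    [Fact p.Prime] (hp2 : p ≠ 2) (P : Sylow p G) (hP : Nat.card P = p)
    (hPn : ¬ (P : Subgroup G).Normal) (hbig : Nat.card G < p ^ 3) (n : ℕ) (hn : 2 ≤ n)
    (hsyl : Nat.card (Sylow p G) = 1 + n * p) :
    ∃ (e t k : ℕ) (Xp Xm Y : Finset (IrrCharacter G)), Rigid p e t k P Xp Xm Y ∧ t = n + 1 := by
  classical
  have hp : p.Prime := Fact.out
  have hp3 : 3 ≤ p := by have := hp.two_le; omega
  obtain ⟨M, hM⟩ := Helper74.exists_isPModular p hp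
  have hMp : M.IsPrime := hM.2.1.isPrime
  obtain ⟨X, Y, hXY, hdisj, hcX, hcY, εX, ε, hX, hε, hdegY, hYeq, hrel, hplus⟩ :=
    Helper81.BR.principal_plus M P hM hP _ rfl
  have hperf : commutator G = ⊤ := NPCSimple.commutator_eq_top_of_simple _ hPn
  have hidx : (Subgroup.normalizer ((P : Subgroup G) : Set G)).index = 1 + n * p := by
    have h1 := P.card_eq_index_normalizer
    rw [hsyl] at h1
    exact h1.symm
  have hCN : Subgroup.centralizer ((P : Subgroup G) : Set G) ≤
      Subgroup.normalizer ((P : Subgroup G) : Set G) := Subgroup.centralizer_le_normalizer _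
  have hKidx := Subgroup.relIndex_mul_index hCN
  have hPC : (P : Subgroup G) ≤ Subgroup.centralizer ((P : Subgroup G) : Set G) :=
    Helper82.DefOne.le_cen P hP
  have hG := (Subgroup.centralizer ((P : Subgroup G) : Set G)).index_mul_card
  have hedvd : (Subgroup.centralizer ((P : Subgroup G) : Set G)).relIndex
      (Subgroup.normalizer ((P : Subgroup G) : Set G)) ∣ p - 1 := by
    have h1 := Helper82.DefOne.relIndex_cen_nor_dvd P hP
    rw [Helper82.DefOne.nor_eq_normalizer P hP] at h1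
    exact h1
  -- the order of the centralizer is `p * v`
  obtain ⟨v, hv⟩ : p ∣ Nat.card (Subgroup.centralizer ((P : Subgroup G) : Set G)) := by
    have := Subgroup.card_dvd_of_le hPC
    rwa [hP] at this
  generalize he : (Subgroup.centralizer ((P : Subgroup G) : Set G)).relIndex
      (Subgroup.normalizer ((P : Subgroup G) : Set G)) = e at *
  have he1 : 1 ≤ e := by
    rcases Nat.eq_zero_or_pos e with h | h
    · rw [h, zero_dvd_iff] at hedvd; omega
    · exact h
  have hcardG : Nat.card G = e * (1 + n * p) * (p * v) := by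
    rw [← hG, ← hKidx, hidx, hv]
  have hv1 : 1 ≤ v := by
    rcases Nat.eq_zero_or_pos v with h | h
    · rw [h, mul_zero, mul_zero] at hcardG
      have := Nat.card_pos (α := G)
      omega
    · exact h
  have hsmall : e * v * (1 + n * p) < p ^ 2 := by
    have h1 : p * (e * v * (1 + n * p)) < p * p ^ 2 := by
      calc p * (e * v * (1 + n * p)) = e * (1 + n * p) * (p * v) := by ring
        _ = Nat.card G := hcardG.symm
        _ < p ^ 3 := hbig
        _ = p * p ^ 2 := by ring
    exact Nat.lt_of_mul_lt_mul_left h1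
  -- a generator of `P`
  obtain ⟨x₀, hx₀, hx₀p⟩ := Helper48.DefOneGR.exists_gen P hP
  have hx₀1 : x₀ ≠ 1 := by
    intro h
    rw [h, orderOf_one] at hx₀p
    omega
  have hcent := NPCSimple.centralizer_singleton_eq P hP x₀ hx₀ hx₀1
  have hone_reg : ¬ p ∣ orderOf (1 : G) := by rw [orderOf_one]; exact hp.not_dvd_one
  have hvalu : ∀ χ ∈ X, ∀ u : G, u ∈ (P : Subgroup G) → u ≠ 1 → (χ : G → ℂ) u = (εX χ : ℂ) := by
    intro χ hχ u hu hu1
    have h1 := (hX χ hχ).2.2 u hu hu1 1 (one_mem _) hone_reg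
    rwa [mul_one] at h1
  -- degrees of the members of `X` divide `e * (1 + n p)`
  have hdvd : ∀ χ ∈ X, charDegree (χ : G → ℂ) ∣ e * (1 + n * p) := by
    intro χ hχ
    have hint := Helper78.isIntegral_centralChar χ.2 x₀
    unfold centralChar at hint
    rw [hcent, ← hKidx, hidx, hvalu χ hχ x₀ hx₀ hx₀1, Helper79.irr_one χ] at hint
    have hd0 : charDegree (χ : G → ℂ) ≠ 0 := (Helper79.irr_charDegree_pos χ).ne'
    have h2 : (((((e * (1 + n * p) : ℕ) : ℤ) * εX χ : ℤ) : ℂ)) /
        ((charDegree (χ : G → ℂ) : ℕ) : ℂ) =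
        ((e * (1 + n * p) : ℕ) : ℂ) * (εX χ : ℂ) / ((charDegree (χ : G → ℂ) : ℕ) : ℂ) := by
      push_cast
      ring
    rw [← h2] at hint
    have h3 := NPCSimple.int_dvd_of_isIntegral_div' hd0 hint
    have h4 : ((charDegree (χ : G → ℂ) : ℕ) : ℤ) ∣ ((e * (1 + n * p) : ℕ) : ℤ) := by
      rcases (hX χ hχ).1 with h | h
      · rw [h, mul_one] at h3; exact h3
      · rw [h, mul_neg, mul_one, dvd_neg] at h3; exact h3
    exact_mod_cast h4
  -- the degrees of the non-principal members of `X`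
  have hkey : ∀ χ ∈ X, χ ≠ Helper79.principalIrr G →
      (εX χ = 1 ∧ charDegree (χ : G → ℂ) = 1 + n * p) ∨
        (εX χ = -1 ∧ charDegree (χ : G → ℂ) = p - 1 ∧ (n + 1) * e = p - 1) := by
    intro χ hχ hne
    have hdne : charDegree (χ : G → ℂ) ≠ 1 := by
      intro h1
      apply hne
      apply Helper20.D8.eq_principal_of_degree_one hperf χ
      rw [Helper79.irr_one χ, h1]
      simp
    exact Helper8.BRArith.arith_X p e v n _ (εX χ) hp hp2 hedvd hv1 hn hsmall (hX χ hχ).1 (hdvd χ hχ) hdne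
      (hX χ hχ).2.1
  -- `t` and `n ≤ t`
  obtain ⟨t, ht⟩ := hedvd
  have hte : e * t = p - 1 := ht.symm
  have htdiv : (p - 1) / e = t := by
    rw [ht]; exact Nat.mul_div_cancel_left t he1
  rw [htdiv] at hcY
  have hnt : n ≤ t := by
    have h1 : e * n * p < p * p := by
      have h2 : e * n * p ≤ e * v * (1 + n * p) := by
        calc e * n * p = e * 1 * (n * p) := by ring
          _ ≤ e * v * (1 + n * p) := by
            apply Nat.mul_le_mul (Nat.mul_le_mul_left e hv1)
            omega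
      calc e * n * p ≤ e * v * (1 + n * p) := h2
        _ < p ^ 2 := hsmall
        _ = p * p := by ring
    have h3 : e * n < p := Nat.lt_of_mul_lt_mul_right h1
    have h4 : e * n ≤ e * t := by omega
    exact Nat.le_of_mul_le_mul_left h4 he1
  have ht2 : 2 ≤ t := le_trans hn hnt
  have hprB : Helper79.principalIrr G ∈ principalBlock M G :=
    Helper78.principalIrr_mem_principalBlock M hMp G
  have hpr1 : ((Helper79.principalIrr G : IrrCharacter G) : G → ℂ) 1 = 1 := rfl
  have hprdeg : charDegree ((Helper79.principalIrr G : IrrCharacter G) : G → ℂ) = 1 := by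
    have := Helper79.irr_one (Helper79.principalIrr G)
    rw [hpr1] at this
    exact_mod_cast this.symm
  have hXfin : X.Finite := Set.toFinite X
  have hYfin : Y.Finite := Set.toFinite Y
  have hXcard : hXfin.toFinset.card = e := by
    rw [← hcX, ← Set.ncard_eq_toFinset_card _ hXfin]
    exact (Nat.card_coe_set_eq _).symm
  have hYcard : hYfin.toFinset.card = t := by
    rw [← hcY, ← Set.ncard_eq_toFinset_card _ hYfin]
    exact (Nat.card_coe_set_eq _).symm
  -- the principal character lies in `X`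
  have hprX : Helper79.principalIrr G ∈ X := by
    rw [hXY] at hprB
    rcases hprB with h | h
    · exact h
    · exfalso
      have hsub : hYfin.toFinset ⊆ {Helper79.principalIrr G} := by
        intro θ hθ
        rw [Finset.mem_singleton]
        have hθY : θ ∈ Y := hYfin.mem_toFinset.mp hθ
        apply Helper20.D8.eq_principal_of_degree_one hperf θ
        rw [hYeq θ hθY _ h 1 hone_reg]
        exact hpr1
      have := Finset.card_le_card hsub
      rw [hYcard, Finset.card_singleton] at this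
      omega
  have hεpr : εX (Helper79.principalIrr G) = 1 := by
    rcases (hX _ hprX).1 with h | h
    · exact h
    · exfalso
      have h1 := (hX _ hprX).2.1
      rw [h, hprdeg] at h1
      obtain ⟨c, hc⟩ := h1.dvd
      have h2 : (-1 : ℤ) - ((1 : ℕ) : ℤ) = p * c := hc
      have h3 : (p : ℤ) * (-c) = 2 := by push_cast at h2; linarith
      have h4 : (0 : ℤ) < -c := by
        by_contra hneg
        push Not at hneg
        have : (p : ℤ) * (-c) ≤ 0 := mul_nonpos_of_nonneg_of_nonpos (by positivity) hneg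
        omega
      have h5 : (p : ℤ) ≤ p * (-c) := by nlinarith
      omega
  -- the three parts of `X`
  set Xf : Finset (IrrCharacter G) := hXfin.toFinset with hXf
  set Yf : Finset (IrrCharacter G) := hYfin.toFinset with hYf
  set Xp : Finset (IrrCharacter G) :=
    (Xf.erase (Helper79.principalIrr G)).filter (fun χ => εX χ = 1) with hXp
  set Xm : Finset (IrrCharacter G) :=
    (Xf.erase (Helper79.principalIrr G)).filter (fun χ => εX χ = -1) with hXm
  have hprXf : Helper79.principalIrr G ∈ Xf := hXfin.mem_toFinset.mpr hprX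
  have hmemXp : ∀ χ, χ ∈ Xp ↔ χ ∈ X ∧ χ ≠ Helper79.principalIrr G ∧ εX χ = 1 := by
    intro χ
    rw [hXp, Finset.mem_filter, Finset.mem_erase, hXf, Set.Finite.mem_toFinset]
    tauto
  have hmemXm : ∀ χ, χ ∈ Xm ↔ χ ∈ X ∧ χ ≠ Helper79.principalIrr G ∧ εX χ = -1 := by
    intro χ
    rw [hXm, Finset.mem_filter, Finset.mem_erase, hXf, Set.Finite.mem_toFinset]
    tauto
  have hmemYf : ∀ χ, χ ∈ Yf ↔ χ ∈ Y := fun χ => hYfin.mem_toFinset
  have hdisj_pm : Disjoint Xp Xm := by
    rw [Finset.disjoint_left]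
    intro χ h1 h2
    have h3 := ((hmemXp χ).mp h1).2.2
    have h4 := ((hmemXm χ).mp h2).2.2
    omega
  have hsplit : Xf.erase (Helper79.principalIrr G) = Xp ∪ Xm := by
    ext χ
    rw [Finset.mem_union, hmemXp, hmemXm, Finset.mem_erase, hXf, Set.Finite.mem_toFinset]
    constructor
    · rintro ⟨h1, h2⟩
      rcases (hX χ h2).1 with h | h
      · exact Or.inl ⟨h2, h1, h⟩
      · exact Or.inr ⟨h2, h1, h⟩
    · rintro (⟨h1, h2, -⟩ | ⟨h1, h2, -⟩) <;> exact ⟨h2, h1⟩
  have hcount : 1 + Xp.card + Xm.card = e := by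
    have h1 := Finset.card_erase_of_mem hprXf
    rw [hsplit, Finset.card_union_of_disjoint hdisj_pm, hXcard] at h1
    omega
  have hdegXp : ∀ χ ∈ Xp, charDegree (χ : G → ℂ) = 1 + n * p := by
    intro χ hχ
    obtain ⟨h1, h2, h3⟩ := (hmemXp χ).mp hχ
    rcases hkey χ h1 h2 with h | h
    · exact h.2
    · omega
  have hdegXm : ∀ χ ∈ Xm, charDegree (χ : G → ℂ) = p - 1 ∧ (n + 1) * e = p - 1 := by
    intro χ hχ
    obtain ⟨h1, h2, h3⟩ := (hmemXm χ).mp hχ
    rcases hkey χ h1 h2 with h | h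
    · omega
    · exact h.2
  -- the sum over `X` as an integer
  have hsumX : ∀ g : G, ∑ᶠ χ ∈ X, (εX χ : ℂ) * (χ : G → ℂ) g =
      1 + ∑ χ ∈ Xp, (χ : G → ℂ) g - ∑ χ ∈ Xm, (χ : G → ℂ) g := by
    intro g
    rw [finsum_mem_eq_finite_toFinset_sum _ hXfin, ← hXf, ← Finset.add_sum_erase _ _ hprXf,
      hεpr, hsplit, Finset.sum_union hdisj_pm]
    have h1 : ∑ χ ∈ Xp, (εX χ : ℂ) * (χ : G → ℂ) g = ∑ χ ∈ Xp, (χ : G → ℂ) g := by
      refine Finset.sum_congr rfl (fun χ hχ => ?_)
      rw [((hmemXp χ).mp hχ).2.2]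
      simp
    have h2 : ∑ χ ∈ Xm, (εX χ : ℂ) * (χ : G → ℂ) g = -∑ χ ∈ Xm, (χ : G → ℂ) g := by
      rw [← Finset.sum_neg_distrib]
      refine Finset.sum_congr rfl (fun χ hχ => ?_)
      rw [((hmemXm χ).mp hχ).2.2]
      simp
    rw [h1, h2]
    have h3 : ((Helper79.principalIrr G : IrrCharacter G) : G → ℂ) g = 1 := rfl
    rw [h3]
    push_cast
    ring
  -- a member of `Y`
  have hYne : Yf.Nonempty := by
    rw [← Finset.card_pos, hYcard]
    omega
  obtain ⟨θ, hθ'⟩ := hYne
  have hθ : θ ∈ Y := (hmemYf θ).mp hθ'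
  have hrelZ : ε * ((charDegree (θ : G → ℂ) : ℕ) : ℤ) =
      1 + (Xp.card : ℤ) * ((1 + n * p : ℕ) : ℤ) - (Xm.card : ℤ) * ((p - 1 : ℕ) : ℤ) := by
    have h1 := hrel θ hθ 1 hone_reg
    rw [hsumX 1, Helper79.irr_one θ] at h1
    have h2 : ∑ χ ∈ Xp, (χ : G → ℂ) 1 = (Xp.card : ℂ) * ((1 + n * p : ℕ) : ℂ) := by
      rw [Finset.sum_congr rfl (fun χ hχ => by rw [Helper79.irr_one χ, hdegXp χ hχ]),
        Finset.sum_const, nsmul_eq_mul]
    have h3 : ∑ χ ∈ Xm, (χ : G → ℂ) 1 = (Xm.card : ℂ) * ((p - 1 : ℕ) : ℂ) := by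
      rw [Finset.sum_congr rfl (fun χ hχ => by rw [Helper79.irr_one χ, (hdegXm χ hχ).1]),
        Finset.sum_const, nsmul_eq_mul]
    rw [h2, h3] at h1
    exact_mod_cast h1
  have hfpos : 0 < charDegree (θ : G → ℂ) := Helper79.irr_charDegree_pos θ
  have hθne : θ ≠ Helper79.principalIrr G := by
    intro h
    rw [h] at hθ
    exact Set.disjoint_left.mp hdisj hprX hθ
  have hfne1 : charDegree (θ : G → ℂ) ≠ 1 := by
    intro h1
    apply hθne
    apply Helper20.D8.eq_principal_of_degree_one hperf θ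
    rw [Helper79.irr_one θ, h1]
    simp
  have hfdvd : charDegree (θ : G → ℂ) ∣ p * (e * v * (1 + n * p)) := by
    have h1 := Helper74.charDegree_dvd_card θ
    rw [hcardG] at h1
    have h2 : e * (1 + n * p) * (p * v) = p * (e * v * (1 + n * p)) := by ring
    rwa [h2] at h1
  -- `X` has a member of sign `-1`
  have hXmne : Xm.Nonempty := by
    by_contra hemp
    rw [Finset.not_nonempty_iff_eq_empty] at hemp
    rw [hemp, Finset.card_empty] at hcount hrelZ
    have hkp : Xp.card = e - 1 := by omega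
    rw [hkp] at hrelZ
    have hε1 : ε = 1 := by
      rcases hε with h | h
      · exact h
      · exfalso
        rw [h] at hrelZ
        have h2 : (0 : ℤ) ≤ ((e - 1 : ℕ) : ℤ) * ((1 + n * p : ℕ) : ℤ) := by positivity
        have h3 : (0 : ℤ) < ((charDegree (θ : G → ℂ) : ℕ) : ℤ) := by exact_mod_cast hfpos
        push_cast at hrelZ h2
        linarith
    rw [hε1] at hrelZ
    have hf : charDegree (θ : G → ℂ) = 1 + (e - 1) * (1 + n * p) := by
      have : ((charDegree (θ : G → ℂ) : ℕ) : ℤ) = ((1 + (e - 1) * (1 + n * p) : ℕ) : ℤ) := by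
        push_cast at hrelZ ⊢
        linarith
      exact_mod_cast this
    have he2 : 2 ≤ e := by
      by_contra hlt2
      have he' : e = 1 := by omega
      rw [he'] at hf
      simp at hf
      exact hfne1 hf
    exact Helper8.BRArith.arith_Y0 p e v n _ hp he2 ⟨t, hte.symm⟩ (by omega) hv1 hsmall hf hfdvd
  obtain ⟨χm, hχm⟩ := hXmne
  obtain ⟨hχmX, hχmne, hχmε⟩ := (hmemXm χm).mp hχm
  obtain ⟨hχmdeg, hne1⟩ := hdegXm χm hχm
  -- `t = n + 1`
  have htn : t = n + 1 := by
    have h1 : (n + 1) * e = t * e := by rw [hne1, ← hte]; ring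
    exact (Nat.eq_of_mul_eq_mul_right he1 h1).symm
  have ht3 : 3 ≤ t := by omega
  -- `C_G(P) = P`
  have hcentP : Subgroup.centralizer ((P : Subgroup G) : Set G) = (P : Subgroup G) := by
    apply Helper79.BR.cent_eq_of_char P hP χm
    · rw [Helper79.irr_one χm, hχmdeg]
    · intro x hx hx1 y hy hyr
      have h1 := (hX χm hχmX).2.2 x hx hx1 y hy hyr
      rw [h1, hχmε]
      simp
  have hv' : v = 1 := by
    rw [hcentP, hP] at hv
    have : p * 1 = p * v := by rw [mul_one]; exact hv
    exact (Nat.eq_of_mul_eq_mul_left hp.pos this).symm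
  subst hv'
  -- `p = e t + 1`, `1 + n p = t (p - e)`
  have hpet : p = e * t + 1 := by omega
  have hpe : p - e = e * n + 1 := by
    rw [hpet, htn]
    have : e * (n + 1) + 1 = (e * n + 1) + e := by ring
    rw [this, Nat.add_sub_cancel]
  have hs : 1 + n * p = t * (p - e) := by
    rw [hpe, hpet, htn]
    ring
  have hcardG' : Nat.card G = p * (e * (t * (p - e))) := by
    rw [hcardG, hs]; ring
  have helt : e < p := by
    rw [hpet]
    have : e * 1 ≤ e * t := Nat.mul_le_mul_left e (by omega)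
    omega
  -- the degree of `θ`
  have hfmod := hdegY θ hθ
  have hfcop : Nat.Coprime (charDegree (θ : G → ℂ)) p := by
    rw [Nat.coprime_comm, Nat.Prime.coprime_iff_not_dvd hp]
    intro hdiv
    have h1 : ((p : ℕ) : ℤ) ∣ ((charDegree (θ : G → ℂ) : ℕ) : ℤ) := by exact_mod_cast hdiv
    have h2 : (p : ℤ) ∣ ε * (e : ℤ) := by
      have := hfmod.symm.dvd
      have h3 : (p : ℤ) ∣ ((charDegree (θ : G → ℂ) : ℕ) : ℤ) - ε * (e : ℤ) := this
      have h4 := dvd_sub h1 h3
      simpa using h4
    have h5 : (p : ℤ) ∣ (e : ℤ) := by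
      rcases hε with h | h
      · rw [h, one_mul] at h2; exact h2
      · rw [h, neg_one_mul, dvd_neg] at h2; exact h2
    have h6 : p ∣ e := by exact_mod_cast h5
    have := Nat.le_of_dvd (by omega) h6
    omega
  have hfdvd' : charDegree (θ : G → ℂ) ∣ e * (t * (p - e)) := by
    have h1 : charDegree (θ : G → ℂ) ∣ p * (e * (t * (p - e))) := by
      have := hfdvd
      rw [mul_one, hs] at this
      exact this
    exact hfcop.dvd_of_dvd_mul_left h1
  have hsq := Helper79.sum_charDegree_sq (G := G)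
  have hYdeg : ∀ θ' ∈ Yf, charDegree (θ' : G → ℂ) = charDegree (θ : G → ℂ) := by
    intro θ' hθ''
    have hθ'Y : θ' ∈ Y := (hmemYf θ').mp hθ''
    have h1 := hYeq θ' hθ'Y θ hθ 1 hone_reg
    rw [Helper79.irr_one θ', Helper79.irr_one θ] at h1
    exact_mod_cast h1
  have hle : t * charDegree (θ : G → ℂ) ^ 2 ≤ p * (e * (t * (p - e))) := by
    rw [← hcardG', ← hsq, ← hYcard]
    calc Yf.card * charDegree (θ : G → ℂ) ^ 2
        = ∑ θ' ∈ Yf, charDegree (θ' : G → ℂ) ^ 2 := by
          rw [Finset.sum_congr rfl (fun θ' hθ'' => by rw [hYdeg θ' hθ'']), Finset.sum_const,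
            smul_eq_mul]
      _ ≤ ∑ χ : IrrCharacter G, charDegree (χ : G → ℂ) ^ 2 :=
          Finset.sum_le_sum_of_subset (Finset.subset_univ _)
  have hcases := Helper8.BRArith.arith_Y p e t _ ε hp hte ht3 hε hfdvd' hfmod hle
  obtain ⟨hsumYall, hnormYall, hother⟩ := hplus hcentP
  rw [hs] at hrelZ
  -- common facts
  have one_Xp : Helper79.principalIrr G ∉ Xp := fun h => ((hmemXp _).mp h).2.1 rfl
  have one_Xm : Helper79.principalIrr G ∉ Xm := fun h => ((hmemXm _).mp h).2.1 rfl
  have one_Y : Helper79.principalIrr G ∉ Yf := fun h =>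
    Set.disjoint_left.mp hdisj hprX ((hmemYf _).mp h)
  have hdisj_pY : Disjoint Xp Yf := by
    rw [Finset.disjoint_left]
    intro χ h1 h2
    exact Set.disjoint_left.mp hdisj ((hmemXp χ).mp h1).1 ((hmemYf χ).mp h2)
  have hdisj_mY : Disjoint Xm Yf := by
    rw [Finset.disjoint_left]
    intro χ h1 h2
    exact Set.disjoint_left.mp hdisj ((hmemXm χ).mp h1).1 ((hmemYf χ).mp h2)
  have valXp : ∀ χ ∈ Xp, ∀ u : G, u ∈ (P : Subgroup G) → u ≠ 1 → (χ : G → ℂ) u = 1 := by
    intro χ hχ u hu hu1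
    obtain ⟨h1, -, h3⟩ := (hmemXp χ).mp hχ
    rw [hvalu χ h1 u hu hu1, h3]
    simp
  have valXm : ∀ χ ∈ Xm, ∀ u : G, u ∈ (P : Subgroup G) → u ≠ 1 → (χ : G → ℂ) u = -1 := by
    intro χ hχ u hu hu1
    obtain ⟨h1, -, h3⟩ := (hmemXm χ).mp hχ
    rw [hvalu χ h1 u hu hu1, h3]
    simp
  have degXm : ∀ χ ∈ Xm, (χ : G → ℂ) 1 = ((p - 1 : ℕ) : ℂ) := by
    intro χ hχ
    rw [Helper79.irr_one χ, (hdegXm χ hχ).1]
  have other : ∀ ψ : IrrCharacter G, ψ ≠ Helper79.principalIrr G → ψ ∉ Xp → ψ ∉ Xm → ψ ∉ Yf →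
      ∀ u : G, u ∈ (P : Subgroup G) → u ≠ 1 → (ψ : G → ℂ) u = 0 := by
    intro ψ h1 h2 h3 h4 u hu hu1
    apply hother ψ _ (fun h => h4 ((hmemYf ψ).mpr h)) u hu hu1
    intro hψX
    have h5 : ψ ∈ Xf.erase (Helper79.principalIrr G) :=
      Finset.mem_erase.mpr ⟨h1, hXfin.mem_toFinset.mpr hψX⟩
    rw [hsplit, Finset.mem_union] at h5
    rcases h5 with h | h
    · exact h2 h
    · exact h3 h
  have hkm1 : 1 ≤ Xm.card := Finset.card_pos.mpr ⟨χm, hχm⟩
  rcases hcases with ⟨hε1, hfe⟩ | ⟨hε1, hfe⟩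
  · -- `ε = 1`: impossible
    exfalso
    rw [hε1, one_mul, hfe] at hrelZ
    obtain ⟨hkm, hek⟩ := Helper8.BRArith.arith_Kplus p e t Xp.card Xm.card hte ht3 hcount hrelZ.symm
    have hkp1 : 1 ≤ Xp.card := by
      rcases Nat.eq_zero_or_pos Xp.card with h | h
      · rw [h, mul_zero] at hkm; omega
      · exact h
    have he2 : 2 ≤ e := by
      have : t * 1 ≤ t * Xp.card := Nat.mul_le_mul_left t hkp1
      omega
    have hdegYe : ∀ θ' ∈ Yf, (θ' : G → ℂ) 1 = (e : ℂ) := by
      intro θ' hθ''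
      rw [Helper79.irr_one θ', hYdeg θ' hθ'', hfe]
    have hb := Helper79.BR.tt_bound P hP e t n hte he2 (by omega) Xp Xm Yf one_Xp one_Xm one_Y hdisj_pm
      hdisj_pY hdisj_mY
      (fun χ hχ => by rw [Helper79.irr_one χ, hdegXp χ hχ]) degXm hdegYe valXp valXm
      (fun θ' hθ'' => by
        rw [hsumYall θ' ((hmemYf θ').mp hθ''), hdegYe θ' hθ'', hε1]
        push_cast
        ring)
      other θ hθ'
      (by
        rw [hnormYall θ hθ, hdegYe θ hθ']
        ring)
    rw [← htn] at hb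
    have h1 : (t - 1) * t ≤ 1 * t := by rwa [one_mul]
    have h2 := Nat.le_of_mul_le_mul_right h1 (by omega)
    omega
  · -- `ε = -1`: the rigid configuration
    rw [hε1, hfe] at hrelZ
    have hrelZ' : (1 : ℤ) + (Xp.card : ℤ) * ((t * (p - e) : ℕ) : ℤ) -
        (Xm.card : ℤ) * ((p - 1 : ℕ) : ℤ) = -((p - e : ℕ) : ℤ) := by
      rw [← hrelZ]; ring
    obtain ⟨hkm, hek⟩ := Helper8.BRArith.arith_Kminus p e t Xp.card Xm.card hte ht3 hcount hrelZ'
    have hdegYpe : ∀ θ' ∈ Yf, (θ' : G → ℂ) 1 = ((p - e : ℕ) : ℂ) := by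
      intro θ' hθ''
      rw [Helper79.irr_one θ', hYdeg θ' hθ'', hfe]
    refine ⟨e, t, Xp.card, Xp, Xm, Yf, ?_, htn⟩
    refine
      { hp2 := hp2
        cardP := hP
        cent := hcentP
        cardN := ?_
        het := hte
        hek := hek
        ht := ht3
        cardG := ?_
        one_Xp := one_Xp
        one_Xm := one_Xm
        one_Y := one_Y
        disj_pm := hdisj_pm
        disj_pY := hdisj_pY
        disj_mY := hdisj_mY
        cardXp := rfl
        cardXm := hkm
        cardY := hYcard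
        degXp := ?_
        degXm := degXm
        degY := hdegYpe
        valXp := valXp
        valXm := valXm
        sumY := ?_
        other := other
        rel := ?_ }
    · -- `|N_G(P)| = p e`
      have h1 := (Subgroup.normalizer ((P : Subgroup G) : Set G)).index_mul_card
      rw [hidx, hcardG] at h1
      have h2 : (1 + n * p) * Nat.card (Subgroup.normalizer ((P : Subgroup G) : Set G)) =
          (1 + n * p) * (p * e) := by rw [h1]; ring
      exact Nat.eq_of_mul_eq_mul_left (by omega) h2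
    · rw [hcardG', ← hte]; ring
    · intro χ hχ
      rw [Helper79.irr_one χ, hdegXp χ hχ, hs]
    · intro θ' hθ''
      rw [hsumYall θ' ((hmemYf θ').mp hθ''), hdegYpe θ' hθ'', hε1]
      have : ((p - e : ℕ) : ℂ) = (p : ℂ) - (e : ℂ) := by
        rw [Nat.cast_sub helt.le]
      rw [this]
      push_cast
      ring
    · intro θ' hθ'' g hg
      have h1 := hrel θ' ((hmemYf θ').mp hθ'') g hg
      rw [hsumX g, hε1] at h1
      have h2 : -(θ' : G → ℂ) g = 1 + ∑ χ ∈ Xp, (χ : G → ℂ) g - ∑ χ ∈ Xm, (χ : G → ℂ) g := by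
        rw [← h1]; push_cast; ring
      rw [← h2]; ring


/-- in a simple non-cyclic group no Sylow `p`-subgroup (`p ∣ |G|`) is normal -/
theorem not_normal_of_simple {G : Type u} [Group G] [Finite G] [IsSimpleGroup G]
    (hG : ¬ IsCyclic G) (p : ℕ) [Fact p.Prime] (hdvd : p ∣ Nat.card G) (P : Sylow p G) :
    ¬ (P : Subgroup G).Normal := by
  intro hN
  rcases hN.eq_bot_or_eq_top with h | h
  · exact P.ne_bot_of_dvd_card hdvd h
  · -- `G` is a `p`-group, hence abelian, hence cyclic
    have hpg : IsPGroup p G := by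
      intro g
      have hg : g ∈ (P : Subgroup G) := by rw [h]; exact Subgroup.mem_top g
      obtain ⟨k, hk⟩ := P.isPGroup' ⟨g, hg⟩
      refine ⟨k, ?_⟩
      have := congrArg Subtype.val hk
      simpa using this
    haveI : Nontrivial G := IsSimpleGroup.toNontrivial
    have hcn := hpg.center_nontrivial
    have hct : Subgroup.center G = ⊤ := by
      rcases (inferInstance : (Subgroup.center G).Normal).eq_bot_or_eq_top with h1 | h1
      · exfalso
        rw [h1] at hcn
        exact not_nontrivial _ hcn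
      · exact h1
    have hcomm : ∀ a b : G, a * b = b * a := by
      intro a b
      have ha : b ∈ Subgroup.center G := by rw [hct]; exact Subgroup.mem_top b
      exact Subgroup.mem_center_iff.mp ha a
    apply hG
    obtain ⟨g, hg⟩ := exists_ne (1 : G)
    have hzn : (Subgroup.zpowers g).Normal := by
      refine ⟨fun x hx y => ?_⟩
      rw [hcomm y x, mul_inv_cancel_right]
      exact hx
    rcases hzn.eq_bot_or_eq_top with h2 | h2
    · exact absurd (Subgroup.zpowers_eq_bot.mp h2) hg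
    · exact ⟨⟨g, fun x => by
        have : x ∈ Subgroup.zpowers g := by rw [h2]; exact Subgroup.mem_top x
        exact this⟩⟩

end Cfsg.Agent.Helper25.BRMain
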