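import Mathlib
import Cfsg.Prelude.Def_OddOrderChar
import Cfsg.Agent.Helper74.CharBasic
import Cfsg.Agent.Helper80.Linear

set_option autoImplicit false

/-! Linear characters `W →* ℂˣ` as class functions, orthonormality, and the
"rectangle" structure of the linear characters of `W₁ ⊔ W₂`. -/

namespace Cfsg.Agent.Helper25

open Cfsg

section cc
variable {W : Type*} [Group W]

/-- The complex-valued function of a linear character. -/
def cc (ω : W →* ℂˣ) : W → ℂ := fun w => ((ω w : ℂˣ) : ℂ)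

@[simp] theorem cc_apply (ω : W →* ℂˣ) (w : W) : cc ω w = ((ω w : ℂˣ) : ℂ) := rfl

theorem cc_injective : Function.Injective (cc : (W →* ℂˣ) → W → ℂ) := by
  intro a b h
  ext w
  exact congrFun h w

theorem cc_one : cc (1 : W →* ℂˣ) = fun _ => 1 := by
  funext w; simp [cc]

theorem cc_mul (φ ψ : W →* ℂˣ) : cc (φ * ψ) = cc φ * cc ψ := by
  funext w; simp [cc]

theorem isIrrCharacter_cc (ω : W →* ℂˣ) : IsIrrCharacter W (cc ω) :=
  Helper80.isIrrCharacter_of_monoidHom ω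

theorem classInner_cc [Fintype W] (ω ω' : W →* ℂˣ) [Decidable (ω = ω')] :
    classInner (cc ω) (cc ω') = if ω = ω' then 1 else 0 := by
  classical
  have h := Helper74.irr_orthonormal (⟨cc ω, isIrrCharacter_cc ω⟩ : IrrCharacter W)
    ⟨cc ω', isIrrCharacter_cc ω'⟩
  simp only [Subtype.mk.injEq] at h
  rw [h]
  by_cases hh : ω = ω'
  · subst hh; simp
  · rw [if_neg hh, if_neg (fun h' => hh (cc_injective h'))]

end cc

section rect
variable {G : Type*} [Group G] {M : Type*} [Monoid M]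

/-- A hom on `W₁ ⊔ W₂` trivial on `W₁` and on `W₂` is trivial. -/
theorem eq_one_of_trivial_on (W₁ W₂ : Subgroup G) (ω : ↥(W₁ ⊔ W₂) →* M)
    (h₁ : ∀ w : ↥(W₁ ⊔ W₂), (w : G) ∈ W₁ → ω w = 1)
    (h₂ : ∀ w : ↥(W₁ ⊔ W₂), (w : G) ∈ W₂ → ω w = 1) : ω = 1 := by
  let K : Subgroup G := (MonoidHom.ker ω).map (W₁ ⊔ W₂).subtype
  have hK : W₁ ⊔ W₂ ≤ K := by
    refine sup_le ?_ ?_
    · intro a ha
      refine ⟨⟨a, (le_sup_left : W₁ ≤ W₁ ⊔ W₂) ha⟩, ?_, rfl⟩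
      exact MonoidHom.mem_ker.mpr (h₁ _ ha)
    · intro a ha
      refine ⟨⟨a, (le_sup_right : W₂ ≤ W₁ ⊔ W₂) ha⟩, ?_, rfl⟩
      exact MonoidHom.mem_ker.mpr (h₂ _ ha)
  ext w
  obtain ⟨w', hw', hww'⟩ := hK w.2
  have : w' = w := Subtype.ext hww'
  subst this
  simpa using MonoidHom.mem_ker.mp hw'

/-- Homs on `W₁ ⊔ W₂` agreeing on `W₁` and on `W₂` are equal (group-valued). -/
theorem eq_of_eq_on {A : Type*} [CommGroup A] (W₁ W₂ : Subgroup G) (ω ω' : ↥(W₁ ⊔ W₂) →* A)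
    (h₁ : ∀ w : ↥(W₁ ⊔ W₂), (w : G) ∈ W₁ → ω w = ω' w)
    (h₂ : ∀ w : ↥(W₁ ⊔ W₂), (w : G) ∈ W₂ → ω w = ω' w) : ω = ω' := by
  have h : ω * ω'⁻¹ = 1 := by
    apply eq_one_of_trivial_on W₁ W₂
    · intro w hw
      simp [h₁ w hw]
    · intro w hw
      simp [h₂ w hw]
  exact mul_inv_eq_one.mp h

end rect

end Cfsg.Agent.Helper25
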