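import Mathlib
import Cfsg.Prelude.Def_OddOrderChar
import Cfsg.Agent.Helper25.LinChar
import Cfsg.Agent.Helper15.IndFun

set_option autoImplicit false

/-! The cyclic TI family: extension of the induction identity to trivial characters and
the rectangle rule. -/

namespace Cfsg.Agent.Helper25

open Cfsg

variable {G : Type*} [Group G] {W₁ W₂ : Subgroup G}

/-- `(1 - φ)(1 - ψ)` as a function on `W`. -/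
def Afun (φ ψ : ↥(W₁ ⊔ W₂) →* ℂˣ) : ↥(W₁ ⊔ W₂) → ℂ :=
  fun w => 1 - (φ w : ℂ) - (ψ w : ℂ) + (φ w : ℂ) * (ψ w : ℂ)

theorem Afun_one_left (ψ : ↥(W₁ ⊔ W₂) →* ℂˣ) : Afun 1 ψ = 0 := by
  funext w; simp [Afun]

theorem Afun_one_right (φ : ↥(W₁ ⊔ W₂) →* ℂˣ) : Afun φ 1 = 0 := by
  funext w; simp [Afun]

variable [Fintype G]

/-- The induction identity for all (possibly trivial) `φ`, `ψ`. -/
theorem cti_induced_all {χ : (↥(W₁ ⊔ W₂) →* ℂˣ) → (G → ℂ)}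
    (hχ : IsCyclicTIFamily W₁ W₂ χ) (φ ψ : ↥(W₁ ⊔ W₂) →* ℂˣ)
    (hφ : ∀ w : ↥(W₁ ⊔ W₂), (w : G) ∈ W₂ → φ w = 1)
    (hψ : ∀ w : ↥(W₁ ⊔ W₂), (w : G) ∈ W₁ → ψ w = 1) :
    indFun (W₁ ⊔ W₂) (Afun φ ψ) = fun g => 1 - χ φ g - χ ψ g + χ (φ * ψ) g := by
  by_cases h1 : φ = 1
  · subst h1
    have e : (1 : ↥(W₁ ⊔ W₂) →* ℂˣ) * ψ = ψ := one_mul ψ
    rw [Afun_one_left, Helper15.indFun_zero, e, hχ.map_one]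
    funext g
    simp
  by_cases h2 : ψ = 1
  · subst h2
    have e : φ * (1 : ↥(W₁ ⊔ W₂) →* ℂˣ) = φ := mul_one φ
    rw [Afun_one_right, Helper15.indFun_zero, e, hχ.map_one]
    funext g
    simp
  exact hχ.induced_eq φ ψ h1 h2 hφ hψ

/-- `(φ - φ')(ψ - ψ')` as a function on `W`. -/
def Bfun (φ φ' ψ ψ' : ↥(W₁ ⊔ W₂) →* ℂˣ) : ↥(W₁ ⊔ W₂) → ℂ :=
  fun w => ((φ w : ℂ) - (φ' w : ℂ)) * ((ψ w : ℂ) - (ψ' w : ℂ))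

theorem Bfun_eq (φ φ' ψ ψ' : ↥(W₁ ⊔ W₂) →* ℂˣ) :
    Bfun φ φ' ψ ψ' = Afun φ ψ - Afun φ ψ' - Afun φ' ψ + Afun φ' ψ' := by
  funext w
  simp only [Bfun, Afun, Pi.add_apply, Pi.sub_apply]
  ring

theorem cti_indFun_Bfun {χ : (↥(W₁ ⊔ W₂) →* ℂˣ) → (G → ℂ)}
    (hχ : IsCyclicTIFamily W₁ W₂ χ) (φ φ' ψ ψ' : ↥(W₁ ⊔ W₂) →* ℂˣ)
    (hφ₂ : ∀ w : ↥(W₁ ⊔ W₂), (w : G) ∈ W₂ → φ w = 1 ∧ φ' w = 1)
    (hψ₁ : ∀ w : ↥(W₁ ⊔ W₂), (w : G) ∈ W₁ → ψ w = 1 ∧ ψ' w = 1) :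
    indFun (W₁ ⊔ W₂) (Bfun φ φ' ψ ψ') =
      χ (φ * ψ) - χ (φ * ψ') - χ (φ' * ψ) + χ (φ' * ψ') := by
  rw [Bfun_eq, Helper15.indFun_add, Helper15.indFun_sub, Helper15.indFun_sub,
    cti_induced_all hχ φ ψ (fun w hw => (hφ₂ w hw).1) (fun w hw => (hψ₁ w hw).1),
    cti_induced_all hχ φ ψ' (fun w hw => (hφ₂ w hw).1) (fun w hw => (hψ₁ w hw).2),
    cti_induced_all hχ φ' ψ (fun w hw => (hφ₂ w hw).2) (fun w hw => (hψ₁ w hw).1),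
    cti_induced_all hχ φ' ψ' (fun w hw => (hφ₂ w hw).2) (fun w hw => (hψ₁ w hw).2)]
  funext g
  simp only [Pi.add_apply, Pi.sub_apply]
  ring

theorem Bfun_eq_zero (φ φ' ψ ψ' : ↥(W₁ ⊔ W₂) →* ℂˣ)
    (hφ₂ : ∀ w : ↥(W₁ ⊔ W₂), (w : G) ∈ W₂ → φ w = 1 ∧ φ' w = 1)
    (hψ₁ : ∀ w : ↥(W₁ ⊔ W₂), (w : G) ∈ W₁ → ψ w = 1 ∧ ψ' w = 1)
    (w : ↥(W₁ ⊔ W₂)) (hw : (w : G) ∈ W₁ ∨ (w : G) ∈ W₂) : Bfun φ φ' ψ ψ' w = 0 := by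
  rcases hw with hw | hw
  · simp [Bfun, (hψ₁ w hw).1, (hψ₁ w hw).2]
  · simp [Bfun, (hφ₂ w hw).1, (hφ₂ w hw).2]

/-- The rectangle rule. -/
theorem cti_rectangle {χ : (↥(W₁ ⊔ W₂) →* ℂˣ) → (G → ℂ)}
    (hχ : IsCyclicTIFamily W₁ W₂ χ) (θ : G → ℂ) (hθ : IsClassFunction G θ)
    (hθV : ∀ w : ↥(W₁ ⊔ W₂), (w : G) ∉ W₁ → (w : G) ∉ W₂ → θ w = 0)
    (φ φ' ψ ψ' : ↥(W₁ ⊔ W₂) →* ℂˣ)
    (hφ₂ : ∀ w : ↥(W₁ ⊔ W₂), (w : G) ∈ W₂ → φ w = 1 ∧ φ' w = 1)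
    (hψ₁ : ∀ w : ↥(W₁ ⊔ W₂), (w : G) ∈ W₁ → ψ w = 1 ∧ ψ' w = 1) :
    classInner θ (χ (φ * ψ)) + classInner θ (χ (φ' * ψ')) =
      classInner θ (χ (φ * ψ')) + classInner θ (χ (φ' * ψ)) := by
  classical
  have h0 : classInner θ (indFun (W₁ ⊔ W₂) (Bfun φ φ' ψ ψ')) = 0 := by
    rw [Helper15.frobenius_reciprocity' _ _ _ hθ, Helper74.classInner_def]
    rw [Finset.sum_eq_zero, mul_zero]
    intro w _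
    by_cases hw : (w : G) ∈ W₁ ∨ (w : G) ∈ W₂
    · rw [Bfun_eq_zero φ φ' ψ ψ' hφ₂ hψ₁ w hw]; simp
    · rw [not_or] at hw
      rw [hθV w hw.1 hw.2]; simp
  rw [cti_indFun_Bfun hχ φ φ' ψ ψ' hφ₂ hψ₁, Helper74.classInner_add_right,
    Helper74.classInner_sub_right, Helper74.classInner_sub_right] at h0
  linear_combination h0

end Cfsg.Agent.Helper25
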