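import Mathlib
import Cfsg.Agent.Helper25.LinChar

set_option autoImplicit false

/-! Linear characters of `W₁ ⊔ W₂` trivial on one of the factors: the "rectangle" structure. -/

namespace Cfsg.Agent.Helper25

variable {G : Type*} [Group G] {W₁ W₂ : Subgroup G} {A : Type*} [CommGroup A]

/-- `ω` is trivial on (the part of `W₁ ⊔ W₂` lying in) `S`. -/
def TrivOn (S : Subgroup G) (ω : ↥(W₁ ⊔ W₂) →* A) : Prop :=
  ∀ w : ↥(W₁ ⊔ W₂), (w : G) ∈ S → ω w = 1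

theorem TrivOn.one (S : Subgroup G) : TrivOn S (1 : ↥(W₁ ⊔ W₂) →* A) := fun _ _ => rfl

theorem TrivOn.mul {S : Subgroup G} {ω ω' : ↥(W₁ ⊔ W₂) →* A} (h : TrivOn S ω) (h' : TrivOn S ω') :
    TrivOn S (ω * ω') := fun w hw => by
  rw [MonoidHom.mul_apply, h w hw, h' w hw, one_mul]

theorem TrivOn.inv {S : Subgroup G} {ω : ↥(W₁ ⊔ W₂) →* A} (h : TrivOn S ω) :
    TrivOn S ω⁻¹ := fun w hw => by
  rw [MonoidHom.inv_apply, h w hw, inv_one]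

theorem eq_one_of_trivOn {ω : ↥(W₁ ⊔ W₂) →* A} (h₁ : TrivOn W₁ ω) (h₂ : TrivOn W₂ ω) : ω = 1 :=
  eq_one_of_trivial_on W₁ W₂ ω h₁ h₂

section
variable {φ φ' ψ ψ' : ↥(W₁ ⊔ W₂) →* A}

theorem mul_apply_of_mem_left (hψ : TrivOn W₁ ψ) (w : ↥(W₁ ⊔ W₂)) (hw : (w : G) ∈ W₁) :
    (φ * ψ) w = φ w := by
  rw [MonoidHom.mul_apply, hψ w hw, mul_one]

theorem mul_apply_of_mem_right (hφ : TrivOn W₂ φ) (w : ↥(W₁ ⊔ W₂)) (hw : (w : G) ∈ W₂) :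
    (φ * ψ) w = ψ w := by
  rw [MonoidHom.mul_apply, hφ w hw, one_mul]

/-- `φψ = φ'ψ'` forces `φ = φ'` and `ψ = ψ'`. -/
theorem mul_eq_mul_iff (hφ : TrivOn W₂ φ) (hφ' : TrivOn W₂ φ') (hψ : TrivOn W₁ ψ)
    (hψ' : TrivOn W₁ ψ') : φ * ψ = φ' * ψ' ↔ φ = φ' ∧ ψ = ψ' := by
  constructor
  · intro h
    constructor
    · apply eq_of_eq_on W₁ W₂
      · intro w hw
        have := DFunLike.congr_fun h w
        rwa [mul_apply_of_mem_left hψ w hw, mul_apply_of_mem_left hψ' w hw] at this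
      · intro w hw
        rw [hφ w hw, hφ' w hw]
    · apply eq_of_eq_on W₁ W₂
      · intro w hw
        rw [hψ w hw, hψ' w hw]
      · intro w hw
        have := DFunLike.congr_fun h w
        rwa [mul_apply_of_mem_right hφ w hw, mul_apply_of_mem_right hφ' w hw] at this
  · rintro ⟨rfl, rfl⟩
    rfl

theorem mul_eq_one_iff_of_trivOn (hφ : TrivOn W₂ φ) (hψ : TrivOn W₁ ψ) :
    φ * ψ = 1 ↔ φ = 1 ∧ ψ = 1 := by
  have := mul_eq_mul_iff hφ (TrivOn.one (A := A) W₂) hψ (TrivOn.one (A := A) W₁)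
  rwa [mul_one] at this

theorem mul_eq_left_iff (hφ : TrivOn W₂ φ) (hφ' : TrivOn W₂ φ') (hψ : TrivOn W₁ ψ) :
    φ * ψ = φ' ↔ φ = φ' ∧ ψ = 1 := by
  have := mul_eq_mul_iff hφ hφ' hψ (TrivOn.one (A := A) W₁)
  rwa [mul_one] at this

theorem mul_eq_right_iff (hφ : TrivOn W₂ φ) (hψ : TrivOn W₁ ψ) (hψ' : TrivOn W₁ ψ') :
    φ * ψ = ψ' ↔ φ = 1 ∧ ψ = ψ' := by
  have := mul_eq_mul_iff hφ (TrivOn.one (A := A) W₂) hψ hψ'
  rwa [one_mul] at this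

theorem left_eq_right_iff (hφ : TrivOn W₂ φ) (hψ : TrivOn W₁ ψ) :
    φ = ψ ↔ φ = 1 ∧ ψ = 1 := by
  have := mul_eq_mul_iff hφ (TrivOn.one (A := A) W₂) (TrivOn.one (A := A) W₁) hψ
  rw [one_mul, mul_one] at this
  rw [this, eq_comm (a := (1 : ↥(W₁ ⊔ W₂) →* A))]

end

end Cfsg.Agent.Helper25
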