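import Mathlib
import Cfsg.Prelude.Def_OddOrderLocal

set_option autoImplicit false

/-! Consequences of `Cfsg.IsSelfNormalizingCyclic`: the set `V = W \ (W₁ ∪ W₂)` is a TI-set with
normaliser `W`. -/

namespace Cfsg.Agent.Helper25

open Cfsg

variable {G : Type*} [Group G] {W₁ W₂ : Subgroup G}

theorem snc_commute (hW : IsSelfNormalizingCyclic W₁ W₂) {a b : G} (ha : a ∈ W₁ ⊔ W₂)
    (hb : b ∈ W₁ ⊔ W₂) : a * b = b * a := by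
  obtain ⟨_, _, _, _, hcyc, _⟩ := hW
  have : IsCyclic ↥(W₁ ⊔ W₂) := hcyc
  exact setLike_mul_comm (s := W₁ ⊔ W₂) ha hb

/-- Centraliser of an element of `V` is `W`. -/
theorem snc_mem_of_commute (hW : IsSelfNormalizingCyclic W₁ W₂) {w g : G} (hw : w ∈ W₁ ⊔ W₂)
    (hw1 : w ∉ W₁) (hw2 : w ∉ W₂) (hg : g * w * g⁻¹ = w) : g ∈ W₁ ⊔ W₂ := by
  obtain ⟨_, _, _, _, _, hN⟩ := hW
  have h := hN {w} (by
    intro x hx
    rw [Set.mem_singleton_iff] at hx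
    subst hx
    exact ⟨hw, fun h => h.elim hw1 hw2⟩) ⟨w, rfl⟩
  rw [← h, Subgroup.mem_set_normalizer_iff]
  intro n
  simp only [Set.mem_singleton_iff]
  constructor
  · rintro rfl; exact hg
  · intro hn
    have : n = g⁻¹ * w * g := by rw [← hn]; group
    have e : g⁻¹ * w * g = g⁻¹ * (g * w * g⁻¹) * g := by rw [hg]
    rw [this, e]; group

theorem snc_conj_mem (hW : IsSelfNormalizingCyclic W₁ W₂) {w x : G}
    (hw : w ∈ W₁ ⊔ W₂) (hw1 : w ∉ W₁) (hw2 : w ∉ W₂)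
    (hy : x⁻¹ * w * x ∈ W₁ ⊔ W₂) {u : G} (hu : u ∈ W₁ ⊔ W₂) : x * u * x⁻¹ ∈ W₁ ⊔ W₂ := by
  apply snc_mem_of_commute hW hw hw1 hw2
  have h := snc_commute hW hu hy
  have e : x * u * x⁻¹ * w * (x * u * x⁻¹)⁻¹ = x * (u * (x⁻¹ * w * x)) * u⁻¹ * x⁻¹ := by group
  rw [e, h]; group

/-- Conjugation by an element normalising the cyclic group `W` in both directions is a power map,
hence preserves every subgroup of `W`. -/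
theorem conj_mem_of_cyclic {W S : Subgroup G} (hcyc : IsCyclic ↥W) (hS : S ≤ W) {x : G}
    (hx : ∀ u ∈ W, x * u * x⁻¹ ∈ W) {a : G} (ha : a ∈ S) : x * a * x⁻¹ ∈ S := by
  obtain ⟨g, hg⟩ := hcyc.exists_generator
  obtain ⟨k, hk⟩ := Subgroup.mem_zpowers_iff.mp (hg ⟨x * g * x⁻¹, hx g g.2⟩)
  obtain ⟨m, hm⟩ := Subgroup.mem_zpowers_iff.mp (hg ⟨a, hS ha⟩)
  have hk' : x * (g : G) * x⁻¹ = (g : G) ^ k := by
    have := congrArg Subtype.val hk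
    simpa using this.symm
  have hm' : a = (g : G) ^ m := by
    have := congrArg Subtype.val hm
    simpa using this.symm
  have : x * a * x⁻¹ = a ^ k := by
    rw [hm', ← zpow_mul, mul_comm, zpow_mul, ← hk']
    simp
  rw [this]
  exact S.zpow_mem ha k

/-- The TI property: if `w` and `x⁻¹ w x` both lie in `V`, then `x ∈ W`. -/
theorem snc_mem_of_conj_mem (hW : IsSelfNormalizingCyclic W₁ W₂) {w x : G}
    (hw : w ∈ W₁ ⊔ W₂) (hw1 : w ∉ W₁) (hw2 : w ∉ W₂)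
    (hy : x⁻¹ * w * x ∈ W₁ ⊔ W₂) (hy1 : x⁻¹ * w * x ∉ W₁) (hy2 : x⁻¹ * w * x ∉ W₂) :
    x ∈ W₁ ⊔ W₂ := by
  have hxW : ∀ u ∈ W₁ ⊔ W₂, x * u * x⁻¹ ∈ W₁ ⊔ W₂ := fun u hu =>
    snc_conj_mem hW hw hw1 hw2 hy hu
  have hxW' : ∀ u ∈ W₁ ⊔ W₂, x⁻¹ * u * x⁻¹⁻¹ ∈ W₁ ⊔ W₂ := fun u hu => by
    have hw' : x⁻¹⁻¹ * (x⁻¹ * w * x) * x⁻¹ ∈ W₁ ⊔ W₂ := by
      have : x⁻¹⁻¹ * (x⁻¹ * w * x) * x⁻¹ = w := by group
      rw [this]; exact hw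
    exact snc_conj_mem hW hy hy1 hy2 hw' hu
  obtain ⟨_, _, _, _, hcyc, hN⟩ := id hW
  have hV := hN ((↑(W₁ ⊔ W₂) : Set G) \ (↑W₁ ∪ ↑W₂)) subset_rfl
    ⟨w, hw, fun h => h.elim hw1 hw2⟩
  rw [← hV, Subgroup.mem_set_normalizer_iff]
  have key : ∀ (z : G), (∀ u ∈ W₁ ⊔ W₂, z * u * z⁻¹ ∈ W₁ ⊔ W₂) →
      (∀ u ∈ W₁ ⊔ W₂, z⁻¹ * u * z⁻¹⁻¹ ∈ W₁ ⊔ W₂) →
      ∀ n ∈ ((↑(W₁ ⊔ W₂) : Set G) \ (↑W₁ ∪ ↑W₂)),
        z * n * z⁻¹ ∈ ((↑(W₁ ⊔ W₂) : Set G) \ (↑W₁ ∪ ↑W₂)) := by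
    intro z hz hz' n hn
    refine ⟨hz n hn.1, ?_⟩
    rintro (h | h)
    · apply hn.2
      left
      have := conj_mem_of_cyclic hcyc (le_sup_left : W₁ ≤ W₁ ⊔ W₂) hz' h
      have e : z⁻¹ * (z * n * z⁻¹) * z⁻¹⁻¹ = n := by group
      rwa [e] at this
    · apply hn.2
      right
      have := conj_mem_of_cyclic hcyc (le_sup_right : W₂ ≤ W₁ ⊔ W₂) hz' h
      have e : z⁻¹ * (z * n * z⁻¹) * z⁻¹⁻¹ = n := by group
      rwa [e] at this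
  intro n
  constructor
  · exact key x hxW hxW' n
  · intro h
    have := key x⁻¹ hxW' (by simpa using hxW) _ h
    have e : x⁻¹ * (x * n * x⁻¹) * x⁻¹⁻¹ = n := by group
    rwa [e] at this

end Cfsg.Agent.Helper25
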