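import Mathlib
import Cfsg.Prelude.Def_OddOrderChar
import Cfsg.Agent.Helper25.SNCyclic
import Cfsg.Agent.Helper25.Rect
import Cfsg.Agent.Helper25.CyclicTI
import Cfsg.Agent.Helper15.IndFun

set_option autoImplicit false

/-! Induction from a self-normalising cyclic TI subgroup: values on `V` and inner products. -/

namespace Cfsg.Agent.Helper25

open Cfsg
open scoped ComplexConjugate

variable {G : Type*} [Group G] [Fintype G] {W₁ W₂ : Subgroup G}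

/-- A function on `W` vanishing on `W₁ ∪ W₂` induces to a function agreeing with it on `V`. -/
theorem indFun_of_TI (hW : IsSelfNormalizingCyclic W₁ W₂) (f : ↥(W₁ ⊔ W₂) → ℂ)
    (hf : ∀ w : ↥(W₁ ⊔ W₂), ((w : G) ∈ W₁ ∨ (w : G) ∈ W₂) → f w = 0)
    (w : ↥(W₁ ⊔ W₂)) (hw1 : (w : G) ∉ W₁) (hw2 : (w : G) ∉ W₂) :
    indFun (W₁ ⊔ W₂) f w = f w := by
  classical
  have : Fintype ↥(W₁ ⊔ W₂) := Fintype.ofFinite _
  rw [Helper15.indFun_apply]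
  have hterm : ∀ x : G, extendByZero (W₁ ⊔ W₂) f (x⁻¹ * (w : G) * x)
      = extendByZero (W₁ ⊔ W₂) (fun _ => f w) x := by
    intro x
    by_cases hx : x ∈ W₁ ⊔ W₂
    · rw [Helper15.extendByZero_of_mem _ _ hx]
      have hc : x⁻¹ * (w : G) * x = w := by
        rw [mul_assoc, snc_commute hW w.2 hx, ← mul_assoc, inv_mul_cancel, one_mul]
      rw [hc, Helper15.extendByZero_coe]
    · rw [Helper15.extendByZero_of_not_mem _ _ hx]
      by_cases hy : x⁻¹ * (w : G) * x ∈ W₁ ⊔ W₂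
      · rw [Helper15.extendByZero_of_mem _ _ hy]
        apply hf
        by_contra hcon
        rw [not_or] at hcon
        exact hx (snc_mem_of_conj_mem hW w.2 hw1 hw2 hy hcon.1 hcon.2)
      · rw [Helper15.extendByZero_of_not_mem _ _ hy]
  simp only [hterm]
  rw [Helper15.sum_extendByZero, Finset.sum_const, Finset.card_univ, nsmul_eq_mul,
    ← Nat.card_eq_fintype_card]
  have hne : (Nat.card ↥(W₁ ⊔ W₂) : ℂ) ≠ 0 := by
    exact_mod_cast Nat.card_pos.ne'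
  field_simp

/-- Inner products of functions induced from `W` and supported on `V`. -/
theorem classInner_indFun_of_TI [Fintype ↥(W₁ ⊔ W₂)] (hW : IsSelfNormalizingCyclic W₁ W₂)
    (f f' : ↥(W₁ ⊔ W₂) → ℂ)
    (hf : ∀ w : ↥(W₁ ⊔ W₂), ((w : G) ∈ W₁ ∨ (w : G) ∈ W₂) → f w = 0)
    (hf' : ∀ w : ↥(W₁ ⊔ W₂), ((w : G) ∈ W₁ ∨ (w : G) ∈ W₂) → f' w = 0) :
    classInner (indFun (W₁ ⊔ W₂) f) (indFun (W₁ ⊔ W₂) f') = classInner f f' := by
  rw [Helper15.frobenius_reciprocity _ _ _ (Helper15.isClassFunction_indFun _ _)]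
  rw [Helper74.classInner_def, Helper74.classInner_def]
  congr 1
  apply Finset.sum_congr rfl
  intro w _
  by_cases hw : (w : G) ∈ W₁ ∨ (w : G) ∈ W₂
  · rw [hf w hw, zero_mul, zero_mul]
  · rw [not_or] at hw
    rw [indFun_of_TI hW f' hf' w hw.1 hw.2]

theorem Afun_eq_cc (φ ψ : ↥(W₁ ⊔ W₂) →* ℂˣ) :
    Afun φ ψ = cc (1 : ↥(W₁ ⊔ W₂) →* ℂˣ) - cc φ - cc ψ + cc (φ * ψ) := by
  funext w
  simp [Afun, cc]

theorem Afun_eq_zero (φ ψ : ↥(W₁ ⊔ W₂) →* ℂˣ) (hφ : TrivOn W₂ φ) (hψ : TrivOn W₁ ψ)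
    (w : ↥(W₁ ⊔ W₂)) (hw : (w : G) ∈ W₁ ∨ (w : G) ∈ W₂) : Afun φ ψ w = 0 := by
  rcases hw with hw | hw
  · simp [Afun, hψ w hw]
  · simp [Afun, hφ w hw]

open Classical in
theorem classInner_Afun_cc [Fintype ↥(W₁ ⊔ W₂)] (φ ψ ω : ↥(W₁ ⊔ W₂) →* ℂˣ) :
    classInner (Afun φ ψ) (cc ω) = (if 1 = ω then 1 else 0) - (if φ = ω then 1 else 0)
      - (if ψ = ω then 1 else 0) + (if φ * ψ = ω then 1 else 0) := by
  rw [Afun_eq_cc, Helper74.classInner_add_left, Helper74.classInner_sub_left,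
    Helper74.classInner_sub_left, classInner_cc, classInner_cc, classInner_cc, classInner_cc]

open Classical in
theorem classInner_Afun_Afun [Fintype ↥(W₁ ⊔ W₂)] (φ φ' ψ ψ' : ↥(W₁ ⊔ W₂) →* ℂˣ)
    (hφ1 : φ ≠ 1) (hφ'1 : φ' ≠ 1) (hψ1 : ψ ≠ 1) (hψ'1 : ψ' ≠ 1)
    (hφ : TrivOn W₂ φ) (hφ' : TrivOn W₂ φ') (hψ : TrivOn W₁ ψ) (hψ' : TrivOn W₁ ψ') :
    classInner (Afun φ ψ) (Afun φ' ψ') = 1 + (if φ = φ' then 1 else 0)
      + (if ψ = ψ' then 1 else 0) + (if φ = φ' then 1 else 0) * (if ψ = ψ' then 1 else 0) := by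
  rw [Afun_eq_cc φ' ψ', Helper74.classInner_add_right, Helper74.classInner_sub_right,
    Helper74.classInner_sub_right, classInner_Afun_cc, classInner_Afun_cc, classInner_Afun_cc,
    classInner_Afun_cc]
  have e1 : ¬ ((1 : ↥(W₁ ⊔ W₂) →* ℂˣ) = φ') := fun h => hφ'1 h.symm
  have e2 : ¬ ((1 : ↥(W₁ ⊔ W₂) →* ℂˣ) = ψ') := fun h => hψ'1 h.symm
  have e3 : ¬ ((1 : ↥(W₁ ⊔ W₂) →* ℂˣ) = φ' * ψ') := fun h =>
    hφ'1 ((mul_eq_one_iff_of_trivOn hφ' hψ').mp h.symm).1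
  have e4 : ¬ (φ = 1) := hφ1
  have e5 : ¬ (φ = ψ') := fun h => hφ1 ((left_eq_right_iff hφ hψ').mp h).1
  have e6 : ¬ (φ = φ' * ψ') := fun h => hψ'1 ((mul_eq_left_iff hφ' hφ hψ').mp h.symm).2
  have e7 : ¬ (ψ = 1) := hψ1
  have e8 : ¬ (ψ = φ') := fun h => hψ1 ((left_eq_right_iff hφ' hψ).mp h.symm).2
  have e9 : ¬ (ψ = φ' * ψ') := fun h => hφ'1 ((mul_eq_right_iff hφ' hψ' hψ).mp h.symm).1
  have e10 : ¬ (φ * ψ = 1) := fun h => hφ1 ((mul_eq_one_iff_of_trivOn hφ hψ).mp h).1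
  have e11 : ¬ (φ * ψ = φ') := fun h => hψ1 ((mul_eq_left_iff hφ hφ' hψ).mp h).2
  have e12 : ¬ (φ * ψ = ψ') := fun h => hφ1 ((mul_eq_right_iff hφ hψ hψ').mp h).1
  rw [if_pos rfl, if_neg e1, if_neg e2, if_neg e3, if_neg e4, if_neg e5, if_neg e6, if_neg e7,
    if_neg e8, if_neg e9, if_neg e10, if_neg e11, if_neg e12]
  by_cases h1 : φ = φ' <;> by_cases h2 : ψ = ψ'
  · rw [if_pos h1, if_pos h2, if_pos ((mul_eq_mul_iff hφ hφ' hψ hψ').mpr ⟨h1, h2⟩)]; ring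
  · rw [if_pos h1, if_neg h2, if_neg (fun h => h2 ((mul_eq_mul_iff hφ hφ' hψ hψ').mp h).2)]; ring
  · rw [if_neg h1, if_pos h2, if_neg (fun h => h1 ((mul_eq_mul_iff hφ hφ' hψ hψ').mp h).1)]; ring
  · rw [if_neg h1, if_neg h2, if_neg (fun h => h1 ((mul_eq_mul_iff hφ hφ' hψ hψ').mp h).1)]; ring

end Cfsg.Agent.Helper25
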