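import Mathlib
import Cfsg.Agent.Helper25.CyclicTIInd
import Cfsg.Agent.Helper25.GenChar
import Cfsg.Agent.Helper15.ConjChar
import Cfsg.Agent.Helper15.Gallagher

set_option autoImplicit false

/-! The generalized characters `β = Ind (1 - φ)(1 - ψ) - 1` attached to a self-normalising cyclic
TI subgroup. -/

namespace Cfsg.Agent.Helper25

open Cfsg
open scoped ComplexConjugate

variable {G : Type*} [Group G] [Fintype G] {W₁ W₂ : Subgroup G}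

/-- `β = Ind (1 - φ)(1 - ψ) - 1`. -/
noncomputable def ctiBeta (φ ψ : ↥(W₁ ⊔ W₂) →* ℂˣ) : G → ℂ :=
  indFun (W₁ ⊔ W₂) (Afun φ ψ) - 1

theorem isGenChar_indFun_Afun (φ ψ : ↥(W₁ ⊔ W₂) →* ℂˣ) :
    IsGeneralizedCharacter G (indFun (W₁ ⊔ W₂) (Afun φ ψ)) := by
  have e : Afun φ ψ = (cc (1 : ↥(W₁ ⊔ W₂) →* ℂˣ) + cc (φ * ψ)) - (cc φ + cc ψ) := by
    rw [Afun_eq_cc]; abel
  rw [e, Helper15.indFun_sub]
  have hc : ∀ ω : ↥(W₁ ⊔ W₂) →* ℂˣ, IsCharacter ↥(W₁ ⊔ W₂) (cc ω) := fun ω =>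
    Helper74.isCharacter_of_isIrr (isIrrCharacter_cc ω)
  exact ⟨_, _, Helper15.isCharacter_indFun _ (Helper74.isCharacter_add (hc _) (hc _)),
    Helper15.isCharacter_indFun _ (Helper74.isCharacter_add (hc _) (hc _)), rfl⟩

omit [Fintype G] in
theorem isGenChar_one : IsGeneralizedCharacter G (1 : G → ℂ) :=
  isGenChar_of_isCharacter (Helper74.isCharacter_one (G := G))

theorem isGenChar_ctiBeta (φ ψ : ↥(W₁ ⊔ W₂) →* ℂˣ) :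
    IsGeneralizedCharacter G (ctiBeta (G := G) φ ψ) :=
  isGenChar_sub (isGenChar_indFun_Afun φ ψ) isGenChar_one

omit [Fintype G] in
theorem isClassFunction_one' : IsClassFunction G (1 : G → ℂ) := fun _ _ => rfl

theorem classInner_one_one : classInner (1 : G → ℂ) (1 : G → ℂ) = 1 :=
  Helper74.irr_inner_self ⟨(1 : G → ℂ), Helper15.isIrrCharacter_one' G⟩

section
variable [Fintype ↥(W₁ ⊔ W₂)]

theorem classInner_indA_one (φ ψ : ↥(W₁ ⊔ W₂) →* ℂˣ) (hφ1 : φ ≠ 1) (hψ1 : ψ ≠ 1)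
    (hφ : TrivOn W₂ φ) (hψ : TrivOn W₁ ψ) :
    classInner (indFun (W₁ ⊔ W₂) (Afun φ ψ)) (1 : G → ℂ) = 1 := by
  classical
  rw [Helper15.frobenius_reciprocity _ _ _ isClassFunction_one']
  have e : (fun h : ↥(W₁ ⊔ W₂) => (1 : G → ℂ) h) = cc (1 : ↥(W₁ ⊔ W₂) →* ℂˣ) := by
    funext h; simp [cc]
  rw [e, classInner_Afun_cc, if_pos rfl, if_neg hφ1, if_neg hψ1,
    if_neg (fun h => hφ1 ((mul_eq_one_iff_of_trivOn hφ hψ).mp h).1)]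
  ring

theorem classInner_one_indA (φ ψ : ↥(W₁ ⊔ W₂) →* ℂˣ) (hφ1 : φ ≠ 1) (hψ1 : ψ ≠ 1)
    (hφ : TrivOn W₂ φ) (hψ : TrivOn W₁ ψ) :
    classInner (1 : G → ℂ) (indFun (W₁ ⊔ W₂) (Afun φ ψ)) = 1 := by
  rw [← Helper15.classInner_conj_symm, classInner_indA_one φ ψ hφ1 hψ1 hφ hψ, map_one]

open Classical in
theorem classInner_ctiBeta (hW : IsSelfNormalizingCyclic W₁ W₂) (φ φ' ψ ψ' : ↥(W₁ ⊔ W₂) →* ℂˣ)
    (hφ1 : φ ≠ 1) (hφ'1 : φ' ≠ 1) (hψ1 : ψ ≠ 1) (hψ'1 : ψ' ≠ 1)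
    (hφ : TrivOn W₂ φ) (hφ' : TrivOn W₂ φ') (hψ : TrivOn W₁ ψ) (hψ' : TrivOn W₁ ψ') :
    classInner (ctiBeta (G := G) φ ψ) (ctiBeta φ' ψ') = (if φ = φ' then 1 else 0)
      + (if ψ = ψ' then 1 else 0) + (if φ = φ' then 1 else 0) * (if ψ = ψ' then 1 else 0) := by
  unfold ctiBeta
  rw [Helper74.classInner_sub_left, Helper74.classInner_sub_right, Helper74.classInner_sub_right,
    classInner_indFun_of_TI hW _ _ (Afun_eq_zero φ ψ hφ hψ) (Afun_eq_zero φ' ψ' hφ' hψ'),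
    classInner_Afun_Afun φ φ' ψ ψ' hφ1 hφ'1 hψ1 hψ'1 hφ hφ' hψ hψ',
    classInner_indA_one φ ψ hφ1 hψ1 hφ hψ, classInner_one_indA φ' ψ' hφ'1 hψ'1 hφ' hψ',
    classInner_one_one]
  ring

theorem classInner_ctiBeta_one (φ ψ : ↥(W₁ ⊔ W₂) →* ℂˣ) (hφ1 : φ ≠ 1) (hψ1 : ψ ≠ 1)
    (hφ : TrivOn W₂ φ) (hψ : TrivOn W₁ ψ) :
    classInner (ctiBeta (G := G) φ ψ) (1 : G → ℂ) = 0 := by
  unfold ctiBeta
  rw [Helper74.classInner_sub_left, classInner_indA_one φ ψ hφ1 hψ1 hφ hψ, classInner_one_one]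
  ring

end

theorem ctiBeta_apply_one (φ ψ : ↥(W₁ ⊔ W₂) →* ℂˣ) : ctiBeta (G := G) φ ψ 1 = -1 := by
  unfold ctiBeta
  rw [Pi.sub_apply, Helper15.indFun_apply_one]
  simp [Afun]

end Cfsg.Agent.Helper25
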