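import Mathlib
import Cfsg.Agent.Helper25.ProdSup
import Cfsg.Agent.Helper25.Rect

set_option autoImplicit false

/-! The dual group of `W₁ ⊔ W₂`: decomposition `ω = φψ`, separation of points, cardinalities. -/

namespace Cfsg.Agent.Helper25

variable {G : Type*} [Group G] {W₁ W₂ : Subgroup G}

section decomp
variable {A : Type*} [CommGroup A]
variable (hdisj : W₁ ⊓ W₂ = ⊥) (hcomm : ∀ a ∈ W₁, ∀ b ∈ W₂, a * b = b * a)

theorem trivOn_comp_proj₁ (ω : ↥(W₁ ⊔ W₂) →* A) : TrivOn W₂ (ω.comp (proj₁ hdisj hcomm)) := by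
  intro w hw
  rw [MonoidHom.comp_apply, proj₁_of_mem_right hdisj hcomm w hw, map_one]

theorem trivOn_comp_proj₂ (ω : ↥(W₁ ⊔ W₂) →* A) : TrivOn W₁ (ω.comp (proj₂ hdisj hcomm)) := by
  intro w hw
  rw [MonoidHom.comp_apply, proj₂_of_mem_left hdisj hcomm w hw, map_one]

theorem comp_proj_mul (ω : ↥(W₁ ⊔ W₂) →* A) :
    ω.comp (proj₁ hdisj hcomm) * ω.comp (proj₂ hdisj hcomm) = ω := by
  ext w
  rw [MonoidHom.mul_apply, MonoidHom.comp_apply, MonoidHom.comp_apply, ← map_mul,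
    proj₁_mul_proj₂]

/-- Every `ω` is uniquely `φψ` with `φ` trivial on `W₂`, `ψ` trivial on `W₁`. -/
noncomputable def rectEquiv :
    {φ : ↥(W₁ ⊔ W₂) →* A // TrivOn W₂ φ} × {ψ : ↥(W₁ ⊔ W₂) →* A // TrivOn W₁ ψ} ≃
      (↥(W₁ ⊔ W₂) →* A) where
  toFun p := p.1.1 * p.2.1
  invFun ω := (⟨ω.comp (proj₁ hdisj hcomm), trivOn_comp_proj₁ hdisj hcomm ω⟩,
    ⟨ω.comp (proj₂ hdisj hcomm), trivOn_comp_proj₂ hdisj hcomm ω⟩)
  left_inv p := by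
    obtain ⟨⟨φ, hφ⟩, ⟨ψ, hψ⟩⟩ := p
    have h := (mul_eq_mul_iff (trivOn_comp_proj₁ hdisj hcomm (φ * ψ)) hφ
      (trivOn_comp_proj₂ hdisj hcomm (φ * ψ)) hψ).mp (comp_proj_mul hdisj hcomm (φ * ψ))
    exact Prod.ext (Subtype.ext h.1) (Subtype.ext h.2)
  right_inv ω := comp_proj_mul hdisj hcomm ω

theorem rectEquiv_apply
    (p : {φ : ↥(W₁ ⊔ W₂) →* A // TrivOn W₂ φ} × {ψ : ↥(W₁ ⊔ W₂) →* A // TrivOn W₁ ψ}) :
    rectEquiv hdisj hcomm p = p.1.1 * p.2.1 := rfl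

end decomp

section dual
variable [Finite ↥(W₁ ⊔ W₂)] (hab : ∀ a b : ↥(W₁ ⊔ W₂), a * b = b * a)

include hab in
/-- Characters trivial on `S` separate the points outside `S`. -/
theorem exists_trivOn_apply_ne_one (S : Subgroup G) (w : ↥(W₁ ⊔ W₂)) (hw : (w : G) ∉ S) :
    ∃ φ : ↥(W₁ ⊔ W₂) →* ℂˣ, TrivOn S φ ∧ φ w ≠ 1 := by
  letI : CommGroup ↥(W₁ ⊔ W₂) := { (inferInstance : Group ↥(W₁ ⊔ W₂)) with mul_comm := hab }
  have : NeZero (Monoid.exponent ↥(W₁ ⊔ W₂)) := ⟨Monoid.exponent_ne_zero_of_finite⟩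
  by_contra hcon
  push Not at hcon
  have h := (CommGroup.forall_monoidHom_apply_eq_one_iff (G := ↥(W₁ ⊔ W₂)) ℂ
    (S.subgroupOf (W₁ ⊔ W₂)) w).mp (fun φ hφ => hcon φ (fun y hy => hφ y hy))
  exact hw h

include hab in
theorem card_trivOn_mul (S : Subgroup G) (hS : S ≤ W₁ ⊔ W₂) :
    Nat.card {φ : ↥(W₁ ⊔ W₂) →* ℂˣ // TrivOn S φ} * Nat.card S = Nat.card ↥(W₁ ⊔ W₂) := by
  letI : CommGroup ↥(W₁ ⊔ W₂) := { (inferInstance : Group ↥(W₁ ⊔ W₂)) with mul_comm := hab }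
  have : NeZero (Monoid.exponent ↥(W₁ ⊔ W₂)) := ⟨Monoid.exponent_ne_zero_of_finite⟩
  have h1 := CommGroup.card_subgroupOrderIsoSubgroupMonoidHom (G := ↥(W₁ ⊔ W₂)) ℂ
    (S.subgroupOf (W₁ ⊔ W₂))
  have h2 : Nat.card {φ : ↥(W₁ ⊔ W₂) →* ℂˣ // TrivOn S φ} =
      Nat.card ↥(OrderDual.ofDual (CommGroup.subgroupOrderIsoSubgroupMonoidHom ↥(W₁ ⊔ W₂) ℂ
        (S.subgroupOf (W₁ ⊔ W₂)))) := by
    apply Nat.card_congr
    apply Equiv.subtypeEquivRight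
    intro φ
    rw [CommGroup.mem_subgroupOrderIsoSubgroupMonoidHom_iff]
    exact ⟨fun h y hy => h y hy, fun h y hy => h y hy⟩
  have h3 : Nat.card (S.subgroupOf (W₁ ⊔ W₂)) = Nat.card S :=
    Nat.card_congr (Subgroup.subgroupOfEquivOfLe hS).toEquiv
  rw [h2, h1, ← h3]
  exact (Subgroup.card_eq_card_quotient_mul_card_subgroup _).symm

end dual

section cards
variable [Finite ↥(W₁ ⊔ W₂)] (hab : ∀ a b : ↥(W₁ ⊔ W₂), a * b = b * a)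
variable (hdisj : W₁ ⊓ W₂ = ⊥) (hcomm : ∀ a ∈ W₁, ∀ b ∈ W₂, a * b = b * a)

include hab hdisj hcomm in
theorem card_trivOn_right :
    Nat.card {φ : ↥(W₁ ⊔ W₂) →* ℂˣ // TrivOn W₂ φ} = Nat.card W₁ := by
  have h := card_trivOn_mul hab W₂ le_sup_right
  rw [card_sup_eq_mul hdisj hcomm] at h
  have : Finite ↥W₂ := Finite.of_injective (Subgroup.inclusion (le_sup_right : W₂ ≤ W₁ ⊔ W₂))
    (Subgroup.inclusion_injective _)
  exact Nat.eq_of_mul_eq_mul_right Nat.card_pos h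

include hab hdisj hcomm in
theorem card_trivOn_left :
    Nat.card {ψ : ↥(W₁ ⊔ W₂) →* ℂˣ // TrivOn W₁ ψ} = Nat.card W₂ := by
  have h := card_trivOn_mul hab W₁ le_sup_left
  rw [card_sup_eq_mul hdisj hcomm, mul_comm (Nat.card ↥W₁)] at h
  have : Finite ↥W₁ := Finite.of_injective (Subgroup.inclusion (le_sup_left : W₁ ≤ W₁ ⊔ W₂))
    (Subgroup.inclusion_injective _)
  exact Nat.eq_of_mul_eq_mul_right Nat.card_pos h

end cards

end Cfsg.Agent.Helper25
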