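import Mathlib
import Cfsg.Agent.Helper25.DualRect
import Cfsg.Agent.Helper25.SNCyclic

set_option autoImplicit false

/-! Index sets for the cyclic TI family: nontrivial characters trivial on one factor, the coding
of an arbitrary character of `W` by a pair of optional indices, and cardinalities. -/

namespace Cfsg.Agent.Helper25

open Cfsg

variable {G : Type*} [Group G] {W₁ W₂ : Subgroup G}

/-- Nontrivial characters of `W` trivial on `W₂`. -/
abbrev IdxL (W₁ W₂ : Subgroup G) : Type _ := {φ : ↥(W₁ ⊔ W₂) →* ℂˣ // TrivOn W₂ φ ∧ φ ≠ 1}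

/-- Nontrivial characters of `W` trivial on `W₁`. -/
abbrev IdxR (W₁ W₂ : Subgroup G) : Type _ := {ψ : ↥(W₁ ⊔ W₂) →* ℂˣ // TrivOn W₁ ψ ∧ ψ ≠ 1}

section code
variable (hdisj : W₁ ⊓ W₂ = ⊥) (hcomm : ∀ a ∈ W₁, ∀ b ∈ W₂, a * b = b * a)

open Classical in
/-- The `W₁`-part of a character, as an optional index. -/
noncomputable def codeL (ω : ↥(W₁ ⊔ W₂) →* ℂˣ) : Option (IdxL W₁ W₂) :=
  if h : ω.comp (proj₁ hdisj hcomm) = 1 then none
  else some ⟨ω.comp (proj₁ hdisj hcomm), trivOn_comp_proj₁ hdisj hcomm ω, h⟩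

open Classical in
/-- The `W₂`-part of a character, as an optional index. -/
noncomputable def codeR (ω : ↥(W₁ ⊔ W₂) →* ℂˣ) : Option (IdxR W₁ W₂) :=
  if h : ω.comp (proj₂ hdisj hcomm) = 1 then none
  else some ⟨ω.comp (proj₂ hdisj hcomm), trivOn_comp_proj₂ hdisj hcomm ω, h⟩

theorem comp_proj_of_mul {φ ψ : ↥(W₁ ⊔ W₂) →* ℂˣ} (hφ : TrivOn W₂ φ) (hψ : TrivOn W₁ ψ) :
    (φ * ψ).comp (proj₁ hdisj hcomm) = φ ∧ (φ * ψ).comp (proj₂ hdisj hcomm) = ψ :=
  (mul_eq_mul_iff (trivOn_comp_proj₁ hdisj hcomm (φ * ψ)) hφ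
    (trivOn_comp_proj₂ hdisj hcomm (φ * ψ)) hψ).mp (comp_proj_mul hdisj hcomm (φ * ψ))

theorem codeL_mul_of_one {ψ : ↥(W₁ ⊔ W₂) →* ℂˣ} (hψ : TrivOn W₁ ψ) :
    codeL hdisj hcomm (1 * ψ) = none := by
  unfold codeL
  rw [dif_pos (comp_proj_of_mul hdisj hcomm (TrivOn.one W₂) hψ).1]

theorem codeL_mul_of_ne (i : IdxL W₁ W₂) {ψ : ↥(W₁ ⊔ W₂) →* ℂˣ} (hψ : TrivOn W₁ ψ) :
    codeL hdisj hcomm (i.1 * ψ) = some i := by
  unfold codeL
  have e := (comp_proj_of_mul hdisj hcomm i.2.1 hψ).1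
  rw [dif_neg (fun h => i.2.2 (e.symm.trans h))]
  exact congrArg some (Subtype.ext e)

theorem codeR_mul_of_one {φ : ↥(W₁ ⊔ W₂) →* ℂˣ} (hφ : TrivOn W₂ φ) :
    codeR hdisj hcomm (φ * 1) = none := by
  unfold codeR
  rw [dif_pos (comp_proj_of_mul hdisj hcomm hφ (TrivOn.one W₁)).2]

theorem codeR_mul_of_ne {φ : ↥(W₁ ⊔ W₂) →* ℂˣ} (hφ : TrivOn W₂ φ) (j : IdxR W₁ W₂) :
    codeR hdisj hcomm (φ * j.1) = some j := by
  unfold codeR
  have e := (comp_proj_of_mul hdisj hcomm hφ j.2.1).2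
  rw [dif_neg (fun h => j.2.2 (e.symm.trans h))]
  exact congrArg some (Subtype.ext e)

theorem codeL_one : codeL hdisj hcomm (1 : ↥(W₁ ⊔ W₂) →* ℂˣ) = none := by
  have h := codeL_mul_of_one hdisj hcomm (TrivOn.one (A := ℂˣ) (W₁ := W₁) (W₂ := W₂) W₁)
  exact (congrArg (codeL hdisj hcomm) (one_mul (1 : ↥(W₁ ⊔ W₂) →* ℂˣ)).symm).trans h

theorem codeR_one : codeR hdisj hcomm (1 : ↥(W₁ ⊔ W₂) →* ℂˣ) = none := by
  have h := codeR_mul_of_one hdisj hcomm (TrivOn.one (A := ℂˣ) (W₁ := W₁) (W₂ := W₂) W₂)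
  exact (congrArg (codeR hdisj hcomm) (mul_one (1 : ↥(W₁ ⊔ W₂) →* ℂˣ)).symm).trans h

theorem codeL_left (i : IdxL W₁ W₂) : codeL hdisj hcomm i.1 = some i := by
  have h := codeL_mul_of_ne hdisj hcomm i (TrivOn.one (A := ℂˣ) (W₁ := W₁) (W₂ := W₂) W₁)
  exact (congrArg (codeL hdisj hcomm) (mul_one i.1).symm).trans h

theorem codeR_left {φ : ↥(W₁ ⊔ W₂) →* ℂˣ} (hφ : TrivOn W₂ φ) : codeR hdisj hcomm φ = none := by
  have h := codeR_mul_of_one hdisj hcomm hφ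
  exact (congrArg (codeR hdisj hcomm) (mul_one φ).symm).trans h

theorem codeL_right {ψ : ↥(W₁ ⊔ W₂) →* ℂˣ} (hψ : TrivOn W₁ ψ) : codeL hdisj hcomm ψ = none := by
  have h := codeL_mul_of_one hdisj hcomm hψ
  exact (congrArg (codeL hdisj hcomm) (one_mul ψ).symm).trans h

theorem codeR_right (j : IdxR W₁ W₂) : codeR hdisj hcomm j.1 = some j := by
  have h := codeR_mul_of_ne hdisj hcomm (TrivOn.one (A := ℂˣ) (W₁ := W₁) (W₂ := W₂) W₂) j
  exact (congrArg (codeR hdisj hcomm) (one_mul j.1).symm).trans h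

theorem comp_proj₁_eq_of_codeL_eq {ω ω' : ↥(W₁ ⊔ W₂) →* ℂˣ}
    (h : codeL hdisj hcomm ω = codeL hdisj hcomm ω') :
    ω.comp (proj₁ hdisj hcomm) = ω'.comp (proj₁ hdisj hcomm) := by
  unfold codeL at h
  by_cases h1 : ω.comp (proj₁ hdisj hcomm) = 1 <;> by_cases h2 : ω'.comp (proj₁ hdisj hcomm) = 1
  · rw [h1, h2]
  · rw [dif_pos h1, dif_neg h2] at h; exact absurd h (by simp)
  · rw [dif_neg h1, dif_pos h2] at h; exact absurd h (by simp)
  · rw [dif_neg h1, dif_neg h2] at h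
    exact congrArg Subtype.val (Option.some.inj h)

theorem comp_proj₂_eq_of_codeR_eq {ω ω' : ↥(W₁ ⊔ W₂) →* ℂˣ}
    (h : codeR hdisj hcomm ω = codeR hdisj hcomm ω') :
    ω.comp (proj₂ hdisj hcomm) = ω'.comp (proj₂ hdisj hcomm) := by
  unfold codeR at h
  by_cases h1 : ω.comp (proj₂ hdisj hcomm) = 1 <;> by_cases h2 : ω'.comp (proj₂ hdisj hcomm) = 1
  · rw [h1, h2]
  · rw [dif_pos h1, dif_neg h2] at h; exact absurd h (by simp)
  · rw [dif_neg h1, dif_pos h2] at h; exact absurd h (by simp)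
  · rw [dif_neg h1, dif_neg h2] at h
    exact congrArg Subtype.val (Option.some.inj h)

theorem eq_of_code_eq {ω ω' : ↥(W₁ ⊔ W₂) →* ℂˣ}
    (hL : codeL hdisj hcomm ω = codeL hdisj hcomm ω')
    (hR : codeR hdisj hcomm ω = codeR hdisj hcomm ω') : ω = ω' := by
  rw [← comp_proj_mul hdisj hcomm ω, ← comp_proj_mul hdisj hcomm ω',
    comp_proj₁_eq_of_codeL_eq hdisj hcomm hL, comp_proj₂_eq_of_codeR_eq hdisj hcomm hR]

end code

section cards

open Classical in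
/-- Adding the trivial character to the nontrivial characters trivial on `W₂`. -/
noncomputable def optionIdxLEquiv :
    Option (IdxL W₁ W₂) ≃ {φ : ↥(W₁ ⊔ W₂) →* ℂˣ // TrivOn W₂ φ} where
  toFun o := match o with
    | none => ⟨1, TrivOn.one W₂⟩
    | some i => ⟨i.1, i.2.1⟩
  invFun p := if h : p.1 = 1 then none else some ⟨p.1, p.2, h⟩
  left_inv o := by
    cases o with
    | none => simp
    | some i => simp [i.2.2]
  right_inv p := by
    by_cases h : p.1 = 1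
    · simp only [dif_pos h]
      exact Subtype.ext h.symm
    · simp only [dif_neg h]

open Classical in
/-- Adding the trivial character to the nontrivial characters trivial on `W₁`. -/
noncomputable def optionIdxREquiv :
    Option (IdxR W₁ W₂) ≃ {ψ : ↥(W₁ ⊔ W₂) →* ℂˣ // TrivOn W₁ ψ} where
  toFun o := match o with
    | none => ⟨1, TrivOn.one W₁⟩
    | some i => ⟨i.1, i.2.1⟩
  invFun p := if h : p.1 = 1 then none else some ⟨p.1, p.2, h⟩
  left_inv o := by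
    cases o with
    | none => simp
    | some i => simp [i.2.2]
  right_inv p := by
    by_cases h : p.1 = 1
    · simp only [dif_pos h]
      exact Subtype.ext h.symm
    · simp only [dif_neg h]

variable [Finite G]

theorem card_idx (hW : IsSelfNormalizingCyclic W₁ W₂) :
    Nat.card (IdxL W₁ W₂) + 1 = Nat.card W₁ ∧ Nat.card (IdxR W₁ W₂) + 1 = Nat.card W₂ := by
  obtain ⟨_, _, hdisj, hcomm, hcyc, _⟩ := id hW
  have hab : ∀ a b : ↥(W₁ ⊔ W₂), a * b = b * a := fun a b =>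
    Subtype.ext (snc_commute hW a.2 b.2)
  constructor
  · rw [← Finite.card_option, Nat.card_congr optionIdxLEquiv, card_trivOn_right hab hdisj hcomm]
  · rw [← Finite.card_option, Nat.card_congr optionIdxREquiv, card_trivOn_left hab hdisj hcomm]

theorem card_idx_cases (hW : IsSelfNormalizingCyclic W₁ W₂) (hodd : Odd (Nat.card ↥(W₁ ⊔ W₂))) :
    (Nat.card (IdxL W₁ W₂) = 2 ∨ 4 ≤ Nat.card (IdxL W₁ W₂)) ∧
    (Nat.card (IdxR W₁ W₂) = 2 ∨ 4 ≤ Nat.card (IdxR W₁ W₂)) ∧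
    ¬ (Nat.card (IdxL W₁ W₂) = 2 ∧ Nat.card (IdxR W₁ W₂) = 2) := by
  obtain ⟨hc1, hc2⟩ := card_idx hW
  obtain ⟨h1, h2, hdisj, hcomm, hcyc, _⟩ := id hW
  have hd1 : Nat.card W₁ ∣ Nat.card ↥(W₁ ⊔ W₂) := Subgroup.card_dvd_of_le le_sup_left
  have hd2 : Nat.card W₂ ∣ Nat.card ↥(W₁ ⊔ W₂) := Subgroup.card_dvd_of_le le_sup_right
  obtain ⟨m1, hm1⟩ := Odd.of_dvd_nat hodd hd1
  obtain ⟨m2, hm2⟩ := Odd.of_dvd_nat hodd hd2
  have hlt1 : 1 < Nat.card W₁ := W₁.one_lt_card_iff_ne_bot.mpr h1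
  have hlt2 : 1 < Nat.card W₂ := W₂.one_lt_card_iff_ne_bot.mpr h2
  refine ⟨by omega, by omega, ?_⟩
  rintro ⟨e1, e2⟩
  have c1 : Nat.card W₁ = 3 := by omega
  have c2 : Nat.card W₂ = 3 := by omega
  have : IsCyclic ↥(W₁ ⊔ W₂) := hcyc
  obtain ⟨g, hg⟩ := IsCyclic.exists_generator (α := ↥(W₁ ⊔ W₂))
  have hord : orderOf g = Nat.card ↥(W₁ ⊔ W₂) := orderOf_eq_card_of_forall_mem_zpowers hg
  rw [card_sup_eq_mul hdisj hcomm, c1, c2] at hord
  obtain ⟨a, b, hab⟩ := exists_mul_of_mem_sup hdisj hcomm g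
  have ha : (a : G) ^ 3 = 1 := by
    have := pow_card_eq_one' (G := ↥W₁) (x := a)
    rw [c1] at this
    exact_mod_cast congrArg Subtype.val this
  have hb : (b : G) ^ 3 = 1 := by
    have := pow_card_eq_one' (G := ↥W₂) (x := b)
    rw [c2] at this
    exact_mod_cast congrArg Subtype.val this
  have hg3 : g ^ 3 = 1 := by
    apply Subtype.ext
    have hc : Commute (a : G) (b : G) := hcomm a a.2 b b.2
    rw [Subgroup.coe_pow, hab, hc.mul_pow, ha, hb, one_mul]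
    rfl
  have := orderOf_dvd_of_pow_eq_one hg3
  rw [hord] at this
  omega

end cards

end Cfsg.Agent.Helper25
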