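import Mathlib
import Cfsg.Agent.Helper25.GenChar
import Cfsg.Agent.Helper25.Tri.Basic
import Cfsg.Agent.S1531

set_option autoImplicit false

/-! Integer coordinates of generalized characters with respect to the irreducible characters. -/

namespace Cfsg.Agent.Helper25

open Cfsg
open scoped ComplexConjugate

universe u

variable {G : Type u} [Group G] [Fintype G]

/-- The degree of an irreducible character, as a positive integer. -/
theorem exists_irr_degree : ∃ d : IrrCharacter G → ℤ, (∀ ψ, 0 < d ψ) ∧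
    ∀ ψ : IrrCharacter G, (ψ : G → ℂ) 1 = (d ψ : ℂ) := by
  choose k hk1 hk2 using fun ψ : IrrCharacter G => Cfsg.Agent.S1531.irr_deg ψ.2
  refine ⟨fun ψ => (k ψ : ℤ), fun ψ => ?_, fun ψ => ?_⟩
  · show (0 : ℤ) < (k ψ : ℤ)
    exact_mod_cast hk1 ψ
  · rw [hk2 ψ]
    push_cast
    rfl

/-- Integer coordinates of a generalized character. -/
theorem exists_coord {β : G → ℂ} (hβ : IsGeneralizedCharacter G β) :
    ∃ a : IrrCharacter G → ℤ, ∀ ψ : IrrCharacter G, classInner β (ψ : G → ℂ) = (a ψ : ℂ) := by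
  choose a ha using fun ψ : IrrCharacter G =>
    isGenChar_inner_int hβ (isGenChar_of_isCharacter (Helper74.isCharacter_of_isIrr ψ.2))
  exact ⟨a, ha⟩

variable [Fintype (IrrCharacter G)]

theorem coord_inner {β β' : G → ℂ} (hβ : IsGeneralizedCharacter G β)
    {a a' : IrrCharacter G → ℤ} (ha : ∀ ψ : IrrCharacter G, classInner β (ψ : G → ℂ) = (a ψ : ℂ))
    (ha' : ∀ ψ : IrrCharacter G, classInner β' (ψ : G → ℂ) = (a' ψ : ℂ)) :
    classInner β β' = ((Tri.dot a a' : ℤ) : ℂ) := by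
  rw [Helper15.classInner_eq_sum_irr (isGenChar_isClassFunction hβ) β']
  unfold Tri.dot
  push_cast
  refine Finset.sum_congr rfl (fun ψ _ => ?_)
  rw [ha ψ, ha' ψ, map_intCast]

theorem coord_eq_sum {β : G → ℂ} (hβ : IsGeneralizedCharacter G β)
    {a : IrrCharacter G → ℤ} (ha : ∀ ψ : IrrCharacter G, classInner β (ψ : G → ℂ) = (a ψ : ℂ)) :
    β = ∑ ψ : IrrCharacter G, (a ψ : ℂ) • (ψ : G → ℂ) := by
  have h := isGenChar_eq_sum hβ
  refine h.trans (Finset.sum_congr rfl (fun ψ _ => ?_))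
  rw [ha ψ]

theorem coord_apply_one {β : G → ℂ} (hβ : IsGeneralizedCharacter G β)
    {a : IrrCharacter G → ℤ} (ha : ∀ ψ : IrrCharacter G, classInner β (ψ : G → ℂ) = (a ψ : ℂ))
    {d : IrrCharacter G → ℤ} (hd : ∀ ψ : IrrCharacter G, (ψ : G → ℂ) 1 = (d ψ : ℂ)) :
    β 1 = ((Tri.dot a d : ℤ) : ℂ) := by
  have h := congrFun (coord_eq_sum hβ ha) 1
  rw [h, Finset.sum_apply]
  unfold Tri.dot
  push_cast
  refine Finset.sum_congr rfl (fun ψ _ => ?_)
  rw [Pi.smul_apply, smul_eq_mul, hd ψ]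

end Cfsg.Agent.Helper25
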