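import Mathlib
import Cfsg.Agent.Helper25.GenChar

set_option autoImplicit false

/-! Bookkeeping for the cyclic TI family: points and signs indexed by `Option I × Option J`. -/

namespace Cfsg.Agent.Helper25

open Cfsg
open scoped ComplexConjugate

section points
variable {I J X : Type*}

/-- The point attached to a pair of optional indices. -/
def ctiPt (t₀ : X) (x : I → X) (y : J → X) (z : I → J → X) : Option I → Option J → X
  | none, none => t₀
  | some i, none => x i
  | none, some j => y j
  | some i, some j => z i j

/-- The sign attached to a pair of optional indices. -/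
def ctiSg (sx : I → ℤ) (sy : J → ℤ) (sz : I → J → ℤ) : Option I → Option J → ℤ
  | none, none => 1
  | some i, none => - sx i
  | none, some j => - sy j
  | some i, some j => sz i j

theorem ctiPt_inj {t₀ : X} {x : I → X} {y : J → X} {z : I → J → X}
    (hx : Function.Injective x) (hy : Function.Injective y) (hxy : ∀ i j, x i ≠ y j)
    (hzx : ∀ i j k, z i j ≠ x k) (hzy : ∀ i j l, z i j ≠ y l)
    (hz : ∀ i j k l, z i j = z k l → i = k ∧ j = l)
    (hx0 : ∀ i, x i ≠ t₀) (hy0 : ∀ j, y j ≠ t₀) (hz0 : ∀ i j, z i j ≠ t₀)
    (a : Option I) (b : Option J) (a' : Option I) (b' : Option J)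
    (h : ctiPt t₀ x y z a b = ctiPt t₀ x y z a' b') : a = a' ∧ b = b' := by
  cases a with
  | none =>
    cases b with
    | none =>
      cases a' with
      | none =>
        cases b' with
        | none => exact ⟨rfl, rfl⟩
        | some l => exact absurd h.symm (hy0 l)
      | some k =>
        cases b' with
        | none => exact absurd h.symm (hx0 k)
        | some l => exact absurd h.symm (hz0 k l)
    | some j =>
      cases a' with
      | none =>
        cases b' with
        | none => exact absurd h (hy0 j)
        | some l => exact ⟨rfl, by rw [hy h]⟩
      | some k =>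
        cases b' with
        | none => exact absurd h.symm (hxy k j)
        | some l => exact absurd h.symm (hzy k l j)
  | some i =>
    cases b with
    | none =>
      cases a' with
      | none =>
        cases b' with
        | none => exact absurd h (hx0 i)
        | some l => exact absurd h (hxy i l)
      | some k =>
        cases b' with
        | none => exact ⟨by rw [hx h], rfl⟩
        | some l => exact absurd h.symm (hzx k l i)
    | some j =>
      cases a' with
      | none =>
        cases b' with
        | none => exact absurd h (hz0 i j)
        | some l => exact absurd h (hzy i j l)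
      | some k =>
        cases b' with
        | none => exact absurd h (hzx i j k)
        | some l =>
          obtain ⟨e1, e2⟩ := hz i j k l h
          exact ⟨by rw [e1], by rw [e2]⟩

theorem ctiSg_sq {sx : I → ℤ} {sy : J → ℤ} {sz : I → J → ℤ}
    (hsx : ∀ i, sx i = 1 ∨ sx i = -1) (hsy : ∀ j, sy j = 1 ∨ sy j = -1)
    (hsz : ∀ i j, sz i j = 1 ∨ sz i j = -1) (a : Option I) (b : Option J) :
    ctiSg sx sy sz a b = 1 ∨ ctiSg sx sy sz a b = -1 := by
  cases a with
  | none =>
    cases b with
    | none => exact Or.inl rfl
    | some j =>
      show - sy j = 1 ∨ - sy j = -1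
      rcases hsy j with h | h <;> rw [h] <;> simp
  | some i =>
    cases b with
    | none =>
      show - sx i = 1 ∨ - sx i = -1
      rcases hsx i with h | h <;> rw [h] <;> simp
    | some j => exact hsz i j

end points

section inner
universe u
variable {G : Type u} [Group G] [Fintype G]

open Classical in
theorem inner_signed (s s' : ℤ) (t t' : IrrCharacter G) :
    classInner ((s : ℂ) • (t : G → ℂ)) ((s' : ℂ) • (t' : G → ℂ)) =
      if t = t' then ((s * s' : ℤ) : ℂ) else 0 := by
  rw [Helper74.classInner_smul_left, Helper74.classInner_smul_right, map_intCast]
  by_cases h : t = t'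
  · rw [if_pos h, h, Helper74.irr_inner_self]
    push_cast
    ring
  · rw [if_neg h, Helper74.irr_inner_ne h]
    ring

end inner

end Cfsg.Agent.Helper25
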