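import Mathlib
import Cfsg.Agent.Helper25.DualRect

set_option autoImplicit false

/-! Character sums over the characters of `W₁ ⊔ W₂` trivial on a subgroup. -/

namespace Cfsg.Agent.Helper25

open scoped ComplexConjugate

variable {G : Type*} [Group G] {W₁ W₂ : Subgroup G}

/-- Values of linear characters of a finite group: conjugate is the value at the inverse. -/
theorem conj_apply_eq_apply_inv {W : Type*} [Group W] [Finite W] (φ : W →* ℂˣ) (w : W) :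
    conj ((φ w : ℂˣ) : ℂ) = ((φ w⁻¹ : ℂˣ) : ℂ) := by
  have hpow : ((φ w : ℂˣ) : ℂ) ^ Nat.card W = 1 := by
    rw [← Units.val_pow_eq_pow_val, ← map_pow, pow_card_eq_one', map_one, Units.val_one]
  have hnorm : ‖((φ w : ℂˣ) : ℂ)‖ = 1 :=
    Complex.norm_eq_one_of_pow_eq_one hpow Nat.card_pos.ne'
  rw [← Complex.inv_eq_conj hnorm, map_inv, Units.val_inv_eq_inv_val]

section sums
variable [Finite ↥(W₁ ⊔ W₂)] (hab : ∀ a b : ↥(W₁ ⊔ W₂), a * b = b * a)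
variable (S : Subgroup G) [Fintype {φ : ↥(W₁ ⊔ W₂) →* ℂˣ // TrivOn S φ}]

include hab in
theorem sum_trivOn_eq_zero (w : ↥(W₁ ⊔ W₂)) (hw : (w : G) ∉ S) :
    ∑ φ : {φ : ↥(W₁ ⊔ W₂) →* ℂˣ // TrivOn S φ}, ((φ.1 w : ℂˣ) : ℂ) = 0 := by
  obtain ⟨φ₀, h₀, hne⟩ := exists_trivOn_apply_ne_one hab S w hw
  let e : {φ : ↥(W₁ ⊔ W₂) →* ℂˣ // TrivOn S φ} ≃ {φ : ↥(W₁ ⊔ W₂) →* ℂˣ // TrivOn S φ} :=
    { toFun := fun φ => ⟨φ₀ * φ.1, h₀.mul φ.2⟩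
      invFun := fun φ => ⟨φ₀⁻¹ * φ.1, h₀.inv.mul φ.2⟩
      left_inv := fun φ => Subtype.ext (inv_mul_cancel_left φ₀ φ.1)
      right_inv := fun φ => Subtype.ext (mul_inv_cancel_left φ₀ φ.1) }
  have h := Fintype.sum_equiv e
    (fun φ : {φ : ↥(W₁ ⊔ W₂) →* ℂˣ // TrivOn S φ} => ((φ₀ w : ℂˣ) : ℂ) * ((φ.1 w : ℂˣ) : ℂ))
    (fun φ => ((φ.1 w : ℂˣ) : ℂ)) (fun φ => by simp [e])
  rw [← Finset.mul_sum] at h
  have hne' : ((φ₀ w : ℂˣ) : ℂ) ≠ 1 := fun h' => hne (Units.ext h')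
  have : (((φ₀ w : ℂˣ) : ℂ) - 1) *
      ∑ φ : {φ : ↥(W₁ ⊔ W₂) →* ℂˣ // TrivOn S φ}, ((φ.1 w : ℂˣ) : ℂ) = 0 := by
    rw [sub_mul, h, one_mul, sub_self]
  rcases mul_eq_zero.mp this with h' | h'
  · exact absurd (sub_eq_zero.mp h') hne'
  · exact h'

theorem sum_trivOn_eq_card (w : ↥(W₁ ⊔ W₂)) (hw : (w : G) ∈ S) :
    ∑ φ : {φ : ↥(W₁ ⊔ W₂) →* ℂˣ // TrivOn S φ}, ((φ.1 w : ℂˣ) : ℂ) =
      (Fintype.card {φ : ↥(W₁ ⊔ W₂) →* ℂˣ // TrivOn S φ} : ℂ) := by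
  have : ∀ φ : {φ : ↥(W₁ ⊔ W₂) →* ℂˣ // TrivOn S φ}, ((φ.1 w : ℂˣ) : ℂ) = 1 := fun φ => by
    rw [φ.2 w hw, Units.val_one]
  simp only [this]
  simp

open Classical in
include hab in
/-- The kernel identity: for `w ∉ S`, `∑_φ conj(φ w) (1 - φ u) = -|Φ| [w⁻¹ u ∈ S]`. -/
theorem sum_trivOn_kernel (w u : ↥(W₁ ⊔ W₂)) (hw : (w : G) ∉ S) :
    ∑ φ : {φ : ↥(W₁ ⊔ W₂) →* ℂˣ // TrivOn S φ},
        conj ((φ.1 w : ℂˣ) : ℂ) * (1 - ((φ.1 u : ℂˣ) : ℂ)) =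
      - (if ((w⁻¹ * u : ↥(W₁ ⊔ W₂)) : G) ∈ S
          then (Fintype.card {φ : ↥(W₁ ⊔ W₂) →* ℂˣ // TrivOn S φ} : ℂ) else 0) := by
  have h1 : ∀ φ : {φ : ↥(W₁ ⊔ W₂) →* ℂˣ // TrivOn S φ},
      conj ((φ.1 w : ℂˣ) : ℂ) * (1 - ((φ.1 u : ℂˣ) : ℂ)) =
        ((φ.1 w⁻¹ : ℂˣ) : ℂ) - ((φ.1 (w⁻¹ * u) : ℂˣ) : ℂ) := fun φ => by
    rw [conj_apply_eq_apply_inv, mul_sub, mul_one, map_mul, Units.val_mul]
  simp only [h1]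
  rw [Finset.sum_sub_distrib]
  have hw' : ((w⁻¹ : ↥(W₁ ⊔ W₂)) : G) ∉ S := by
    intro h
    apply hw
    have := S.inv_mem h
    simpa using this
  rw [sum_trivOn_eq_zero hab S w⁻¹ hw', zero_sub]
  by_cases h : ((w⁻¹ * u : ↥(W₁ ⊔ W₂)) : G) ∈ S
  · rw [if_pos h, sum_trivOn_eq_card S _ h]
  · rw [if_neg h, sum_trivOn_eq_zero hab S _ h]

end sums

end Cfsg.Agent.Helper25
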