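import Mathlib
import Cfsg.Prelude.Def_OddOrderChar
import Cfsg.Agent.Helper25.DualSum
import Cfsg.Agent.Helper25.CyclicTIInd

set_option autoImplicit false

/-! A class function orthogonal to all members of a cyclic TI family vanishes on `V`. -/

namespace Cfsg.Agent.Helper25

open Cfsg
open scoped ComplexConjugate

variable {G : Type*} [Group G] [Fintype G] {W₁ W₂ : Subgroup G}

theorem Afun_apply_eq_mul (φ ψ : ↥(W₁ ⊔ W₂) →* ℂˣ) (u : ↥(W₁ ⊔ W₂)) :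
    Afun φ ψ u = (1 - ((φ u : ℂˣ) : ℂ)) * (1 - ((ψ u : ℂˣ) : ℂ)) := by
  simp only [Afun]; ring

/-- Inner product of `θ` (orthogonal to the family) with a function induced from `Afun φ ψ`. -/
theorem cti_inner_indFun_Afun {χ : (↥(W₁ ⊔ W₂) →* ℂˣ) → (G → ℂ)}
    (hχ : IsCyclicTIFamily W₁ W₂ χ) (θ : G → ℂ) (horth : ∀ ω, classInner θ (χ ω) = 0)
    (φ ψ : ↥(W₁ ⊔ W₂) →* ℂˣ) (hφ : TrivOn W₂ φ) (hψ : TrivOn W₁ ψ) :
    classInner θ (indFun (W₁ ⊔ W₂) (Afun φ ψ)) = 0 := by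
  rw [cti_induced_all hχ φ ψ hφ hψ]
  have e : (fun g => 1 - χ φ g - χ ψ g + χ (φ * ψ) g) = χ 1 - χ φ - χ ψ + χ (φ * ψ) := by
    funext g
    simp only [Pi.add_apply, Pi.sub_apply, hχ.map_one]
  rw [e, Helper74.classInner_add_right, Helper74.classInner_sub_right,
    Helper74.classInner_sub_right, horth, horth, horth, horth]
  ring

theorem cti_vanish_of_orth (hdisj : W₁ ⊓ W₂ = ⊥) (hab : ∀ a b : ↥(W₁ ⊔ W₂), a * b = b * a)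
    {χ : (↥(W₁ ⊔ W₂) →* ℂˣ) → (G → ℂ)} (hχ : IsCyclicTIFamily W₁ W₂ χ)
    (θ : G → ℂ) (hθ : IsClassFunction G θ) (horth : ∀ ω, classInner θ (χ ω) = 0)
    (w : ↥(W₁ ⊔ W₂)) (hw₁ : (w : G) ∉ W₁) (hw₂ : (w : G) ∉ W₂) : θ w = 0 := by
  classical
  have : Fintype ↥(W₁ ⊔ W₂) := Fintype.ofFinite _
  have : Fintype {φ : ↥(W₁ ⊔ W₂) →* ℂˣ // TrivOn W₂ φ} := Fintype.ofFinite _
  have : Fintype {ψ : ↥(W₁ ⊔ W₂) →* ℂˣ // TrivOn W₁ ψ} := Fintype.ofFinite _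
  set K : ℂ := (Fintype.card {φ : ↥(W₁ ⊔ W₂) →* ℂˣ // TrivOn W₂ φ} : ℂ) *
    (Fintype.card {ψ : ↥(W₁ ⊔ W₂) →* ℂˣ // TrivOn W₁ ψ} : ℂ) with hK
  have hKne : K ≠ 0 := by
    have : Nonempty {φ : ↥(W₁ ⊔ W₂) →* ℂˣ // TrivOn W₂ φ} := ⟨⟨1, TrivOn.one W₂⟩⟩
    have : Nonempty {ψ : ↥(W₁ ⊔ W₂) →* ℂˣ // TrivOn W₁ ψ} := ⟨⟨1, TrivOn.one W₁⟩⟩
    have h1 : Fintype.card {φ : ↥(W₁ ⊔ W₂) →* ℂˣ // TrivOn W₂ φ} ≠ 0 := Fintype.card_ne_zero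
    have h2 : Fintype.card {ψ : ↥(W₁ ⊔ W₂) →* ℂˣ // TrivOn W₁ ψ} ≠ 0 := Fintype.card_ne_zero
    rw [hK]
    exact mul_ne_zero (by exact_mod_cast h1) (by exact_mod_cast h2)
  -- the test function
  let f : ↥(W₁ ⊔ W₂) → ℂ :=
    ∑ φ : {φ : ↥(W₁ ⊔ W₂) →* ℂˣ // TrivOn W₂ φ}, ∑ ψ : {ψ : ↥(W₁ ⊔ W₂) →* ℂˣ // TrivOn W₁ ψ},
      (conj ((φ.1 w : ℂˣ) : ℂ) * conj ((ψ.1 w : ℂˣ) : ℂ)) • Afun φ.1 ψ.1
  have hf : ∀ u, f u = if u = w then K else 0 := by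
    intro u
    have e1 : f u = (∑ φ : {φ : ↥(W₁ ⊔ W₂) →* ℂˣ // TrivOn W₂ φ},
          conj ((φ.1 w : ℂˣ) : ℂ) * (1 - ((φ.1 u : ℂˣ) : ℂ))) *
        (∑ ψ : {ψ : ↥(W₁ ⊔ W₂) →* ℂˣ // TrivOn W₁ ψ},
          conj ((ψ.1 w : ℂˣ) : ℂ) * (1 - ((ψ.1 u : ℂˣ) : ℂ))) := by
      rw [Fintype.sum_mul_sum]
      simp only [f, Finset.sum_apply, Pi.smul_apply, smul_eq_mul, Afun_apply_eq_mul]
      refine Finset.sum_congr rfl (fun φ _ => Finset.sum_congr rfl (fun ψ _ => ?_))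
      ring
    rw [e1, sum_trivOn_kernel hab W₂ w u hw₂, sum_trivOn_kernel hab W₁ w u hw₁]
    by_cases huw : u = w
    · subst huw
      have h1 : ((u⁻¹ * u : ↥(W₁ ⊔ W₂)) : G) ∈ W₂ := by simp
      have h2 : ((u⁻¹ * u : ↥(W₁ ⊔ W₂)) : G) ∈ W₁ := by simp
      rw [if_pos h1, if_pos h2, if_pos rfl, hK]
      ring
    · rw [if_neg huw]
      by_cases h2 : ((w⁻¹ * u : ↥(W₁ ⊔ W₂)) : G) ∈ W₂
      · have h1 : ((w⁻¹ * u : ↥(W₁ ⊔ W₂)) : G) ∉ W₁ := by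
          intro h1
          have hmem : ((w⁻¹ * u : ↥(W₁ ⊔ W₂)) : G) ∈ W₁ ⊓ W₂ := Subgroup.mem_inf.mpr ⟨h1, h2⟩
          rw [hdisj, Subgroup.mem_bot] at hmem
          have : w⁻¹ * u = 1 := Subtype.ext hmem
          exact huw (inv_mul_eq_one.mp this).symm
        rw [if_neg h1]; ring
      · rw [if_neg h2]; ring
  -- first computation
  have h0 : classInner θ (indFun (W₁ ⊔ W₂) f) = 0 := by
    simp only [f, Helper15.indFun_finset_sum, Helper15.indFun_smul,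
      Helper74.classInner_sum_right, Helper74.classInner_smul_right]
    refine Finset.sum_eq_zero (fun φ _ => Finset.sum_eq_zero (fun ψ _ => ?_))
    rw [cti_inner_indFun_Afun hχ θ horth φ.1 ψ.1 φ.2 ψ.2, mul_zero]
  -- second computation
  have h1 : classInner θ (indFun (W₁ ⊔ W₂) f) =
      (Nat.card ↥(W₁ ⊔ W₂) : ℂ)⁻¹ * (θ w * K) := by
    rw [Helper15.frobenius_reciprocity' _ _ _ hθ, Helper74.classInner_def]
    congr 1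
    have hKconj : conj K = K := by
      rw [hK, map_mul, Complex.conj_natCast, Complex.conj_natCast]
    simp only [hf]
    rw [Finset.sum_eq_single w]
    · rw [if_pos rfl, hKconj]
    · intro u _ hu
      rw [if_neg hu, map_zero, mul_zero]
    · intro h; exact absurd (Finset.mem_univ w) h
  rw [h1] at h0
  have hWne : (Nat.card ↥(W₁ ⊔ W₂) : ℂ)⁻¹ ≠ 0 := by
    apply inv_ne_zero
    exact_mod_cast Nat.card_pos.ne'
  rcases mul_eq_zero.mp h0 with h | h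
  · exact absurd h hWne
  · rcases mul_eq_zero.mp h with h | h
    · exact h
    · exact absurd h hKne

end Cfsg.Agent.Helper25
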