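import Mathlib
import Cfsg.Agent.Helper25.CyclicTIVanish

set_option autoImplicit false

/-! A function on `W` orthogonal to all `(1 - φ)(1 - ψ)` vanishes on `W ∖ (W₁ ∪ W₂)`. -/

namespace Cfsg.Agent.Helper25

open Cfsg
open scoped ComplexConjugate

variable {G : Type*} [Group G] {W₁ W₂ : Subgroup G}

theorem vanish_of_orth_Afun [Fintype ↥(W₁ ⊔ W₂)] (hdisj : W₁ ⊓ W₂ = ⊥)
    (hab : ∀ a b : ↥(W₁ ⊔ W₂), a * b = b * a) (δ : ↥(W₁ ⊔ W₂) → ℂ)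
    (horth : ∀ φ ψ : ↥(W₁ ⊔ W₂) →* ℂˣ, TrivOn W₂ φ → TrivOn W₁ ψ → classInner δ (Afun φ ψ) = 0)
    (w : ↥(W₁ ⊔ W₂)) (hw₁ : (w : G) ∉ W₁) (hw₂ : (w : G) ∉ W₂) : δ w = 0 := by
  classical
  have : Fintype {φ : ↥(W₁ ⊔ W₂) →* ℂˣ // TrivOn W₂ φ} := Fintype.ofFinite _
  have : Fintype {ψ : ↥(W₁ ⊔ W₂) →* ℂˣ // TrivOn W₁ ψ} := Fintype.ofFinite _
  set K : ℂ := (Fintype.card {φ : ↥(W₁ ⊔ W₂) →* ℂˣ // TrivOn W₂ φ} : ℂ) *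
    (Fintype.card {ψ : ↥(W₁ ⊔ W₂) →* ℂˣ // TrivOn W₁ ψ} : ℂ) with hK
  have hKne : K ≠ 0 := by
    have : Nonempty {φ : ↥(W₁ ⊔ W₂) →* ℂˣ // TrivOn W₂ φ} := ⟨⟨1, TrivOn.one W₂⟩⟩
    have : Nonempty {ψ : ↥(W₁ ⊔ W₂) →* ℂˣ // TrivOn W₁ ψ} := ⟨⟨1, TrivOn.one W₁⟩⟩
    have h1 : Fintype.card {φ : ↥(W₁ ⊔ W₂) →* ℂˣ // TrivOn W₂ φ} ≠ 0 := Fintype.card_ne_zero
    have h2 : Fintype.card {ψ : ↥(W₁ ⊔ W₂) →* ℂˣ // TrivOn W₁ ψ} ≠ 0 := Fintype.card_ne_zero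
    rw [hK]
    exact mul_ne_zero (by exact_mod_cast h1) (by exact_mod_cast h2)
  -- the test function
  let f : ↥(W₁ ⊔ W₂) → ℂ :=
    ∑ φ : {φ : ↥(W₁ ⊔ W₂) →* ℂˣ // TrivOn W₂ φ}, ∑ ψ : {ψ : ↥(W₁ ⊔ W₂) →* ℂˣ // TrivOn W₁ ψ},
      (conj ((φ.1 w : ℂˣ) : ℂ) * conj ((ψ.1 w : ℂˣ) : ℂ)) • Afun φ.1 ψ.1
  have hf : ∀ u, f u = if u = w then K else 0 := by
    intro u
    have e1 : f u = (∑ φ : {φ : ↥(W₁ ⊔ W₂) →* ℂˣ // TrivOn W₂ φ},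
          conj ((φ.1 w : ℂˣ) : ℂ) * (1 - ((φ.1 u : ℂˣ) : ℂ))) *
        (∑ ψ : {ψ : ↥(W₁ ⊔ W₂) →* ℂˣ // TrivOn W₁ ψ},
          conj ((ψ.1 w : ℂˣ) : ℂ) * (1 - ((ψ.1 u : ℂˣ) : ℂ))) := by
      rw [Fintype.sum_mul_sum]
      simp only [f, Finset.sum_apply, Pi.smul_apply, smul_eq_mul, Afun]
      refine Finset.sum_congr rfl (fun φ _ => Finset.sum_congr rfl (fun ψ _ => ?_))
      ring
    rw [e1, sum_trivOn_kernel hab W₂ w u hw₂, sum_trivOn_kernel hab W₁ w u hw₁]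
    by_cases huw : u = w
    · subst huw
      have h1 : ((u⁻¹ * u : ↥(W₁ ⊔ W₂)) : G) ∈ W₂ := by simp
      have h2 : ((u⁻¹ * u : ↥(W₁ ⊔ W₂)) : G) ∈ W₁ := by simp
      rw [if_pos h1, if_pos h2, if_pos rfl, hK]
      ring
    · rw [if_neg huw]
      by_cases h2 : ((w⁻¹ * u : ↥(W₁ ⊔ W₂)) : G) ∈ W₂
      · have h1 : ((w⁻¹ * u : ↥(W₁ ⊔ W₂)) : G) ∉ W₁ := by
          intro h1
          have hmem : ((w⁻¹ * u : ↥(W₁ ⊔ W₂)) : G) ∈ W₁ ⊓ W₂ := Subgroup.mem_inf.mpr ⟨h1, h2⟩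
          rw [hdisj, Subgroup.mem_bot] at hmem
          have : w⁻¹ * u = 1 := Subtype.ext hmem
          exact huw (inv_mul_eq_one.mp this).symm
        rw [if_neg h1]; ring
      · rw [if_neg h2]; ring
  have h0 : classInner δ f = 0 := by
    simp only [f, Helper74.classInner_sum_right, Helper74.classInner_smul_right]
    refine Finset.sum_eq_zero (fun φ _ => Finset.sum_eq_zero (fun ψ _ => ?_))
    rw [horth φ.1 ψ.1 φ.2 ψ.2, mul_zero]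
  have h1 : classInner δ f = (Nat.card ↥(W₁ ⊔ W₂) : ℂ)⁻¹ * (δ w * K) := by
    rw [Helper74.classInner_def]
    congr 1
    have hKconj : conj K = K := by
      rw [hK, map_mul, Complex.conj_natCast, Complex.conj_natCast]
    simp only [hf]
    rw [Finset.sum_eq_single w]
    · rw [if_pos rfl, hKconj]
    · intro u _ hu
      rw [if_neg hu, map_zero, mul_zero]
    · intro h; exact absurd (Finset.mem_univ w) h
  rw [h1] at h0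
  have hWne : (Nat.card ↥(W₁ ⊔ W₂) : ℂ)⁻¹ ≠ 0 := by
    apply inv_ne_zero
    exact_mod_cast Nat.card_pos.ne'
  rcases mul_eq_zero.mp h0 with h | h
  · exact absurd h hWne
  · rcases mul_eq_zero.mp h with h | h
    · exact h
    · exact absurd h hKne

end Cfsg.Agent.Helper25
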