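import Mathlib
import Cfsg.Agent.Helper25.CTIBeta
import Cfsg.Agent.Helper25.CTICoord
import Cfsg.Agent.Helper25.CTIPoints
import Cfsg.Agent.Helper25.CTIVanishW
import Cfsg.Agent.Helper25.CTICode
import Cfsg.Agent.Helper25.Tri.Grid

set_option autoImplicit false

/-! Existence of the cyclic TI family (Peterfalvi (3.2)). -/

namespace Cfsg.Agent.Helper25

open Cfsg
open scoped ComplexConjugate

universe u

variable {G : Type u} [Group G] [Fintype G] {W₁ W₂ : Subgroup G}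

set_option maxHeartbeats 1600000 in
theorem exists_cyclicTIFamily (hW : IsSelfNormalizingCyclic W₁ W₂)
    (hodd : Odd (Nat.card ↥(W₁ ⊔ W₂))) :
    ∃ χ : (↥(W₁ ⊔ W₂) →* ℂˣ) → (G → ℂ), IsCyclicTIFamily W₁ W₂ χ := by
  classical
  obtain ⟨_, _, hdisj, hcomm, hcyc, _⟩ := id hW
  have hab : ∀ a b : ↥(W₁ ⊔ W₂), a * b = b * a := fun a b =>
    Subtype.ext (snc_commute hW a.2 b.2)
  have : Fintype ↥(W₁ ⊔ W₂) := Fintype.ofFinite _
  let _ : Fintype (IrrCharacter G) := Helper74.irrFintype G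
  have : Fintype (IdxL W₁ W₂) := Fintype.ofFinite _
  have : Fintype (IdxR W₁ W₂) := Fintype.ofFinite _
  obtain ⟨hcI, hcJ, hcIJ⟩ := card_idx_cases hW hodd
  rw [Nat.card_eq_fintype_card] at hcI hcJ
  rw [Nat.card_eq_fintype_card, Nat.card_eq_fintype_card] at hcIJ
  have hneI : Nonempty (IdxL W₁ W₂) := Fintype.card_pos_iff.mp (by omega)
  have hneJ : Nonempty (IdxR W₁ W₂) := Fintype.card_pos_iff.mp (by omega)
  obtain ⟨i₀⟩ := hneI
  obtain ⟨j₀⟩ := hneJ
  -- degrees and coordinates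
  obtain ⟨d, hdpos, hd⟩ := exists_irr_degree (G := G)
  have hgen : ∀ (i : IdxL W₁ W₂) (j : IdxR W₁ W₂),
      IsGeneralizedCharacter G (ctiBeta (G := G) i.1 j.1) := fun i j => isGenChar_ctiBeta _ _
  choose a ha using fun (i : IdxL W₁ W₂) (j : IdxR W₁ W₂) => exists_coord (hgen i j)
  have hdot : ∀ (i k : IdxL W₁ W₂) (j l : IdxR W₁ W₂), ((Tri.dot (a i j) (a k l) : ℤ) : ℂ) =
      (if i.1 = k.1 then 1 else 0) + (if j.1 = l.1 then 1 else 0) +
        (if i.1 = k.1 then 1 else 0) * (if j.1 = l.1 then 1 else 0) := by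
    intro i k j l
    rw [← coord_inner (hgen i j) (ha i j) (ha k l)]
    exact classInner_ctiBeta hW i.1 k.1 j.1 l.1 i.2.2 k.2.2 j.2.2 l.2.2 i.2.1 k.2.1 j.2.1 l.2.1
  have hgrid : Tri.IsGrid d (-1) a := by
    refine ⟨?_, ?_, ?_, ?_, ?_⟩
    · intro i j
      have h := hdot i i j j
      rw [if_pos rfl, if_pos rfl] at h
      have h3 : ((Tri.dot (a i j) (a i j) : ℤ) : ℂ) = ((3 : ℤ) : ℂ) := by rw [h]; norm_num
      exact_mod_cast h3
    · intro i j l hjl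
      have h := hdot i i j l
      rw [if_pos rfl, if_neg (fun e => hjl (Subtype.ext e))] at h
      have h3 : ((Tri.dot (a i j) (a i l) : ℤ) : ℂ) = ((1 : ℤ) : ℂ) := by rw [h]; norm_num
      exact_mod_cast h3
    · intro i k j hik
      have h := hdot i k j j
      rw [if_pos rfl, if_neg (fun e => hik (Subtype.ext e))] at h
      have h3 : ((Tri.dot (a i j) (a k j) : ℤ) : ℂ) = ((1 : ℤ) : ℂ) := by rw [h]; norm_num
      exact_mod_cast h3
    · intro i k j l hik hjl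
      have h := hdot i k j l
      rw [if_neg (fun e => hik (Subtype.ext e)), if_neg (fun e => hjl (Subtype.ext e))] at h
      have h3 : ((Tri.dot (a i j) (a k l) : ℤ) : ℂ) = ((0 : ℤ) : ℂ) := by rw [h]; norm_num
      exact_mod_cast h3
    · intro i j
      have h := coord_apply_one (hgen i j) (ha i j) hd
      rw [ctiBeta_apply_one] at h
      have h3 : ((Tri.dot (a i j) d : ℤ) : ℂ) = ((-1 : ℤ) : ℂ) := by rw [← h]; norm_num
      exact_mod_cast h3
  obtain ⟨x, y, z, sx, sy, sz, hxinj, hyinj, hxy, hzx, hzy, hzinj, hsx, hsy, hsz, hform⟩ :=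
    Tri.grid_decomp hdpos hgrid hcI hcJ hcIJ
  -- the trivial character is not involved
  obtain ⟨t₀, ht₀def⟩ : ∃ t₀ : IrrCharacter G, (t₀ : G → ℂ) = (1 : G → ℂ) :=
    ⟨⟨(1 : G → ℂ), Helper15.isIrrCharacter_one' G⟩, rfl⟩
  have ht₀ : ∀ i j, a i j t₀ = 0 := by
    intro i j
    have h := ha i j t₀
    rw [ht₀def, classInner_ctiBeta_one i.1 j.1 i.2.2 j.2.2 i.2.1 j.2.1] at h
    exact_mod_cast h.symm
  have hne1 : ∀ {s : ℤ}, (s = 1 ∨ s = -1) → s ≠ 0 := by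
    intro s hs h0; rw [h0] at hs; omega
  have hx0 : ∀ i, x i ≠ t₀ := by
    intro i e
    have h := hform i j₀ t₀
    rw [ht₀, ← e, if_pos rfl, if_neg (hxy i j₀), if_neg (fun e' => hzx i j₀ i e'.symm)] at h
    exact hne1 (hsx i) (by omega)
  have hy0 : ∀ j, y j ≠ t₀ := by
    intro j e
    have h := hform i₀ j t₀
    rw [ht₀, ← e, if_neg (fun e' => hxy i₀ j e'.symm), if_pos rfl,
      if_neg (fun e' => hzy i₀ j j e'.symm)] at h
    exact hne1 (hsy j) (by omega)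
  have hz0 : ∀ i j, z i j ≠ t₀ := by
    intro i j e
    have h := hform i j t₀
    rw [ht₀, ← e, if_neg (hzx i j i), if_neg (hzy i j j), if_pos rfl] at h
    exact hne1 (hsz i j) (by omega)
  -- decomposition of β as functions
  have hβ : ∀ i j, ctiBeta (G := G) i.1 j.1 = (sx i : ℂ) • (x i : G → ℂ) +
      (sy j : ℂ) • (y j : G → ℂ) + (sz i j : ℂ) • (z i j : G → ℂ) := by
    intro i j
    rw [coord_eq_sum (hgen i j) (ha i j)]
    simp only [hform i j]
    push_cast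
    simp only [add_smul, Finset.sum_add_distrib, ite_smul, zero_smul, Finset.sum_ite_eq',
      Finset.mem_univ, if_true]
  -- the family
  obtain ⟨χ, hχdef⟩ : ∃ χ : (↥(W₁ ⊔ W₂) →* ℂˣ) → (G → ℂ), ∀ ω, χ ω =
      ((ctiSg sx sy sz (codeL hdisj hcomm ω) (codeR hdisj hcomm ω) : ℤ) : ℂ) •
        ((ctiPt t₀ x y z (codeL hdisj hcomm ω) (codeR hdisj hcomm ω) : IrrCharacter G) : G → ℂ) :=
    ⟨_, fun _ => rfl⟩
  have ev0 : χ 1 = (1 : G → ℂ) := by
    rw [hχdef, codeL_one, codeR_one]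
    show (((1 : ℤ) : ℂ)) • (t₀ : G → ℂ) = 1
    rw [ht₀def]; simp
  have evL : ∀ i : IdxL W₁ W₂, χ i.1 = ((- sx i : ℤ) : ℂ) • (x i : G → ℂ) := by
    intro i
    rw [hχdef, codeL_left, codeR_left hdisj hcomm i.2.1]
    rfl
  have evR : ∀ j : IdxR W₁ W₂, χ j.1 = ((- sy j : ℤ) : ℂ) • (y j : G → ℂ) := by
    intro j
    rw [hχdef, codeL_right hdisj hcomm j.2.1, codeR_right]
    rfl
  have evM : ∀ (i : IdxL W₁ W₂) (j : IdxR W₁ W₂),
      χ (i.1 * j.1) = ((sz i j : ℤ) : ℂ) • (z i j : G → ℂ) := by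
    intro i j
    rw [hχdef, codeL_mul_of_ne hdisj hcomm i j.2.1, codeR_mul_of_ne hdisj hcomm i.2.1 j]
    rfl
  have hon : ∀ ω ω', classInner (χ ω) (χ ω') = if ω = ω' then 1 else 0 := by
    intro ω ω'
    rw [hχdef, hχdef, inner_signed]
    by_cases h : ω = ω'
    · subst h
      rw [if_pos rfl, if_pos rfl]
      rcases ctiSg_sq hsx hsy hsz (codeL hdisj hcomm ω) (codeR hdisj hcomm ω) with e | e <;>
        rw [e] <;> norm_num
    · rw [if_neg h, if_neg]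
      intro hpt
      obtain ⟨e1, e2⟩ := ctiPt_inj hxinj hyinj hxy hzx hzy hzinj hx0 hy0 hz0 _ _ _ _ hpt
      exact h (eq_of_code_eq hdisj hcomm e1 e2)
  have hind : ∀ φ ψ : ↥(W₁ ⊔ W₂) →* ℂˣ, φ ≠ 1 → ψ ≠ 1 → TrivOn W₂ φ → TrivOn W₁ ψ →
      indFun (W₁ ⊔ W₂) (Afun φ ψ) = χ 1 - χ φ - χ ψ + χ (φ * ψ) := by
    intro φ ψ hφ1 hψ1 hφ hψ
    have e1 := evL ⟨φ, hφ, hφ1⟩
    have e2 := evR ⟨ψ, hψ, hψ1⟩
    have e3 := evM ⟨φ, hφ, hφ1⟩ ⟨ψ, hψ, hψ1⟩
    have hb := hβ ⟨φ, hφ, hφ1⟩ ⟨ψ, hψ, hψ1⟩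
    simp only at e1 e2 e3 hb
    have e4 : indFun (W₁ ⊔ W₂) (Afun φ ψ) = ctiBeta (G := G) φ ψ + 1 := by
      unfold ctiBeta; abel
    rw [e4, hb, e1, e2, e3, ev0]
    push_cast
    simp only [neg_smul]
    abel
  refine ⟨χ, ⟨?_, ?_, ?_, ?_, ?_⟩⟩
  rotate_left
  · intro ω ω'
    rw [hon]
    by_cases h : ω = ω'
    · rw [if_pos h, if_pos h]
    · rw [if_neg h, if_neg h]
  rotate_right
  · intro ω
    rw [hχdef]
    rcases ctiSg_sq hsx hsy hsz (codeL hdisj hcomm ω) (codeR hdisj hcomm ω) with e | e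
    · left
      rw [e]
      simpa using (ctiPt t₀ x y z (codeL hdisj hcomm ω) (codeR hdisj hcomm ω)).2
    · right
      rw [e]
      simpa using (ctiPt t₀ x y z (codeL hdisj hcomm ω) (codeR hdisj hcomm ω)).2
  · exact ev0
  · intro ω w hw1 hw2
    have hcf : IsClassFunction G (χ ω) := by
      rw [hχdef]
      exact Helper74.isClassFunction_smul _ (Helper74.irr_isClassFunction _)
    have key := vanish_of_orth_Afun hdisj hab (fun u => χ ω u - cc ω u) ?_ w hw1 hw2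
    · exact sub_eq_zero.mp key
    intro φ ψ hφ hψ
    by_cases hφ1 : φ = 1
    · rw [hφ1, Afun_one_left, Helper15.classInner_zero_right]
    by_cases hψ1 : ψ = 1
    · rw [hψ1, Afun_one_right, Helper15.classInner_zero_right]
    have e : (fun u : ↥(W₁ ⊔ W₂) => χ ω u - cc ω u) = (fun u : ↥(W₁ ⊔ W₂) => χ ω u) - cc ω := rfl
    rw [e, Helper74.classInner_sub_left, ← Helper15.frobenius_reciprocity' _ _ _ hcf,
      hind φ ψ hφ1 hψ1 hφ hψ, Helper74.classInner_add_right, Helper74.classInner_sub_right,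
      Helper74.classInner_sub_right, hon, hon, hon, hon, ← Helper15.classInner_conj_symm,
      classInner_Afun_cc]
    simp only [map_sub, map_add, apply_ite (starRingEnd ℂ), map_one, map_zero]
    have hsw : ∀ p q : ↥(W₁ ⊔ W₂) →* ℂˣ, (if p = q then (1 : ℂ) else 0) = if q = p then 1 else 0 := by
      intro p q
      by_cases h : p = q
      · rw [if_pos h, if_pos h.symm]
      · rw [if_neg h, if_neg (fun h' => h h'.symm)]
    rw [hsw ω 1, hsw ω φ, hsw ω ψ, hsw ω (φ * ψ)]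
    ring
  · intro φ ψ hφ1 hψ1 hφ hψ
    have h := hind φ ψ hφ1 hψ1 hφ hψ
    rw [ev0] at h
    have e : (fun w : ↥(W₁ ⊔ W₂) => 1 - (φ w : ℂ) - (ψ w : ℂ) + (φ w : ℂ) * (ψ w : ℂ)) =
        Afun φ ψ := rfl
    rw [e, h]
    funext g
    simp only [Pi.add_apply, Pi.sub_apply, Pi.one_apply]

end Cfsg.Agent.Helper25
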