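import Cfsg.Agent.Helper25.CliffordCountA
import Cfsg.Agent.Helper16.TIBase
import Cfsg.Agent.Helper80.Pullback

/-!
# (X-F) Clifford count over a cyclic quotient

`finsum_card_stabilizer_sq_le`: for `H ≤ G` with `N_G(H) / H` cyclic and `Q ≤ H` normal in
`N_G(H)`, `∑_{θ ∈ Irr(H), Q ≤ ker θ} |Stab_{N_G(H)}(θ)|² ≤ |H| · |N_G(H)| · #Irr(N_G(H)/Q)`.
-/

set_option autoImplicit false
set_option linter.style.haveILetI false

namespace Cfsg.Agent.Helper25.CliffordCount

open Cfsg Cfsg.Agent.Helper15 Cfsg.Agent.Helper16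
open scoped ComplexConjugate

universe u

section transport

variable {G : Type u} [Group G] (H : Subgroup G)

local notation "NH" => Subgroup.normalizer (H : Set G)

/-- The conjugate (in the sense of `conjFun`) of the transported character is the transport of the
`g⁻¹`-translate. -/
theorem conjFun_toSub_irr (g : NH) (θ : IrrCharacter H) :
    conjFun (H.subgroupOf NH) g (toSub H NH Subgroup.le_normalizer (θ : H → ℂ))
      = toSub H NH Subgroup.le_normalizer ((g⁻¹ • θ : IrrCharacter H) : H → ℂ) := by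
  funext n
  rw [conjFun_apply, toSub_apply, toSub_apply, smul_irr_apply]
  refine congrArg (θ : H → ℂ) (Subtype.ext ?_)
  rw [coe_normConj_symm]
  simp

theorem stabilizer_eq_inertia (θ : IrrCharacter H) :
    MulAction.stabilizer NH θ
      = inertia (H.subgroupOf NH) (toSub H NH Subgroup.le_normalizer (θ : H → ℂ)) := by
  ext g
  rw [MulAction.mem_stabilizer_iff, mem_inertia, conjFun_toSub_irr]
  constructor
  · intro h
    have h2 : g⁻¹ • θ = θ := by
      rw [inv_smul_eq_iff]; exact h.symm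
    rw [h2]
  · intro h
    have h1 := toSub_injective H NH Subgroup.le_normalizer h
    have h2 : g⁻¹ • θ = θ := Subtype.ext h1
    rw [inv_smul_eq_iff] at h2
    exact h2.symm

end transport

/-- Orbit–stabilizer, summed: the stabilizer orders over an orbit add up to the group order. -/
theorem sum_orbit_card_stabilizer {Γ X : Type*} [Group Γ] [Finite Γ] [MulAction Γ X] [Fintype X]
    (x₀ : X) [DecidablePred (fun x => x ∈ MulAction.orbit Γ x₀)] :
    ∑ x ∈ Finset.univ.filter (fun x => x ∈ MulAction.orbit Γ x₀),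
      Nat.card (MulAction.stabilizer Γ x) = Nat.card Γ := by
  have hterm : ∀ x ∈ Finset.univ.filter (fun x => x ∈ MulAction.orbit Γ x₀),
      Nat.card (MulAction.stabilizer Γ x) = Nat.card (MulAction.stabilizer Γ x₀) := by
    intro x hx
    obtain ⟨g, rfl⟩ := (Finset.mem_filter.mp hx).2
    exact (Nat.card_congr (MulAction.stabilizerEquivStabilizer (G := Γ) (g := g) (a := x₀)
      rfl).toEquiv).symm
  rw [Finset.sum_congr rfl hterm, Finset.sum_const, smul_eq_mul]
  have hcard : (Finset.univ.filter (fun x => x ∈ MulAction.orbit Γ x₀)).card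
      = (MulAction.stabilizer Γ x₀).index := by
    rw [MulAction.index_stabilizer, ← Set.ncard_coe_finset]
    congr 1
    ext x
    simp
  rw [hcard, Subgroup.index_mul_card]

section overSec

variable {G : Type u} [Group G] (H : Subgroup G)

local notation "NH" => Subgroup.normalizer (H : Set G)
local notation "LL" => H.subgroupOf (Subgroup.normalizer (H : Set G))

/-- `χ ∈ Irr(N_G(H))` lies over `θ ∈ Irr(H)`. -/
def Over [Fintype LL] (χ : IrrCharacter NH) (θ : IrrCharacter H) : Prop :=
  classInner (fun n : LL => (χ : NH → ℂ) n)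
    (toSub H NH Subgroup.le_normalizer (θ : H → ℂ)) ≠ 0

theorem mem_orbit_of_over [Fintype NH] [Fintype LL] {χ : IrrCharacter NH} {θ θ' : IrrCharacter H}
    (h : Over H χ θ) (h' : Over H χ θ') : θ' ∈ MulAction.orbit NH θ := by
  obtain ⟨g, hg⟩ := exists_conj_of_constituents LL χ.2
    (isIrrCharacter_toSub H NH Subgroup.le_normalizer θ.2)
    (isIrrCharacter_toSub H NH Subgroup.le_normalizer θ'.2) h h'
  rw [conjFun_toSub_irr] at hg
  have h1 := toSub_injective H NH Subgroup.le_normalizer hg
  exact ⟨g⁻¹, (Subtype.ext h1).symm⟩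

theorem ker_of_over [Fintype NH] [Fintype LL] (Q : Subgroup G) (hQH : Q ≤ H)
    [hQn : (Q.subgroupOf NH).Normal] {χ : IrrCharacter NH} {θ : IrrCharacter H}
    (h : Over H χ θ) (hθ : ∀ x : H, (x : G) ∈ Q → (θ : H → ℂ) x = (θ : H → ℂ) 1) :
    ∀ n ∈ Q.subgroupOf NH, (χ : NH → ℂ) n = (χ : NH → ℂ) 1 := by
  classical
  intro n hn
  have hcl := clifford_restrict LL χ.2 (isIrrCharacter_toSub H NH Subgroup.le_normalizer θ.2) h
  have hnL : n ∈ LL := by
    rw [Subgroup.mem_subgroupOf] at hn ⊢
    exact hQH hn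
  have h1 := congrFun hcl ⟨n, hnL⟩
  have h2 := congrFun hcl 1
  simp only [Pi.smul_apply, Finset.sum_apply, smul_eq_mul] at h1 h2
  have h3 : (χ : NH → ℂ) n = (χ : NH → ℂ) ((⟨n, hnL⟩ : LL) : NH) := rfl
  have h4 : (χ : NH → ℂ) 1 = (χ : NH → ℂ) ((1 : LL) : NH) := rfl
  rw [h3, h4, h1, h2]
  congr 1
  apply Finset.sum_congr rfl
  intro φ hφ
  obtain ⟨g, rfl⟩ := (mem_conjOrbit LL).mp hφ
  rw [conjFun_apply_one, conjFun_apply, toSub_apply, toSub_apply]
  have hmem : g * n * g⁻¹ ∈ Q.subgroupOf NH := hQn.conj_mem n hn g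
  rw [Subgroup.mem_subgroupOf] at hmem
  have h5 := hθ ⟨((g * n * g⁻¹ : NH) : G), by
    have := (inferInstance : (LL).Normal).conj_mem n hnL g
    rwa [Subgroup.mem_subgroupOf] at this⟩ hmem
  rw [show (θ : H → ℂ) ⟨((((1 : LL)) : NH) : G), (1 : LL).2⟩ = (θ : H → ℂ) 1 from
    congrArg (θ : H → ℂ) (Subtype.ext (by simp))]
  exact h5

end overSec

section main

variable {G : Type u} [Group G] [Fintype G] (H : Subgroup G)

local notation "NH" => Subgroup.normalizer (H : Set G)
local notation "LL" => H.subgroupOf (Subgroup.normalizer (H : Set G))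

omit [Fintype G] in
/-- Step 1: the stabilizer order is at most `|H|` times the number of characters over `θ`. -/
theorem card_stabilizer_le [Fintype NH] [Fintype LL] [Fintype (IrrCharacter NH)]
    (hcyc : IsCyclic (↥NH ⧸ LL)) (θ : IrrCharacter H)
    [DecidablePred (fun χ : IrrCharacter NH => Over H χ θ)] :
    Nat.card (MulAction.stabilizer NH θ) ≤
      Nat.card H * (Finset.univ.filter (fun χ : IrrCharacter NH => Over H χ θ)).card := by
  have h := card_inertia_le_of_cyclic LL hcyc
    (isIrrCharacter_toSub H NH Subgroup.le_normalizer θ.2)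
  rw [← stabilizer_eq_inertia] at h
  have hcardL : Nat.card LL = Nat.card H :=
    Nat.card_congr (Subgroup.subgroupOfEquivOfLe (Subgroup.le_normalizer (H := H))).toEquiv
  rw [hcardL] at h
  have hsub : Nat.card {χ : IrrCharacter NH // classInner (fun n : LL => (χ : NH → ℂ) n)
      (toSub H NH Subgroup.le_normalizer (θ : H → ℂ)) ≠ 0}
      = (Finset.univ.filter (fun χ : IrrCharacter NH => Over H χ θ)).card := by
    classical
    rw [Nat.card_eq_fintype_card, Fintype.card_subtype]
    apply congrArg Finset.card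
    ext χ
    simp only [Finset.mem_filter, Finset.mem_univ, true_and]
    rfl
  rw [hsub] at h
  exact h

omit [Fintype G] in
/-- Step 3: for a fixed `χ ∈ Irr(N_G(H))`, the stabilizer orders of the `θ` under `χ` with `Q` in
the kernel add up to at most `|N_G(H)|`, and to `0` unless `Q` is in the kernel of `χ`. -/
theorem sum_over_le [Fintype NH] [Fintype LL] [Fintype (IrrCharacter H)]
    (Q : Subgroup G) (hQH : Q ≤ H) [hQn : (Q.subgroupOf NH).Normal] (χ : IrrCharacter NH)
    [DecidablePred (fun θ : IrrCharacter H => Over H χ θ)]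
    [DecidablePred (fun θ : IrrCharacter H =>
      ∀ x : H, (x : G) ∈ Q → (θ : H → ℂ) x = (θ : H → ℂ) 1)]
    [Decidable (∀ n ∈ Q.subgroupOf NH, (χ : NH → ℂ) n = (χ : NH → ℂ) 1)] :
    ∑ θ ∈ Finset.univ.filter (fun θ : IrrCharacter H =>
        ∀ x : H, (x : G) ∈ Q → (θ : H → ℂ) x = (θ : H → ℂ) 1),
      (if Over H χ θ then Nat.card (MulAction.stabilizer NH θ) else 0)
      ≤ if (∀ n ∈ Q.subgroupOf NH, (χ : NH → ℂ) n = (χ : NH → ℂ) 1) then Nat.card NH else 0 := by
  classical
  by_cases hex : ∃ θ₀ : IrrCharacter H,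
      (∀ x : H, (x : G) ∈ Q → (θ₀ : H → ℂ) x = (θ₀ : H → ℂ) 1) ∧ Over H χ θ₀
  · obtain ⟨θ₀, hθ₀Q, hθ₀⟩ := hex
    rw [if_pos (ker_of_over H Q hQH hθ₀ hθ₀Q)]
    rw [← Finset.sum_filter]
    calc _ ≤ ∑ θ ∈ Finset.univ.filter (fun θ => θ ∈ MulAction.orbit NH θ₀),
          Nat.card (MulAction.stabilizer NH θ) := by
          apply Finset.sum_le_sum_of_subset
          intro θ hθ
          rw [Finset.mem_filter, Finset.mem_filter] at hθ
          rw [Finset.mem_filter]
          exact ⟨Finset.mem_univ _, mem_orbit_of_over H hθ₀ hθ.2⟩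
      _ = Nat.card NH := sum_orbit_card_stabilizer θ₀
  · rw [Finset.sum_eq_zero]
    · exact Nat.zero_le _
    · intro θ hθ
      rw [Finset.mem_filter] at hθ
      rw [if_neg]
      intro hov
      exact hex ⟨θ, hθ.2, hov⟩

/-- **(X-F) Clifford count over a cyclic quotient.** -/
theorem finsum_card_stabilizer_sq_le (Q : Subgroup G) (hQH : Q ≤ H)
    [hQn : (Q.subgroupOf (Subgroup.normalizer (H : Set G))).Normal]
    (hcyc : IsCyclic (↥(Subgroup.normalizer (H : Set G)) ⧸
      (H.subgroupOf (Subgroup.normalizer (H : Set G))))) :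
    ∑ᶠ θ ∈ {θ : Cfsg.IrrCharacter H | ∀ x : H, (x : G) ∈ Q → (θ : H → ℂ) x = (θ : H → ℂ) 1},
      (Nat.card (MulAction.stabilizer (Subgroup.normalizer (H : Set G)) θ)) ^ 2 ≤
    Nat.card H * Nat.card (Subgroup.normalizer (H : Set G)) *
      Nat.card (Cfsg.IrrCharacter (↥(Subgroup.normalizer (H : Set G)) ⧸
        Q.subgroupOf (Subgroup.normalizer (H : Set G)))) := by
  classical
  let _ : Fintype NH := Fintype.ofFinite _
  let _ : Fintype LL := Fintype.ofFinite _
  let _ : Fintype (IrrCharacter H) := Helper74.irrFintype H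
  let _ : Fintype (IrrCharacter NH) := Helper74.irrFintype NH
  -- the finsum as a finite sum
  have hfin : ∑ᶠ θ ∈ {θ : Cfsg.IrrCharacter H |
      ∀ x : H, (x : G) ∈ Q → (θ : H → ℂ) x = (θ : H → ℂ) 1},
      (Nat.card (MulAction.stabilizer NH θ)) ^ 2
      = ∑ θ ∈ Finset.univ.filter (fun θ : IrrCharacter H =>
          ∀ x : H, (x : G) ∈ Q → (θ : H → ℂ) x = (θ : H → ℂ) 1),
        (Nat.card (MulAction.stabilizer NH θ)) ^ 2 := by
    rw [finsum_mem_eq_finite_toFinset_sum _ (Set.toFinite _)]
    apply Finset.sum_congr _ (fun _ _ => rfl)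
    ext θ
    simp
  rw [hfin]
  -- the count of characters of the quotient
  have hK : (Finset.univ.filter (fun χ : IrrCharacter NH =>
      ∀ n ∈ Q.subgroupOf NH, (χ : NH → ℂ) n = (χ : NH → ℂ) 1)).card
      = Nat.card (IrrCharacter (↥NH ⧸ Q.subgroupOf NH)) := by
    rw [Nat.card_congr (Helper80.irrQuotientEquiv (Q.subgroupOf NH)), Nat.card_eq_fintype_card,
      Fintype.card_subtype]
  calc ∑ θ ∈ Finset.univ.filter (fun θ : IrrCharacter H =>
          ∀ x : H, (x : G) ∈ Q → (θ : H → ℂ) x = (θ : H → ℂ) 1),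
        (Nat.card (MulAction.stabilizer NH θ)) ^ 2
      ≤ ∑ θ ∈ Finset.univ.filter (fun θ : IrrCharacter H =>
          ∀ x : H, (x : G) ∈ Q → (θ : H → ℂ) x = (θ : H → ℂ) 1),
        Nat.card H * ∑ χ : IrrCharacter NH,
          (if Over H χ θ then Nat.card (MulAction.stabilizer NH θ) else 0) := by
        apply Finset.sum_le_sum
        intro θ _
        have h1 := card_stabilizer_le H hcyc θ
        rw [← Finset.sum_filter, Finset.sum_const, smul_eq_mul, sq]
        calc Nat.card (MulAction.stabilizer NH θ) * Nat.card (MulAction.stabilizer NH θ)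
            ≤ (Nat.card H * (Finset.univ.filter (fun χ : IrrCharacter NH => Over H χ θ)).card)
              * Nat.card (MulAction.stabilizer NH θ) := Nat.mul_le_mul_right _ h1
          _ = _ := by ring
    _ = Nat.card H * ∑ χ : IrrCharacter NH,
          ∑ θ ∈ Finset.univ.filter (fun θ : IrrCharacter H =>
            ∀ x : H, (x : G) ∈ Q → (θ : H → ℂ) x = (θ : H → ℂ) 1),
          (if Over H χ θ then Nat.card (MulAction.stabilizer NH θ) else 0) := by
        rw [← Finset.mul_sum, Finset.sum_comm]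
    _ ≤ Nat.card H * ∑ χ : IrrCharacter NH,
          (if (∀ n ∈ Q.subgroupOf NH, (χ : NH → ℂ) n = (χ : NH → ℂ) 1)
            then Nat.card NH else 0) := by
        apply Nat.mul_le_mul_left
        apply Finset.sum_le_sum
        intro χ _
        exact sum_over_le H Q hQH χ
    _ = _ := by
        rw [← Finset.sum_filter, Finset.sum_const, smul_eq_mul, hK]
        ring

end main

end Cfsg.Agent.Helper25.CliffordCount
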