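import Cfsg.Agent.S0886
import Cfsg.Agent.Helper25.CliffordInd
import Cfsg.Agent.Helper15.Gallagher
import Cfsg.Agent.Helper80.Linear

/-!
# Counting characters over an irreducible character of a normal subgroup with cyclic quotient

`card_inertia_le_of_cyclic`: if `W ⧸ L` is cyclic and `θ ∈ Irr(L)` has inertia group `T`, then there
are at least `|T : L|` irreducible characters of `W` lying over `θ`.
-/

set_option autoImplicit false
set_option linter.style.haveILetI false

namespace Cfsg.Agent.Helper25.CliffordCount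

open Cfsg Cfsg.Agent.Helper15
open scoped ComplexConjugate

universe u

/-- A finite cyclic group has as many linear characters as elements. -/
theorem card_monoidHom_of_isCyclic (A : Type u) [Group A] [Finite A] [IsCyclic A] :
    Nat.card (A →* ℂˣ) = Nat.card A := by
  letI : CommGroup A := IsCyclic.commGroup
  haveI : NeZero (Monoid.exponent A) := ⟨Monoid.exponent_ne_zero_of_finite⟩
  haveI : NeZero ((Monoid.exponent A : ℕ) : ℂ) := NeZero.charZero
  exact CommGroup.card_monoidHom_of_hasEnoughRootsOfUnity A ℂ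

/-- A subgroup containing `L` has cyclic quotient by `L` when the whole group has. -/
theorem isCyclic_quotient_subgroupOf {W : Type u} [Group W] (L T : Subgroup W) [hL : L.Normal]
    (hcyc : IsCyclic (W ⧸ L)) : IsCyclic (T ⧸ L.subgroupOf T) := by
  let f : T ⧸ L.subgroupOf T →* W ⧸ L :=
    QuotientGroup.map (L.subgroupOf T) L T.subtype (fun x hx => hx)
  have hf : Function.Injective f := by
    rw [injective_iff_map_eq_one]
    intro x hx
    obtain ⟨t, rfl⟩ := QuotientGroup.mk_surjective x
    have h1 : f (QuotientGroup.mk t) = QuotientGroup.mk (t : W) := rfl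
    rw [h1, QuotientGroup.eq_one_iff] at hx
    rw [QuotientGroup.eq_one_iff]
    exact hx
  exact isCyclic_of_injective f hf

section

variable {W : Type u} [Group W] [Fintype W] (L : Subgroup W) [hL : L.Normal]

/-- The number of linear characters of `T` trivial on the normal subgroup `N`, when `T ⧸ N` is
cyclic: at least `|T : N|` irreducible characters of `T` lie over the principal character of `N`. -/
theorem card_quotient_le_card_over_one {T : Type u} [Group T] [Fintype T] (N : Subgroup T)
    [hN : N.Normal] [Fintype N] (hcyc : IsCyclic (T ⧸ N)) :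
    Nat.card (T ⧸ N) ≤ Nat.card {β : T → ℂ // IsIrrCharacter T β ∧
      classInner (indFun N (fun _ => (1 : ℂ))) β ≠ 0} := by
  classical
  haveI : Finite (IrrCharacter T) := Helper74.irr_finite
  haveI : Finite {β : T → ℂ // IsIrrCharacter T β ∧
      classInner (indFun N (fun _ => (1 : ℂ))) β ≠ 0} :=
    Finite.of_injective (fun β => (⟨β.1, β.2.1⟩ : IrrCharacter T)) (by
      intro a b hab
      apply Subtype.ext
      exact congrArg (fun z : IrrCharacter T => (z : T → ℂ)) hab)
  rw [← card_monoidHom_of_isCyclic (T ⧸ N)]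
  let F : ((T ⧸ N) →* ℂˣ) → {β : T → ℂ // IsIrrCharacter T β ∧
      classInner (indFun N (fun _ => (1 : ℂ))) β ≠ 0} := fun μ =>
    ⟨fun t => (((μ.comp (QuotientGroup.mk' N)) t : ℂˣ) : ℂ), by
      refine ⟨Helper80.isIrrCharacter_of_monoidHom (μ.comp (QuotientGroup.mk' N)), ?_⟩
      have hirr := Helper80.isIrrCharacter_of_monoidHom (μ.comp (QuotientGroup.mk' N))
      rw [frobenius_reciprocity N _ _
        (Helper74.isClassFunction_of_isCharacter (Helper74.isCharacter_of_isIrr hirr))]
      have hres : (fun h : N => ((((μ.comp (QuotientGroup.mk' N)) (h : T) : ℂˣ)) : ℂ))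
          = fun _ => (1 : ℂ) := by
        funext h
        have : (QuotientGroup.mk' N) (h : T) = 1 := by
          rw [QuotientGroup.mk'_apply, QuotientGroup.eq_one_iff]
          exact h.2
        rw [MonoidHom.comp_apply, this, map_one]
        rfl
      rw [hres]
      have := Helper74.irr_inner_self (⟨_, isIrrCharacter_one N⟩ : IrrCharacter N)
      rw [this]
      exact one_ne_zero⟩
  apply Nat.card_le_card_of_injective F
  intro μ μ' h
  have h1 : ∀ t : T, ((μ (QuotientGroup.mk t) : ℂˣ) : ℂ) = ((μ' (QuotientGroup.mk t) : ℂˣ) : ℂ) :=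
    fun t => congrFun (congrArg Subtype.val h) t
  refine DFunLike.ext _ _ (fun x => Units.ext ?_)
  obtain ⟨t, rfl⟩ := QuotientGroup.mk_surjective x
  exact h1 t

end

section

variable {W : Type u} [Group W] [Fintype W] (L : Subgroup W) [hL : L.Normal]

/-- **Clifford count over a cyclic quotient.**  If `W ⧸ L` is cyclic and `θ ∈ Irr(L)`, then at
least `|T : L|` irreducible characters of `W` lie over `θ`, `T` the inertia group of `θ`. -/
theorem card_inertia_le_of_cyclic [Fintype L] (hcyc : IsCyclic (W ⧸ L)) {θ : L → ℂ}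
    (hθ : IsIrrCharacter L θ) :
    Nat.card (inertia L θ) ≤ Nat.card L *
      Nat.card {χ : IrrCharacter W // classInner (fun n : L => (χ : W → ℂ) n) θ ≠ 0} := by
  classical
  have hθcf : IsClassFunction L θ :=
    Helper74.isClassFunction_of_isCharacter (Helper74.isCharacter_of_isIrr hθ)
  have hLT : L ≤ inertia L θ := le_inertia L hθcf
  generalize hTdef : inertia L θ = T at hLT
  let _ : Fintype T := Fintype.ofFinite T
  let _ : Fintype (L.subgroupOf T) := Fintype.ofFinite _
  have hT : ∀ g : W, g ∈ T ↔ ∀ h : L, θ ⟨g * h * g⁻¹, hL.conj_mem h h.2 g⟩ = θ h := by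
    intro g
    rw [← hTdef]
    exact mem_inertia_iff L θ g
  have hcyc' : IsCyclic (T ⧸ L.subgroupOf T) := isCyclic_quotient_subgroupOf L T hcyc
  have hθ' : IsIrrCharacter (L.subgroupOf T) (toSub L T hLT θ) := isIrrCharacter_toSub L T hLT hθ
  have hinv : ∀ (g : T) (n : L.subgroupOf T),
      toSub L T hLT θ ⟨g * n * g⁻¹, (inferInstance : (L.subgroupOf T).Normal).conj_mem (n : T) n.2 g⟩
        = toSub L T hLT θ n := by
    intro g n
    have h1 := congrFun (conjFun_toSub L T hLT g θ) n
    have h2 : conjFun L (g : W) θ = θ := by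
      have : (g : W) ∈ inertia L θ := by rw [hTdef]; exact g.2
      exact (mem_inertia L θ (g : W)).mp this
    rw [h2] at h1
    exact h1
  obtain ⟨χ, hχ, hχθ⟩ := Cfsg.Agent.S0886.result (L.subgroupOf T) hcyc' (toSub L T hLT θ) hθ' hinv
  have hχN : (fun n : L.subgroupOf T => χ n) = toSub L T hLT θ := funext hχθ
  have hbij := gallagher_bijOn (L.subgroupOf T) hχ (by rw [hχN]; exact hθ')
  rw [hχN] at hbij
  -- the two sets as subtypes
  haveI : Finite (IrrCharacter T) := Helper74.irr_finite
  haveI : Finite (IrrCharacter W) := Helper74.irr_finite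
  have hAB : Nat.card {β : T → ℂ // IsIrrCharacter T β ∧
      classInner (indFun (L.subgroupOf T) (fun _ => (1 : ℂ))) β ≠ 0} =
      Nat.card {ψ : T → ℂ // IsIrrCharacter T ψ ∧
      classInner (indFun (L.subgroupOf T) (toSub L T hLT θ)) ψ ≠ 0} :=
    Nat.card_congr (Set.BijOn.equiv _ hbij)
  have hA := card_quotient_le_card_over_one (L.subgroupOf T) hcyc'
  -- from `Irr(T | θ)` to `Irr(W | θ)`
  have hB : Nat.card {ψ : T → ℂ // IsIrrCharacter T ψ ∧
      classInner (indFun (L.subgroupOf T) (toSub L T hLT θ)) ψ ≠ 0} ≤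
      Nat.card {χ : IrrCharacter W // classInner (fun n : L => (χ : W → ℂ) n) θ ≠ 0} := by
    let F : {ψ : T → ℂ // IsIrrCharacter T ψ ∧
        classInner (indFun (L.subgroupOf T) (toSub L T hLT θ)) ψ ≠ 0} →
        {χ : IrrCharacter W // classInner (fun n : L => (χ : W → ℂ) n) θ ≠ 0} := fun ψ =>
      ⟨⟨indFun T ψ.1, (clifford_induce L T hθ hT hLT ψ.2.1 ψ.2.1 ψ.2.2 ψ.2.2).1⟩, by
        obtain ⟨e, he0, hψe⟩ := resTo_eq_smul_of_inertia L T hθ hT hLT ψ.2.1 ψ.2.2
        have := classInner_restrict_indFun_of_inertia L T hθ hT hLT ψ.1 (e : ℂ) hψe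
        show classInner (fun n : L => indFun T ψ.1 n) θ ≠ 0
        rw [this]
        exact_mod_cast he0⟩
    apply Nat.card_le_card_of_injective F
    intro ψ ψ' h
    have h1 : indFun T ψ.1 = indFun T ψ'.1 :=
      congrArg (fun z : {χ : IrrCharacter W // classInner (fun n : L => (χ : W → ℂ) n) θ ≠ 0} =>
        ((z : IrrCharacter W) : W → ℂ)) h
    exact Subtype.ext ((clifford_induce L T hθ hT hLT ψ.2.1 ψ'.2.1 ψ.2.2 ψ'.2.2).2 h1)
  have hcardT : Nat.card T = Nat.card (T ⧸ L.subgroupOf T) * Nat.card (L.subgroupOf T) :=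
    Subgroup.card_eq_card_quotient_mul_card_subgroup _
  have hcardL : Nat.card (L.subgroupOf T) = Nat.card L :=
    Nat.card_congr (Subgroup.subgroupOfEquivOfLe hLT).toEquiv
  rw [hcardT, hcardL, mul_comm]
  apply Nat.mul_le_mul_left
  calc Nat.card (T ⧸ L.subgroupOf T) ≤ _ := hA
    _ = _ := hAB
    _ ≤ _ := hB

end

end Cfsg.Agent.Helper25.CliffordCount
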