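import Cfsg.Agent.Helper15.IndChar

set_option autoImplicit false

namespace Cfsg.Agent.Helper25

open Cfsg
open scoped ComplexConjugate

universe u

variable {G : Type u} [Group G] (H : Subgroup G) [hN : H.Normal]

/-- The conjugate `θ^g : h ↦ θ (g h g⁻¹)` of a function on a normal subgroup. -/
def conjFn (θ : H → ℂ) (g : G) : H → ℂ :=
  fun h : H => θ ⟨g * h * g⁻¹, hN.conj_mem h h.2 g⟩

theorem conjFn_apply (θ : H → ℂ) (g : G) (h : H) :
    conjFn H θ g h = θ ⟨g * h * g⁻¹, hN.conj_mem h h.2 g⟩ := rfl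

theorem conjFn_one (θ : H → ℂ) : conjFn H θ 1 = θ := by
  funext h
  simp [conjFn]

theorem conjFn_mul (θ : H → ℂ) (g k : G) : conjFn H (conjFn H θ g) k = conjFn H θ (g * k) := by
  funext h
  simp only [conjFn]
  congr 1
  apply Subtype.ext
  simp only [mul_inv_rev]
  group

theorem conjFn_eq_comp (θ : H → ℂ) (g : G) :
    conjFn H θ g = θ ∘ (MulAut.conjNormal g : MulAut H) := by
  funext h
  simp only [conjFn, Function.comp]
  congr 1

theorem isCharacter_conjFn {θ : H → ℂ} (hθ : IsCharacter H θ) (g : G) :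
    IsCharacter H (conjFn H θ g) := by
  rw [conjFn_eq_comp]
  exact Helper74.isCharacter_comp ((MulAut.conjNormal g : MulAut H) : H →* H) hθ

theorem classInner_conjFn [Fintype H] (θ φ : H → ℂ) (g : G) :
    classInner (conjFn H θ g) (conjFn H φ g) = classInner θ φ := by
  simp only [Helper74.classInner_def]
  congr 1
  rw [conjFn_eq_comp, conjFn_eq_comp]
  exact Equiv.sum_comp ((MulAut.conjNormal g : MulAut H)).toEquiv (fun h => θ h * conj (φ h))

theorem isIrrCharacter_conjFn [Finite H] {θ : H → ℂ} (hθ : IsIrrCharacter H θ) (g : G) :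
    IsIrrCharacter H (conjFn H θ g) := by
  have := Fintype.ofFinite H
  have hc := isCharacter_conjFn H (Helper74.isCharacter_of_isIrr hθ) g
  rw [Helper15.isIrrCharacter_iff_inner_self hc, classInner_conjFn]
  exact (Helper15.isIrrCharacter_iff_inner_self (Helper74.isCharacter_of_isIrr hθ)).mp hθ

theorem extendByZero_conjFn (θ : H → ℂ) (g z : G) :
    extendByZero H (conjFn H θ g) z = extendByZero H θ (g * z * g⁻¹) := by
  by_cases hz : z ∈ H
  · rw [Helper15.extendByZero_of_mem H _ hz, Helper15.extendByZero_of_mem H _ (hN.conj_mem z hz g)]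
    rfl
  · have hz' : g * z * g⁻¹ ∉ H := by
      intro h
      apply hz
      have := hN.conj_mem _ h g⁻¹
      simpa [mul_assoc] using this
    rw [Helper15.extendByZero_of_not_mem H _ hz, Helper15.extendByZero_of_not_mem H _ hz']

/-- Conjugate functions induce the same function. -/
theorem indFun_conjFn [Fintype G] (θ : H → ℂ) (g : G) : indFun H (conjFn H θ g) = indFun H θ := by
  funext y
  rw [Helper15.indFun_apply, Helper15.indFun_apply]
  congr 1
  simp only [extendByZero_conjFn]
  rw [← Equiv.sum_comp (Equiv.mulRight g⁻¹) (fun x => extendByZero H θ (x⁻¹ * y * x))]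
  apply Finset.sum_congr rfl
  intro x _
  simp only [Equiv.coe_mulRight, mul_inv_rev]
  congr 1
  group

/-- On `H`, the induced function is the averaged sum of all conjugates. -/
theorem indFun_apply_mem [Fintype G] (θ : H → ℂ) (h : H) :
    indFun H θ (h : G) = (Nat.card H : ℂ)⁻¹ * ∑ g : G, conjFn H θ g h := by
  rw [Helper15.indFun_apply]
  congr 1
  rw [← Equiv.sum_comp (Equiv.inv G) (fun g => conjFn H θ g h)]
  apply Finset.sum_congr rfl
  intro x _
  simp only [Equiv.inv_apply, conjFn, inv_inv]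
  rw [Helper15.extendByZero_of_mem H θ]

open Classical in
/-- The (finite) set of conjugates of `θ`. -/
noncomputable def conjOrbit [Fintype G] (θ : H → ℂ) : Finset (H → ℂ) :=
  Finset.univ.image (fun g : G => conjFn H θ g)

open Classical in
theorem mem_conjOrbit [Fintype G] (θ ψ : H → ℂ) : ψ ∈ conjOrbit H θ ↔ ∃ g : G, ψ = conjFn H θ g := by
  simp only [conjOrbit, Finset.mem_image, Finset.mem_univ, true_and]
  constructor
  · rintro ⟨g, rfl⟩; exact ⟨g, rfl⟩
  · rintro ⟨g, rfl⟩; exact ⟨g, rfl⟩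

open Classical in
/-- Each fibre of `g ↦ θ^g` has the size of the stabilizer. -/
theorem card_fiber_conjFn [Fintype G] (θ : H → ℂ) (g₀ : G) :
    (Finset.univ.filter (fun g : G => conjFn H θ g = conjFn H θ g₀)).card =
      Nat.card {g : G // ∀ h : H, θ ⟨g * h * g⁻¹, hN.conj_mem h h.2 g⟩ = θ h} := by
  rw [Nat.card_eq_fintype_card, Fintype.card_subtype]
  symm
  apply Finset.card_bij (fun t _ => t * g₀)
  · intro t ht
    simp only [Finset.mem_filter, Finset.mem_univ, true_and] at ht ⊢
    rw [← conjFn_mul]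
    have : conjFn H θ t = θ := by
      funext h; exact ht h
    rw [this]
  · intro a _ b _ hab
    exact mul_right_cancel hab
  · intro g hg
    simp only [Finset.mem_filter, Finset.mem_univ, true_and] at hg
    refine ⟨g * g₀⁻¹, ?_, by group⟩
    simp only [Finset.mem_filter, Finset.mem_univ, true_and]
    intro h
    have h1 : conjFn H θ (g * g₀⁻¹) = θ := by
      rw [← conjFn_mul, hg, conjFn_mul, mul_inv_cancel, conjFn_one]
    exact congrFun h1 h

open Classical in
/-- The sum of all conjugates is the stabilizer order times the sum over the orbit. -/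
theorem sum_conjFn [Fintype G] (θ : H → ℂ) :
    ∑ g : G, conjFn H θ g =
      (Nat.card {g : G // ∀ h : H, θ ⟨g * h * g⁻¹, hN.conj_mem h h.2 g⟩ = θ h} : ℂ) •
        ∑ ψ ∈ conjOrbit H θ, ψ := by
  have h1 := Finset.sum_comp (s := (Finset.univ : Finset G)) (fun ψ : H → ℂ => ψ)
    (fun g : G => conjFn H θ g)
  simp only at h1
  rw [h1, Finset.smul_sum]
  apply Finset.sum_congr rfl
  intro ψ hψ
  obtain ⟨g₀, rfl⟩ := (mem_conjOrbit H θ ψ).mp hψ
  rw [card_fiber_conjFn, Nat.cast_smul_eq_nsmul]

open Classical in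
theorem setOf_conj_eq_conjOrbit [Fintype G] (θ : H → ℂ) :
    {ψ : H → ℂ | ∃ g : G, ψ = fun h : H => θ ⟨g * h * g⁻¹, hN.conj_mem h h.2 g⟩} =
      ((conjOrbit H θ : Finset (H → ℂ)) : Set (H → ℂ)) := by
  ext ψ
  rw [Finset.mem_coe, mem_conjOrbit]
  rfl

/-- Restriction to `H` of the function induced from the normal subgroup `H`: valid for every
function `θ` on `H`. -/
theorem restrict_indFun_normal [Fintype G] (θ : H → ℂ) :
    (fun h : H => Cfsg.indFun H θ h) = ((Nat.card {g : G // ∀ h : H, θ ⟨g * h * g⁻¹, hN.conj_mem h h.2 g⟩ = θ h} : ℂ) / (Nat.card H : ℂ)) • ∑ᶠ ψ ∈ {ψ : H → ℂ | ∃ g : G, ψ = fun h : H => θ ⟨g * h * g⁻¹, hN.conj_mem h h.2 g⟩}, ψ := by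
  classical
  rw [setOf_conj_eq_conjOrbit, finsum_mem_coe_finset]
  funext h
  rw [indFun_apply_mem, ← Finset.sum_apply, sum_conjFn]
  simp only [Pi.smul_apply, smul_eq_mul]
  ring

end Cfsg.Agent.Helper25
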