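import Mathlib
import Cfsg.Prelude.Def_OddOrderChar
import Cfsg.Agent.Helper25.CohChief
import Cfsg.Agent.Helper25.CentralBound
import Cfsg.Agent.S1486
import Cfsg.Agent.S1487

set_option autoImplicit false

/-! Peterfalvi (6.6): the characters of `L` induced from characters of `K` nontrivial on a central
subgroup `Z`, when they are all irreducible. -/

namespace Cfsg.Agent.Helper25

open scoped commutatorElement

open Cfsg Cfsg.Agent.Helper80

section basic
variable {L : Type*} [Group L] [Fintype L] (K : Subgroup L) [K.Normal] (Z : Subgroup L)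
  [Z.Normal] (hZK : Z ≤ K)

include hZK in
/-- A character of `K` nontrivial on `Z` induces to a member of `S ∖ S(Z)`. -/
theorem indFun_mem_diff {θ : K → ℂ} (hθ : IsIrrCharacter K θ)
    (hnt : ∃ a : K, (a : L) ∈ Z ∧ θ a ≠ θ 1) :
    indFun K θ ∈ inducedIrrAbove K ⊥ \ inducedIrrAbove K Z := by
  obtain ⟨a, haZ, ha⟩ := hnt
  constructor
  · refine ⟨θ, hθ, ?_, ?_, rfl⟩
    · intro h
      apply ha
      rw [h]
    · intro b hb
      have : b = 1 := Subtype.ext (Subgroup.mem_bot.mp hb)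
      rw [this]
  · rintro ⟨θ', hθ', -, hker', heq⟩
    have h1 := (Cfsg.Agent.S1487.result Z K hZK θ' hθ').mp hker'
    rw [← heq] at h1
    have h2 := (Cfsg.Agent.S1487.result Z K hZK θ hθ).mpr h1
    exact ha (h2 a haZ)

/-- Every member of `S ∖ S(Z)` is induced from a character nontrivial on `Z`. -/
theorem exists_of_mem_diff {ψ : L → ℂ}
    (hψ : ψ ∈ inducedIrrAbove K ⊥ \ inducedIrrAbove K Z) :
    ∃ θ : K → ℂ, IsIrrCharacter K θ ∧ (∃ a : K, (a : L) ∈ Z ∧ θ a ≠ θ 1) ∧ ψ = indFun K θ := by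
  obtain ⟨⟨θ, hθ, hne, -, rfl⟩, h2⟩ := hψ
  refine ⟨θ, hθ, ?_, rfl⟩
  by_contra hcon
  push Not at hcon
  exact h2 ⟨θ, hθ, hne, hcon, rfl⟩

theorem diff_conj_mem {ψ : L → ℂ}
    (hψ : ψ ∈ inducedIrrAbove K ⊥ \ inducedIrrAbove K Z) :
    conjFun ψ ∈ inducedIrrAbove K ⊥ \ inducedIrrAbove K Z := by
  refine ⟨inducedIrrAbove_conj_mem K hψ.1, fun h => hψ.2 ?_⟩
  have := inducedIrrAbove_conj_mem K h
  rwa [conjFun_conjFun] at this

open Classical in
/-- An irreducible induced character has exactly `[L:K]` preimages. -/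
theorem card_fiber_of_irr [Fintype K] [Fintype (IrrCharacter K)] {ψ : L → ℂ}
    (hψ : IsIrrCharacter L ψ) (θ₀ : IrrCharacter K) (h0 : indFun K (θ₀ : K → ℂ) = ψ) :
    (Finset.univ.filter (fun θ : IrrCharacter K => indFun K (θ : K → ℂ) = ψ)).card =
      K.index := by
  set F := Finset.univ.filter (fun θ : IrrCharacter K => indFun K (θ : K → ℂ) = ψ) with hF
  have hψc : IsCharacter L ψ := IsIrrCharacter.isCharacter hψ
  have hρ : IsCharacter K (fun k : K => ψ k) := Helper74.isCharacter_restrict K hψc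
  have hcf : IsClassFunction L ψ := IsCharacter.isClassFunction hψc
  have hψψ : classInner ψ ψ = 1 := Helper74.irr_inner_self ⟨ψ, hψ⟩
  have hinner : ∀ θ : IrrCharacter K, (mult _ hρ θ : ℂ) =
      (starRingEnd ℂ) (classInner (indFun K (θ : K → ℂ)) ψ) := by
    intro θ
    rw [Helper15.frobenius_reciprocity K _ ψ hcf, Helper15.classInner_conj_symm,
      ← mult_spec _ hρ θ]
  have hmult1 : ∀ θ ∈ F, mult _ hρ θ = 1 := by
    intro θ hθ
    have hθ' : indFun K (θ : K → ℂ) = ψ := (Finset.mem_filter.mp hθ).2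
    have := hinner θ
    rw [hθ', hψψ, map_one] at this
    exact_mod_cast this
  have hmult0 : ∀ θ : IrrCharacter K, θ ∉ F → mult _ hρ θ = 0 := by
    intro θ hθ
    have hne : indFun K (θ : K → ℂ) ≠ ψ := fun h => hθ (Finset.mem_filter.mpr ⟨Finset.mem_univ _, h⟩)
    have h1 := Cfsg.Agent.S1486.result K (θ₀ : K → ℂ) (θ : K → ℂ) θ₀.2 θ.2
    by_cases hc : ∃ g : L, (θ : K → ℂ) = fun h : K =>
        (θ₀ : K → ℂ) ⟨g * h * g⁻¹, (inferInstance : K.Normal).conj_mem h h.2 g⟩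
    · exact absurd ((h1.1 hc).trans h0) hne
    · have h2 := h1.2 hc
      rw [h0] at h2
      have := hinner θ
      rw [h2, map_zero] at this
      exact_mod_cast this
  have hdegρ : charDegree (fun k : K => ψ k) = charDegree ψ := by
    simp [charDegree]
  have hdeg : ∀ θ ∈ F, charDegree ψ = K.index * charDegree (θ : K → ℂ) := by
    intro θ hθ
    have hθ' := (Finset.mem_filter.mp hθ).2
    rw [← hθ']
    exact charDegree_indFun K (IsIrrCharacter.isCharacter θ.2)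
  have hθ₀F : θ₀ ∈ F := Finset.mem_filter.mpr ⟨Finset.mem_univ _, h0⟩
  have hc0 : 0 < charDegree (θ₀ : K → ℂ) := IsIrrCharacter.charDegree_pos θ₀.2
  have hconst : ∀ θ ∈ F, charDegree (θ : K → ℂ) = charDegree (θ₀ : K → ℂ) := by
    intro θ hθ
    have h1 := hdeg θ hθ
    have h2 := hdeg θ₀ hθ₀F
    have hK : 0 < K.index := Nat.pos_of_ne_zero Subgroup.index_ne_zero_of_finite
    exact Nat.eq_of_mul_eq_mul_left hK (h1.symm.trans h2)
  have hsum : charDegree ψ = F.card * charDegree (θ₀ : K → ℂ) := by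
    rw [← hdegρ, charDegree_eq_sum_mult _ hρ]
    rw [← Finset.sum_subset (Finset.subset_univ F)
      (fun θ _ hθ => by rw [hmult0 θ hθ, zero_mul])]
    rw [Finset.sum_congr rfl (fun θ hθ => by rw [hmult1 θ hθ, one_mul, hconst θ hθ]),
      Finset.sum_const, smul_eq_mul]
  rw [hdeg θ₀ hθ₀F] at hsum
  exact (Nat.eq_of_mul_eq_mul_right hc0 hsum).symm

end basic

theorem irr_eq_of_inner_ne_zero {W : Type*} [Group W] [Fintype W] {χ ψ : W → ℂ}
    (hχ : IsIrrCharacter W χ) (hψ : IsIrrCharacter W ψ) (h : classInner χ ψ ≠ 0) : χ = ψ := by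
  by_contra hne
  have : (⟨χ, hχ⟩ : IrrCharacter W) ≠ ⟨ψ, hψ⟩ := fun h' => hne (congrArg Subtype.val h')
  exact h (Helper74.irr_inner_ne this)

section eqset
variable {L : Type*} [Group L] [Fintype L] (K : Subgroup L) [K.Normal] (Z : Subgroup L)
  [Z.Normal] (hZK : Z ≤ K)

include hZK in
theorem diff_eq_irr
    (hirr : ∀ χ ∈ inducedIrrAbove K ⊥ \ inducedIrrAbove K Z, IsIrrCharacter L χ) :
    inducedIrrAbove K ⊥ \ inducedIrrAbove K Z =
      {χ | IsIrrCharacter L χ ∧ ∃ z ∈ Z, χ z ≠ χ 1} := by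
  classical
  have : Fintype K := Fintype.ofFinite K
  ext χ
  constructor
  · intro hχ
    refine ⟨hirr χ hχ, ?_⟩
    obtain ⟨θ, hθ, ⟨a, haZ, ha⟩, rfl⟩ := exists_of_mem_diff K Z hχ
    by_contra hcon
    push Not at hcon
    exact ha ((Cfsg.Agent.S1487.result Z K hZK θ hθ).mpr hcon a haZ)
  · rintro ⟨hχ, z, hzZ, hz⟩
    have hχc : IsCharacter L χ := IsIrrCharacter.isCharacter hχ
    have hρ : IsCharacter K (fun k : K => χ k) := Helper74.isCharacter_restrict K hχc
    have h1ne : (fun k : K => χ k) 1 ≠ 0 := IsIrrCharacter.map_one_ne_zero hχ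
    obtain ⟨θ, hθm⟩ := exists_constituent hρ h1ne
    have hcf : IsClassFunction L χ := IsCharacter.isClassFunction hχc
    have hinner : classInner (indFun K (θ : K → ℂ)) χ ≠ 0 := by
      rw [Helper15.frobenius_reciprocity K _ χ hcf, ← Helper15.classInner_conj_symm,
        mult_spec _ hρ θ]
      simp only [map_natCast, ne_eq, Nat.cast_eq_zero]
      omega
    have hIc : IsCharacter L (indFun K (θ : K → ℂ)) :=
      Helper15.isCharacter_indFun K (IsIrrCharacter.isCharacter θ.2)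
    have hnt : ∃ a : K, (a : L) ∈ Z ∧ (θ : K → ℂ) a ≠ (θ : K → ℂ) 1 := by
      by_contra hcon
      push Not at hcon
      have h1 := (Cfsg.Agent.S1487.result Z K hZK (θ : K → ℂ) θ.2).mp hcon
      have hm : 1 ≤ mult _ hIc ⟨χ, hχ⟩ := by
        have h2 := mult_spec _ hIc ⟨χ, hχ⟩
        rw [h2] at hinner
        have : mult _ hIc ⟨χ, hχ⟩ ≠ 0 := by
          intro h0
          apply hinner
          rw [h0, Nat.cast_zero]
        omega
      exact hz (constituent_apply_eq hIc ⟨χ, hχ⟩ hm (h1 z hzZ))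
    have hmem := indFun_mem_diff K Z hZK θ.2 hnt
    have hirr' := hirr _ hmem
    have heq : indFun K (θ : K → ℂ) = χ := irr_eq_of_inner_ne_zero hirr' hχ hinner
    rw [← heq]
    exact hmem

end eqset

section sums
variable {L : Type*} [Group L] [Fintype L] (K : Subgroup L) [K.Normal] (Z : Subgroup L)
  [Z.Normal]

open Classical in
/-- `Σ θ(1)²` over the characters of `K` nontrivial on `Z` is `|K| - |K : Z|`. -/
theorem sum_sq_nontrivial_add [Fintype K] [Fintype (IrrCharacter K)] :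
    ∑ θ ∈ Finset.univ.filter (fun θ : IrrCharacter K =>
        ¬ ∀ a : K, (a : L) ∈ Z → (θ : K → ℂ) a = (θ : K → ℂ) 1), charDegree (θ : K → ℂ) ^ 2
      + Z.relIndex K = Nat.card K := by
  rw [← sum_charDegree_sq_above K Z, ← Helper79.sum_charDegree_sq (G := K), add_comm]
  exact Finset.sum_filter_add_sum_filter_not _ _ _

open Classical in
/-- The congruence trick: in a `p`-group, `Σ θ(1)²` over the characters nontrivial on `Z` of
degree `< p^a` is divisible by `p^(2a)` when `p^(2a) ≤ |K : Z|`. -/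
theorem dvd_sum_sq_small [Fintype K] [Fintype (IrrCharacter K)] (p m a : ℕ) (hp : p.Prime)
    (hK : Nat.card K = p ^ m) (hle : (p ^ a) ^ 2 ≤ Z.relIndex K) :
    (p ^ a) ^ 2 ∣ ∑ θ ∈ Finset.univ.filter (fun θ : IrrCharacter K =>
        (¬ ∀ a : K, (a : L) ∈ Z → (θ : K → ℂ) a = (θ : K → ℂ) 1) ∧
          charDegree (θ : K → ℂ) < p ^ a), charDegree (θ : K → ℂ) ^ 2 := by
  set NT : IrrCharacter K → Prop := fun θ =>
    ¬ ∀ a : K, (a : L) ∈ Z → (θ : K → ℂ) a = (θ : K → ℂ) 1 with hNT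
  have hA := sum_sq_nontrivial_add K Z
  -- |K:Z| is a power of p, at least p^(2a)
  have hrel : Z.relIndex K ∣ p ^ m := by rw [← hK]; exact Subgroup.relIndex_dvd_card Z K
  obtain ⟨b, hbm, hb⟩ := (Nat.dvd_prime_pow hp).mp hrel
  have h2ab : 2 * a ≤ b := by
    rw [hb, ← pow_mul] at hle
    exact (Nat.pow_le_pow_iff_right hp.one_lt).mp (by rwa [mul_comm] at hle)
  have hd1 : (p ^ a) ^ 2 ∣ Z.relIndex K := by
    rw [hb, ← pow_mul, mul_comm]
    exact pow_dvd_pow p h2ab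
  have hd2 : (p ^ a) ^ 2 ∣ Nat.card K := by
    rw [hK, ← pow_mul, mul_comm]
    exact pow_dvd_pow p (h2ab.trans hbm)
  have hd3 : (p ^ a) ^ 2 ∣ ∑ θ ∈ Finset.univ.filter NT, charDegree (θ : K → ℂ) ^ 2 := by
    rw [← hA] at hd2
    exact (Nat.dvd_add_left hd1).mp hd2
  have hsplit : ∑ θ ∈ Finset.univ.filter NT, charDegree (θ : K → ℂ) ^ 2 =
      ∑ θ ∈ Finset.univ.filter (fun θ : IrrCharacter K => NT θ ∧ charDegree (θ : K → ℂ) < p ^ a),
        charDegree (θ : K → ℂ) ^ 2 +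
      ∑ θ ∈ Finset.univ.filter (fun θ : IrrCharacter K => NT θ ∧
        ¬ charDegree (θ : K → ℂ) < p ^ a), charDegree (θ : K → ℂ) ^ 2 := by
    rw [← Finset.sum_filter_add_sum_filter_not (Finset.univ.filter NT)
      (fun θ : IrrCharacter K => charDegree (θ : K → ℂ) < p ^ a)]
    rw [Finset.filter_filter, Finset.filter_filter]
  have hd4 : (p ^ a) ^ 2 ∣ ∑ θ ∈ Finset.univ.filter (fun θ : IrrCharacter K => NT θ ∧
      ¬ charDegree (θ : K → ℂ) < p ^ a), charDegree (θ : K → ℂ) ^ 2 := by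
    apply Finset.dvd_sum
    intro θ hθ
    have hge : p ^ a ≤ charDegree (θ : K → ℂ) := not_lt.mp (Finset.mem_filter.mp hθ).2.2
    have hdvd : charDegree (θ : K → ℂ) ∣ p ^ m := by
      rw [← hK]; exact IsIrrCharacter.charDegree_dvd_card θ.2
    obtain ⟨a', -, ha'⟩ := (Nat.dvd_prime_pow hp).mp hdvd
    rw [ha'] at hge ⊢
    have : a ≤ a' := (Nat.pow_le_pow_iff_right hp.one_lt).mp hge
    exact pow_dvd_pow_of_dvd (pow_dvd_pow p this) 2
  rw [hsplit] at hd3
  exact (Nat.dvd_add_left hd4).mp hd3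

end sums

section fib
variable {L : Type*} [Group L] [Fintype L] (K : Subgroup L) [K.Normal] (Z : Subgroup L)
  [Z.Normal] (hZK : Z ≤ K)

include hZK in
theorem indFun_mem_diff_iff {θ : K → ℂ} (hθ : IsIrrCharacter K θ) :
    indFun K θ ∈ inducedIrrAbove K ⊥ \ inducedIrrAbove K Z ↔
      ¬ ∀ a : K, (a : L) ∈ Z → θ a = θ 1 := by
  constructor
  · intro h hcon
    obtain ⟨θ', hθ', ⟨a, haZ, ha⟩, heq⟩ := exists_of_mem_diff K Z h
    have h1 := (Cfsg.Agent.S1487.result Z K hZK θ hθ).mp hcon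
    rw [heq] at h1
    exact ha ((Cfsg.Agent.S1487.result Z K hZK θ' hθ').mpr h1 a haZ)
  · intro h
    push Not at h
    exact indFun_mem_diff K Z hZK hθ h

open Classical in
/-- Summing `θ(1)²` over the characters inducing into a set `Y` of irreducible characters. -/
theorem sum_sq_fiber [Fintype K] [Fintype (IrrCharacter K)] (Y : Finset (L → ℂ))
    (hYirr : ∀ ψ ∈ Y, IsIrrCharacter L ψ)
    (hYind : ∀ ψ ∈ Y, ∃ θ : IrrCharacter K, indFun K (θ : K → ℂ) = ψ) :
    ∑ θ ∈ Finset.univ.filter (fun θ : IrrCharacter K => indFun K (θ : K → ℂ) ∈ Y),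
      charDegree (θ : K → ℂ) ^ 2 = K.index * ∑ ψ ∈ Y, (charDegree ψ / K.index) ^ 2 := by
  have hmaps : ∀ θ ∈ Finset.univ.filter (fun θ : IrrCharacter K => indFun K (θ : K → ℂ) ∈ Y),
      indFun K (θ : K → ℂ) ∈ Y := fun θ hθ => (Finset.mem_filter.mp hθ).2
  rw [← Finset.sum_fiberwise_of_maps_to hmaps, Finset.mul_sum]
  refine Finset.sum_congr rfl fun ψ hψ => ?_
  obtain ⟨θ₀, h0⟩ := hYind ψ hψ
  have hfilter : (Finset.univ.filter (fun θ : IrrCharacter K => indFun K (θ : K → ℂ) ∈ Y)).filter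
      (fun θ : IrrCharacter K => indFun K (θ : K → ℂ) = ψ) =
      Finset.univ.filter (fun θ : IrrCharacter K => indFun K (θ : K → ℂ) = ψ) := by
    ext θ
    simp only [Finset.mem_filter, Finset.mem_univ, true_and]
    constructor
    · exact fun h => h.2
    · intro h
      exact ⟨h ▸ hψ, h⟩
  rw [hfilter]
  have hK : 0 < K.index := Nat.pos_of_ne_zero Subgroup.index_ne_zero_of_finite
  have hconst : ∀ θ ∈ Finset.univ.filter (fun θ : IrrCharacter K => indFun K (θ : K → ℂ) = ψ),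
      charDegree (θ : K → ℂ) ^ 2 = (charDegree ψ / K.index) ^ 2 := by
    intro θ hθ
    have hθ' := (Finset.mem_filter.mp hθ).2
    have : charDegree ψ = K.index * charDegree (θ : K → ℂ) := by
      rw [← hθ']
      exact charDegree_indFun K (IsIrrCharacter.isCharacter θ.2)
    rw [this, Nat.mul_div_cancel_left _ hK]
  rw [Finset.sum_congr rfl hconst, Finset.sum_const, smul_eq_mul,
    card_fiber_of_irr K (hYirr ψ hψ) θ₀ h0]

end fib

section main
variable {L : Type*} [Group L] [Fintype L] {G : Type*} [Group G] [Fintype G]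

theorem coh_central_pgroup (K : Subgroup L) [K.Normal] (τ : (L → ℂ) → (G → ℂ))
    (R : (L → ℂ) → Finset (G → ℂ)) (hS : IsCoherenceSystem (inducedIrrAbove K ⊥) τ R)
    (Z : Subgroup L) [Z.Normal] (hZ1 : Z ≠ ⊥) (hZK : Z ≤ K)
    (hZc : ∀ z ∈ Z, ∀ k ∈ K, z * k = k * z)
    (hirr : ∀ χ ∈ inducedIrrAbove K ⊥ \ inducedIrrAbove K Z, IsIrrCharacter L χ)
    (p m : ℕ) (hp : p.Prime) (hp3 : 3 ≤ p) (hK : Nat.card K = p ^ m)
    (hcop : Nat.Coprime K.index p) :
    IsCoherent (inducedIrrAbove K ⊥ \ inducedIrrAbove K Z) {1}ᶜ τ := by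
  classical
  have : Fintype K := Fintype.ofFinite K
  have : Fintype (IrrCharacter K) := Helper74.irrFintype K
  set S := inducedIrrAbove K ⊥ with hSdef
  set X := S \ inducedIrrAbove K Z with hX
  have hXS : X ⊆ S := Set.sdiff_subset
  have hfin : X.Finite := (inducedIrrAbove_finite K ⊥).subset hXS
  have he0 : 0 < K.index := Nat.pos_of_ne_zero Subgroup.index_ne_zero_of_finite
  set d : (L → ℂ) → ℕ := fun φ => charDegree φ with hd_def
  set n : (L → ℂ) → ℕ := fun φ => ⌊(classInner φ φ).re⌋₊ with hn_def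
  have hd : ∀ φ ∈ S, φ 1 = (d φ : ℂ) := fun φ hφ =>
    (Helper80.IsCharacter.charDegree_cast (hS.isCharacter φ hφ)).symm
  have hn : ∀ φ ∈ S, classInner φ φ = (n φ : ℂ) := by
    intro φ hφ
    obtain ⟨k, hk⟩ := Helper15.isCharacter_inner_nat (hS.isCharacter φ hφ) (hS.isCharacter φ hφ)
    simp only [hn_def, hk]
    simp
  have hnX : ∀ φ ∈ X, n φ = 1 := by
    intro φ hφ
    have h1 : classInner φ φ = 1 := Helper74.irr_inner_self ⟨φ, hirr φ hφ⟩
    simp [hn_def, h1]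
  have hXdeg : ∀ ψ ∈ X, ∃ a : ℕ, d ψ = K.index * p ^ a := by
    intro ψ hψ
    obtain ⟨θ, hθ, -, rfl⟩ := exists_of_mem_diff K Z hψ
    have hdvd : charDegree θ ∣ p ^ m := by
      rw [← hK]; exact IsIrrCharacter.charDegree_dvd_card hθ
    obtain ⟨a, -, ha⟩ := (Nat.dvd_prime_pow hp).mp hdvd
    refine ⟨a, ?_⟩
    simp only [hd_def]
    rw [charDegree_indFun K (IsIrrCharacter.isCharacter hθ), ha]
  have hdconj : ∀ φ : L → ℂ, d (conjFun φ) = d φ := by
    intro φ
    simp [hd_def, charDegree, conjFun]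
  -- X is nonempty
  have hXne : X.Nonempty := by
    have hA := sum_sq_nontrivial_add K Z
    have h1 : Nat.card K = Z.relIndex K * Nat.card Z := card_eq_relIndex_mul_card hZK
    have h2 : 1 < Nat.card Z := Z.one_lt_card_iff_ne_bot.mpr hZ1
    have h3 : 0 < Z.relIndex K := Nat.pos_of_ne_zero (by
      rw [Subgroup.relIndex]; exact Subgroup.index_ne_zero_of_finite)
    have h4 : Z.relIndex K < Nat.card K := by
      rw [h1]; nlinarith
    have h5 : 0 < ∑ θ ∈ Finset.univ.filter (fun θ : IrrCharacter K =>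
        ¬ ∀ a : K, (a : L) ∈ Z → (θ : K → ℂ) a = (θ : K → ℂ) 1),
        charDegree (θ : K → ℂ) ^ 2 := by omega
    obtain ⟨θ, hθ, -⟩ := Finset.exists_ne_zero_of_sum_ne_zero h5.ne'
    exact ⟨_, (indFun_mem_diff_iff K Z hZK θ.2).mpr (Finset.mem_filter.mp hθ).2⟩
  -- minimal degree
  obtain ⟨χ₀, hχ₀X', hχ₀min⟩ := Finset.exists_min_image hfin.toFinset d
    (by obtain ⟨ψ, hψ⟩ := hXne; exact ⟨ψ, hfin.mem_toFinset.mpr hψ⟩)
  have hχ₀X : χ₀ ∈ X := hfin.mem_toFinset.mp hχ₀X'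
  set X₀ : Finset (L → ℂ) := hfin.toFinset.filter (fun ψ => d ψ = d χ₀) with hX₀
  have hX₀X : (↑X₀ : Set (L → ℂ)) ⊆ X := by
    intro ψ hψ
    exact hfin.mem_toFinset.mp (Finset.mem_filter.mp (Finset.mem_coe.mp hψ)).1
  have hχ₀X₀ : χ₀ ∈ X₀ := Finset.mem_filter.mpr ⟨hχ₀X', rfl⟩
  have hX₀conj : ∀ φ ∈ X₀, conjFun φ ∈ X₀ := by
    intro φ hφ
    rw [hX₀, Finset.mem_filter] at hφ ⊢
    exact ⟨hfin.mem_toFinset.mpr (diff_conj_mem K Z (hfin.mem_toFinset.mp hφ.1)),
      by rw [hdconj]; exact hφ.2⟩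
  have hX₀coh : IsCoherent (↑X₀ : Set (L → ℂ)) {1}ᶜ τ := by
    apply coh_uniform (isCoherenceSystem_subset hS (hX₀X.trans hXS) ⟨χ₀, hχ₀X₀⟩
      (fun χ hχ => Finset.mem_coe.mpr (hX₀conj χ (Finset.mem_coe.mp hχ))))
    intro φ hφ ψ hψ
    rw [hd φ (hXS (hX₀X hφ)), hd ψ (hXS (hX₀X hψ)),
      (Finset.mem_filter.mp (Finset.mem_coe.mp hφ)).2,
      (Finset.mem_filter.mp (Finset.mem_coe.mp hψ)).2]
  -- the family of admissible subsets
  let P : Finset (L → ℂ) → Prop := fun T =>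
    X₀ ⊆ T ∧ (↑T : Set (L → ℂ)) ⊆ X ∧ (∀ φ ∈ T, conjFun φ ∈ T) ∧
      IsCoherent (↑T : Set (L → ℂ)) {1}ᶜ τ
  set F := hfin.toFinset.powerset.filter P with hF
  have hmemF : ∀ T, T ∈ F ↔ P T := by
    intro T
    rw [hF, Finset.mem_filter, Finset.mem_powerset]
    constructor
    · exact fun h => h.2
    · intro h
      refine ⟨?_, h⟩
      intro φ hφ
      rw [Set.Finite.mem_toFinset]
      exact h.2.1 (Finset.mem_coe.mpr hφ)
  have hX₀F : X₀ ∈ F := (hmemF X₀).mpr ⟨Finset.Subset.refl _, hX₀X, hX₀conj, hX₀coh⟩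
  obtain ⟨T, hTF, hTmax⟩ := Finset.exists_max_image F Finset.card ⟨X₀, hX₀F⟩
  obtain ⟨hX₀T, hTX, hTconj, hTcoh⟩ := (hmemF T).mp hTF
  have hXT : X ⊆ ↑T := by
    intro χ' hχ'X
    by_contra hχ'T
    have hne : (hfin.toFinset \ T).Nonempty :=
      ⟨χ', Finset.mem_sdiff.mpr ⟨hfin.mem_toFinset.mpr hχ'X, fun h => hχ'T (Finset.mem_coe.mpr h)⟩⟩
    obtain ⟨χ, hχmem, hχmin⟩ := Finset.exists_min_image (hfin.toFinset \ T) d hne
    have hχX : χ ∈ X := hfin.mem_toFinset.mp (Finset.mem_sdiff.mp hχmem).1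
    have hχT : χ ∉ T := (Finset.mem_sdiff.mp hχmem).2
    have hχS : χ ∈ S := hXS hχX
    have hsmall : ∀ ψ ∈ X, d ψ < d χ → ψ ∈ T := by
      intro ψ hψ hlt
      by_contra hψT
      have := hχmin ψ (Finset.mem_sdiff.mpr ⟨hfin.mem_toFinset.mpr hψ, hψT⟩)
      omega
    have hχcT : conjFun χ ∉ T := by
      intro h
      have := hTconj _ h
      rw [conjFun_conjFun] at this
      exact hχT this
    have hχ₀T : χ₀ ∈ T := hX₀T hχ₀X₀
    obtain ⟨θ, hθ, hθnt, hχeq⟩ := exists_of_mem_diff K Z hχX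
    obtain ⟨a, ha⟩ := hXdeg χ hχX
    obtain ⟨a₁, ha₁⟩ := hXdeg χ₀ hχ₀X
    have hcθ : charDegree θ = p ^ a := by
      have h1 : d χ = K.index * charDegree θ := by
        simp only [hd_def]
        rw [hχeq]
        exact charDegree_indFun K (IsIrrCharacter.isCharacter hθ)
      rw [ha] at h1
      exact (Nat.eq_of_mul_eq_mul_left he0 h1).symm
    have hle01 : d χ₀ ≤ d χ := hχ₀min χ (hfin.mem_toFinset.mpr hχX)
    have hne01 : d χ₀ ≠ d χ := by
      intro h
      exact hχT (hX₀T (Finset.mem_filter.mpr ⟨hfin.mem_toFinset.mpr hχX, h.symm⟩))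
    have ha₁a : a₁ < a := by
      have h1 : K.index * p ^ a₁ < K.index * p ^ a := by
        rw [← ha, ← ha₁]; omega
      have h2 : p ^ a₁ < p ^ a := Nat.lt_of_mul_lt_mul_left h1
      exact (Nat.pow_lt_pow_iff_right hp.one_lt).mp h2
    have hdvd : d χ₀ ∣ d χ := by
      rw [ha, ha₁]
      exact Nat.mul_dvd_mul_left _ (pow_dvd_pow p ha₁a.le)
    -- centrality bound
    have hcent : (p ^ a) ^ 2 ≤ Z.relIndex K := by
      rw [← hcθ]
      refine (IsIrrCharacter.charDegree_sq_le_index_center hθ).trans ?_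
      rw [Subgroup.relIndex]
      apply Nat.le_of_dvd (Nat.pos_of_ne_zero Subgroup.index_ne_zero_of_finite)
      apply Subgroup.index_dvd_of_le
      intro k hk
      rw [Subgroup.mem_center_iff]
      intro g
      have := hZc (k : L) (Subgroup.mem_subgroupOf.mp hk) (g : L) g.2
      exact Subtype.ext (by simpa using this.symm)
    have hB := dvd_sum_sq_small K Z p m a hp hK hcent
    set Y : Finset (L → ℂ) := hfin.toFinset.filter (fun ψ => d ψ < d χ) with hY
    have hYX : ∀ ψ ∈ Y, ψ ∈ X := fun ψ hψ => hfin.mem_toFinset.mp (Finset.mem_filter.mp hψ).1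
    have hYT : Y ⊆ T := fun ψ hψ => hsmall ψ (hYX ψ hψ) (Finset.mem_filter.mp hψ).2
    have hC := sum_sq_fiber K Y (fun ψ hψ => hirr ψ (hYX ψ hψ)) (fun ψ hψ => by
      obtain ⟨θ', hθ', -, rfl⟩ := exists_of_mem_diff K Z (hYX ψ hψ)
      exact ⟨⟨θ', hθ'⟩, rfl⟩)
    have hfilter : Finset.univ.filter (fun θ' : IrrCharacter K => indFun K (θ' : K → ℂ) ∈ Y) =
        Finset.univ.filter (fun θ' : IrrCharacter K =>
          (¬ ∀ a : K, (a : L) ∈ Z → (θ' : K → ℂ) a = (θ' : K → ℂ) 1) ∧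
            charDegree (θ' : K → ℂ) < p ^ a) := by
      ext θ'
      simp only [Finset.mem_filter, Finset.mem_univ, true_and, hY, Set.Finite.mem_toFinset]
      rw [indFun_mem_diff_iff K Z hZK θ'.2]
      have h1 : d (indFun K (θ' : K → ℂ)) = K.index * charDegree (θ' : K → ℂ) :=
        charDegree_indFun K (IsIrrCharacter.isCharacter θ'.2)
      rw [h1, ha]
      constructor
      · rintro ⟨h2, h3⟩
        exact ⟨h2, Nat.lt_of_mul_lt_mul_left h3⟩
      · rintro ⟨h2, h3⟩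
        exact ⟨h2, Nat.mul_lt_mul_of_pos_left h3 he0⟩
    rw [hfilter] at hC
    rw [hC] at hB
    set V := ∑ ψ ∈ Y, (charDegree ψ / K.index) ^ 2 with hV
    have hcop' : Nat.Coprime ((p ^ a) ^ 2) K.index :=
      Nat.Coprime.pow_left _ (Nat.Coprime.pow_left _ hcop.symm)
    have hBV : (p ^ a) ^ 2 ∣ V := hcop'.dvd_of_dvd_mul_left hB
    have hχ₀Y : χ₀ ∈ Y := Finset.mem_filter.mpr ⟨hχ₀X', by omega⟩
    have hVpos : 0 < V := by
      have h1 : (charDegree χ₀ / K.index) ^ 2 ≤ V :=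
        Finset.single_le_sum (f := fun ψ => (charDegree ψ / K.index) ^ 2)
          (fun ψ _ => Nat.zero_le _) hχ₀Y
      have h2 : charDegree χ₀ / K.index = p ^ a₁ := by
        have : charDegree χ₀ = K.index * p ^ a₁ := ha₁
        rw [this, Nat.mul_div_cancel_left _ he0]
      rw [h2] at h1
      have : 0 < (p ^ a₁) ^ 2 := by positivity
      omega
    have hVge : (p ^ a) ^ 2 ≤ V := Nat.le_of_dvd hVpos hBV
    -- sum over Y of d²
    have hsumY : ∑ ψ ∈ Y, d ψ ^ 2 = K.index ^ 2 * V := by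
      rw [hV, Finset.mul_sum]
      refine Finset.sum_congr rfl fun ψ hψ => ?_
      obtain ⟨b, hb⟩ := hXdeg ψ (hYX ψ hψ)
      have : charDegree ψ = K.index * p ^ b := hb
      simp only [hd_def]
      rw [this, Nat.mul_div_cancel_left _ he0]
      ring
    have hnat : 2 * d χ * d χ₀ < K.index ^ 2 * V := by
      have h1 : 2 * p ^ a₁ < p ^ a := by
        have h2 : p ^ (a₁ + 1) ≤ p ^ a := Nat.pow_le_pow_right hp.pos ha₁a
        have h3 : 0 < p ^ a₁ := by positivity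
        rw [pow_succ] at h2
        nlinarith
      rw [ha, ha₁]
      have h4 : 2 * (K.index * p ^ a) * (K.index * p ^ a₁) <
          K.index ^ 2 * (p ^ a) ^ 2 := by
        have h5 : 0 < p ^ a := by positivity
        have h6 : 0 < K.index ^ 2 * p ^ a := by positivity
        nlinarith
      exact lt_of_lt_of_le h4 (Nat.mul_le_mul_left _ hVge)
    have hineq : (2 * d χ * d χ₀ : ℝ) < ∑ φ ∈ T, ((d φ : ℝ) ^ 2 / (n φ : ℝ)) := by
      have h1 : ∑ φ ∈ T, ((d φ : ℝ) ^ 2 / (n φ : ℝ)) = ∑ φ ∈ T, (d φ : ℝ) ^ 2 := by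
        refine Finset.sum_congr rfl fun φ hφ => ?_
        rw [hnX φ (hTX (Finset.mem_coe.mpr hφ)), Nat.cast_one, div_one]
      have h2 : ∑ φ ∈ Y, (d φ : ℝ) ^ 2 ≤ ∑ φ ∈ T, (d φ : ℝ) ^ 2 :=
        Finset.sum_le_sum_of_subset_of_nonneg hYT (fun _ _ _ => by positivity)
      have h3 : ∑ φ ∈ Y, (d φ : ℝ) ^ 2 = ((K.index ^ 2 * V : ℕ) : ℝ) := by
        rw [← hsumY]; push_cast; rfl
      have h4 : ((2 * d χ * d χ₀ : ℕ) : ℝ) < ((K.index ^ 2 * V : ℕ) : ℝ) := by
        exact_mod_cast hnat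
      rw [h1]
      refine lt_of_lt_of_le ?_ h2
      rw [h3]
      push_cast at h4 ⊢
      exact h4
    have hcoh' := coh_ext hS d n hd hn T (hTX.trans hXS) hTconj hTcoh χ hχS hχT hχcT χ₀ hχ₀T
      hdvd hineq
    set T' : Finset (L → ℂ) := insert χ (insert (conjFun χ) T) with hT'
    have hcoe : (↑T' : Set (L → ℂ)) = ↑T ∪ {χ, conjFun χ} := by
      ext φ
      simp only [hT', Finset.coe_insert, Set.mem_insert_iff, Finset.mem_coe, Set.mem_union,
        Set.mem_singleton_iff]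
      tauto
    have hT'F : T' ∈ F := by
      rw [hmemF]
      refine ⟨?_, ?_, ?_, ?_⟩
      · intro φ hφ
        exact Finset.mem_insert_of_mem (Finset.mem_insert_of_mem (hX₀T hφ))
      · rw [hcoe]
        intro φ hφ
        rcases hφ with hφ | hφ | hφ
        · exact hTX hφ
        · rw [hφ]; exact hχX
        · rw [Set.mem_singleton_iff] at hφ
          rw [hφ]; exact diff_conj_mem K Z hχX
      · intro φ hφ
        rw [hT', Finset.mem_insert, Finset.mem_insert] at hφ ⊢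
        rcases hφ with rfl | rfl | hφ
        · right; left; rfl
        · left; exact conjFun_conjFun _
        · right; right; exact hTconj φ hφ
      · rw [hcoe]; exact hcoh'
    have hcard : T.card < T'.card := by
      apply Finset.card_lt_card
      rw [Finset.ssubset_iff_of_subset]
      · exact ⟨χ, Finset.mem_insert_self _ _, hχT⟩
      · intro φ hφ
        exact Finset.mem_insert_of_mem (Finset.mem_insert_of_mem hφ)
    exact absurd (hTmax T' hT'F) (not_le.mpr hcard)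
  have hTeq : (↑T : Set (L → ℂ)) = X := Set.Subset.antisymm hTX hXT
  rw [← hTeq]
  exact hTcoh

end main

section final
variable {L : Type*} [Group L] [Fintype L] {G : Type*} [Group G] [Fintype G]

theorem diff_nonempty (K : Subgroup L) [K.Normal] (Z : Subgroup L) [Z.Normal] (hZ1 : Z ≠ ⊥)
    (hZK : Z ≤ K) : (inducedIrrAbove K ⊥ \ inducedIrrAbove K Z).Nonempty := by
  classical
  have : Fintype K := Fintype.ofFinite K
  have : Fintype (IrrCharacter K) := Helper74.irrFintype K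
  have hA := sum_sq_nontrivial_add K Z
  have h1 : Nat.card K = Z.relIndex K * Nat.card Z := card_eq_relIndex_mul_card hZK
  have h2 : 1 < Nat.card Z := Z.one_lt_card_iff_ne_bot.mpr hZ1
  have h3 : 0 < Z.relIndex K := Nat.pos_of_ne_zero (by
    rw [Subgroup.relIndex]; exact Subgroup.index_ne_zero_of_finite)
  have h4 : Z.relIndex K < Nat.card K := by
    rw [h1]; nlinarith
  have h5 : 0 < ∑ θ ∈ Finset.univ.filter (fun θ : IrrCharacter K =>
      ¬ ∀ a : K, (a : L) ∈ Z → (θ : K → ℂ) a = (θ : K → ℂ) 1),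
      charDegree (θ : K → ℂ) ^ 2 := by omega
  obtain ⟨θ, hθ, -⟩ := Finset.exists_ne_zero_of_sum_ne_zero h5.ne'
  exact ⟨_, (indFun_mem_diff_iff K Z hZK θ.2).mpr (Finset.mem_filter.mp hθ).2⟩

theorem coh_central (K : Subgroup L) [K.Normal] (hsolv : Group.IsSolvable K)
    (τ : (L → ℂ) → (G → ℂ)) (R : (L → ℂ) → Finset (G → ℂ))
    (hS : IsCoherenceSystem (inducedIrrAbove K ⊥) τ R) (hodd : Odd (Nat.card L))
    (hnil : Group.IsNilpotent K) (hH₁K : ⁅K, K⁆ < K)
    (hfrob : ∀ k ∈ K, k ∉ ⁅K, K⁆ → ∀ x : L, x * k * x⁻¹ * k⁻¹ ∈ ⁅K, K⁆ → x ∈ K)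
    (Z : Subgroup L) [Z.Normal] (hZ1 : Z ≠ ⊥) (hZK : Z ≤ K)
    (hZc : ∀ z ∈ Z, ∀ k ∈ K, z * k = k * z)
    (hirr : ∀ χ ∈ inducedIrrAbove K ⊥ \ inducedIrrAbove K Z, IsIrrCharacter L χ) :
    inducedIrrAbove K ⊥ \ inducedIrrAbove K Z =
        {χ | IsIrrCharacter L χ ∧ ∃ z ∈ Z, χ z ≠ χ 1} ∧
      IsCoherent (inducedIrrAbove K ⊥ \ inducedIrrAbove K Z) {1}ᶜ τ := by
  refine ⟨diff_eq_irr K Z hZK hirr, ?_⟩
  by_cases hpp : ∃ p m : ℕ, p.Prime ∧ Nat.card K = p ^ m
  · obtain ⟨p, m, hp, hK⟩ := hpp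
    have hm0 : m ≠ 0 := by
      rintro rfl
      rw [pow_zero] at hK
      have : K = ⊥ := Subgroup.eq_bot_of_card_eq K hK
      rw [this] at hH₁K
      exact (not_le_of_gt hH₁K) bot_le
    have hpK : p ∣ Nat.card K := by rw [hK]; exact dvd_pow_self p hm0
    have hpodd : Odd p := Odd.of_dvd_nat hodd (hpK.trans (Subgroup.card_subgroup_dvd_card K))
    have hp3 : 3 ≤ p := by
      have h2 := hp.two_le
      rcases hpodd with ⟨k, hk⟩
      omega
    have hd := frobenius_index_dvd K ⁅K, K⁆ K le_rfl hH₁K.le le_rfl hfrob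
    have hr : (⁅K, K⁆).relIndex K ∣ p ^ m := by
      rw [← hK]; exact Subgroup.relIndex_dvd_card _ K
    obtain ⟨j, -, hj⟩ := (Nat.dvd_prime_pow hp).mp hr
    have hj0 : j ≠ 0 := by
      rintro rfl
      rw [pow_zero] at hj
      exact (not_le_of_gt hH₁K) (Subgroup.relIndex_eq_one.mp hj)
    have hcop : Nat.Coprime K.index p := by
      rw [Nat.coprime_comm, hp.coprime_iff_not_dvd]
      intro hpe
      have h1 : p ∣ (⁅K, K⁆).relIndex K - 1 := hpe.trans hd
      have h2 : p ∣ (⁅K, K⁆).relIndex K := by rw [hj]; exact dvd_pow_self p hj0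
      have h3 : 0 < (⁅K, K⁆).relIndex K := by rw [hj]; positivity
      have h4 : p ∣ 1 := by
        have := (Nat.dvd_sub h2 h1)
        rwa [Nat.sub_sub_self h3] at this
      exact hp.one_lt.ne' (Nat.dvd_one.mp h4)
    exact coh_central_pgroup K τ R hS Z hZ1 hZK hZc hirr p m hp hp3 hK hcop
  · have hnil' : Group.IsNilpotent (↥K ⧸ (⊥ : Subgroup L).subgroupOf K) := by
      have := hnil
      exact Group.nilpotent_of_surjective (QuotientGroup.mk' _) (QuotientGroup.mk'_surjective _)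
    have hH₁ : ⁅K, K⁆ = ⁅K, K⁆ ⊔ (⊥ : Subgroup L) := (sup_bot_eq _).symm
    have hcohS : IsCoherent (inducedIrrAbove K ⊥) {1}ᶜ τ :=
      coh_chief K hsolv τ R hS hodd ⊥ bot_le hnil' ⁅K, K⁆ hH₁ hH₁K hfrob
        (Or.inr (Or.inr (Or.inl (by
          rw [Subgroup.relIndex_bot_left]
          exact hpp))))
    apply isCoherent_of_subset hcohS Set.sdiff_subset
    obtain ⟨χ, hχX⟩ := diff_nonempty K Z hZ1 hZK
    have hχS : χ ∈ inducedIrrAbove K ⊥ := hχX.1
    refine ⟨χ - conjFun χ, coh_sub_conj_mem hS hχS hχX (diff_conj_mem K Z hχX), ?_⟩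
    exact sub_ne_zero.mpr (hS.conj_ne χ hχS).symm

end final

end Cfsg.Agent.Helper25
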