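import Mathlib
import Cfsg.Agent.S1530

/-!
# Extension of a coherent set by one irreducible character (abstract source group)

`coh_insert` is the statement of `S1530` for an arbitrary finite group `N` (not necessarily a
subgroup of `G`): the proof is identical.
-/

set_option autoImplicit false
open Cfsg

namespace Cfsg.Agent.Helper25

open scoped ComplexConjugate

/-- Let `S₀` be a finite coherent set of irreducible characters of `N`, `χ` an irreducible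
character not in `S₀`; if some `ψ ∈ S₀` has `ψ 1 ∣ χ 1` and `2 ψ(1) χ(1) < Σ_{ξ ∈ S₀} ξ(1)²`, then
`S₀ ∪ {χ}` is coherent. -/
theorem coh_insert {N : Type*} [Group N] [Fintype N] {G : Type*} [Group G] [Fintype G]
    (S₀ : Finset (N → ℂ)) (χ : N → ℂ) (hirr : ∀ ξ ∈ S₀, Cfsg.IsIrrCharacter N ξ) (hχ : Cfsg.IsIrrCharacter N χ) (hχS : χ ∉ S₀) (d : (N → ℂ) → ℕ) (hd : ∀ ξ ∈ insert χ S₀, ξ 1 = (d ξ : ℂ)) (τ : (N → ℂ) → (G → ℂ)) (hτ : Cfsg.IsLinearIsometryOn (Cfsg.zspanOn (↑(insert χ S₀) : Set (N → ℂ)) {1}ᶜ) τ) (hτ1 : ∀ α ∈ Cfsg.zspanOn (↑(insert χ S₀) : Set (N → ℂ)) {1}ᶜ, τ α 1 = 0) (hcoh : Cfsg.IsCoherent (↑S₀ : Set (N → ℂ)) {1}ᶜ τ) (ψ : N → ℂ) (hψ : ψ ∈ S₀) (hdvd : d ψ ∣ d χ) (hlt : 2 * d ψ * d χ < ∑ ξ ∈ S₀, d ξ ^ 2) : Cfsg.IsCoherent (↑(insert χ S₀) : Set (N → ℂ)) {1}ᶜ τ := by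
  classical
  obtain ⟨⟨θ₀, hθ₀, hθ₀ne⟩, τ₁, hτ₁, hagree⟩ := hcoh
  set S' : Finset (N → ℂ) := insert χ S₀ with hS'
  have hS₀S' : (↑S₀ : Set (N → ℂ)) ⊆ ↑S' := by
    intro φ hφ
    exact Finset.mem_coe.mpr (Finset.mem_insert_of_mem (Finset.mem_coe.mp hφ))
  have hχS' : χ ∈ S' := Finset.mem_insert_self χ S₀
  have hirr' : ∀ ξ ∈ S', IsIrrCharacter N ξ := by
    intro ξ hξ
    rcases Finset.mem_insert.mp hξ with rfl | h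
    · exact hχ
    · exact hirr ξ h
  have hEa : ∀ x ∈ zspanOn (↑S' : Set (N → ℂ)) ({1}ᶜ : Set N),
      ∀ y ∈ zspanOn (↑S' : Set (N → ℂ)) ({1}ᶜ : Set N),
      x + y ∈ zspanOn (↑S' : Set (N → ℂ)) ({1}ᶜ : Set N) := fun x hx y hy => zspanOn_add hx hy
  have hEs : ∀ x ∈ zspanOn (↑S' : Set (N → ℂ)) ({1}ᶜ : Set N), ∀ n : ℤ,
      n • x ∈ zspanOn (↑S' : Set (N → ℂ)) ({1}ᶜ : Set N) := fun x hx n => zspanOn_zsmul hx n
  have hZa : ∀ x ∈ zspan (↑S₀ : Set (N → ℂ)), ∀ y ∈ zspan (↑S₀ : Set (N → ℂ)),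
      x + y ∈ zspan (↑S₀ : Set (N → ℂ)) := fun x hx y hy => zspan_add hx hy
  have hZs : ∀ x ∈ zspan (↑S₀ : Set (N → ℂ)), ∀ n : ℤ, n • x ∈ zspan (↑S₀ : Set (N → ℂ)) :=
    fun x hx n => zspan_zsmul hx n
  have hS₀z : ∀ ξ ∈ S₀, ξ ∈ zspan (↑S₀ : Set (N → ℂ)) :=
    fun ξ hξ => mem_zspan_of_mem (Finset.mem_coe.mpr hξ)
  have hS'z : ∀ ξ ∈ S', ξ ∈ zspan (↑S' : Set (N → ℂ)) :=
    fun ξ hξ => mem_zspan_of_mem (Finset.mem_coe.mpr hξ)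
  have hχψ : χ ≠ ψ := fun h => hχS (h ▸ hψ)
  have hψS' : ψ ∈ S' := Finset.mem_insert_of_mem hψ
  have hdpos : ∀ ξ ∈ S', 0 < d ξ := by
    intro ξ hξ
    obtain ⟨k, hk0, hk⟩ := S1531.irr_deg (hirr' ξ hξ)
    have : (d ξ : ℂ) = (k : ℂ) := by rw [← hd ξ hξ, hk]
    have : d ξ = k := by exact_mod_cast this
    omega
  obtain ⟨a, ha⟩ := hdvd
  -- β and its image
  set β : N → ℂ := χ - (a : ℤ) • ψ with hβ
  have hβE : β ∈ zspanOn (↑S' : Set (N → ℂ)) {1}ᶜ := by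
    refine ⟨zspan_sub (hS'z χ hχS') (zspan_zsmul (hS'z ψ hψS') _), ?_⟩
    intro x hx
    have hx1 : x = 1 := by simpa using hx
    rw [hx1, hβ]
    simp only [Pi.sub_apply, Pi.smul_apply]
    simp only [zsmul_eq_mul, hd χ hχS', hd ψ hψS', ha]
    push_cast; ring
  set Z : G → ℂ := τ β with hZ
  have hZg : IsGeneralizedCharacter G Z := hτ.2.2.2 β hβE
  have hZZ : classInner Z Z = 1 + (a : ℂ) ^ 2 := by
    rw [hZ, hτ.2.2.1 β hβE β hβE, hβ]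
    simp only [Helper74.classInner_sub_left, Helper74.classInner_sub_right,
      classInner_zsmul_left, classInner_zsmul_right, S1531.irr_norm hχ,
      S1531.irr_norm (hirr ψ hψ), S1531.irr_orth hχ (hirr ψ hψ) hχψ,
      S1531.irr_orth (hirr ψ hψ) hχ (Ne.symm hχψ)]
    push_cast; ring
  -- the differences δ ξ
  have hδ : ∀ ξ ∈ S₀, (d ψ : ℤ) • ξ - (d ξ : ℤ) • ψ ∈ zspanOn (↑S₀ : Set (N → ℂ)) {1}ᶜ := by
    intro ξ hξ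
    refine ⟨zspan_sub (zspan_zsmul (hS₀z ξ hξ) _) (zspan_zsmul (hS₀z ψ hψ) _), ?_⟩
    intro x hx
    have hx1 : x = 1 := by simpa using hx
    rw [hx1]
    simp only [Pi.sub_apply, Pi.smul_apply]
    simp only [zsmul_eq_mul, hd ξ (Finset.mem_insert_of_mem hξ), hd ψ hψS']
    push_cast; ring
  have hτδ : ∀ ξ ∈ S₀, τ ((d ψ : ℤ) • ξ - (d ξ : ℤ) • ψ) =
      (d ψ : ℤ) • τ₁ ξ - (d ξ : ℤ) • τ₁ ψ := by
    intro ξ hξ
    rw [← hagree _ (hδ ξ hξ), isoOn_map_sub hτ₁ hZs (zspan_zsmul (hS₀z ξ hξ) _)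
      (zspan_zsmul (hS₀z ψ hψ) _), hτ₁.2.1 ξ (hS₀z ξ hξ), hτ₁.2.1 ψ (hS₀z ψ hψ)]
  -- integrality of the coefficients
  have hint : ∀ ξ : N → ℂ, ∃ m : ℤ, ξ ∈ S₀ → classInner Z (τ₁ ξ) = m := by
    intro ξ
    by_cases hξ : ξ ∈ S₀
    · obtain ⟨m, hm⟩ := isGenChar_inner_int hZg (hτ₁.2.2.2 ξ (hS₀z ξ hξ))
      exact ⟨m, fun _ => hm⟩
    · exact ⟨0, fun h => absurd h hξ⟩
  choose x hx using hint
  -- orthonormality of τ₁ on S₀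
  have hon : ∀ ξ ∈ S₀, ∀ ξ' ∈ S₀, classInner (τ₁ ξ) (τ₁ ξ') = if ξ = ξ' then 1 else 0 := by
    intro ξ hξ ξ' hξ'
    rw [hτ₁.2.2.1 ξ (hS₀z ξ hξ) ξ' (hS₀z ξ' hξ')]
    by_cases h : ξ = ξ'
    · rw [if_pos h, h, S1531.irr_norm (hirr ξ' hξ')]
    · rw [if_neg h, S1531.irr_orth (hirr ξ hξ) (hirr ξ' hξ') h]
  -- relation (R)
  have hR : ∀ ξ ∈ S₀, ξ ≠ ψ → (d ψ : ℤ) * x ξ = (d ξ : ℤ) * (x ψ + (a : ℤ)) := by
    intro ξ hξ hne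
    have h1 : classInner Z (τ ((d ψ : ℤ) • ξ - (d ξ : ℤ) • ψ)) =
        classInner β ((d ψ : ℤ) • ξ - (d ξ : ℤ) • ψ) :=
      hτ.2.2.1 β hβE _ (zspanOn_mono hS₀S' (hδ ξ hξ))
    rw [hτδ ξ hξ, hβ] at h1
    have hχξ : χ ≠ ξ := fun h => hχS (h ▸ hξ)
    simp only [Helper74.classInner_sub_left, Helper74.classInner_sub_right,
      classInner_zsmul_left, classInner_zsmul_right, hx ξ hξ, hx ψ hψ,
      S1531.irr_norm (hirr ψ hψ), S1531.irr_orth hχ (hirr ξ hξ) hχξ,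
      S1531.irr_orth hχ (hirr ψ hψ) hχψ, S1531.irr_orth (hirr ψ hψ) (hirr ξ hξ) (Ne.symm hne)]
      at h1
    have h2 : (((d ψ : ℤ) * x ξ : ℤ) : ℂ) = (((d ξ : ℤ) * (x ψ + (a : ℤ)) : ℤ) : ℂ) := by
      push_cast
      linear_combination h1
    exact_mod_cast h2
  -- Bessel
  have hbes := bessel_orthogonal S₀ τ₁ (fun _ => (1 : ℝ)) (fun _ _ => one_pos)
    (fun ξ hξ ξ' hξ' => by
      rw [hon ξ hξ ξ' hξ']
      simp) Z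
  simp only [div_one] at hbes
  have hZZre : (classInner Z Z).re = 1 + (a : ℝ) ^ 2 := by
    rw [hZZ]
    have : (1 + (a : ℂ) ^ 2) = ((1 + (a : ℝ) ^ 2 : ℝ) : ℂ) := by push_cast; ring
    rw [this, Complex.ofReal_re]
  have hnormx : ∀ ξ ∈ S₀, ‖classInner Z (τ₁ ξ)‖ ^ 2 = ((x ξ : ℤ) : ℝ) ^ 2 := by
    intro ξ hξ
    rw [hx ξ hξ, Complex.norm_intCast, sq_abs]
  have hB : ∑ ξ ∈ S₀, x ξ ^ 2 ≤ 1 + (a : ℤ) ^ 2 := by
    have h1 : ((∑ ξ ∈ S₀, x ξ ^ 2 : ℤ) : ℝ) ≤ ((1 + (a : ℤ) ^ 2 : ℤ) : ℝ) := by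
      push_cast
      rw [← hZZre, ← Finset.sum_congr rfl hnormx]
      exact hbes
    exact_mod_cast h1
  -- signed irreducibility of τ₁ ψ
  have hsψ : SignedIrr G (τ₁ ψ) := signedIrr_of_inner_self_eq_one (hτ₁.2.2.2 ψ (hS₀z ψ hψ))
    (by rw [hon ψ hψ ψ hψ, if_pos rfl])
  have hf0 : τ₁ ψ 1 ≠ 0 := hsψ.apply_one_ne_zero
  -- degrees of τ₁ ξ
  have hdegτ : ∀ ξ ∈ S₀, (d ψ : ℂ) * τ₁ ξ 1 = (d ξ : ℂ) * τ₁ ψ 1 := by
    intro ξ hξ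
    have h1 := hτ1 _ (zspanOn_mono hS₀S' (hδ ξ hξ))
    rw [hτδ ξ hξ] at h1
    simp only [Pi.sub_apply, Pi.smul_apply] at h1
    simp only [zsmul_eq_mul] at h1
    push_cast at h1
    linear_combination h1
  -- the key arithmetic
  have hdψ0 : (0 : ℤ) < (d ψ : ℤ) := by exact_mod_cast hdpos ψ hψS'
  have hdχ0 : (0 : ℤ) < (d χ : ℤ) := by exact_mod_cast hdpos χ hχS'
  have hv0 : x ψ + (a : ℤ) = 0 := by
    refine Cfsg.Agent.S1530.arith_key S₀ ψ hψ (fun ξ => (d ξ : ℤ)) x (d ψ : ℤ) (d χ : ℤ) (a : ℤ) _ hdψ0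
      (by rw [ha]; push_cast; ring) hdχ0 rfl rfl hR
      (by exact_mod_cast hlt) hB ?_
    intro heq
    -- equality in Bessel: Z is its projection
    have hproj := classInner_sub_proj S₀ τ₁ (fun _ => (1 : ℝ)) (fun _ _ => one_pos)
      (fun ξ hξ ξ' hξ' => by
        rw [hon ξ hξ ξ' hξ']
        simp) Z
    simp only [Complex.ofReal_one, div_one] at hproj
    have hzero : classInner Z Z - ∑ ξ ∈ S₀, ((‖classInner Z (τ₁ ξ)‖ ^ 2 : ℝ) : ℂ) = 0 := by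
      rw [Finset.sum_congr rfl (fun ξ hξ => by rw [hnormx ξ hξ]), hZZ]
      have h1 : ((∑ ξ ∈ S₀, x ξ ^ 2 : ℤ) : ℂ) = ((1 + (a : ℤ) ^ 2 : ℤ) : ℂ) := by rw [heq]
      push_cast at h1
      push_cast
      rw [h1]; ring
    rw [hzero] at hproj
    have hZeq := sub_eq_zero.mp (Helper74.classInner_self_eq_zero hproj)
    -- evaluate at 1
    have hZ1 : Z 1 = 0 := hτ1 β hβE
    rw [hZeq, Finset.sum_apply] at hZ1
    have h2 : (d ψ : ℂ) * ∑ ξ ∈ S₀, (classInner Z (τ₁ ξ) • τ₁ ξ) 1 =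
        τ₁ ψ 1 * ((∑ ξ ∈ S₀, x ξ * (d ξ : ℤ) : ℤ) : ℂ) := by
      push_cast
      rw [Finset.mul_sum, Finset.mul_sum]
      refine Finset.sum_congr rfl (fun ξ hξ => ?_)
      rw [Pi.smul_apply, smul_eq_mul, hx ξ hξ]
      linear_combination (x ξ : ℂ) * hdegτ ξ hξ
    rw [hZ1, mul_zero] at h2
    rcases mul_eq_zero.mp h2.symm with h | h
    · exact absurd h hf0
    · exact_mod_cast h
  -- consequences of v = 0
  have hxψ : x ψ = -(a : ℤ) := by linarith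
  have hxξ : ∀ ξ ∈ S₀, ξ ≠ ψ → x ξ = 0 := by
    intro ξ hξ hne
    have := hR ξ hξ hne
    rw [hv0, mul_zero] at this
    rcases mul_eq_zero.mp this with h | h
    · exact absurd h hdψ0.ne'
    · exact h
  -- the new image
  set Δ : G → ℂ := Z + (a : ℤ) • τ₁ ψ with hΔ
  have hΔg : IsGeneralizedCharacter G Δ :=
    isGenChar_add hZg (isGenChar_zsmul _ (hτ₁.2.2.2 ψ (hS₀z ψ hψ)))
  have hΔorth : ∀ ξ ∈ S₀, classInner Δ (τ₁ ξ) = 0 := by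
    intro ξ hξ
    rw [hΔ, Helper74.classInner_add_left, classInner_zsmul_left, hx ξ hξ, hon ψ hψ ξ hξ]
    by_cases h : ξ = ψ
    · rw [if_pos h.symm, h, hxψ]; push_cast; ring
    · rw [if_neg (Ne.symm h), hxξ ξ hξ h]; simp
  have hΔorth' : ∀ ξ ∈ S₀, classInner (τ₁ ξ) Δ = 0 := by
    intro ξ hξ
    rw [← Helper74.classInner_conj_symm, hΔorth ξ hξ, map_zero]
  have hZψ : classInner Z (τ₁ ψ) = -(a : ℂ) := by rw [hx ψ hψ, hxψ]; push_cast; ring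
  have hψZ : classInner (τ₁ ψ) Z = -(a : ℂ) := by
    rw [← Helper74.classInner_conj_symm, hZψ]; simp
  have hΔΔ : classInner Δ Δ = 1 := by
    rw [hΔ]
    simp only [Helper74.classInner_add_left, Helper74.classInner_add_right,
      classInner_zsmul_left, classInner_zsmul_right, hZZ, hZψ, hψZ, hon ψ hψ ψ hψ, if_pos rfl]
    push_cast; ring
  -- the extension
  set T : (N → ℂ) → (G → ℂ) := fun φ => if φ = χ then Δ else τ₁ φ with hT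
  have hTχ : T χ = Δ := by simp only [hT, if_pos rfl]
  have hTξ : ∀ ξ ∈ S₀, T ξ = τ₁ ξ := by
    intro ξ hξ
    have : ξ ≠ χ := fun h => hχS (h ▸ hξ)
    simp only [hT, if_neg this]
  have horth : ∀ φ ∈ S', ∀ φ' ∈ S', φ ≠ φ' → classInner φ φ' = 0 :=
    fun φ hφ φ' hφ' hne => S1531.irr_orth (hirr' φ hφ) (hirr' φ' hφ') hne
  have hne' : ∀ φ ∈ S', classInner φ φ ≠ 0 := by
    intro φ hφ
    rw [S1531.irr_norm (hirr' φ hφ)]; exact one_ne_zero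
  have hTiso : ∀ φ ∈ S', ∀ φ' ∈ S', classInner (T φ) (T φ') = classInner φ φ' := by
    intro φ hφ φ' hφ'
    rcases Finset.mem_insert.mp hφ with rfl | hφ₀ <;>
      rcases Finset.mem_insert.mp hφ' with rfl | hφ'₀
    · rw [hTχ, hΔΔ, S1531.irr_norm hχ]
    · rw [hTχ, hTξ φ' hφ'₀, hΔorth φ' hφ'₀,
        S1531.irr_orth hχ (hirr φ' hφ'₀) (fun h => hχS (h ▸ hφ'₀))]
    · rw [hTχ, hTξ φ hφ₀, hΔorth' φ hφ₀,
        S1531.irr_orth (hirr φ hφ₀) hχ (fun h => hχS (h ▸ hφ₀))]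
    · rw [hTξ φ hφ₀, hTξ φ' hφ'₀, hτ₁.2.2.1 φ (hS₀z φ hφ₀) φ' (hS₀z φ' hφ'₀)]
  have hTg : ∀ φ ∈ S', IsGeneralizedCharacter G (T φ) := by
    intro φ hφ
    rcases Finset.mem_insert.mp hφ with rfl | hφ₀
    · rw [hTχ]; exact hΔg
    · rw [hTξ φ hφ₀]; exact hτ₁.2.2.2 φ (hS₀z φ hφ₀)
  have hiso := orthExt_isLinearIsometryOn S' T horth hne' hTiso hTg
  set τ₂ := orthExt S' T with hτ₂
  have hτ₂mem : ∀ φ ∈ S', τ₂ φ = T φ := fun φ hφ => orthExt_apply_mem S' T horth hne' hφ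
  have hτ₂agree : ∀ y ∈ zspan (↑S₀ : Set (N → ℂ)), τ₂ y = τ₁ y := by
    intro y hy
    obtain ⟨m, rfl⟩ := exists_coeff_of_mem_zspan hy
    rw [hτ₂, S1531.orthExt_sum', isoOn_map_sum hτ₁ hZa hZs S₀ (fun φ => φ) m
      (fun φ hφ => hS₀z φ hφ) (hS₀z ψ hψ)]
    refine Finset.sum_congr rfl (fun φ hφ => ?_)
    rw [← hτ₂, hτ₂mem φ (Finset.mem_insert_of_mem hφ), hTξ φ hφ]
  refine ⟨⟨θ₀, zspanOn_mono hS₀S' hθ₀, hθ₀ne⟩, τ₂, hiso, ?_⟩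
  intro θ hθ
  obtain ⟨m, hm⟩ := exists_coeff_of_mem_zspan hθ.1
  -- θ = m χ • β + θ'
  set θ' : N → ℂ := θ - m χ • β with hθ'
  have hθ'E : θ' ∈ zspanOn (↑S' : Set (N → ℂ)) {1}ᶜ := zspanOn_sub hθ (zspanOn_zsmul hβE _)
  have hθ'z : θ' ∈ zspan (↑S₀ : Set (N → ℂ)) := by
    have : θ' = (m χ * (a : ℤ)) • ψ + ∑ φ ∈ S₀, m φ • φ := by
      rw [hθ', hm, hS', Finset.sum_insert hχS, hβ]
      module
    rw [this]
    exact zspan_add (zspan_zsmul (hS₀z ψ hψ) _)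
      (zspan_sum _ (fun φ hφ => zspan_zsmul (hS₀z φ hφ) _))
  have hθ'0 : θ' ∈ zspanOn (↑S₀ : Set (N → ℂ)) {1}ᶜ := ⟨hθ'z, hθ'E.2⟩
  have hθsplit : θ = m χ • β + θ' := by rw [hθ']; abel
  have e1 : τ θ = m χ • Z + τ₁ θ' := by
    rw [hθsplit, hτ.1 _ (zspanOn_zsmul hβE _) _ hθ'E, hτ.2.1 β hβE, hagree θ' hθ'0]
  have e2 : τ₂ θ = m χ • Z + τ₁ θ' := by
    have hβ₂ : τ₂ β = Z := by
      rw [hτ₂, hβ, S1531.orthExt_sub, orthExt_zsmul, ← hτ₂, hτ₂mem χ hχS', hτ₂mem ψ hψS', hTχ,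
        hTξ ψ hψ, hΔ]
      abel
    rw [hθsplit, hτ₂, orthExt_add, orthExt_zsmul, ← hτ₂, hβ₂, hτ₂agree θ' hθ'z]
  rw [e1, e2]

end Cfsg.Agent.Helper25
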