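import Mathlib
import Cfsg.Agent.Helper25.CohBound
import Cfsg.Agent.Helper25.CohInsert

/-!
# Coherence descends along a central step (abstract isometry, no conjugation closure)

`coh_bound_gen` is the analogue of `coh_bound` (Peterfalvi (6.2)) for an arbitrary linear isometry
`τ` on `ℤ[S, L^#]`, `S = inducedIrrAbove K ⊥` consisting of irreducible characters; it uses
`coh_insert` in place of the conjugation-closed extension lemma.
-/

set_option autoImplicit false

namespace Cfsg.Agent.Helper25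

open Cfsg

section main
variable {L : Type*} [Group L] [Fintype L] {G : Type*} [Group G] [Fintype G]

theorem coh_bound_gen (K : Subgroup L) [K.Normal] (hsolv : Group.IsSolvable K)
    (hirr : ∀ χ ∈ inducedIrrAbove K ⊥, IsIrrCharacter L χ)
    (τ : (L → ℂ) → (G → ℂ))
    (hτ : IsLinearIsometryOn (zspanOn (inducedIrrAbove K ⊥) {1}ᶜ) τ)
    (hτ1 : ∀ α ∈ zspanOn (inducedIrrAbove K ⊥) {1}ᶜ, τ α 1 = 0)
    (A B C D : Subgroup L) [A.Normal] [B.Normal] (hAK : A < K) (hBA : B ≤ A) (hBD : B ≤ D)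
    (hDC : D ≤ C) (hCK : C ≤ K) (hcent : ∀ x ∈ D, ∀ y ∈ C, x * y * x⁻¹ * y⁻¹ ∈ B)
    (hA : IsCoherent (inducedIrrAbove K A) {1}ᶜ τ)
    (hlt : 4 * C.index ^ 2 * D.relIndex C < (A.relIndex K - 1) ^ 2) :
    IsCoherent (inducedIrrAbove K B) {1}ᶜ τ := by
  classical
  have : Fintype K := Fintype.ofFinite K
  have : Fintype (IrrCharacter K) := Helper74.irrFintype K
  set S := inducedIrrAbove K ⊥ with hSdef
  have hfin : S.Finite := inducedIrrAbove_finite K ⊥
  set d : (L → ℂ) → ℕ := fun φ => charDegree φ with hd_def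
  have hchar : ∀ φ ∈ S, IsCharacter L φ := fun φ hφ =>
    Helper80.IsIrrCharacter.isCharacter (hirr φ hφ)
  have hd : ∀ φ ∈ S, φ 1 = (d φ : ℂ) := fun φ hφ =>
    (Helper80.IsCharacter.charDegree_cast (hchar φ hφ)).symm
  -- the family of admissible subsets
  let P : Finset (L → ℂ) → Prop := fun T =>
    (↑T : Set (L → ℂ)) ⊆ S ∧ inducedIrrAbove K A ⊆ ↑T ∧
      IsCoherent (↑T : Set (L → ℂ)) {1}ᶜ τ
  set F := hfin.toFinset.powerset.filter P with hF
  have hmemF : ∀ T, T ∈ F ↔ P T := by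
    intro T
    rw [hF, Finset.mem_filter, Finset.mem_powerset]
    constructor
    · exact fun h => h.2
    · intro h
      refine ⟨?_, h⟩
      intro φ hφ
      rw [Set.Finite.mem_toFinset]
      exact h.1 (Finset.mem_coe.mpr hφ)
  set T₀ := (inducedIrrAbove_finite K A).toFinset with hT₀
  have hT₀coe : (↑T₀ : Set (L → ℂ)) = inducedIrrAbove K A := Set.Finite.coe_toFinset _
  have hT₀F : T₀ ∈ F := by
    rw [hmemF]
    refine ⟨?_, ?_, ?_⟩
    · rw [hT₀coe]; exact inducedIrrAbove_subset_bot K A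
    · rw [hT₀coe]
    · rw [hT₀coe]; exact hA
  obtain ⟨T, hTF, hTmax⟩ := Finset.exists_max_image F Finset.card ⟨T₀, hT₀F⟩
  obtain ⟨hTS, hTA, hTcoh⟩ := (hmemF T).mp hTF
  -- S(B) ⊆ T
  have hBT : inducedIrrAbove K B ⊆ ↑T := by
    intro χ hχB
    by_contra hχT
    have hχT' : χ ∉ T := fun h => hχT (Finset.mem_coe.mpr h)
    have hχS : χ ∈ S := inducedIrrAbove_subset_bot K B hχB
    obtain ⟨χ₁, hχ₁A, hχ₁deg⟩ := exists_mem_inducedIrrAbove_linear K A hsolv hAK
    have hχ₁T : χ₁ ∈ T := Finset.mem_coe.mp (hTA hχ₁A)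
    obtain ⟨θ, hθ, hθne, hθker, hχeq⟩ := id hχB
    have hdχ : d χ = K.index * charDegree θ := by
      simp only [hd_def]
      rw [hχeq]
      exact Helper80.charDegree_indFun K (Helper80.IsIrrCharacter.isCharacter hθ)
    have hdχ₁ : d χ₁ = K.index := hχ₁deg
    have hdvd : d χ₁ ∣ d χ := by
      rw [hdχ, hdχ₁]
      exact dvd_mul_right _ _
    have hbound := induced_degree_bound K B C D hBD hDC hCK hcent θ hθ hθker
    rw [← hdχ] at hbound
    -- 2 d χ < |K:A| - 1
    have h2 : (2 * d χ) ^ 2 < (A.relIndex K - 1) ^ 2 := by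
      calc (2 * d χ) ^ 2 = 4 * d χ ^ 2 := by ring
        _ ≤ 4 * (C.index ^ 2 * D.relIndex C) := Nat.mul_le_mul_left _ hbound
        _ = 4 * C.index ^ 2 * D.relIndex C := by ring
        _ < (A.relIndex K - 1) ^ 2 := hlt
    have h3 : 2 * d χ < A.relIndex K - 1 := lt_of_pow_lt_pow_left₀ 2 (Nat.zero_le _) h2
    have h4 : (2 * d χ : ℝ) + 1 ≤ (A.relIndex K : ℝ) - 1 := by
      have : 2 * d χ + 1 + 1 ≤ A.relIndex K := by omega
      have h5 : ((2 * d χ + 1 + 1 : ℕ) : ℝ) ≤ (A.relIndex K : ℝ) := by exact_mod_cast this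
      push_cast at h5
      linarith
    have hnorm : ∀ φ ∈ T, classInner φ φ = ((1 : ℕ) : ℂ) := by
      intro φ hφ
      rw [Cfsg.Agent.S1531.irr_norm (hirr φ (hTS (Finset.mem_coe.mpr hφ)))]
      simp
    have hmass := mass_le K A T hTA
      (fun φ hφ => hchar φ (hTS (Finset.mem_coe.mpr hφ))) (fun _ => 1) hnorm
      (fun _ _ => one_ne_zero)
    have hKpos : (0 : ℝ) < K.index := by
      have : 0 < K.index := Nat.pos_of_ne_zero (Subgroup.index_ne_zero_of_finite)
      exact_mod_cast this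
    have hineqR : (2 * d χ₁ * d χ : ℝ) < ∑ φ ∈ T, ((d φ : ℝ) ^ 2 / ((1 : ℕ) : ℝ)) := by
      refine lt_of_lt_of_le ?_ hmass
      rw [hdχ₁]
      calc (2 * (K.index : ℝ) * (d χ : ℝ)) = (K.index : ℝ) * (2 * d χ) := by ring
        _ < (K.index : ℝ) * (2 * d χ + 1) := by
            apply mul_lt_mul_of_pos_left _ hKpos
            linarith
        _ ≤ (K.index : ℝ) * ((A.relIndex K : ℝ) - 1) :=
            mul_le_mul_of_nonneg_left h4 hKpos.le
    have hineq : 2 * d χ₁ * d χ < ∑ φ ∈ T, d φ ^ 2 := by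
      have : ((2 * d χ₁ * d χ : ℕ) : ℝ) < ((∑ φ ∈ T, d φ ^ 2 : ℕ) : ℝ) := by
        push_cast
        simp only [Nat.cast_one, div_one] at hineqR
        exact hineqR
      exact_mod_cast this
    set T' : Finset (L → ℂ) := insert χ T with hT'
    have hT'S : (↑T' : Set (L → ℂ)) ⊆ S := by
      intro φ hφ
      rw [hT', Finset.coe_insert] at hφ
      rcases hφ with rfl | hφ
      · exact hχS
      · exact hTS hφ
    have hcoh' : IsCoherent (↑(insert χ T) : Set (L → ℂ)) {1}ᶜ τ :=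
      coh_insert T χ (fun ξ hξ => hirr ξ (hTS (Finset.mem_coe.mpr hξ))) (hirr χ hχS) hχT' d
        (fun ξ hξ => hd ξ (hT'S (Finset.mem_coe.mpr hξ))) τ
        (isLinearIsometryOn_mono (zspanOn_mono hT'S) hτ)
        (fun α hα => hτ1 α (zspanOn_mono hT'S hα)) hTcoh χ₁ hχ₁T hdvd hineq
    have hT'F : T' ∈ F := by
      rw [hmemF]
      refine ⟨hT'S, ?_, hcoh'⟩
      intro φ hφ
      rw [hT', Finset.coe_insert]
      exact Set.mem_insert_of_mem _ (hTA hφ)
    have hcard : T.card < T'.card := by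
      rw [hT', Finset.card_insert_of_notMem hχT']
      exact Nat.lt_succ_self _
    exact absurd (hTmax T' hT'F) (not_le.mpr hcard)
  -- conclusion
  apply isCoherent_of_subset hTcoh hBT
  obtain ⟨⟨α, hα, hα0⟩, -⟩ := hA
  exact ⟨α, zspanOn_mono (inducedIrrAbove_anti K hBA) hα, hα0⟩

end main
end Cfsg.Agent.Helper25
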