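import Mathlib
import Cfsg.Agent.Helper25.CohGrow
import Cfsg.Agent.Helper25.CohNilpotent

/-!
# Descending coherence along a nilpotent normal subgroup (abstract isometry)

`coh_descend`: for `K ⊴ L` nilpotent, `M ≤ X₀ < K` normal in `L`, and a normal subgroup `Z ≤ K`
with `[Z, K] ≤ M`: if `S(X₀)` is coherent and `4 |L:K|² |K : XZ| < (|K:X| - 1)²` for all normal
`X` between `M` and `X₀`, then `S(M)` is coherent.
-/

set_option autoImplicit false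

namespace Cfsg.Agent.Helper25

open Cfsg

section main
variable {L : Type*} [Group L] [Fintype L] {G : Type*} [Group G] [Fintype G]

theorem coh_descend (K : Subgroup L) [K.Normal] (hnil : Group.IsNilpotent K)
    (hirr : ∀ χ ∈ inducedIrrAbove K ⊥, IsIrrCharacter L χ)
    (τ : (L → ℂ) → (G → ℂ))
    (hτ : IsLinearIsometryOn (zspanOn (inducedIrrAbove K ⊥) {1}ᶜ) τ)
    (hτ1 : ∀ α ∈ zspanOn (inducedIrrAbove K ⊥) {1}ᶜ, τ α 1 = 0)
    (M X₀ Z : Subgroup L) [M.Normal] [X₀.Normal] [Z.Normal] (hMX₀ : M ≤ X₀) (hX₀K : X₀ < K)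
    (hZK : Z ≤ K) (hZM : ∀ z ∈ Z, ∀ y ∈ K, z * y * z⁻¹ * y⁻¹ ∈ M)
    (hcoh : IsCoherent (inducedIrrAbove K X₀) {1}ᶜ τ)
    (hbig : ∀ X : Subgroup L, X.Normal → M ≤ X → X ≤ X₀ →
      4 * K.index ^ 2 * (X ⊔ Z).relIndex K < (X.relIndex K - 1) ^ 2) :
    IsCoherent (inducedIrrAbove K M) {1}ᶜ τ := by
  classical
  have hsolv : Group.IsSolvable K := inferInstance
  set 𝒞 : Set (Subgroup L) := {X | X.Normal ∧ M ≤ X ∧ X ≤ X₀ ∧
    IsCoherent (inducedIrrAbove K X) {1}ᶜ τ} with h𝒞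
  have hne : 𝒞.Nonempty := ⟨X₀, inferInstance, hMX₀, le_refl _, hcoh⟩
  obtain ⟨X, hX𝒞, hXmin⟩ := WellFounded.has_min (wellFounded_lt (α := Subgroup L)) 𝒞 hne
  obtain ⟨hXn, hMX, hXX₀, hXcoh⟩ := hX𝒞
  have := hXn
  set X' : Subgroup L := ⁅X, K⁆ ⊔ M with hX'
  have hX'X : X' ≤ X := sup_le (Subgroup.commutator_le_left X K) hMX
  have hXK : X < K := lt_of_le_of_lt hXX₀ hX₀K
  have hcent : ∀ x ∈ X ⊔ Z, ∀ y ∈ K, x * y * x⁻¹ * y⁻¹ ∈ X' := by
    intro x hx y hy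
    obtain ⟨a, ha, z, hz, rfl⟩ := Subgroup.mem_sup_of_normal_left.mp hx
    have e1 : a * z * y * (a * z)⁻¹ * y⁻¹ =
        (a * (z * y * z⁻¹ * y⁻¹) * a⁻¹) * (a * y * a⁻¹ * y⁻¹) := by group
    rw [e1]
    refine X'.mul_mem ?_ ?_
    · have hn : X'.Normal := inferInstance
      exact hn.conj_mem _ (Subgroup.mem_sup_right (hZM z hz y hy)) a
    · apply Subgroup.mem_sup_left
      have := Subgroup.commutator_mem_commutator ha hy
      rwa [commutatorElement_def] at this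
  have hcoh' : IsCoherent (inducedIrrAbove K X') {1}ᶜ τ :=
    coh_bound_gen K hsolv hirr τ hτ hτ1 X X' K (X ⊔ Z) hXK hX'X (hX'X.trans le_sup_left)
      (sup_le hXK.le hZK) le_rfl hcent hXcoh (hbig X hXn hMX hXX₀)
  have hX'𝒞 : X' ∈ 𝒞 := ⟨inferInstance, le_sup_right, hX'X.trans hXX₀, hcoh'⟩
  have hXX' : X' = X := by
    by_contra hne'
    exact hXmin X' hX'𝒞 (lt_of_le_of_ne hX'X hne')
  have hXM : X ≤ M := le_of_commutator_sup_eq M K X (hMX₀.trans hX₀K.le) hXK.le inferInstance hXX'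
  have : X = M := le_antisymm hXM hMX
  rw [← this]
  exact hXcoh

end main
end Cfsg.Agent.Helper25
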