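import Mathlib
import Cfsg.Agent.Helper25.OrthExt
import Cfsg.Agent.Helper25.GenCharTwo
import Cfsg.Agent.Helper25.SignedIrr
import Cfsg.Agent.S1531

/-!
# Coherence of a set of irreducible characters of equal degree (abstract isometry)

`coh_equal_degree`: if `s` is a finite set of at least two irreducible characters of `L` of the same
degree, and `τ` is a linear isometry on `ℤ[s, L^#]` whose values are virtual characters of `G`
vanishing at `1`, then `(s, L^#, τ)` is coherent.  No closure under complex conjugation is needed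
(real characters are allowed).
-/

set_option autoImplicit false
open Cfsg

namespace Cfsg.Agent.Helper25

open scoped ComplexConjugate

section general
variable {G : Type*} [Group G] [Fintype G]

/-- The inner product of a generalized character of norm `2` with a signed irreducible is
`0`, `1` or `-1`. -/
theorem inner_signedIrr_cases {Y α : G → ℂ} (hY : IsGeneralizedCharacter G Y)
    (hYY : classInner Y Y = 2) (hα : SignedIrr G α) :
    classInner Y α = 0 ∨ classInner Y α = 1 ∨ classInner Y α = -1 := by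
  classical
  obtain ⟨m, hm⟩ := isGenChar_inner_int hY hα.isGenChar
  have hb := bessel_orthogonal ({()} : Finset Unit) (fun _ => α) (fun _ => (1 : ℝ))
    (fun _ _ => one_pos) (fun i _ j _ => by simp [signedIrr_inner_self hα]) Y
  simp only [Finset.sum_singleton, div_one] at hb
  rw [hYY, hm, Complex.norm_intCast, sq_abs] at hb
  have h2 : ((m : ℝ)) ^ 2 ≤ 2 := by simpa using hb
  have h3 : m ^ 2 ≤ 2 := by exact_mod_cast h2
  have h4 : m = 0 ∨ m = 1 ∨ m = -1 := by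
    have h5 : -1 ≤ m := by nlinarith
    have h6 : m ≤ 1 := by nlinarith
    omega
  rcases h4 with h | h | h <;> rw [hm, h] <;> simp

/-- The forbidden triangle `α₁ + α₂, α₁ + γ, α₂ + γ` of virtual characters vanishing at `1`. -/
theorem signedIrr_triangle_false {α₁ α₂ Y Y' : G → ℂ} (hs₁ : SignedIrr G α₁)
    (hs₂ : SignedIrr G α₂) (h12 : classInner α₁ α₂ = 0) (h1 : α₁ 1 + α₂ 1 = 0)
    (hY : IsGeneralizedCharacter G Y) (hY' : IsGeneralizedCharacter G Y')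
    (hYY : classInner Y Y = 2) (hY'Y' : classInner Y' Y' = 2) (hYY' : classInner Y Y' = 1)
    (hY1 : Y 1 = 0) (hY'1 : Y' 1 = 0)
    (ha : classInner Y α₁ = 1) (hb : classInner Y α₂ = 0)
    (hc : classInner Y' α₁ = 0) (hd : classInner Y' α₂ = 1) : False := by
  have ha' : classInner α₁ Y = 1 := by
    rw [← Helper74.classInner_conj_symm, ha, map_one]
  have hc' : classInner α₁ Y' = 0 := by
    rw [← Helper74.classInner_conj_symm, hc, map_zero]
  have hd' : classInner α₂ Y' = 1 := by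
    rw [← Helper74.classInner_conj_symm, hd, map_one]
  have hγ : SignedIrr G (Y - α₁) := by
    apply signedIrr_of_inner_self_eq_one (isGenChar_sub hY hs₁.isGenChar)
    rw [Helper74.classInner_sub_left, Helper74.classInner_sub_right,
      Helper74.classInner_sub_right, hYY, ha, ha', signedIrr_inner_self hs₁]
    ring
  have hγ' : SignedIrr G (Y' - α₂) := by
    apply signedIrr_of_inner_self_eq_one (isGenChar_sub hY' hs₂.isGenChar)
    rw [Helper74.classInner_sub_left, Helper74.classInner_sub_right,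
      Helper74.classInner_sub_right, hY'Y', hd, hd', signedIrr_inner_self hs₂]
    ring
  have hγγ' : classInner (Y - α₁) (Y' - α₂) = 1 := by
    rw [Helper74.classInner_sub_left, Helper74.classInner_sub_right,
      Helper74.classInner_sub_right, hYY', hb, hc', h12]
    ring
  rcases SignedIrr.inner_eq_zero_or hγ hγ' with h | ⟨t, -, hts, ht⟩
  · rw [h] at hγγ'
    exact zero_ne_one hγγ'
  · rw [hγγ'] at ht
    rw [← ht, one_smul] at hts
    have h3 := congrFun hts 1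
    simp only [Pi.sub_apply, hY1, hY'1] at h3
    have h4 : α₁ 1 = 0 := by linear_combination (1 / 2 : ℂ) * h1 + (1 / 2 : ℂ) * h3
    exact hs₁.apply_one_ne_zero h4

end general

section main
variable {L : Type*} [Group L] [Fintype L] {G : Type*} [Group G] [Fintype G]

/-- Uniform-degree coherence for an abstract isometry. -/
theorem coh_equal_degree (s : Finset (L → ℂ)) (hirr : ∀ ξ ∈ s, IsIrrCharacter L ξ)
    (hdeg : ∀ ξ ∈ s, ∀ ξ' ∈ s, ξ 1 = ξ' 1) (h2 : 1 < s.card)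
    (τ : (L → ℂ) → (G → ℂ)) (hτ : IsLinearIsometryOn (zspanOn (↑s : Set (L → ℂ)) {1}ᶜ) τ)
    (hτ1 : ∀ α ∈ zspanOn (↑s : Set (L → ℂ)) {1}ᶜ, τ α 1 = 0) :
    IsCoherent (↑s : Set (L → ℂ)) {1}ᶜ τ := by
  classical
  obtain ⟨φ₁, hφ₁, φ₂, hφ₂, h12⟩ := Finset.one_lt_card.mp h2
  have hEa : ∀ x ∈ zspanOn (↑s : Set (L → ℂ)) ({1}ᶜ : Set L),
      ∀ y ∈ zspanOn (↑s : Set (L → ℂ)) ({1}ᶜ : Set L),
      x + y ∈ zspanOn (↑s : Set (L → ℂ)) ({1}ᶜ : Set L) := fun x hx y hy => zspanOn_add hx hy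
  have hEs : ∀ x ∈ zspanOn (↑s : Set (L → ℂ)) ({1}ᶜ : Set L), ∀ n : ℤ,
      n • x ∈ zspanOn (↑s : Set (L → ℂ)) ({1}ᶜ : Set L) := fun x hx n => zspanOn_zsmul hx n
  have hsz : ∀ ξ ∈ s, ξ ∈ zspan (↑s : Set (L → ℂ)) :=
    fun ξ hξ => mem_zspan_of_mem (Finset.mem_coe.mpr hξ)
  have hon : ∀ ξ ∈ s, ∀ ξ' ∈ s, classInner ξ ξ' = if ξ = ξ' then 1 else 0 := by
    intro ξ hξ ξ' hξ'
    split_ifs with h
    · subst h; exact S1531.irr_norm (hirr ξ hξ)
    · exact S1531.irr_orth (hirr ξ hξ) (hirr ξ' hξ') h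
  have hδ : ∀ ξ ∈ s, φ₁ - ξ ∈ zspanOn (↑s : Set (L → ℂ)) ({1}ᶜ : Set L) := by
    intro ξ hξ
    refine ⟨zspan_sub (hsz φ₁ hφ₁) (hsz ξ hξ), ?_⟩
    intro x hx
    have hx1 : x = 1 := by simpa using hx
    rw [hx1, Pi.sub_apply, hdeg φ₁ hφ₁ ξ hξ, sub_self]
  set Y : (L → ℂ) → (G → ℂ) := fun ξ => τ (φ₁ - ξ) with hY
  have hYg : ∀ ξ ∈ s, IsGeneralizedCharacter G (Y ξ) := fun ξ hξ => hτ.2.2.2 _ (hδ ξ hξ)
  have hY1 : ∀ ξ ∈ s, Y ξ 1 = 0 := fun ξ hξ => hτ1 _ (hδ ξ hξ)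
  have hYφ₁ : Y φ₁ = 0 := by
    show τ (φ₁ - φ₁) = 0
    rw [sub_self]; exact isoOn_map_zero hτ (hδ φ₁ hφ₁)
  have hYY : ∀ ξ ∈ s, ∀ ξ' ∈ s, classInner (Y ξ) (Y ξ') =
      1 - (if φ₁ = ξ' then 1 else 0) - (if ξ = φ₁ then 1 else 0) + (if ξ = ξ' then 1 else 0) := by
    intro ξ hξ ξ' hξ'
    show classInner (τ (φ₁ - ξ)) (τ (φ₁ - ξ')) = _
    rw [hτ.2.2.1 _ (hδ ξ hξ) _ (hδ ξ' hξ'), Helper74.classInner_sub_left,
      Helper74.classInner_sub_right, Helper74.classInner_sub_right, hon φ₁ hφ₁ φ₁ hφ₁,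
      hon φ₁ hφ₁ ξ' hξ', hon ξ hξ φ₁ hφ₁, hon ξ hξ ξ' hξ', if_pos rfl]
    ring
  -- norm two for ξ ≠ φ₁
  have hYY2 : ∀ ξ ∈ s, ξ ≠ φ₁ → classInner (Y ξ) (Y ξ) = 2 := by
    intro ξ hξ hne
    rw [hYY ξ hξ ξ hξ, if_neg (Ne.symm hne), if_neg hne, if_pos rfl]
    norm_num
  have hYYne : ∀ ξ ∈ s, ∀ ξ' ∈ s, ξ ≠ φ₁ → ξ' ≠ φ₁ → ξ ≠ ξ' →
      classInner (Y ξ) (Y ξ') = 1 := by
    intro ξ hξ ξ' hξ' hne hne' hne''
    rw [hYY ξ hξ ξ' hξ', if_neg (Ne.symm hne'), if_neg hne, if_neg hne'']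
    norm_num
  -- decomposition of Y φ₂
  obtain ⟨α₁, α₂, hs₁, hs₂, hα12, hY₂⟩ := exists_two_signedIrr (hYg φ₂ hφ₂)
    (hYY2 φ₂ hφ₂ (Ne.symm h12))
  have hα21 : classInner α₂ α₁ = 0 := by
    rw [← Helper74.classInner_conj_symm, hα12, map_zero]
  have hα1 : α₁ 1 + α₂ 1 = 0 := by
    have := hY1 φ₂ hφ₂
    rw [hY₂] at this
    exact this
  have hY₂α₁ : classInner (Y φ₂) α₁ = 1 := by
    rw [hY₂, Helper74.classInner_add_left, signedIrr_inner_self hs₁, hα21, add_zero]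
  have hY₂α₂ : classInner (Y φ₂) α₂ = 1 := by
    rw [hY₂, Helper74.classInner_add_left, signedIrr_inner_self hs₂, hα12, zero_add]
  -- the two types
  have htype : ∀ ξ ∈ s, ξ ≠ φ₁ → ξ ≠ φ₂ →
      (classInner (Y ξ) α₁ = 1 ∧ classInner (Y ξ) α₂ = 0) ∨
      (classInner (Y ξ) α₁ = 0 ∧ classInner (Y ξ) α₂ = 1) := by
    intro ξ hξ hne1 hne2
    have hsum : classInner (Y ξ) α₁ + classInner (Y ξ) α₂ = 1 := by
      have := hYYne ξ hξ φ₂ hφ₂ hne1 (Ne.symm h12) hne2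
      rw [hY₂, Helper74.classInner_add_right] at this
      exact this
    rcases inner_signedIrr_cases (hYg ξ hξ) (hYY2 ξ hξ hne1) hs₁ with ha | ha | ha <;>
      rcases inner_signedIrr_cases (hYg ξ hξ) (hYY2 ξ hξ hne1) hs₂ with hb | hb | hb <;>
      rw [ha, hb] at hsum
    · norm_num at hsum
    · right; exact ⟨ha, hb⟩
    · norm_num at hsum
    · left; exact ⟨ha, hb⟩
    · norm_num at hsum
    · norm_num at hsum
    · norm_num at hsum
    · norm_num at hsum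
    · norm_num at hsum
  -- the key claim
  have hkey : ∃ Ψ : G → ℂ, SignedIrr G Ψ ∧ ∀ ξ ∈ s, ξ ≠ φ₁ → classInner (Y ξ) Ψ = 1 := by
    by_cases hall : ∀ ξ ∈ s, ξ ≠ φ₁ → classInner (Y ξ) α₁ = 1
    · exact ⟨α₁, hs₁, hall⟩
    · push Not at hall
      obtain ⟨ξ', hξ', hne1', hne'⟩ := hall
      have hne2' : ξ' ≠ φ₂ := by
        intro h
        rw [h] at hne'
        exact hne' hY₂α₁
      have hty' : classInner (Y ξ') α₁ = 0 ∧ classInner (Y ξ') α₂ = 1 := by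
        rcases htype ξ' hξ' hne1' hne2' with h | h
        · exact absurd h.1 hne'
        · exact h
      refine ⟨α₂, hs₂, ?_⟩
      intro ξ hξ hne1
      by_cases hne2 : ξ = φ₂
      · rw [hne2]; exact hY₂α₂
      · rcases htype ξ hξ hne1 hne2 with h | h
        · exfalso
          have hξξ' : ξ ≠ ξ' := by
            intro heq
            rw [heq, hty'.1] at h
            exact zero_ne_one h.1
          exact signedIrr_triangle_false hs₁ hs₂ hα12 hα1 (hYg ξ hξ) (hYg ξ' hξ')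
            (hYY2 ξ hξ hne1) (hYY2 ξ' hξ' hne1') (hYYne ξ hξ ξ' hξ' hne1 hne1' hξξ')
            (hY1 ξ hξ) (hY1 ξ' hξ') h.1 h.2 hty'.1 hty'.2
        · exact h.2
  obtain ⟨Ψ, hΨ, hΨY⟩ := hkey
  have hYΨ : ∀ ξ ∈ s, classInner (Y ξ) Ψ = if ξ = φ₁ then 0 else 1 := by
    intro ξ hξ
    split_ifs with h
    · rw [h, hYφ₁, Helper74.classInner_zero_left]
    · exact hΨY ξ hξ h
  have hΨY' : ∀ ξ ∈ s, classInner Ψ (Y ξ) = if ξ = φ₁ then 0 else 1 := by
    intro ξ hξ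
    rw [← Helper74.classInner_conj_symm, hYΨ ξ hξ]
    split_ifs <;> simp
  -- the extension
  set T : (L → ℂ) → (G → ℂ) := fun ξ => Ψ - Y ξ with hT
  have hTg : ∀ ξ ∈ s, IsGeneralizedCharacter G (T ξ) :=
    fun ξ hξ => isGenChar_sub hΨ.isGenChar (hYg ξ hξ)
  have hTiso : ∀ ξ ∈ s, ∀ ξ' ∈ s, classInner (T ξ) (T ξ') = classInner ξ ξ' := by
    intro ξ hξ ξ' hξ'
    show classInner (Ψ - Y ξ) (Ψ - Y ξ') = _
    rw [Helper74.classInner_sub_left, Helper74.classInner_sub_right,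
      Helper74.classInner_sub_right, signedIrr_inner_self hΨ, hΨY' ξ' hξ', hYΨ ξ hξ,
      hYY ξ hξ ξ' hξ', hon ξ hξ ξ' hξ']
    have e1 : (if φ₁ = ξ' then (1 : ℂ) else 0) = if ξ' = φ₁ then 1 else 0 := by
      by_cases h : ξ' = φ₁
      · rw [if_pos h, if_pos h.symm]
      · rw [if_neg h, if_neg (fun h' => h h'.symm)]
    rw [e1]
    by_cases h1 : ξ = φ₁ <;> by_cases h2 : ξ' = φ₁ <;> by_cases h3 : ξ = ξ'
    all_goals first
      | (exfalso; subst h1; subst h2; exact h3 rfl)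
      | (exfalso; subst h3; exact h2 h1)
      | (exfalso; subst h3; exact h1 h2)
      | skip
    all_goals simp [h1, h2, h3]
  have horth : ∀ φ ∈ s, ∀ φ' ∈ s, φ ≠ φ' → classInner φ φ' = 0 :=
    fun φ hφ φ' hφ' hne => S1531.irr_orth (hirr φ hφ) (hirr φ' hφ') hne
  have hne' : ∀ φ ∈ s, classInner φ φ ≠ 0 := by
    intro φ hφ
    rw [S1531.irr_norm (hirr φ hφ)]; exact one_ne_zero
  have hiso := orthExt_isLinearIsometryOn s T horth hne' hTiso hTg
  obtain ⟨k, hk0, hk⟩ := S1531.irr_deg (hirr φ₁ hφ₁)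
  have hd0 : φ₁ 1 ≠ 0 := by
    rw [hk]; exact_mod_cast hk0.ne'
  refine ⟨⟨φ₁ - φ₂, hδ φ₂ hφ₂, sub_ne_zero.mpr h12⟩, orthExt s T, hiso, ?_⟩
  intro α hα
  obtain ⟨m, rfl⟩ := exists_coeff_of_mem_zspan hα.1
  rw [orthExt_sum_zsmul s T horth hne']
  have hsum : ∑ φ ∈ s, m φ = 0 := by
    have h1 := hα.2 1 (by simp)
    have h2 : (∑ φ ∈ s, m φ • φ) 1 = ((∑ φ ∈ s, m φ : ℤ) : ℂ) * φ₁ 1 := by
      rw [Finset.sum_apply, Int.cast_sum, Finset.sum_mul]
      refine Finset.sum_congr rfl (fun φ hφ => ?_)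
      rw [Pi.smul_apply, hdeg φ hφ φ₁ hφ₁, zsmul_eq_mul]
    rw [h2] at h1
    have h3 : ((∑ φ ∈ s, m φ : ℤ) : ℂ) = 0 := by
      rcases mul_eq_zero.mp h1 with h | h
      · exact h
      · exact absurd h hd0
    exact_mod_cast h3
  have hrew : ∑ φ ∈ s, m φ • φ = ∑ φ ∈ s, (-m φ) • (φ₁ - φ) := by
    have : ∑ φ ∈ s, (-m φ) • (φ₁ - φ) = ∑ φ ∈ s, m φ • φ - (∑ φ ∈ s, m φ) • φ₁ := by
      rw [Finset.sum_smul, ← Finset.sum_sub_distrib]
      refine Finset.sum_congr rfl (fun φ _ => ?_)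
      rw [smul_sub, neg_smul, neg_smul]
      abel
    rw [this, hsum, zero_smul, sub_zero]
  rw [hrew, isoOn_map_sum hτ hEa hEs s (fun φ => φ₁ - φ) (fun φ => -m φ) hδ (hδ φ₁ hφ₁)]
  have : ∑ φ ∈ s, m φ • T φ = (∑ φ ∈ s, m φ) • Ψ + ∑ φ ∈ s, (-m φ) • Y φ := by
    rw [Finset.sum_smul, ← Finset.sum_add_distrib]
    refine Finset.sum_congr rfl (fun φ _ => ?_)
    show m φ • (Ψ - Y φ) = _
    rw [smul_sub, neg_smul]
    abel
  rw [this, hsum, zero_smul, zero_add]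

end main

end Cfsg.Agent.Helper25
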