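import Mathlib
import Cfsg.Agent.Helper25.CohEqualDeg

set_option autoImplicit false

/-! From equal-degree coherence to an explicit sign and family of irreducible characters. -/

namespace Cfsg.Agent.Helper25

open Cfsg

variable {N : Type*} [Group N] [Fintype N] {G : Type*} [Group G] [Fintype G]

/-- At least two irreducible characters of the same degree and an isometry on their differences
with values vanishing at `1`: there are a sign `δ` and distinct irreducible characters `μ ξ` of `G`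
with `τ (ξ - ξ') = δ (μ ξ - μ ξ')`. -/
theorem coh_signed_family (s : Finset (N → ℂ)) (hirr : ∀ ξ ∈ s, IsIrrCharacter N ξ)
    (hdeg : ∀ ξ ∈ s, ∀ ξ' ∈ s, ξ 1 = ξ' 1) (h2 : 1 < s.card)
    (τ : (N → ℂ) → (G → ℂ)) (hτ : IsLinearIsometryOn (zspanOn (↑s : Set (N → ℂ)) {1}ᶜ) τ)
    (hτ1 : ∀ α ∈ zspanOn (↑s : Set (N → ℂ)) {1}ᶜ, τ α 1 = 0) :
    ∃ (δ : ℂ) (μ : (N → ℂ) → (G → ℂ)), (δ = 1 ∨ δ = -1) ∧ (∀ ξ ∈ s, IsIrrCharacter G (μ ξ)) ∧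
      Set.InjOn μ (↑s : Set (N → ℂ)) ∧ ∀ ξ ∈ s, ∀ ξ' ∈ s, τ (ξ - ξ') = δ • (μ ξ - μ ξ') := by
  classical
  obtain ⟨-, τ₁, hτ₁, hext⟩ := coh_equal_degree s hirr hdeg h2 τ hτ hτ1
  have hsz : ∀ ξ ∈ s, ξ ∈ zspan (↑s : Set (N → ℂ)) :=
    fun ξ hξ => mem_zspan_of_mem (Finset.mem_coe.mpr hξ)
  have hEs : ∀ x ∈ zspan (↑s : Set (N → ℂ)), ∀ n : ℤ, n • x ∈ zspan (↑s : Set (N → ℂ)) :=
    fun x hx n => zspan_zsmul hx n
  have hsub : ∀ ξ ∈ s, ∀ ξ' ∈ s, τ (ξ - ξ') = τ₁ ξ - τ₁ ξ' := by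
    intro ξ hξ ξ' hξ'
    have hmem : ξ - ξ' ∈ zspanOn (↑s : Set (N → ℂ)) ({1}ᶜ : Set N) := by
      refine ⟨zspan_sub (hsz ξ hξ) (hsz ξ' hξ'), ?_⟩
      intro x hx
      have hx1 : x = 1 := by simpa using hx
      rw [hx1, Pi.sub_apply, hdeg ξ hξ ξ' hξ', sub_self]
    rw [← hext _ hmem, isoOn_map_sub hτ₁ hEs (hsz ξ hξ) (hsz ξ' hξ')]
  have hval : ∀ ξ ∈ s, ∀ ξ' ∈ s, τ₁ ξ 1 = τ₁ ξ' 1 := by
    intro ξ hξ ξ' hξ'
    have hmem : ξ - ξ' ∈ zspanOn (↑s : Set (N → ℂ)) ({1}ᶜ : Set N) := by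
      refine ⟨zspan_sub (hsz ξ hξ) (hsz ξ' hξ'), ?_⟩
      intro x hx
      have hx1 : x = 1 := by simpa using hx
      rw [hx1, Pi.sub_apply, hdeg ξ hξ ξ' hξ', sub_self]
    have h := hτ1 _ hmem
    rw [hsub ξ hξ ξ' hξ', Pi.sub_apply] at h
    exact sub_eq_zero.mp h
  have hsigned : ∀ ξ ∈ s, SignedIrr G (τ₁ ξ) := by
    intro ξ hξ
    apply signedIrr_of_inner_self_eq_one (hτ₁.2.2.2 ξ (hsz ξ hξ))
    rw [hτ₁.2.2.1 ξ (hsz ξ hξ) ξ (hsz ξ hξ)]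
    exact S1531.irr_norm (hirr ξ hξ)
  obtain ⟨ξ₀, hξ₀⟩ : ∃ ξ₀, ξ₀ ∈ s := Finset.card_pos.mp (by omega)
  obtain ⟨δ, χ₀, hδ, h₀⟩ := (hsigned ξ₀ hξ₀).exists_sign
  have hδ2 : δ * δ = 1 := by rcases hδ with rfl | rfl <;> simp
  have hirrμ : ∀ ξ ∈ s, IsIrrCharacter G (δ • τ₁ ξ) := by
    intro ξ hξ
    obtain ⟨e, χ, he, hχ⟩ := (hsigned ξ hξ).exists_sign
    have hv := hval ξ hξ ξ₀ hξ₀
    rw [hχ, h₀, Pi.smul_apply, Pi.smul_apply, smul_eq_mul, smul_eq_mul] at hv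
    obtain ⟨k, hk, hk1⟩ := S1531.irr_deg χ.2
    obtain ⟨k₀, hk₀, hk₀1⟩ := S1531.irr_deg χ₀.2
    have hk1' : (χ : G → ℂ) 1 = (k : ℂ) := hk1
    have hk₀1' : (χ₀ : G → ℂ) 1 = (k₀ : ℂ) := hk₀1
    rw [hk1', hk₀1'] at hv
    have heδ : e = δ := by
      rcases he with rfl | rfl <;> rcases hδ with rfl | rfl
      · rfl
      · exfalso
        have : ((k + k₀ : ℕ) : ℂ) = 0 := by
          push_cast
          linear_combination hv
        have : k + k₀ = 0 := by exact_mod_cast this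
        omega
      · exfalso
        have : ((k + k₀ : ℕ) : ℂ) = 0 := by
          push_cast
          linear_combination -hv
        have : k + k₀ = 0 := by exact_mod_cast this
        omega
      · rfl
    rw [hχ, heδ, smul_smul, hδ2, one_smul]
    exact χ.2
  refine ⟨δ, fun ξ => δ • τ₁ ξ, hδ, hirrμ, ?_, ?_⟩
  · intro ξ hξ ξ' hξ' h
    have h' : τ₁ ξ = τ₁ ξ' := by
      have := congrArg (fun f => δ • f) h
      simpa only [smul_smul, hδ2, one_smul] using this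
    by_contra hne
    have h1 : classInner (τ₁ ξ) (τ₁ ξ') = 0 := by
      rw [hτ₁.2.2.1 ξ (hsz ξ (Finset.mem_coe.mp hξ)) ξ' (hsz ξ' (Finset.mem_coe.mp hξ'))]
      exact S1531.irr_orth (hirr ξ hξ) (hirr ξ' hξ') hne
    rw [h', signedIrr_inner_self (hsigned ξ' hξ')] at h1
    exact one_ne_zero h1
  · intro ξ hξ ξ' hξ'
    rw [hsub ξ hξ ξ' hξ', ← smul_sub, smul_smul, hδ2, one_smul]

end Cfsg.Agent.Helper25
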