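import Mathlib
import Cfsg.Agent.Helper25.FrobCount
import Cfsg.Agent.Helper25.CohChief
import Cfsg.Agent.Helper25.CohEqualDeg
import Cfsg.Agent.Helper25.CohDescend

/-!
# Frobenius kernels: counting and the linear base of the coherence induction

* `frobenius_index_dvd_gen`: `[L:K] ∣ |N:H₁| - 1` for `L`-normal `H₁ ≤ N ≤ K` when no element
  outside `K` centralizes a nonidentity element of `K/H₁` (no commutativity assumption).
* `coh_linear_base`: `S(H₁)` is coherent for an abstract isometry when `[K,K] ≤ H₁ < K` and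
  `|K:H₁| > [L:K] + 1`.
-/

set_option autoImplicit false

namespace Cfsg.Agent.Helper25

open Cfsg
open scoped commutatorElement

theorem index_dvd_card_sub_one_of_le {Q : Type*} [Group Q] [Finite Q] (Nb Kb : Subgroup Q)
    [Nb.Normal] (hcent : ∀ y ∈ Nb, y ≠ 1 → Subgroup.centralizer {y} ≤ Kb) :
    Kb.index ∣ Nat.card Nb - 1 := by
  classical
  have := Fintype.ofFinite Q
  set Y : Finset Q := Finset.univ.filter (fun q => q ∈ Nb ∧ q ≠ 1) with hY
  have hYc : Y.card = Nat.card Nb - 1 := by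
    have h1 : Nat.card Nb = (Finset.univ.filter (fun q : Q => q ∈ Nb)).card := by
      rw [Nat.card_eq_fintype_card, Fintype.card_subtype]
    have h2 : Y = (Finset.univ.filter (fun q : Q => q ∈ Nb)).erase 1 := by
      ext q
      simp [hY, and_comm]
    rw [h2, Finset.card_erase_of_mem (by simp), h1]
  rw [← hYc, Finset.card_eq_sum_card_image ConjClasses.mk Y]
  apply Finset.dvd_sum
  intro c hc
  obtain ⟨y₀, hy₀, rfl⟩ := Finset.mem_image.mp hc
  have hy₀' : y₀ ∈ Nb ∧ y₀ ≠ 1 := by simpa [hY] using hy₀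
  have h3 : Y.filter (fun q => ConjClasses.mk q = ConjClasses.mk y₀) =
      Finset.univ.filter (fun q : Q => IsConj q y₀) := by
    ext q
    simp only [hY, Finset.mem_filter, Finset.mem_univ, true_and, ConjClasses.mk_eq_mk_iff_isConj]
    constructor
    · exact fun h => h.2
    · intro h
      refine ⟨?_, h⟩
      obtain ⟨g, hg⟩ := isConj_iff.mp h.symm
      rw [← hg]
      refine ⟨(inferInstance : Nb.Normal).conj_mem _ hy₀'.1 g, ?_⟩
      intro h1
      apply hy₀'.2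
      have : y₀ = g⁻¹ * (g * y₀ * g⁻¹) * g := by group
      rw [this, h1]
      group
  rw [h3, card_conj_eq_index]
  exact Subgroup.index_dvd_of_le (hcent y₀ hy₀'.1 hy₀'.2)

theorem frobenius_index_dvd_gen {L : Type*} [Group L] [Finite L] (K H₁ N : Subgroup L)
    [H₁.Normal] [N.Normal] (hH₁K : H₁ ≤ K) (hNK : N ≤ K)
    (hfrob : ∀ k ∈ K, k ∉ H₁ → ∀ x : L, x * k * x⁻¹ * k⁻¹ ∈ H₁ → x ∈ K) :
    K.index ∣ H₁.relIndex N - 1 := by
  set π := QuotientGroup.mk' H₁ with hπ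
  have hsurj : Function.Surjective π := QuotientGroup.mk'_surjective H₁
  have hker : π.ker = H₁ := QuotientGroup.ker_mk' H₁
  have hNb : (N.map π).Normal := Subgroup.Normal.map inferInstance π hsurj
  have h1 : Nat.card (N.map π) = H₁.relIndex N := by
    rw [← Subgroup.relIndex_ker N π, hker]
  have h2 : (K.map π).index = K.index := Subgroup.index_map_eq K hsurj (by rw [hker]; exact hH₁K)
  have hπ1 : ∀ x : L, π x = 1 ↔ x ∈ H₁ := by
    intro x
    rw [hπ, QuotientGroup.mk'_apply, QuotientGroup.eq_one_iff]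
  rw [← h1, ← h2]
  apply index_dvd_card_sub_one_of_le
  intro y hy hy1
  obtain ⟨n, hnN, rfl⟩ := Subgroup.mem_map.mp hy
  have hnH : n ∉ H₁ := fun h => hy1 ((hπ1 n).mpr h)
  intro q hq
  obtain ⟨x, rfl⟩ := hsurj q
  rw [Subgroup.mem_centralizer_iff] at hq
  have h3 := hq (π n) (Set.mem_singleton _)
  have h4 : π (x * n * x⁻¹ * n⁻¹) = 1 := by
    simp only [map_mul, map_inv]
    rw [← h3]
    group
  exact Subgroup.mem_map_of_mem π (hfrob n (hNK hnN) hnH x ((hπ1 _).mp h4))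

/-- A proper `L`-normal section of a Frobenius kernel has order at least `[L:K] + 1`. -/
theorem succ_index_le_relIndex {L : Type*} [Group L] [Finite L] (K A B : Subgroup L)
    [A.Normal] [B.Normal] (hAB : A < B) (hBK : B ≤ K)
    (hfrob : ∀ k ∈ K, k ∉ A → ∀ x : L, x * k * x⁻¹ * k⁻¹ ∈ A → x ∈ K) :
    K.index + 1 ≤ A.relIndex B := by
  have hd := frobenius_index_dvd_gen K A B (hAB.le.trans hBK) hBK hfrob
  have h0 : A.relIndex B ≠ 0 := by
    rw [Subgroup.relIndex]; exact Subgroup.index_ne_zero_of_finite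
  have h1 : A.relIndex B ≠ 1 := fun h => (not_le_of_gt hAB) (Subgroup.relIndex_eq_one.mp h)
  have h2 : 0 < A.relIndex B - 1 := by omega
  have := Nat.le_of_dvd h2 hd
  omega

theorem frob_arith (e y u : ℕ) (he0 : 0 < e) (hy : e + 1 ≤ y) (hu : e + 1 ≤ u) :
    4 * e ^ 2 * y < (u * y - 1) ^ 2 := by
  have h1 : 1 ≤ u * y := Nat.mul_pos (by omega) (by omega)
  zify [h1]
  have hy' : (e : ℤ) + 1 ≤ y := by exact_mod_cast hy
  have hu' : (e : ℤ) + 1 ≤ u := by exact_mod_cast hu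
  have hepos : (0 : ℤ) < e := by exact_mod_cast he0
  -- u y - 1 ≥ (e+1) y - 1 ≥ e y + e = e (y + 1)
  have h2 : (e : ℤ) * ((y : ℤ) + 1) ≤ (u : ℤ) * y - 1 := by nlinarith
  have h3 : (0 : ℤ) ≤ (e : ℤ) * ((y : ℤ) + 1) := by positivity
  have h4 : ((e : ℤ) * ((y : ℤ) + 1)) ^ 2 ≤ ((u : ℤ) * y - 1) ^ 2 := by
    apply pow_le_pow_left₀ h3 h2
  have h5 : (4 : ℤ) * (e : ℤ) ^ 2 * y < ((e : ℤ) * ((y : ℤ) + 1)) ^ 2 := by
    have h6 : (0 : ℤ) < ((y : ℤ) - 1) ^ 2 := by
      have : (1 : ℤ) ≤ (y : ℤ) - 1 := by linarith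
      positivity
    have h7 : (0 : ℤ) < (e : ℤ) ^ 2 := by positivity
    nlinarith
  linarith

section base
variable {L : Type*} [Group L] [Fintype L] {G : Type*} [Group G] [Fintype G]

/-- The linear base: `S(H₁)` is coherent when `K/H₁` is abelian of order more than `[L:K] + 1`. -/
theorem coh_linear_base (K : Subgroup L) [K.Normal]
    (hirr : ∀ χ ∈ inducedIrrAbove K ⊥, IsIrrCharacter L χ)
    (τ : (L → ℂ) → (G → ℂ))
    (hτ : IsLinearIsometryOn (zspanOn (inducedIrrAbove K ⊥) {1}ᶜ) τ)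
    (hτ1 : ∀ α ∈ zspanOn (inducedIrrAbove K ⊥) {1}ᶜ, τ α 1 = 0)
    (H₁ : Subgroup L) [H₁.Normal] (hKH : ⁅K, K⁆ ≤ H₁)
    (hbig : K.index + 1 < H₁.relIndex K) :
    IsCoherent (inducedIrrAbove K H₁) {1}ᶜ τ := by
  classical
  have : Fintype K := Fintype.ofFinite K
  have : Fintype (IrrCharacter K) := Helper74.irrFintype K
  set s := (inducedIrrAbove_finite K H₁).toFinset with hs
  have hscoe : (↑s : Set (L → ℂ)) = inducedIrrAbove K H₁ := Set.Finite.coe_toFinset _
  have hsS : (↑s : Set (L → ℂ)) ⊆ inducedIrrAbove K ⊥ := by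
    rw [hscoe]; exact inducedIrrAbove_subset_bot K H₁
  have hdeg : ∀ φ ∈ inducedIrrAbove K H₁, φ 1 = (K.index : ℂ) := by
    rintro φ ⟨θ, hθ, -, hker, rfl⟩
    rw [Helper15.indFun_apply_one, apply_one_eq_one_of_commutator_le K H₁ hKH θ hθ hker, mul_one]
  have hirr' : ∀ ξ ∈ s, IsIrrCharacter L ξ := fun ξ hξ => hirr ξ (hsS (Finset.mem_coe.mpr hξ))
  have hmem : ∀ ξ ∈ s, ξ ∈ inducedIrrAbove K H₁ := fun ξ hξ => by
    rw [← hscoe]; exact Finset.mem_coe.mpr hξ
  have hcd : ∀ ξ ∈ s, charDegree ξ = K.index := by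
    intro ξ hξ
    have h1 := Helper80.IsCharacter.charDegree_cast
      (Helper80.IsIrrCharacter.isCharacter (hirr' ξ hξ))
    rw [hdeg ξ (hmem ξ hξ)] at h1
    exact_mod_cast h1
  have hcard : 1 < s.card := by
    by_contra hle
    have hle' : s.card ≤ 1 := not_lt.mp hle
    have hmass := mass_le K H₁ s (by rw [hscoe])
      (fun φ hφ => Helper80.IsIrrCharacter.isCharacter (hirr' φ hφ)) (fun _ => 1)
      (fun φ hφ => by rw [Cfsg.Agent.S1531.irr_norm (hirr' φ hφ)]; simp)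
      (fun _ _ => one_ne_zero)
    have h1 : ∑ φ ∈ s, (charDegree φ : ℝ) ^ 2 / ((1 : ℕ) : ℝ) = s.card * (K.index : ℝ) ^ 2 := by
      rw [Finset.sum_congr rfl (fun φ hφ => by rw [hcd φ hφ]), Finset.sum_const, nsmul_eq_mul]
      simp
    rw [h1] at hmass
    have hKpos : (0 : ℝ) < K.index := by
      have : 0 < K.index := Nat.pos_of_ne_zero (Subgroup.index_ne_zero_of_finite)
      exact_mod_cast this
    have h2 : (s.card : ℝ) ≤ 1 := by exact_mod_cast hle'
    have h3 : (K.index : ℝ) * ((H₁.relIndex K : ℝ) - 1) ≤ (K.index : ℝ) * (K.index : ℝ) := by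
      calc (K.index : ℝ) * ((H₁.relIndex K : ℝ) - 1) ≤ s.card * (K.index : ℝ) ^ 2 := hmass
        _ ≤ 1 * (K.index : ℝ) ^ 2 := by
            apply mul_le_mul_of_nonneg_right h2 (by positivity)
        _ = (K.index : ℝ) * (K.index : ℝ) := by ring
    have h4 : (H₁.relIndex K : ℝ) - 1 ≤ (K.index : ℝ) := le_of_mul_le_mul_left h3 hKpos
    have h5 : ((K.index + 1 : ℕ) : ℝ) < (H₁.relIndex K : ℝ) := by exact_mod_cast hbig
    push_cast at h5
    linarith
  have hcoh := coh_equal_degree s hirr'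
    (fun ξ hξ ξ' hξ' => by rw [hdeg ξ (hmem ξ hξ), hdeg ξ' (hmem ξ' hξ')]) hcard τ
    (isLinearIsometryOn_mono (zspanOn_mono hsS) hτ) (fun α hα => hτ1 α (zspanOn_mono hsS hα))
  rw [hscoe] at hcoh
  exact hcoh

end base

end Cfsg.Agent.Helper25
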