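import Mathlib
import Cfsg.Agent.S0132
import Cfsg.Agent.Lib.Nilpotent

/-!
# Splitting a nilpotent normal subgroup that is not of prime power order

`exists_normal_split`: a nilpotent normal subgroup `K` of a finite group `L` whose order is not a
prime power is the internal direct product of two nontrivial normal subgroups of `L` (a Sylow
subgroup and its complement).  The rest of the file collects the elementary consequences of such
a splitting `K = P × Q` used in the coherence argument.
-/

set_option autoImplicit false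

namespace Cfsg.Agent.Helper25

open scoped commutatorElement

section exists_split
variable {L : Type*} [Group L] [Finite L]

theorem exists_normal_split (K : Subgroup L) [hK : K.Normal] (hnil : Group.IsNilpotent K)
    (hnpp : ¬ ∃ p m : ℕ, p.Prime ∧ Nat.card K = p ^ m) :
    ∃ P Q : Subgroup L, P.Normal ∧ Q.Normal ∧ P ≠ ⊥ ∧ Q ≠ ⊥ ∧ P ⊓ Q = ⊥ ∧ P ⊔ Q = K := by
  classical
  have hcard1 : Nat.card K ≠ 1 := by
    intro h
    exact hnpp ⟨2, 0, Nat.prime_two, by rw [h, pow_zero]⟩
  obtain ⟨p, hp, hpd⟩ := Nat.exists_prime_and_dvd hcard1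
  haveI : Fact p.Prime := ⟨hp⟩
  obtain ⟨P₀⟩ : Nonempty (Sylow p K) := inferInstance
  have hP₀n : (P₀ : Subgroup K).Normal :=
    Sylow.normal_of_normalizerCondition Group.normalizerCondition_of_isNilpotent P₀
  haveI : (P₀ : Subgroup K).Characteristic := Sylow.characteristic_of_normal P₀ hP₀n
  have hcop : (Nat.card (P₀ : Subgroup K)).Coprime (P₀ : Subgroup K).index :=
    Sylow.card_coprime_index P₀
  obtain ⟨Q₀, hQ₀⟩ := Subgroup.exists_right_complement'_of_coprime hcop
  set m := Nat.card Q₀ with hm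
  have hmidx : (P₀ : Subgroup K).index = m := hQ₀.symm.index_eq_card
  have hmp : m.Coprime p := by
    rw [← hmidx]
    exact ((Nat.Prime.coprime_iff_not_dvd hp).mpr P₀.not_dvd_index).symm
  -- elements of `Q₀` commute with elements of `P₀`
  have hcomm : ∀ a ∈ (P₀ : Subgroup K), ∀ b ∈ Q₀, a * b = b * a := by
    intro a ha b hb
    have hord : (orderOf b).Coprime p := by
      apply Nat.Coprime.coprime_dvd_left _ hmp
      exact Subgroup.orderOf_dvd_natCard Q₀ hb
    exact Cfsg.Agent.S0132.commute_of_nilpotent_coprime hnil (P₀ : Subgroup K) P₀.isPGroup' b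
      hord a ha
  -- characterization of `Q₀`
  have hchar : ∀ x : K, x ∈ Q₀ ↔ x ^ m = 1 := by
    intro x
    constructor
    · intro hx
      exact orderOf_dvd_iff_pow_eq_one.mp (Subgroup.orderOf_dvd_natCard Q₀ hx)
    · intro hx
      have hxs : x ∈ (P₀ : Subgroup K) ⊔ Q₀ := by rw [hQ₀.sup_eq_top]; trivial
      obtain ⟨a, ha, b, hb, rfl⟩ := Subgroup.mem_sup_of_normal_left.mp hxs
      have hab : Commute a b := hcomm a ha b hb
      rw [hab.mul_pow] at hx
      have hbm : b ^ m = 1 :=
        orderOf_dvd_iff_pow_eq_one.mp (Subgroup.orderOf_dvd_natCard Q₀ hb)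
      rw [hbm, mul_one] at hx
      have h1 : orderOf a ∣ m := orderOf_dvd_of_pow_eq_one hx
      obtain ⟨k, hk⟩ := P₀.isPGroup' ⟨a, ha⟩
      have hk' : a ^ p ^ k = 1 := by
        have := congrArg Subtype.val hk
        simpa using this
      have h2 : orderOf a ∣ p ^ k := orderOf_dvd_of_pow_eq_one hk'
      have h3 : orderOf a = 1 :=
        Nat.Coprime.eq_one_of_dvd (Nat.Coprime.coprime_dvd_left h1 (Nat.Coprime.pow_right k hmp)) h2
      rw [orderOf_eq_one_iff.mp h3, one_mul]
      exact hb
  refine ⟨(P₀ : Subgroup K).map K.subtype, Q₀.map K.subtype, inferInstance, ?_, ?_, ?_, ?_, ?_⟩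
  · -- normality of `Q`
    refine ⟨fun q hq g => ?_⟩
    obtain ⟨q₀, hq₀, rfl⟩ := hq
    have hmem : g * (q₀ : L) * g⁻¹ ∈ K := hK.conj_mem _ q₀.2 g
    refine ⟨⟨g * (q₀ : L) * g⁻¹, hmem⟩, ?_, rfl⟩
    rw [SetLike.mem_coe, hchar]
    apply Subtype.ext
    have h1 := (hchar q₀).mp hq₀
    have h2 : ((q₀ : L)) ^ m = 1 := by
      have := congrArg Subtype.val h1
      simpa using this
    show (g * (q₀ : L) * g⁻¹) ^ m = 1
    rw [conj_pow, h2]
    group
  · intro h
    rw [Subgroup.map_eq_bot_iff_of_injective _ K.subtype_injective] at h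
    exact P₀.ne_bot_of_dvd_card hpd h
  · intro h
    rw [Subgroup.map_eq_bot_iff_of_injective _ K.subtype_injective] at h
    rw [h, Subgroup.isComplement'_bot_right] at hQ₀
    obtain ⟨n, hn⟩ := P₀.isPGroup'.exists_card_eq
    apply hnpp
    refine ⟨p, n, hp, ?_⟩
    rw [← hn, hQ₀, Subgroup.card_top]
  · rw [← Subgroup.map_inf _ _ _ K.subtype_injective, hQ₀.disjoint.eq_bot, Subgroup.map_bot]
  · rw [← Subgroup.map_sup, hQ₀.sup_eq_top, ← MonoidHom.range_eq_map, Subgroup.range_subtype]

end exists_split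

end Cfsg.Agent.Helper25
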