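import Mathlib
import Cfsg.Agent.Helper75.FrobeniusGroup
import Cfsg.Agent.Helper25.FrobCount

/-!
# Sibley's coherence theorem, part 1: Frobenius group basics

`K` normal in `Γ`, `K ⊓ W = ⊥`, `K ⊔ W = ⊤`, `W` acting without nonidentity fixed points.
-/

set_option autoImplicit false
open Cfsg

namespace Cfsg.Agent.Helper25

section frob
variable {Γ : Type*} [Group Γ] [Finite Γ] {K W : Subgroup Γ} [hK : K.Normal]

/-- Centralizers of nonidentity kernel elements lie in the kernel. -/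
theorem frob_centralizer_le (hKW' : K ⊔ W = ⊤)
    (hfpf : ∀ w ∈ W, w ≠ 1 → ∀ k ∈ K, w * k = k * w → k = 1) {k : Γ} (hk : k ∈ K)
    (hk1 : k ≠ 1) : Subgroup.centralizer ({k} : Set Γ) ≤ K := by
  intro y hy
  by_contra hyK
  apply hk1
  rw [Subgroup.mem_centralizer_singleton_iff] at hy
  exact Helper75.fg_cent hKW' hfpf hyK hk hy

/-- The commutator map `u ↦ x u x⁻¹ u⁻¹` with `x ∉ K` is injective on `K`. -/
theorem frob_comm_injOn (hKW' : K ⊔ W = ⊤)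
    (hfpf : ∀ w ∈ W, w ≠ 1 → ∀ k ∈ K, w * k = k * w → k = 1) {x : Γ} (hx : x ∉ K)
    {u v : Γ} (hu : u ∈ K) (hv : v ∈ K) (h : x * u * x⁻¹ * u⁻¹ = x * v * x⁻¹ * v⁻¹) : u = v := by
  have h1 : u * x⁻¹ * u⁻¹ = v * x⁻¹ * v⁻¹ := by
    have : x⁻¹ * (x * u * x⁻¹ * u⁻¹) = x⁻¹ * (x * v * x⁻¹ * v⁻¹) := by rw [h]
    simpa [mul_assoc] using this
  have h2 : x⁻¹ * (v⁻¹ * u) = (v⁻¹ * u) * x⁻¹ := by
    have e1 : (v⁻¹ * u) * x⁻¹ = v⁻¹ * (u * x⁻¹ * u⁻¹) * u := by group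
    rw [e1, h1]; group
  have hx' : x⁻¹ ∉ K := fun h' => hx (by simpa using K.inv_mem h')
  have h3 := Helper75.fg_cent hKW' hfpf hx' (K.mul_mem (K.inv_mem hv) hu) h2
  exact (inv_mul_eq_one.mp h3).symm

/-- Frobenius quotients: an element outside `K` centralizes no nonidentity element of `K/H₁`. -/
theorem frob_comm_mem (hKW' : K ⊔ W = ⊤)
    (hfpf : ∀ w ∈ W, w ≠ 1 → ∀ k ∈ K, w * k = k * w → k = 1) (H₁ : Subgroup Γ) [hH₁ : H₁.Normal]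
    (hH₁K : H₁ ≤ K) {x k : Γ} (hx : x ∉ K) (hk : k ∈ K) (h : x * k * x⁻¹ * k⁻¹ ∈ H₁) :
    k ∈ H₁ := by
  let f : H₁ → H₁ := fun u => ⟨x * (u : Γ) * x⁻¹ * (u : Γ)⁻¹,
    H₁.mul_mem (hH₁.conj_mem _ u.2 x) (H₁.inv_mem u.2)⟩
  have hinj : Function.Injective f := by
    intro u v huv
    have := congrArg Subtype.val huv
    exact Subtype.ext (frob_comm_injOn hKW' hfpf hx (hH₁K u.2) (hH₁K v.2) this)
  obtain ⟨u, hu⟩ := Finite.surjective_of_injective hinj ⟨_, h⟩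
  have hu' : x * (u : Γ) * x⁻¹ * (u : Γ)⁻¹ = x * k * x⁻¹ * k⁻¹ := congrArg Subtype.val hu
  have := frob_comm_injOn hKW' hfpf hx (hH₁K u.2) hk hu'
  rw [← this]; exact u.2

/-- The hypothesis `hfrob` of the coherence theorems. -/
theorem frob_hfrob (hKW' : K ⊔ W = ⊤)
    (hfpf : ∀ w ∈ W, w ≠ 1 → ∀ k ∈ K, w * k = k * w → k = 1) (H₁ : Subgroup Γ) [H₁.Normal]
    (hH₁K : H₁ ≤ K) :
    ∀ k ∈ K, k ∉ H₁ → ∀ x : Γ, x * k * x⁻¹ * k⁻¹ ∈ H₁ → x ∈ K := by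
  intro k hk hkH x hx
  by_contra hxK
  exact hkH (frob_comm_mem hKW' hfpf H₁ hH₁K hxK hk hx)

/-- `[Γ:K]` divides `|Z| - 1` for a normal subgroup `Z` of `Γ` central in `K`. -/
theorem frob_index_dvd_central (hKW' : K ⊔ W = ⊤)
    (hfpf : ∀ w ∈ W, w ≠ 1 → ∀ k ∈ K, w * k = k * w → k = 1) (Z : Subgroup Γ) [Z.Normal]
    (hZK : Z ≤ K) (hZc : ∀ z ∈ Z, ∀ k ∈ K, z * k = k * z) : K.index ∣ Nat.card Z - 1 := by
  apply index_dvd_card_sub_one Z K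
  intro y hy hy1
  apply le_antisymm (frob_centralizer_le hKW' hfpf (hZK hy) hy1)
  intro k hk
  rw [Subgroup.mem_centralizer_singleton_iff]
  exact (hZc y hy k hk).symm

end frob

end Cfsg.Agent.Helper25
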