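import Mathlib
import Cfsg.Agent.Helper75.TIFN
import Cfsg.Agent.Helper25.IndIrrAbove
import Cfsg.Agent.Helper25.GenChar
import Cfsg.Agent.Helper25.ZSpan
import Cfsg.Agent.Helper25.Sibley1
import Cfsg.Agent.Helper25.CohCentral
import Cfsg.Agent.S1514
import Cfsg.Agent.S0161

/-!
# Sibley's coherence theorem, part 2: induction from the normalizer of a TI subgroup

For `L ≤ G`, `K ⊴ L` whose image in `G` is a TI subgroup with normalizer `L`, induction from `L`
is an isometry on the integer combinations of `inducedIrrAbove K ⊥` vanishing at `1`; for a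
Frobenius group `L` of odd order this gives a coherence system.
-/

set_option autoImplicit false
open Cfsg

namespace Cfsg.Agent.Helper25

section ti
variable {G : Type*} [Group G] [Fintype G] (L : Subgroup G) [Fintype L] (K : Subgroup L)
  [hK : K.Normal]

/-- members of `ℤ[S]` vanish outside `K`, are class functions, and induce to virtual characters -/
theorem zspan_inducedIrrAbove_props {α : L → ℂ} (hα : α ∈ zspan (inducedIrrAbove K ⊥)) :
    (∀ x : L, x ∉ K → α x = 0) ∧ IsClassFunction L α ∧
      IsGeneralizedCharacter G (indFun L α) := by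
  unfold zspan at hα
  induction hα using Submodule.span_induction with
  | mem χ hχ =>
    have hc : IsCharacter L χ := isCharacter_of_mem_inducedIrrAbove K hχ
    obtain ⟨θ, -, -, -, rfl⟩ := hχ
    refine ⟨fun x hx => Helper15.indFun_normal_of_not_mem K θ hx,
      Helper74.isClassFunction_of_isCharacter hc,
      isGenChar_of_isCharacter (Helper15.isCharacter_indFun L hc)⟩
  | zero =>
    refine ⟨fun x _ => rfl, fun _ _ => rfl, ?_⟩
    rw [Helper15.indFun_zero]; exact isGenChar_zero
  | add a b _ _ iha ihb =>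
    refine ⟨fun x hx => by rw [Pi.add_apply, iha.1 x hx, ihb.1 x hx, add_zero],
      Helper74.isClassFunction_add iha.2.1 ihb.2.1, ?_⟩
    rw [Helper15.indFun_add]; exact isGenChar_add iha.2.2 ihb.2.2
  | smul n a _ iha =>
    refine ⟨fun x hx => by rw [Pi.smul_apply, iha.1 x hx, smul_zero], ?_, ?_⟩
    · intro g h
      rw [Pi.smul_apply, Pi.smul_apply, iha.2.1 g h]
    · rw [← Int.cast_smul_eq_zsmul ℂ n a, Helper15.indFun_smul, Int.cast_smul_eq_zsmul]
      exact isGenChar_zsmul n iha.2.2

theorem indFun_zsmul (n : ℤ) (α : L → ℂ) : indFun L (n • α) = n • indFun L α := by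
  rw [← Int.cast_smul_eq_zsmul ℂ n α, Helper15.indFun_smul, Int.cast_smul_eq_zsmul]

/-- Induction from the normalizer of a TI subgroup is an isometry on class functions supported
on the nonidentity elements of the subgroup. -/
theorem classInner_indFun_of_ti
    (hTI : ∀ g : G, g ∉ L → ∀ k ∈ K.map L.subtype, g * k * g⁻¹ ∈ K.map L.subtype → k = 1)
    {α β : L → ℂ} (hβ : IsClassFunction L β)
    (hαK : ∀ x : L, x ∉ K → α x = 0) (hβK : ∀ x : L, x ∉ K → β x = 0) (hα1 : α 1 = 0) :
    classInner (indFun L α) (indFun L β) = classInner α β := by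
  rw [Helper15.frobenius_reciprocity L α (indFun L β) (Helper15.isClassFunction_indFun L β)]
  unfold classInner
  congr 1
  refine Finset.sum_congr rfl fun x _ => ?_
  by_cases hx : x ∈ K
  · by_cases hx1 : x = 1
    · rw [hx1, hα1, zero_mul, zero_mul]
    · have hxmap : (x : G) ∈ K.map L.subtype := ⟨x, hx, rfl⟩
      have hvan : ∀ y : L, (y : G) ∉ K.map L.subtype → β y = 0 := by
        intro y hy
        apply hβK
        intro hyK
        exact hy ⟨y, hyK, rfl⟩
      show α x * (starRingEnd ℂ) (indFun L β (x : G)) = α x * (starRingEnd ℂ) (β x)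
      rw [Helper75.tf_indFun_apply (K.map L.subtype) L hTI hβ hvan x hxmap hx1]
  · rw [hαK x hx, zero_mul, zero_mul]

/-- Induction is a linear isometry on `ℤ[S, L^#]`. -/
theorem isLinearIsometryOn_indFun_of_ti
    (hTI : ∀ g : G, g ∉ L → ∀ k ∈ K.map L.subtype, g * k * g⁻¹ ∈ K.map L.subtype → k = 1) :
    IsLinearIsometryOn (zspanOn (inducedIrrAbove K ⊥) {1}ᶜ) (fun α : L → ℂ => indFun L α) := by
  refine ⟨fun α _ β _ => Helper15.indFun_add L α β, fun α _ n => indFun_zsmul L n α, ?_, ?_⟩
  · intro α hα β hβ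
    obtain ⟨hαK, -, -⟩ := zspan_inducedIrrAbove_props L K hα.1
    obtain ⟨hβK, hβc, -⟩ := zspan_inducedIrrAbove_props L K hβ.1
    exact classInner_indFun_of_ti L K hTI hβc hαK hβK (hα.2 1 (by simp))
  · intro α hα
    exact (zspan_inducedIrrAbove_props L K hα.1).2.2

theorem indFun_apply_one_of_mem {α : L → ℂ} (hα : α ∈ zspanOn (inducedIrrAbove K ⊥) {1}ᶜ) :
    indFun L α 1 = 0 := by
  rw [Helper15.indFun_apply_one, hα.2 1 (by simp), mul_zero]

end ti

section system
variable {G : Type*} [Group G] [Fintype G] (L : Subgroup G) [Fintype L] (K W : Subgroup L)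
  [hK : K.Normal]

/-- In a Frobenius group of odd order with kernel `K`, TI in `G` with normalizer `L`, the
characters induced from `K` form a coherence system for induction to `G`. -/
theorem exists_coherenceSystem_of_frobenius_ti (hodd : Odd (Nat.card L)) (hK1 : K ≠ ⊥)
    (hKtop : K ≠ ⊤) (hKW' : K ⊔ W = ⊤)
    (hfpf : ∀ w ∈ W, w ≠ 1 → ∀ k ∈ K, w * k = k * w → k = 1)
    (hTI : ∀ g : G, g ∉ L → ∀ k ∈ K.map L.subtype, g * k * g⁻¹ ∈ K.map L.subtype → k = 1) :
    ∃ R : (L → ℂ) → Finset (G → ℂ),
      IsCoherenceSystem (inducedIrrAbove K ⊥) (fun α : L → ℂ => indFun L α) R := by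
  have hirr : ∀ χ ∈ inducedIrrAbove K ⊥, IsIrrCharacter L χ := by
    rintro χ ⟨θ, hθ, hne, -, rfl⟩
    exact Helper75.fg_indFun_isIrr hKW' hfpf hθ hne
  apply Cfsg.Agent.S1514.result (inducedIrrAbove K ⊥) ?_ hirr ?_ _
    (isLinearIsometryOn_indFun_of_ti L K hTI) (fun α hα => indFun_apply_one_of_mem L K hα)
  · -- nonempty
    obtain ⟨χ, hχ⟩ := diff_nonempty K K hK1 le_rfl
    exact ⟨χ, hχ.1⟩
  · intro χ hχ
    refine ⟨inducedIrrAbove_conj_mem K hχ, ?_⟩
    intro hreal
    have hre : ∀ g : L, (χ g).im = 0 := by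
      intro g
      have := congrFun hreal g
      simp only [conjFun] at this
      exact Complex.conj_eq_iff_im.mp this
    have h1 : χ = fun _ => 1 := Cfsg.Agent.S0161.result hodd ⟨χ, hirr χ hχ⟩ hre
    obtain ⟨x, hx⟩ : ∃ x : L, x ∉ K := by
      by_contra hcon
      push Not at hcon
      exact hKtop (eq_top_iff.mpr fun x _ => hcon x)
    obtain ⟨θ, -, -, -, hθ⟩ := hχ
    have h2 := Helper15.indFun_normal_of_not_mem K θ hx
    have h3 := congrFun h1 x
    rw [hθ, h2] at h3
    exact zero_ne_one h3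

end system

end Cfsg.Agent.Helper25
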