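import Mathlib
import Cfsg.Prelude.Def_OddOrderLocal
import Cfsg.Agent.Helper80.Integrality
import Cfsg.Agent.Helper80.Irr
import Cfsg.Agent.Helper15.IndChar

/-!
# Peterfalvi (6.7): congruence for characters constant on a central subgroup of a TI Sylow subgroup
-/

set_option autoImplicit false
open Cfsg Module

namespace Cfsg.Agent.Helper25

/-- A subgroup `P` acting freely by conjugation on a stable finset `S`: the sum over `S` of an
invariant algebraic-integer-valued function is `|P|` times an algebraic integer. -/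
theorem sum_free_orbits {G : Type*} [Group G] [Finite G] (P : Subgroup G) (f : G → ℂ)
    (hf : ∀ k, IsIntegral ℤ (f k)) :
    ∀ (S : Finset G), (∀ u ∈ P, ∀ k ∈ S, u * k * u⁻¹ ∈ S) →
      (∀ u ∈ P, ∀ k ∈ S, u * k * u⁻¹ = k → u = 1) →
      (∀ u ∈ P, ∀ k ∈ S, f (u * k * u⁻¹) = f k) →
      ∃ r : ℂ, IsIntegral ℤ r ∧ ∑ k ∈ S, f k = (Nat.card P : ℂ) * r := by
  classical
  have : Fintype P := Fintype.ofFinite P
  intro S
  induction S using Finset.strongInduction with
  | H S ih =>
    intro hst hfree hinv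
    by_cases hS : S = ∅
    · subst hS
      exact ⟨0, isIntegral_zero, by simp⟩
    obtain ⟨k₀, hk₀⟩ := Finset.nonempty_iff_ne_empty.mpr hS
    set O : Finset G := Finset.univ.image (fun u : P => (u : G) * k₀ * (u : G)⁻¹) with hO
    have hinj : Function.Injective (fun u : P => (u : G) * k₀ * (u : G)⁻¹) := by
      intro u v huv
      simp only at huv
      have h1 : ((v⁻¹ * u : P) : G) * k₀ * ((v⁻¹ * u : P) : G)⁻¹ = k₀ := by
        push_cast
        calc (v : G)⁻¹ * (u : G) * k₀ * ((v : G)⁻¹ * (u : G))⁻¹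
            = (v : G)⁻¹ * ((u : G) * k₀ * (u : G)⁻¹) * (v : G) := by group
          _ = (v : G)⁻¹ * ((v : G) * k₀ * (v : G)⁻¹) * (v : G) := by rw [huv]
          _ = k₀ := by group
      have h2 := hfree _ (v⁻¹ * u).2 k₀ hk₀ h1
      have h3 : v⁻¹ * u = 1 := Subtype.ext h2
      have : u = v := by
        have := congrArg (fun t => v * t) h3
        simpa using this
      exact this
    have hOS : O ⊆ S := by
      intro k hk
      rw [hO, Finset.mem_image] at hk
      obtain ⟨u, -, rfl⟩ := hk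
      exact hst _ u.2 _ hk₀
    have hk₀O : k₀ ∈ O := by
      rw [hO, Finset.mem_image]
      exact ⟨1, Finset.mem_univ _, by simp⟩
    have hlt : S \ O ⊂ S := by
      refine Finset.ssubset_iff_subset_ne.mpr ⟨Finset.sdiff_subset, ?_⟩
      intro h
      have : k₀ ∈ S \ O := by rw [h]; exact hk₀
      exact (Finset.mem_sdiff.mp this).2 hk₀O
    have hst' : ∀ u ∈ P, ∀ k ∈ S \ O, u * k * u⁻¹ ∈ S \ O := by
      intro u hu k hk
      rw [Finset.mem_sdiff] at hk ⊢
      refine ⟨hst u hu k hk.1, ?_⟩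
      intro hkO
      apply hk.2
      rw [hO, Finset.mem_image] at hkO ⊢
      obtain ⟨v, -, hv⟩ := hkO
      refine ⟨⟨u, hu⟩⁻¹ * v, Finset.mem_univ _, ?_⟩
      push_cast
      have : k = u⁻¹ * (u * k * u⁻¹) * u := by group
      rw [this, ← hv]; group
    obtain ⟨r, hr, hsum⟩ := ih (S \ O) hlt hst'
      (fun u hu k hk => hfree u hu k (Finset.mem_sdiff.mp hk).1)
      (fun u hu k hk => hinv u hu k (Finset.mem_sdiff.mp hk).1)
    refine ⟨r + f k₀, hr.add (hf k₀), ?_⟩
    rw [← Finset.sum_sdiff hOS, hsum, hO, Finset.sum_image (fun u _ v _ h => hinj h)]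
    have : ∀ u : P, f ((u : G) * k₀ * (u : G)⁻¹) = f k₀ := fun u => hinv _ u.2 _ hk₀
    rw [Finset.sum_congr rfl (fun u _ => this u), Finset.sum_const, Finset.card_univ,
      Nat.card_eq_fintype_card]
    simp only [nsmul_eq_mul]
    ring

/-- Generalized orthogonality: `∑_{k ∈ cl(x)} χ(k y) = (|cl(x)| χ(x)/χ(1)) χ(y)`. -/
theorem sum_class_char_mul {G : Type*} [Group G] [Fintype G] {V : Type*} [AddCommGroup V]
    [Module ℂ V] [FiniteDimensional ℂ V] (ρ : Representation ℂ G V) (hirr : ρ.IsIrreducible)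
    (x y : G) :
    ∑ k ∈ Helper80.classFinset x, ρ.character (k * y) =
      (((Subgroup.centralizer ({x} : Set G)).index : ℂ) * ρ.character x /
        (finrank ℂ V : ℂ)) * ρ.character y := by
  have h := Helper80.classSum_eq_smul ρ hirr x
  have h1 : LinearMap.trace ℂ V (Helper80.classSum ρ x * ρ y) =
      ∑ k ∈ Helper80.classFinset x, ρ.character (k * y) := by
    unfold Helper80.classSum
    rw [Finset.sum_mul, map_sum]
    refine Finset.sum_congr rfl fun k _ => ?_
    rw [← map_mul]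
    rfl
  rw [← h1, h, smul_mul_assoc, one_mul, map_smul, smul_eq_mul]
  rfl

/-- A rational algebraic integer (in `ℂ`) is an integer. -/
theorem exists_int_of_isIntegral_rat (q : ℚ) (h : IsIntegral ℤ ((q : ℂ))) : ∃ m : ℤ, q = m := by
  have h1 : ((q : ℂ)) = algebraMap ℚ ℂ q := by simp
  rw [h1, isIntegral_algebraMap_iff (algebraMap ℚ ℂ).injective] at h
  obtain ⟨m, hm⟩ := IsIntegrallyClosed.algebraMap_eq_of_integral h
  exact ⟨m, by simpa using hm.symm⟩

/-- In a subgroup of odd order no nonidentity element is conjugate to its inverse. -/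
theorem eq_one_of_conj_eq_inv_of_odd {G : Type*} [Group G] [Finite G] (N : Subgroup G)
    (hodd : Odd (Nat.card N)) {g x : G} (hg : g ∈ N) (hx : x ∈ N) (h : g * x * g⁻¹ = x⁻¹) :
    x = 1 := by
  have hog : Odd (orderOf g) := by
    have h1 : orderOf g ∣ Nat.card N := by
      have := orderOf_dvd_natCard (⟨g, hg⟩ : N)
      rwa [Subgroup.orderOf_mk] at this
    exact Odd.of_dvd_nat hodd h1
  have hox : Odd (orderOf x) := by
    have h1 : orderOf x ∣ Nat.card N := by
      have := orderOf_dvd_natCard (⟨x, hx⟩ : N)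
      rwa [Subgroup.orderOf_mk] at this
    exact Odd.of_dvd_nat hodd h1
  have hc2 : Commute (g ^ 2) x := by
    have h2 : g * x⁻¹ * g⁻¹ = x := by
      have : (g * x * g⁻¹)⁻¹ = x := by rw [h, inv_inv]
      calc g * x⁻¹ * g⁻¹ = (g * x * g⁻¹)⁻¹ := by simp [mul_assoc]
        _ = x := this
    show g ^ 2 * x = x * g ^ 2
    have : g ^ 2 * x * (g ^ 2)⁻¹ = x := by
      calc g ^ 2 * x * (g ^ 2)⁻¹ = g * (g * x * g⁻¹) * g⁻¹ := by
            rw [pow_two, mul_inv_rev]; simp only [mul_assoc]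
        _ = g * x⁻¹ * g⁻¹ := by rw [h]
        _ = x := h2
    calc g ^ 2 * x = (g ^ 2 * x * (g ^ 2)⁻¹) * g ^ 2 := by simp [mul_assoc]
      _ = x * g ^ 2 := by rw [this]
  obtain ⟨t, ht⟩ := hog
  have hg' : (g ^ 2) ^ (t + 1) = g := by
    rw [← pow_mul, show 2 * (t + 1) = orderOf g + 1 by omega, pow_succ, pow_orderOf_eq_one, one_mul]
  have hc : Commute g x := by
    have := hc2.pow_left (t + 1)
    rwa [hg'] at this
  have hxx : x = x⁻¹ := by
    rw [← h, hc.eq]; group
  have hx2 : x ^ 2 = 1 := by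
    rw [pow_two]; nth_rewrite 1 [hxx]; simp
  have hd : orderOf x ∣ 2 := orderOf_dvd_of_pow_eq_one hx2
  have h1 : orderOf x = 1 := by
    rcases (Nat.dvd_prime Nat.prime_two).mp hd with h1 | h2
    · exact h1
    · rw [h2] at hox; exact absurd hox (by decide)
  exact orderOf_eq_one_iff.mp h1

/-- A `p`-element of the normalizer of a Sylow `p`-subgroup lies in the Sylow subgroup. -/
theorem mem_sylow_of_mem_normalizer {G : Type*} [Group G] [Finite G] (p : ℕ) [Fact p.Prime]
    (P : Sylow p G) {k : G} (hk : k ∈ Subgroup.normalizer ((P : Subgroup G) : Set G))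
    (hp : ∃ j : ℕ, k ^ (p ^ j) = 1) : k ∈ (P : Subgroup G) := by
  obtain ⟨j, hj⟩ := hp
  have hQ : IsPGroup p (Subgroup.zpowers k) := by
    have hd : orderOf k ∣ p ^ j := orderOf_dvd_of_pow_eq_one hj
    obtain ⟨i, -, hi⟩ := (Nat.dvd_prime_pow (Fact.out : p.Prime)).mp hd
    exact IsPGroup.of_card (n := i) (by rw [Nat.card_zpowers, hi])
  have hQN : Subgroup.zpowers k ≤ Subgroup.normalizer ((P : Subgroup G) : Set G) := by
    rw [Subgroup.zpowers_le]; exact hk
  have hsup : IsPGroup p ((P : Subgroup G) ⊔ Subgroup.zpowers k : Subgroup G) :=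
    IsPGroup.to_sup_of_normal_left' P.isPGroup' hQ hQN
  have := P.is_maximal' hsup le_sup_left
  have hle : Subgroup.zpowers k ≤ (P : Subgroup G) := by
    rw [← this]; exact le_sup_right
  exact hle (Subgroup.mem_zpowers k)

/-- TI Sylow: a conjugate of a nonidentity element of `P` lying in `N(P)` is conjugate by an
element of `N(P)`. -/
theorem mem_normalizer_of_conj_mem {G : Type*} [Group G] [Finite G] (p : ℕ) [Fact p.Prime]
    (P : Sylow p G) (hTI : Cfsg.IsTISubset ((P : Subgroup G) : Set G)) {x g : G}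
    (hx : x ∈ (P : Subgroup G)) (hx1 : x ≠ 1)
    (hk : g * x * g⁻¹ ∈ Subgroup.normalizer ((P : Subgroup G) : Set G)) :
    g ∈ Subgroup.normalizer ((P : Subgroup G) : Set G) := by
  by_contra hg
  apply hx1
  refine hTI g hg x hx ?_
  show g * x * g⁻¹ ∈ (P : Subgroup G)
  apply mem_sylow_of_mem_normalizer p P hk
  obtain ⟨j, hj⟩ := P.isPGroup' ⟨x, hx⟩
  refine ⟨j, ?_⟩
  have hj' : x ^ (p ^ j) = 1 := by
    have := congrArg Subtype.val hj
    simpa using this
  rw [conj_pow, hj']; group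

/-- Peterfalvi (6.7). -/
theorem ti_sylow_cong {G : Type*} [Group G] [Finite G] (p : ℕ) [Fact p.Prime] (P : Sylow p G)
    (hTI : Cfsg.IsTISubset ((P : Subgroup G) : Set G))
    (hodd : Odd (Nat.card (Subgroup.normalizer ((P : Subgroup G) : Set G))))
    (Z : Subgroup G) (hZP : Z ≤ P)
    (hZn : ∀ x ∈ Subgroup.normalizer ((P : Subgroup G) : Set G), ∀ z ∈ Z, x * z * x⁻¹ ∈ Z)
    (hZc : ∀ z ∈ Z, ∀ y ∈ (P : Subgroup G), z * y = y * z)
    (ψ : G → ℂ) (hψ : Cfsg.IsIrrCharacter G ψ)
    (hconst : ∀ z ∈ Z, ∀ z' ∈ Z, z ≠ 1 → z' ≠ 1 → ψ z = ψ z') (z : G) (hz : z ∈ Z)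
    (hz1 : z ≠ 1) :
    ∃ n d : ℤ, ψ z = n ∧ ψ 1 = d ∧ (Nat.card (P : Subgroup G) : ℤ) ∣ d - n := by
  classical
  have : Fintype G := Fintype.ofFinite G
  have hχ : IsCharacter G ψ := Helper80.IsIrrCharacter.isCharacter hψ
  obtain ⟨n, ρ, hirr, rfl⟩ := hψ
  set N := Subgroup.normalizer ((P : Subgroup G) : Set G) with hN
  set a := ρ.character z with ha
  have hPN : (P : Subgroup G) ≤ N := Subgroup.le_normalizer
  have h1 : ρ.character 1 = (n : ℂ) := by
    rw [Representation.char_one, Module.finrank_fin_fun]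
  have hint : ∀ g, IsIntegral ℤ (ρ.character g) := fun g => Helper80.IsCharacter.isIntegral hχ g
  have hval : ∀ y ∈ Z, y ≠ 1 → ρ.character y = a := fun y hy hy1 => hconst y hy z hz hy1 hz1
  -- Step A : `a` is an integer
  have hA : ∃ m : ℤ, a = m := by
    have : Fintype Z := Fintype.ofFinite Z
    obtain ⟨m, hm⟩ := Helper15.isCharacter_inner_nat (Helper74.isCharacter_restrict Z hχ)
      (Helper74.isCharacter_one (G := Z))
    unfold classInner at hm
    have hsum : ∑ h : Z, ρ.character (h : G) = (n : ℂ) + ((Nat.card Z : ℂ) - 1) * a := by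
      rw [← Finset.add_sum_erase _ _ (Finset.mem_univ (1 : Z))]
      have : ∀ h ∈ Finset.univ.erase (1 : Z), ρ.character (h : G) = a := by
        intro h hh
        refine hval _ h.2 ?_
        intro h1
        exact (Finset.mem_erase.mp hh).1 (Subtype.ext h1)
      rw [Finset.sum_congr rfl this, Finset.sum_const, Finset.card_erase_of_mem (Finset.mem_univ _),
        Finset.card_univ, Nat.card_eq_fintype_card]
      simp only [Subgroup.coe_one, h1, nsmul_eq_mul]
      have : 1 ≤ Fintype.card Z := Fintype.card_pos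
      rw [Nat.cast_sub this]; simp
    have hZ2 : 2 ≤ Nat.card Z := by
      have : Nontrivial Z := ⟨⟨⟨z, hz⟩, 1, fun h => hz1 (congrArg Subtype.val h)⟩⟩
      exact Finite.one_lt_card
    have hZ0 : (Nat.card Z : ℂ) ≠ 0 := by
      have : Nat.card Z ≠ 0 := by omega
      exact_mod_cast this
    have hZ1 : (Nat.card Z : ℂ) - 1 ≠ 0 := by
      have : ((Nat.card Z - 1 : ℕ) : ℂ) ≠ 0 := by
        have : Nat.card Z - 1 ≠ 0 := by omega
        exact_mod_cast this
      rwa [Nat.cast_sub (by omega), Nat.cast_one] at this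
    have hm' : (n : ℂ) + ((Nat.card Z : ℂ) - 1) * a = (Nat.card Z : ℂ) * m := by
      rw [← hsum, ← hm]
      simp only [map_one, mul_one]
      field_simp
    have haq : a = (((Nat.card Z : ℚ) * m - n) / ((Nat.card Z : ℚ) - 1) : ℚ) := by
      push_cast
      field_simp
      linear_combination hm'
    have hia : IsIntegral ℤ a := hint z
    rw [haq] at hia
    obtain ⟨m', hm''⟩ := exists_int_of_isIntegral_rat _ hia
    refine ⟨m', ?_⟩
    rw [haq, hm'']; simp
  obtain ⟨m, hm⟩ := hA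
  -- the class of `z`
  set K := Helper80.classFinset z with hK
  have hKN : ∀ k ∈ K, k ∈ N → ∃ g ∈ N, k = g * z * g⁻¹ := by
    intro k hk hkN
    obtain ⟨g, hg⟩ := isConj_iff.mp (Helper80.mem_classFinset.mp hk)
    subst hg
    exact ⟨g, mem_normalizer_of_conj_mem p P hTI (hZP hz) hz1 hkN, rfl⟩
  have hzK : z ∈ K := Helper80.mem_classFinset.mpr (IsConj.refl z)
  have hzN : z ∈ N := hPN (hZP hz)
  -- generalized orthogonality
  have hz'1 : z⁻¹ ≠ 1 := by simpa using hz1
  have hgo : ∑ k ∈ K, ρ.character (k * z⁻¹) = ∑ k ∈ K, ρ.character (k * z) := by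
    rw [hK, sum_class_char_mul ρ hirr z z⁻¹, sum_class_char_mul ρ hirr z z,
      hval z⁻¹ (Z.inv_mem hz) hz'1]
  -- the parts outside `N`
  have hout : ∀ y ∈ Z, ∃ r : ℂ, IsIntegral ℤ r ∧
      ∑ k ∈ K.filter (fun k => k ∉ N), ρ.character (k * y) = (Nat.card (P : Subgroup G) : ℂ) * r := by
    intro y hy
    refine sum_free_orbits (P : Subgroup G) (fun k => ρ.character (k * y)) (fun k => hint _) _
      ?_ ?_ ?_
    · intro u hu k hk
      rw [Finset.mem_filter] at hk ⊢
      refine ⟨?_, ?_⟩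
      · rw [hK, Helper80.mem_classFinset] at hk ⊢
        exact hk.1.trans (isConj_iff.mpr ⟨u, rfl⟩)
      · intro h
        apply hk.2
        have : k = u⁻¹ * (u * k * u⁻¹) * u := by group
        rw [this]
        exact N.mul_mem (N.mul_mem (N.inv_mem (hPN hu)) h) (hPN hu)
    · intro u hu k hk huk
      rw [Finset.mem_filter] at hk
      refine hTI k hk.2 u hu ?_
      have : k * u * k⁻¹ = u := by
        calc k * u * k⁻¹ = (u * k * u⁻¹) * u * k⁻¹ := by rw [huk]
          _ = u := by group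
      rw [this]; exact hu
    · intro u hu k hk
      show ρ.character (u * k * u⁻¹ * y) = ρ.character (k * y)
      have hc : y * u⁻¹ = u⁻¹ * y := hZc y hy u⁻¹ ((P : Subgroup G).inv_mem hu)
      have : u * k * u⁻¹ * y = u * (k * y) * u⁻¹ := by
        rw [mul_assoc (u * k), ← hc]; group
      rw [this, Representation.char_conj]
  -- the parts inside `N`
  have hin2 : ∀ k ∈ K.filter (fun k => k ∈ N), ρ.character (k * z) = a := by
    intro k hk
    rw [Finset.mem_filter] at hk
    obtain ⟨g, hg, rfl⟩ := hKN k hk.1 hk.2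
    refine hval _ (Z.mul_mem (hZn g hg z hz) hz) ?_
    intro h
    apply hz1
    refine eq_one_of_conj_eq_inv_of_odd N hodd hg hzN ?_
    exact eq_inv_of_mul_eq_one_left h
  have hin1 : ∀ k ∈ K.filter (fun k => k ∈ N),
      ρ.character (k * z⁻¹) = a + (if k = z then ((n : ℂ) - a) else 0) := by
    intro k hk
    rw [Finset.mem_filter] at hk
    obtain ⟨g, hg, rfl⟩ := hKN k hk.1 hk.2
    split_ifs with h
    · rw [h, mul_inv_cancel, h1]; ring
    · rw [add_zero]
      refine hval _ (Z.mul_mem (hZn g hg z hz) (Z.inv_mem hz)) ?_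
      intro h'
      exact h (mul_inv_eq_one.mp h')
  have hzin : z ∈ K.filter (fun k => k ∈ N) := Finset.mem_filter.mpr ⟨hzK, hzN⟩
  have hs1 : ∑ k ∈ K.filter (fun k => k ∈ N), ρ.character (k * z⁻¹) =
      ∑ k ∈ K.filter (fun k => k ∈ N), ρ.character (k * z) + ((n : ℂ) - a) := by
    rw [Finset.sum_congr rfl hin1, Finset.sum_congr rfl hin2, Finset.sum_add_distrib,
      Finset.sum_ite_eq' _ z, if_pos hzin]
  obtain ⟨r₁, hr₁, hs₁⟩ := hout z⁻¹ (Z.inv_mem hz)
  obtain ⟨r₂, hr₂, hs₂⟩ := hout z hz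
  have hsplit : ∀ y : G, ∑ k ∈ K, ρ.character (k * y) =
      ∑ k ∈ K.filter (fun k => k ∈ N), ρ.character (k * y) +
        ∑ k ∈ K.filter (fun k => k ∉ N), ρ.character (k * y) := fun y =>
    (Finset.sum_filter_add_sum_filter_not K (fun k => k ∈ N) _).symm
  have hfin : (n : ℂ) - a = (Nat.card (P : Subgroup G) : ℂ) * (r₂ - r₁) := by
    have := hgo
    rw [hsplit z⁻¹, hsplit z, hs1, hs₁, hs₂] at this
    linear_combination this
  have hP0 : (Nat.card (P : Subgroup G) : ℂ) ≠ 0 := by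
    have : Nat.card (P : Subgroup G) ≠ 0 := Nat.card_pos.ne'
    exact_mod_cast this
  have hr : r₂ - r₁ = ((((n : ℚ) - m) / (Nat.card (P : Subgroup G) : ℚ) : ℚ) : ℂ) := by
    push_cast
    rw [eq_div_iff hP0, mul_comm, ← hfin, hm]
  have hir : IsIntegral ℤ (r₂ - r₁) := hr₂.sub hr₁
  rw [hr] at hir
  obtain ⟨t, ht⟩ := exists_int_of_isIntegral_rat _ hir
  refine ⟨m, n, hm, by rw [h1]; simp, ⟨t, ?_⟩⟩
  have hP0' : (Nat.card (P : Subgroup G) : ℚ) ≠ 0 := by
    have : Nat.card (P : Subgroup G) ≠ 0 := Nat.card_pos.ne'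
    exact_mod_cast this
  have : (n : ℚ) - m = (Nat.card (P : Subgroup G) : ℚ) * t := by
    rw [← ht]; field_simp
  exact_mod_cast this

end Cfsg.Agent.Helper25
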