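import Mathlib
import Cfsg.Agent.Helper75.TIFN
import Cfsg.Agent.Helper79.CharComplete
import Cfsg.Agent.Helper25.TISylowCong

/-!
# Sibley's coherence theorem, part 3: the divisibility coming from Peterfalvi (6.7)
-/

set_option autoImplicit false
open Cfsg

namespace Cfsg.Agent.Helper25

section central
variable {Q : Type*} [Group Q] [Fintype Q]

/-- If the coefficients of `f` on the irreducible characters nontrivial on `Zs` are proportional
to the degrees, then `f 1 - f z` is determined for `z ∈ Zs`, `z ≠ 1`. -/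
theorem central_diff_eq (Zs : Set Q) {f : Q → ℂ} (hf : IsClassFunction Q f) (ζ₀ : IrrCharacter Q)
    (hprop : ∀ ζ : IrrCharacter Q, (∀ a ∈ Zs, (ζ : Q → ℂ) a = (ζ : Q → ℂ) 1) ∨
      (ζ₀ : Q → ℂ) 1 * classInner f (ζ : Q → ℂ) = (ζ : Q → ℂ) 1 * classInner f (ζ₀ : Q → ℂ))
    {z : Q} (hz : z ∈ Zs) (hz1 : z ≠ 1) :
    (ζ₀ : Q → ℂ) 1 * (f 1 - f z) = classInner f (ζ₀ : Q → ℂ) * (Nat.card Q : ℂ) := by
  classical
  let _ := Helper74.irrFintype Q
  have hdec := Helper74.classFunction_eq_sum_irr hf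
  have hval : ∀ x : Q, f x = ∑ ζ : IrrCharacter Q, classInner f (ζ : Q → ℂ) * (ζ : Q → ℂ) x := by
    intro x
    have := congrFun hdec x
    simpa only [Finset.sum_apply, Pi.smul_apply, smul_eq_mul] using this
  have h1 : (ζ₀ : Q → ℂ) 1 * (f 1 - f z) =
      ∑ ζ : IrrCharacter Q, classInner f (ζ₀ : Q → ℂ) *
        ((ζ : Q → ℂ) 1 * (ζ : Q → ℂ) 1 - (ζ : Q → ℂ) 1 * (ζ : Q → ℂ) z) := by
    rw [hval 1, hval z, ← Finset.sum_sub_distrib, Finset.mul_sum]
    refine Finset.sum_congr rfl fun ζ _ => ?_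
    rcases hprop ζ with h | h
    · rw [h z hz]; ring
    · linear_combination ((ζ : Q → ℂ) 1 - (ζ : Q → ℂ) z) * h
  rw [h1, ← Finset.mul_sum, Finset.sum_sub_distrib, Helper75.tf_sum_degree_mul hz1, sub_zero]
  congr 1
  rw [← Helper79.sum_irr_one_sq (G := Q)]
  exact Finset.sum_congr rfl fun ζ _ => (pow_two _).symm

end central

section div
variable {G : Type*} [Group G] [Fintype G] (L : Subgroup G) [Fintype L] (K Z : Subgroup L)
  [hK : K.Normal] [hZ : Z.Normal]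

/-- Double Frobenius reciprocity. -/
theorem classInner_indFun_indFun [Fintype K] {η : G → ℂ} (hη : IsClassFunction G η)
    (θ : K → ℂ) :
    classInner η (indFun L (indFun K θ)) =
      classInner (fun k : K => η ((k : L) : G)) θ := by
  rw [Helper15.frobenius_reciprocity' L (indFun K θ) η hη]
  have hη' : IsClassFunction L (fun h : L => η (h : G)) := by
    intro g h
    simpa using hη (g : G) (h : G)
  rw [Helper15.frobenius_reciprocity' K θ (fun h : L => η (h : G)) hη']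

/-- The divisibility obtained from Peterfalvi (6.7). -/
theorem sibley_div (p : ℕ) [Fact p.Prime] (P : Sylow p G)
    (hP : (P : Subgroup G) = K.map L.subtype)
    (hTI : IsTISubset ((P : Subgroup G) : Set G))
    (hN : Subgroup.normalizer ((P : Subgroup G) : Set G) = L) (hodd : Odd (Nat.card L))
    (hZK : Z ≤ K) (hZc : ∀ z ∈ Z, ∀ k ∈ K, z * k = k * z) (hZ1 : Z ≠ ⊥)
    (η : G → ℂ) (hη : IsIrrCharacter G η)
    (horth : ∀ θ θ' : K → ℂ, IsIrrCharacter K θ → IsIrrCharacter K θ' →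
        (∃ a : K, (a : L) ∈ Z ∧ θ a ≠ θ 1) → (∃ a : K, (a : L) ∈ Z ∧ θ' a ≠ θ' 1) →
        θ' 1 * classInner η (indFun L (indFun K θ)) =
          θ 1 * classInner η (indFun L (indFun K θ')))
    (θ₀ : K → ℂ) (hθ₀ : IsIrrCharacter K θ₀) (hθ₀Z : ∃ a : K, (a : L) ∈ Z ∧ θ₀ a ≠ θ₀ 1) :
    ∃ t : ℤ, classInner η (indFun L (indFun K θ₀)) = t * θ₀ 1 := by
  classical
  have : Fintype K := Fintype.ofFinite K
  have hηc : IsClassFunction G η :=
    Helper74.isClassFunction_of_isCharacter (Helper74.isCharacter_of_isIrr hη)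
  set f : K → ℂ := fun k : K => η ((k : L) : G) with hf
  have hfc : IsClassFunction K f := by
    intro g h
    show η (((h * g * h⁻¹ : K) : L) : G) = η ((g : L) : G)
    have := hηc ((g : L) : G) ((h : L) : G)
    push_cast
    exact this
  set Zs : Set K := {a : K | (a : L) ∈ Z} with hZs
  have hprop : ∀ ζ : IrrCharacter K, (∀ a ∈ Zs, (ζ : K → ℂ) a = (ζ : K → ℂ) 1) ∨
      ((⟨θ₀, hθ₀⟩ : IrrCharacter K) : K → ℂ) 1 * classInner f (ζ : K → ℂ) =
        (ζ : K → ℂ) 1 * classInner f ((⟨θ₀, hθ₀⟩ : IrrCharacter K) : K → ℂ) := by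
    intro ζ
    by_cases h : ∀ a ∈ Zs, (ζ : K → ℂ) a = (ζ : K → ℂ) 1
    · exact Or.inl h
    · right
      push Not at h
      obtain ⟨a, ha, hne⟩ := h
      have := horth (ζ : K → ℂ) θ₀ ζ.2 hθ₀ ⟨a, ha, hne⟩ hθ₀Z
      rw [classInner_indFun_indFun L K hηc, classInner_indFun_indFun L K hηc] at this
      exact this
  have hkey : ∀ z : K, z ∈ Zs → z ≠ 1 →
      θ₀ 1 * (f 1 - f z) = classInner f θ₀ * (Nat.card K : ℂ) := fun z hz hz1 =>
    central_diff_eq Zs hfc ⟨θ₀, hθ₀⟩ hprop hz hz1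
  have hθ₀1 : θ₀ 1 ≠ 0 := Helper75.tf_apply_one_ne_zero ⟨θ₀, hθ₀⟩
  -- the setup for (6.7)
  have hodd' : Odd (Nat.card (Subgroup.normalizer ((P : Subgroup G) : Set G))) := by
    rw [hN]; exact hodd
  set ZG : Subgroup G := Z.map L.subtype with hZG
  have hZGP : ZG ≤ P := by
    rw [hP]
    exact Subgroup.map_mono hZK
  have hZGn : ∀ x ∈ Subgroup.normalizer ((P : Subgroup G) : Set G), ∀ z ∈ ZG,
      x * z * x⁻¹ ∈ ZG := by
    intro x hx z hz
    rw [hN] at hx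
    obtain ⟨z', hz', rfl⟩ := hz
    refine ⟨⟨x, hx⟩ * z' * ⟨x, hx⟩⁻¹, hZ.conj_mem z' hz' ⟨x, hx⟩, ?_⟩
    simp
  have hZGc : ∀ z ∈ ZG, ∀ y ∈ (P : Subgroup G), z * y = y * z := by
    intro z hz y hy
    rw [hP] at hy
    obtain ⟨z', hz', rfl⟩ := hz
    obtain ⟨y', hy', rfl⟩ := hy
    have := hZc z' hz' y' hy'
    have h2 := congrArg (fun t : L => (t : G)) this
    simpa using h2
  have hfz : ∀ z : K, z ∈ Zs → z ≠ 1 → f z = f 1 - classInner f θ₀ * (Nat.card K : ℂ) / θ₀ 1 := by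
    intro z hz hz1
    have := hkey z hz hz1
    have h2 : f 1 - f z = classInner f θ₀ * (Nat.card K : ℂ) / θ₀ 1 := by
      rw [eq_div_iff hθ₀1]; linear_combination this
    linear_combination -h2
  have hconst : ∀ z ∈ ZG, ∀ z' ∈ ZG, z ≠ 1 → z' ≠ 1 → η z = η z' := by
    rintro z ⟨a, ha, rfl⟩ z' ⟨a', ha', rfl⟩ hz1 hz'1
    have hzK : a ∈ K := hZK ha
    have hz'K : a' ∈ K := hZK ha'
    have e1 := hfz ⟨a, hzK⟩ ha (fun h => hz1 (by
      have := congrArg (fun t : K => ((t : L) : G)) h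
      simpa using this))
    have e2 := hfz ⟨a', hz'K⟩ ha' (fun h => hz'1 (by
      have := congrArg (fun t : K => ((t : L) : G)) h
      simpa using this))
    show f ⟨a, hzK⟩ = f ⟨a', hz'K⟩
    rw [e1, e2]
  -- a nonidentity element of Z
  obtain ⟨z₀, hz₀Z, hz₀1⟩ : ∃ z₀ : L, z₀ ∈ Z ∧ z₀ ≠ 1 := by
    by_contra hcon
    push Not at hcon
    exact hZ1 ((Subgroup.eq_bot_iff_forall Z).mpr hcon)
  have hz₀G : (z₀ : G) ∈ ZG := ⟨z₀, hz₀Z, rfl⟩
  have hz₀G1 : (z₀ : G) ≠ 1 := fun h => hz₀1 (Subtype.ext h)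
  obtain ⟨n, d, hn, hd, t, ht⟩ := ti_sylow_cong p P hTI hodd' ZG hZGP hZGn hZGc η hη hconst
    (z₀ : G) hz₀G hz₀G1
  have hcardP : Nat.card (P : Subgroup G) = Nat.card K := by
    rw [hP]
    exact Nat.card_congr (K.equivMapOfInjective L.subtype L.subtype_injective).symm.toEquiv
  have hKne : (Nat.card K : ℂ) ≠ 0 := by
    have : Nat.card K ≠ 0 := Nat.card_pos.ne'
    exact_mod_cast this
  have hk := hkey ⟨z₀, hZK hz₀Z⟩ hz₀Z (fun h => hz₀1 (congrArg Subtype.val h))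
  have hf1 : f 1 = (d : ℂ) := by simpa [hf] using hd
  have hfz₀ : f ⟨z₀, hZK hz₀Z⟩ = (n : ℂ) := by simpa [hf] using hn
  rw [hf1, hfz₀] at hk
  have hdn : ((d - n : ℤ) : ℂ) = (Nat.card K : ℂ) * (t : ℂ) := by
    rw [ht, hcardP]; push_cast; ring
  refine ⟨t, ?_⟩
  rw [classInner_indFun_indFun L K hηc]
  have h3 : θ₀ 1 * ((Nat.card K : ℂ) * (t : ℂ)) = classInner f θ₀ * (Nat.card K : ℂ) := by
    rw [← hdn, ← hk]; push_cast; ring
  have h4 : (classInner f θ₀ - (t : ℂ) * θ₀ 1) * (Nat.card K : ℂ) = 0 := by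
    linear_combination -h3
  have h5 := (mul_eq_zero.mp h4).resolve_right hKne
  exact sub_eq_zero.mp h5

end div

end Cfsg.Agent.Helper25
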