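import Mathlib
import Cfsg.Agent.Helper25.IndIrrAbove
import Cfsg.Agent.Helper25.GenChar
import Cfsg.Agent.Helper25.ZSpan
import Cfsg.Agent.Helper25.OrthExt
import Cfsg.Agent.Helper25.InnerBasics
import Cfsg.Agent.Helper81.ConjIrr

/-!
# Sibley's coherence theorem, part 4: the conjugation swap of an isometry on a pair `{φ, φ̄}`
-/

set_option autoImplicit false
open Cfsg

namespace Cfsg.Agent.Helper25

section conj
variable {X : Type*}

theorem conjFun_add' (a b : X → ℂ) : conjFun (a + b) = conjFun a + conjFun b := by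
  funext x; simp [conjFun]

theorem conjFun_zsmul (n : ℤ) (a : X → ℂ) : conjFun (n • a) = n • conjFun a := by
  funext x; simp [conjFun]

theorem conjFun_neg' (a : X → ℂ) : conjFun (-a) = -conjFun a := by
  funext x; simp [conjFun]

theorem conjFun_sub' (a b : X → ℂ) : conjFun (a - b) = conjFun a - conjFun b := by
  funext x; simp [conjFun]

end conj

section swap
variable {N : Type*} [Group N] [Fintype N] {G : Type*} [Group G] [Fintype G]

theorem mem_zspan_pair {φ φ' a : N → ℂ} :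
    a ∈ zspan ({φ, φ'} : Set (N → ℂ)) ↔ ∃ m n : ℤ, m • φ + n • φ' = a := by
  unfold zspan
  rw [SetLike.mem_coe, Submodule.mem_span_pair]

/-- The swap `a ↦ -τ(ā)` of an isometry on the pair `{φ, φ̄}`. -/
theorem swap_isometry {φ : N → ℂ} (hφ : IsIrrCharacter N φ)
    (α τ : (N → ℂ) → (G → ℂ))
    (hτ : IsLinearIsometryOn (zspan ({φ, conjFun φ} : Set (N → ℂ))) τ)
    (hτα : ∀ θ ∈ zspanOn ({φ, conjFun φ} : Set (N → ℂ)) {1}ᶜ, τ θ = α θ) :
    IsLinearIsometryOn (zspan ({φ, conjFun φ} : Set (N → ℂ))) (fun a => -τ (conjFun a)) ∧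
      (∀ θ ∈ zspanOn ({φ, conjFun φ} : Set (N → ℂ)) {1}ᶜ, -τ (conjFun θ) = α θ) := by
  set T : Set (N → ℂ) := {φ, conjFun φ} with hT
  have hφc : IsIrrCharacter N (conjFun φ) := Helper81.isIrrCharacter_conj hφ
  have hconj_mem : ∀ a ∈ zspan T, conjFun a ∈ zspan T := by
    intro a ha
    obtain ⟨m, n, rfl⟩ := mem_zspan_pair.mp ha
    rw [conjFun_add', conjFun_zsmul, conjFun_zsmul, conjFun_conjFun]
    exact mem_zspan_pair.mpr ⟨n, m, add_comm _ _⟩
  have hgen : ∀ a ∈ zspan T, IsGeneralizedCharacter N a := by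
    intro a ha
    obtain ⟨m, n, rfl⟩ := mem_zspan_pair.mp ha
    exact isGenChar_add
      (isGenChar_zsmul m (isGenChar_of_isCharacter (Helper74.isCharacter_of_isIrr hφ)))
      (isGenChar_zsmul n (isGenChar_of_isCharacter (Helper74.isCharacter_of_isIrr hφc)))
  have hsmul : ∀ a ∈ zspan T, ∀ n : ℤ, n • a ∈ zspan T := fun a ha n => zspan_zsmul ha n
  refine ⟨⟨?_, ?_, ?_, ?_⟩, ?_⟩
  · intro a ha b hb
    show -τ (conjFun (a + b)) = -τ (conjFun a) + -τ (conjFun b)
    rw [conjFun_add', hτ.1 _ (hconj_mem a ha) _ (hconj_mem b hb), neg_add]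
  · intro a ha n
    show -τ (conjFun (n • a)) = n • -τ (conjFun a)
    rw [conjFun_zsmul, hτ.2.1 _ (hconj_mem a ha), smul_neg]
  · intro a ha b hb
    show classInner (-τ (conjFun a)) (-τ (conjFun b)) = classInner a b
    rw [Helper74.classInner_neg_left, Helper74.classInner_neg_right, neg_neg,
      hτ.2.2.1 _ (hconj_mem a ha) _ (hconj_mem b hb), classInner_conjFun_conjFun']
    obtain ⟨k, hk⟩ := isGenChar_inner_int (hgen a ha) (hgen b hb)
    rw [hk]; simp
  · intro a ha
    exact isGenChar_neg (hτ.2.2.2 _ (hconj_mem a ha))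
  · intro θ hθ
    obtain ⟨m, n, rfl⟩ := mem_zspan_pair.mp hθ.1
    have h1 := hθ.2 1 (by simp)
    have hφ1 : φ 1 ≠ 0 := irr_apply_one_ne_zero ⟨φ, hφ⟩
    have hd : conjFun φ 1 = φ 1 := by
      obtain ⟨k, hk⟩ := Helper74.isCharacter_apply_one (Helper74.isCharacter_of_isIrr hφ)
      simp [conjFun, hk]
    have hmn : n = -m := by
      rw [Pi.add_apply, Pi.smul_apply, Pi.smul_apply, hd, zsmul_eq_mul, zsmul_eq_mul] at h1
      have h2 : ((m : ℂ) + (n : ℂ)) * φ 1 = 0 := by linear_combination h1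
      have h3 := (mul_eq_zero.mp h2).resolve_right hφ1
      have : ((m + n : ℤ) : ℂ) = 0 := by push_cast; exact h3
      have := Int.cast_eq_zero.mp this
      omega
    subst hmn
    have hc : conjFun (m • φ + -m • conjFun φ) = (-1 : ℤ) • (m • φ + -m • conjFun φ) := by
      rw [conjFun_add', conjFun_zsmul, conjFun_zsmul, conjFun_conjFun]
      simp only [neg_smul, one_smul, neg_add, neg_neg]
      abel
    rw [hc, hτ.2.1 _ hθ.1, neg_smul, one_smul, neg_neg]
    exact hτα _ hθ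

end swap

end Cfsg.Agent.Helper25
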