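import Mathlib
import Cfsg.Agent.Helper25.Sibley4
import Cfsg.Agent.Helper25.SignedIrr
import Cfsg.Agent.S1531

/-!
# Sibley's coherence theorem, part 5: gluing two coherent sets under a divisibility condition
-/

set_option autoImplicit false
open Cfsg

namespace Cfsg.Agent.Helper25

section glue
variable {G : Type*} [Group G] [Fintype G] {N : Subgroup G} [Fintype N]

/-- inner products of members of a set of irreducible characters -/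
theorem irr_inner_ite {S : Set (N → ℂ)} (hirr : ∀ ξ ∈ S, IsIrrCharacter N ξ) {ξ ξ' : N → ℂ}
    (hξ : ξ ∈ S) (hξ' : ξ' ∈ S) : classInner ξ ξ' = if ξ = ξ' then 1 else 0 := by
  split_ifs with h
  · subst h; exact Cfsg.Agent.S1531.irr_norm (hirr ξ hξ)
  · exact Cfsg.Agent.S1531.irr_orth (hirr ξ hξ) (hirr ξ' hξ') h

/-- `χ₁ - c ψ₁` has norm `1 + c²`. -/
theorem glue_norm {S : Set (N → ℂ)} (hirr : ∀ ξ ∈ S, IsIrrCharacter N ξ) {χ₁ ψ₁ : N → ℂ}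
    (hχ₁ : χ₁ ∈ S) (hψ₁ : ψ₁ ∈ S) (hne : χ₁ ≠ ψ₁) (c : ℤ) :
    classInner (χ₁ - c • ψ₁) (χ₁ - c • ψ₁) = 1 + (c : ℂ) ^ 2 := by
  simp only [Helper74.classInner_sub_left, Helper74.classInner_sub_right,
    classInner_zsmul_left, classInner_zsmul_right,
    irr_inner_ite hirr hχ₁ hχ₁, irr_inner_ite hirr hχ₁ hψ₁, irr_inner_ite hirr hψ₁ hχ₁,
    irr_inner_ite hirr hψ₁ hψ₁, if_true, if_neg hne, if_neg (Ne.symm hne)]
  ring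

/-- `(χ₁ - c ψ₁, ψ - ψ₁) = c`. -/
theorem glue_inner_Y {S : Set (N → ℂ)} (hirr : ∀ ξ ∈ S, IsIrrCharacter N ξ) {χ₁ ψ₁ ψ : N → ℂ}
    (hχ₁ : χ₁ ∈ S) (hψ₁ : ψ₁ ∈ S) (hψ : ψ ∈ S) (h1 : χ₁ ≠ ψ₁) (h2 : χ₁ ≠ ψ) (h3 : ψ₁ ≠ ψ)
    (c : ℤ) : classInner (χ₁ - c • ψ₁) (ψ - ψ₁) = (c : ℂ) := by
  simp only [Helper74.classInner_sub_left, Helper74.classInner_sub_right,
    classInner_zsmul_left, classInner_zsmul_right,
    irr_inner_ite hirr hχ₁ hψ, irr_inner_ite hirr hχ₁ hψ₁, irr_inner_ite hirr hψ₁ hψ,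
    irr_inner_ite hirr hψ₁ hψ₁, if_neg h2, if_neg h1, if_neg h3, if_true]
  ring

/-- `(χ₁ - c ψ₁, c χ - c' χ₁) = -c'`. -/
theorem glue_inner_X {S : Set (N → ℂ)} (hirr : ∀ ξ ∈ S, IsIrrCharacter N ξ) {χ₁ ψ₁ χ : N → ℂ}
    (hχ₁ : χ₁ ∈ S) (hψ₁ : ψ₁ ∈ S) (hχ : χ ∈ S) (h1 : χ₁ ≠ ψ₁) (h2 : χ₁ ≠ χ) (h3 : ψ₁ ≠ χ)
    (c c' : ℤ) : classInner (χ₁ - c • ψ₁) (c • χ - c' • χ₁) = -(c' : ℂ) := by
  simp only [Helper74.classInner_sub_left, Helper74.classInner_sub_right,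
    classInner_zsmul_left, classInner_zsmul_right,
    irr_inner_ite hirr hχ₁ hχ, irr_inner_ite hirr hχ₁ hχ₁, irr_inner_ite hirr hψ₁ hχ,
    irr_inner_ite hirr hψ₁ hχ₁, if_neg h2, if_true, if_neg h3, if_neg (Ne.symm h1)]
  ring

/-- Bessel for the images of finitely many members of `Y` under an isometry. -/
theorem glue_bessel {Y : Set (N → ℂ)} {S : Set (N → ℂ)} (hirr : ∀ ξ ∈ S, IsIrrCharacter N ξ)
    (hYS : Y ⊆ S) {τ : (N → ℂ) → (G → ℂ)} (hτ : IsLinearIsometryOn (zspan Y) τ)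
    (s : Finset (N → ℂ)) (hs : ∀ ψ ∈ s, ψ ∈ Y) (β : G → ℂ) :
    ∑ ψ ∈ s, ‖classInner β (τ ψ)‖ ^ 2 ≤ (classInner β β).re := by
  classical
  have h := bessel_orthogonal s τ (fun _ => (1 : ℝ)) (fun _ _ => one_pos) (by
    intro i hi j hj
    rw [hτ.2.2.1 i (mem_zspan_of_mem (hs i hi)) j (mem_zspan_of_mem (hs j hj)),
      irr_inner_ite hirr (hYS (hs i hi)) (hYS (hs j hj))]
    simp) β
  simpa using h

theorem int_sq_cases {t : ℤ} {c : ℕ} (hc : 2 ≤ c)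
    (h : ((t * c : ℤ) : ℝ) ^ 2 + (((t + 1) * c : ℤ) : ℝ) ^ 2 ≤ 1 + (c : ℝ) ^ 2) :
    t = 0 ∨ t = -1 := by
  have h' : (t * c) ^ 2 + ((t + 1) * c) ^ 2 ≤ 1 + (c : ℤ) ^ 2 := by exact_mod_cast h
  have hc' : (2 : ℤ) ≤ c := by exact_mod_cast hc
  by_contra hcon
  push Not at hcon
  have : 1 ≤ t ∨ t ≤ -2 := by omega
  rcases this with h1 | h1
  · nlinarith [mul_pos (show (0 : ℤ) < c by omega) (show (0 : ℤ) < c by omega)]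
  · nlinarith [mul_pos (show (0 : ℤ) < c by omega) (show (0 : ℤ) < c by omega)]

/-- Step A of the gluing: adjust the isometry on `Y`. -/
theorem glue_stepA (S X Y : Set (N → ℂ)) (hirr : ∀ ξ ∈ S, IsIrrCharacter N ξ) (hXS : X ⊆ S)
    (hYS : Y ⊆ S) (hXY : Disjoint X Y)
    (hYc : ∀ ψ ∈ Y, conjFun ψ ∈ Y ∧ conjFun ψ ≠ ψ)
    (α : (N → ℂ) → (G → ℂ)) (hα : IsLinearIsometryOn (zspanOn S {1}ᶜ) α)
    (τ₁ : (N → ℂ) → (G → ℂ)) (hτ₁ : IsLinearIsometryOn (zspan Y) τ₁)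
    (hτ₁α : ∀ θ ∈ zspanOn Y {1}ᶜ, τ₁ θ = α θ)
    (e : ℕ) (hYdeg : ∀ ψ ∈ Y, ψ 1 = (e : ℂ)) {χ₁ ψ₁ : N → ℂ} (hχ₁ : χ₁ ∈ X) (hψ₁ : ψ₁ ∈ Y)
    (c : ℕ) (hc2 : 2 ≤ c) (hχ₁deg : χ₁ 1 = (c : ℂ) * e)
    (hdiv : ∃ t : ℤ, classInner (α (χ₁ - (c : ℤ) • ψ₁)) (τ₁ ψ₁) = (t : ℂ) * (c : ℂ)) :
    ∃ τs : (N → ℂ) → (G → ℂ), IsLinearIsometryOn (zspan Y) τs ∧
      (∀ θ ∈ zspanOn Y {1}ᶜ, τs θ = α θ) ∧
      classInner (α (χ₁ - (c : ℤ) • ψ₁)) (τs ψ₁) = -(c : ℂ) ∧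
      ∀ ψ ∈ Y, ψ ≠ ψ₁ → classInner (α (χ₁ - (c : ℤ) • ψ₁)) (τs ψ) = 0 := by
  classical
  set β := α (χ₁ - (c : ℤ) • ψ₁) with hβ
  have hne : ∀ ψ ∈ Y, χ₁ ≠ ψ := fun ψ hψ h =>
    (Set.disjoint_left.mp hXY hχ₁) (h ▸ hψ)
  have hmem : χ₁ - (c : ℤ) • ψ₁ ∈ zspanOn S {1}ᶜ := by
    refine ⟨zspan_sub (mem_zspan_of_mem (hXS hχ₁)) (zspan_zsmul (mem_zspan_of_mem (hYS hψ₁)) _), ?_⟩
    intro x hx
    have hx1 : x = 1 := by simpa using hx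
    rw [hx1, Pi.sub_apply, Pi.smul_apply, hχ₁deg, hYdeg ψ₁ hψ₁]
    simp
  have hββ : classInner β β = 1 + (c : ℂ) ^ 2 := by
    rw [hβ, hα.2.2.1 _ hmem _ hmem, glue_norm hirr (hXS hχ₁) (hYS hψ₁) (hne ψ₁ hψ₁)]
    simp
  have hdiffmem : ∀ ψ ∈ Y, ψ - ψ₁ ∈ zspanOn Y {1}ᶜ := by
    intro ψ hψ
    refine ⟨zspan_sub (mem_zspan_of_mem hψ) (mem_zspan_of_mem hψ₁), ?_⟩
    intro x hx
    have hx1 : x = 1 := by simpa using hx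
    rw [hx1, Pi.sub_apply, hYdeg ψ hψ, hYdeg ψ₁ hψ₁, sub_self]
  have hdiff : ∀ τ : (N → ℂ) → (G → ℂ), IsLinearIsometryOn (zspan Y) τ →
      (∀ θ ∈ zspanOn Y {1}ᶜ, τ θ = α θ) → ∀ ψ ∈ Y, ψ ≠ ψ₁ →
      classInner β (τ ψ) = classInner β (τ ψ₁) + (c : ℂ) := by
    intro τ hτ hτα ψ hψ hψne
    have h1 : τ (ψ - ψ₁) = τ ψ - τ ψ₁ :=
      isoOn_map_sub hτ (fun a ha n => zspan_zsmul ha n) (mem_zspan_of_mem hψ)
        (mem_zspan_of_mem hψ₁)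
    have h2 : classInner β (τ (ψ - ψ₁)) = (c : ℂ) := by
      rw [hτα _ (hdiffmem ψ hψ), hβ, hα.2.2.1 _ hmem _ (zspanOn_mono hYS (hdiffmem ψ hψ)),
        glue_inner_Y hirr (hXS hχ₁) (hYS hψ₁) (hYS hψ) (hne ψ₁ hψ₁) (hne ψ hψ) (Ne.symm hψne)]
      simp
    rw [h1, Helper74.classInner_sub_right] at h2
    linear_combination h2
  obtain ⟨t, ht⟩ := hdiv
  set ψ₂ := conjFun ψ₁ with hψ₂def
  have hψ₂ : ψ₂ ∈ Y := (hYc ψ₁ hψ₁).1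
  have hψ₂ne : ψ₂ ≠ ψ₁ := (hYc ψ₁ hψ₁).2
  have ht2 : classInner β (τ₁ ψ₂) = (((t + 1) * c : ℤ) : ℂ) := by
    rw [hdiff τ₁ hτ₁ hτ₁α ψ₂ hψ₂ hψ₂ne, ht]; push_cast; ring
  have ht1 : classInner β (τ₁ ψ₁) = ((t * c : ℤ) : ℂ) := by rw [ht]; push_cast; ring
  have hbes := glue_bessel hirr hYS hτ₁ {ψ₁, ψ₂} (by
    intro ψ hψ
    rcases Finset.mem_insert.mp hψ with h | h
    · rw [h]; exact hψ₁
    · rw [Finset.mem_singleton.mp h]; exact hψ₂) β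
  rw [Finset.sum_pair hψ₂ne.symm, ht1, ht2, hββ] at hbes
  simp only [Complex.norm_intCast, sq_abs] at hbes
  have hre : ((1 : ℂ) + (c : ℂ) ^ 2).re = 1 + (c : ℝ) ^ 2 := by
    have : ((1 : ℂ) + (c : ℂ) ^ 2) = ((1 + (c : ℝ) ^ 2 : ℝ) : ℂ) := by push_cast; ring
    rw [this, Complex.ofReal_re]
  rw [hre] at hbes
  rcases int_sq_cases hc2 hbes with h0 | h1
  · -- t = 0 : Y = {ψ₁, ψ₂} and we swap
    subst h0
    have hY2 : Y = {ψ₁, ψ₂} := by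
      apply Set.Subset.antisymm
      · intro ψ₃ hψ₃
        by_contra hnot
        have h31 : ψ₃ ≠ ψ₁ := fun h => hnot (by rw [h]; simp)
        have h32 : ψ₃ ≠ ψ₂ := fun h => hnot (by rw [h]; simp)
        have ht3 : classInner β (τ₁ ψ₃) = (((0 + 1) * c : ℤ) : ℂ) := by
          rw [hdiff τ₁ hτ₁ hτ₁α ψ₃ hψ₃ h31, ht]; push_cast; ring
        have hbes3 := glue_bessel hirr hYS hτ₁ {ψ₁, ψ₂, ψ₃} (by
          intro ψ hψ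
          simp only [Finset.mem_insert, Finset.mem_singleton] at hψ
          rcases hψ with h | h | h
          · rw [h]; exact hψ₁
          · rw [h]; exact hψ₂
          · rw [h]; exact hψ₃) β
        rw [Finset.sum_insert (by
            simp only [Finset.mem_insert, Finset.mem_singleton, not_or]
            exact ⟨hψ₂ne.symm, h31.symm⟩),
          Finset.sum_pair h32.symm, ht1, ht2, ht3, hββ, hre] at hbes3
        simp only [Complex.norm_intCast, sq_abs] at hbes3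
        push_cast at hbes3
        have hc' : (2 : ℝ) ≤ c := by exact_mod_cast hc2
        nlinarith
      · intro ψ hψ
        rcases hψ with h | h
        · rw [h]; exact hψ₁
        · rw [Set.mem_singleton_iff.mp h]; exact hψ₂
    have hirrψ₁ : IsIrrCharacter N ψ₁ := hirr ψ₁ (hYS hψ₁)
    have hτ₁' : IsLinearIsometryOn (zspan ({ψ₁, conjFun ψ₁} : Set (N → ℂ))) τ₁ := by
      rw [← hψ₂def, ← hY2]; exact hτ₁
    have hτ₁α' : ∀ θ ∈ zspanOn ({ψ₁, conjFun ψ₁} : Set (N → ℂ)) {1}ᶜ, τ₁ θ = α θ := by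
      rw [← hψ₂def, ← hY2]; exact hτ₁α
    obtain ⟨hs1, hs2⟩ := swap_isometry hirrψ₁ α τ₁ hτ₁' hτ₁α'
    rw [← hψ₂def, ← hY2] at hs1 hs2
    refine ⟨fun a => -τ₁ (conjFun a), hs1, hs2, ?_, ?_⟩
    · show classInner β (-τ₁ (conjFun ψ₁)) = -(c : ℂ)
      rw [Helper74.classInner_neg_right, ← hψ₂def, ht2]; push_cast; ring
    · intro ψ hψ hψne
      have : ψ = ψ₂ := by
        rw [hY2] at hψ
        rcases hψ with h | h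
        · exact absurd h hψne
        · exact Set.mem_singleton_iff.mp h
      show classInner β (-τ₁ (conjFun ψ)) = 0
      rw [this, hψ₂def, conjFun_conjFun, Helper74.classInner_neg_right, ht1]; simp
  · subst h1
    refine ⟨τ₁, hτ₁, hτ₁α, ?_, ?_⟩
    · rw [ht1]; push_cast; ring
    · intro ψ hψ hψne
      rw [hdiff τ₁ hτ₁ hτ₁α ψ hψ hψne, ht1]; push_cast; ring

/-- Step C of the gluing: adjust the isometry on `X`. -/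
theorem glue_stepC (S X Y : Set (N → ℂ)) (hirr : ∀ ξ ∈ S, IsIrrCharacter N ξ) (hXS : X ⊆ S)
    (hYS : Y ⊆ S) (hXY : Disjoint X Y)
    (hXc : ∀ χ ∈ X, conjFun χ ∈ X ∧ conjFun χ ≠ χ)
    (α : (N → ℂ) → (G → ℂ)) (hα : IsLinearIsometryOn (zspanOn S {1}ᶜ) α)
    (σ : (N → ℂ) → (G → ℂ)) (hσ : IsLinearIsometryOn (zspan X) σ)
    (hσα : ∀ θ ∈ zspanOn X {1}ᶜ, σ θ = α θ)
    (τs : (N → ℂ) → (G → ℂ)) (hτs : IsLinearIsometryOn (zspan Y) τs)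
    (horth : ∀ χ ∈ X, ∀ η ∈ Y, classInner (σ χ) (τs η) = 0)
    (e : ℕ) (hYdeg : ∀ ψ ∈ Y, ψ 1 = (e : ℂ)) (c : (N → ℂ) → ℕ)
    (hXdeg : ∀ χ ∈ X, χ 1 = (c χ : ℂ) * e) (hc2 : ∀ χ ∈ X, 2 ≤ c χ)
    {χ₁ ψ₁ : N → ℂ} (hχ₁ : χ₁ ∈ X) (hψ₁ : ψ₁ ∈ Y)
    (h1 : classInner (α (χ₁ - (c χ₁ : ℤ) • ψ₁)) (τs ψ₁) = -(c χ₁ : ℂ)) :
    ∃ σs : (N → ℂ) → (G → ℂ), IsLinearIsometryOn (zspan X) σs ∧
      (∀ θ ∈ zspanOn X {1}ᶜ, σs θ = α θ) ∧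
      α (χ₁ - (c χ₁ : ℤ) • ψ₁) = σs χ₁ - (c χ₁ : ℤ) • τs ψ₁ := by
  classical
  set β := α (χ₁ - (c χ₁ : ℤ) • ψ₁) with hβ
  set y := τs ψ₁ with hy
  have hne : ∀ χ ∈ X, ∀ ψ ∈ Y, χ ≠ ψ := fun χ hχ ψ hψ h =>
    (Set.disjoint_left.mp hXY hχ) (h ▸ hψ)
  have hmem : χ₁ - (c χ₁ : ℤ) • ψ₁ ∈ zspanOn S {1}ᶜ := by
    refine ⟨zspan_sub (mem_zspan_of_mem (hXS hχ₁)) (zspan_zsmul (mem_zspan_of_mem (hYS hψ₁)) _), ?_⟩
    intro x hx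
    have hx1 : x = 1 := by simpa using hx
    rw [hx1, Pi.sub_apply, Pi.smul_apply, hXdeg χ₁ hχ₁, hYdeg ψ₁ hψ₁]
    simp
  have hββ : classInner β β = 1 + (c χ₁ : ℂ) ^ 2 := by
    rw [hβ, hα.2.2.1 _ hmem _ hmem, glue_norm hirr (hXS hχ₁) (hYS hψ₁) (hne χ₁ hχ₁ ψ₁ hψ₁)]
    simp
  have hyy : classInner y y = 1 := by
    rw [hy, hτs.2.2.1 _ (mem_zspan_of_mem hψ₁) _ (mem_zspan_of_mem hψ₁)]
    exact Cfsg.Agent.S1531.irr_norm (hirr ψ₁ (hYS hψ₁))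
  have hyβ : classInner y β = -(c χ₁ : ℂ) := by
    rw [← Helper74.classInner_conj_symm, h1]; simp
  set β'' := β + (c χ₁ : ℤ) • y with hβ''
  have hβgen : IsGeneralizedCharacter G β := hα.2.2.2 _ hmem
  have hygen : IsGeneralizedCharacter G y := hτs.2.2.2 _ (mem_zspan_of_mem hψ₁)
  have hβ''gen : IsGeneralizedCharacter G β'' := isGenChar_add hβgen (isGenChar_zsmul _ hygen)
  have hβ''norm : classInner β'' β'' = 1 := by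
    rw [hβ'', Helper74.classInner_add_left, Helper74.classInner_add_right,
      Helper74.classInner_add_right, classInner_zsmul_left, classInner_zsmul_left,
      classInner_zsmul_right, classInner_zsmul_right, hββ, h1, hyβ, hyy]
    push_cast; ring
  have hs : SignedIrr G β'' := signedIrr_of_inner_self_eq_one hβ''gen hβ''norm
  have hσirr : ∀ χ ∈ X, SignedIrr G (σ χ) := by
    intro χ hχ
    apply signedIrr_of_inner_self_eq_one (hσ.2.2.2 _ (mem_zspan_of_mem hχ))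
    rw [hσ.2.2.1 _ (mem_zspan_of_mem hχ) _ (mem_zspan_of_mem hχ)]
    exact Cfsg.Agent.S1531.irr_norm (hirr χ (hXS hχ))
  have hσσ : ∀ χ ∈ X, ∀ χ' ∈ X, χ ≠ χ' → classInner (σ χ) (σ χ') = 0 := by
    intro χ hχ χ' hχ' hne'
    rw [hσ.2.2.1 _ (mem_zspan_of_mem hχ) _ (mem_zspan_of_mem hχ')]
    exact Cfsg.Agent.S1531.irr_orth (hirr χ (hXS hχ)) (hirr χ' (hXS hχ')) hne'
  have hβ''σ : ∀ χ ∈ X, classInner β'' (σ χ) = classInner β (σ χ) := by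
    intro χ hχ
    have h0 : classInner y (σ χ) = 0 := by
      rw [← Helper74.classInner_conj_symm, hy, horth χ hχ ψ₁ hψ₁, map_zero]
    rw [hβ'', Helper74.classInner_add_left, classInner_zsmul_left, h0, mul_zero, add_zero]
  have hrel : ∀ χ ∈ X, χ ≠ χ₁ →
      (c χ₁ : ℂ) * classInner β'' (σ χ) - (c χ : ℂ) * classInner β'' (σ χ₁) = -(c χ : ℂ) := by
    intro χ hχ hχne
    rw [hβ''σ χ hχ, hβ''σ χ₁ hχ₁]
    have hamem : (c χ₁ : ℤ) • χ + (-(c χ : ℤ)) • χ₁ ∈ zspanOn X {1}ᶜ := by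
      refine ⟨zspan_add (zspan_zsmul (mem_zspan_of_mem hχ) _)
        (zspan_zsmul (mem_zspan_of_mem hχ₁) _), ?_⟩
      intro x hx
      have hx1 : x = 1 := by simpa using hx
      rw [hx1, Pi.add_apply, Pi.smul_apply, Pi.smul_apply, hXdeg χ hχ, hXdeg χ₁ hχ₁]
      simp only [zsmul_eq_mul, Int.cast_natCast, Int.cast_neg]
      ring
    have hσa : σ ((c χ₁ : ℤ) • χ + (-(c χ : ℤ)) • χ₁) = (c χ₁ : ℤ) • σ χ + (-(c χ : ℤ)) • σ χ₁ :=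
      isoOn_map_zsmul_add hσ (fun a ha n => zspan_zsmul ha n) (mem_zspan_of_mem hχ)
        (mem_zspan_of_mem hχ₁) _ _
    have h2 : classInner β (σ ((c χ₁ : ℤ) • χ + (-(c χ : ℤ)) • χ₁)) = -(c χ : ℂ) := by
      rw [hσα _ hamem, hβ, hα.2.2.1 _ hmem _ (zspanOn_mono hXS hamem)]
      have : (c χ₁ : ℤ) • χ + (-(c χ : ℤ)) • χ₁ = (c χ₁ : ℤ) • χ - ((c χ : ℤ)) • χ₁ := by
        rw [neg_smul, sub_eq_add_neg]
      rw [this, glue_inner_X hirr (hXS hχ₁) (hYS hψ₁) (hXS hχ) (hne χ₁ hχ₁ ψ₁ hψ₁) hχne.symm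
        (hne χ hχ ψ₁ hψ₁).symm]
      simp
    rw [hσa, Helper74.classInner_add_right, classInner_zsmul_right, classInner_zsmul_right] at h2
    push_cast at h2
    linear_combination h2
  set χ₂ := conjFun χ₁ with hχ₂def
  have hχ₂ : χ₂ ∈ X := (hXc χ₁ hχ₁).1
  have hχ₂ne : χ₂ ≠ χ₁ := (hXc χ₁ hχ₁).2
  have hcpos : ∀ χ ∈ X, (0 : ℝ) < c χ := by
    intro χ hχ
    have := hc2 χ hχ
    exact_mod_cast (by omega : 0 < c χ)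
  have hfinal : ∀ σs : (N → ℂ) → (G → ℂ), σs χ₁ = β'' →
      α (χ₁ - (c χ₁ : ℤ) • ψ₁) = σs χ₁ - (c χ₁ : ℤ) • τs ψ₁ := by
    intro σs h
    rw [h, hβ'']
    exact (add_sub_cancel_right _ _).symm
  rcases SignedIrr.inner_eq_zero_or hs (hσirr χ₁ hχ₁) with h0 | ⟨t, ht, hσχ₁, hinner⟩
  · -- the inner product is zero : swap
    have hr2 := hrel χ₂ hχ₂ hχ₂ne
    rw [h0, mul_zero, sub_zero] at hr2
    rcases SignedIrr.inner_eq_zero_or hs (hσirr χ₂ hχ₂) with h20 | ⟨t₂, ht₂, hσχ₂, hinner₂⟩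
    · exfalso
      rw [h20, mul_zero] at hr2
      have : (c χ₂ : ℂ) = 0 := by linear_combination hr2
      have h3 : c χ₂ = 0 := by exact_mod_cast this
      have := hc2 χ₂ hχ₂
      omega
    · rw [hinner₂] at hr2
      have ht₂' : t₂ = -1 := by
        rcases ht₂ with rfl | rfl
        · exfalso
          have h3 : ((c χ₁ + c χ₂ : ℕ) : ℂ) = 0 := by push_cast; linear_combination hr2
          have h4 : c χ₁ + c χ₂ = 0 := by exact_mod_cast h3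
          have := hc2 χ₂ hχ₂
          omega
        · rfl
      subst ht₂'
      have hX2 : X = {χ₁, χ₂} := by
        apply Set.Subset.antisymm
        · intro χ₃ hχ₃
          by_contra hnot
          have h31 : χ₃ ≠ χ₁ := fun h => hnot (by rw [h]; simp)
          have h32 : χ₃ ≠ χ₂ := fun h => hnot (by rw [h]; simp)
          have hr3 := hrel χ₃ hχ₃ h31
          rw [h0, mul_zero, sub_zero] at hr3
          rcases SignedIrr.inner_eq_zero_or hs (hσirr χ₃ hχ₃) with h30 | ⟨t₃, ht₃, hσχ₃, -⟩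
          · rw [h30, mul_zero] at hr3
            have : (c χ₃ : ℂ) = 0 := by linear_combination hr3
            have h3 : c χ₃ = 0 := by exact_mod_cast this
            have := hc2 χ₃ hχ₃
            omega
          · have h4 := hσσ χ₃ hχ₃ χ₂ hχ₂ h32
            rw [hσχ₃, hσχ₂, Helper74.classInner_smul_left, Helper74.classInner_smul_right,
              hβ''norm] at h4
            rcases ht₃ with rfl | rfl <;> simp at h4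
        · intro χ hχ
          rcases hχ with h | h
          · rw [h]; exact hχ₁
          · rw [Set.mem_singleton_iff.mp h]; exact hχ₂
      have hσ' : IsLinearIsometryOn (zspan ({χ₁, conjFun χ₁} : Set (N → ℂ))) σ := by
        rw [← hχ₂def, ← hX2]; exact hσ
      have hσα' : ∀ θ ∈ zspanOn ({χ₁, conjFun χ₁} : Set (N → ℂ)) {1}ᶜ, σ θ = α θ := by
        rw [← hχ₂def, ← hX2]; exact hσα
      obtain ⟨hs1, hs2⟩ := swap_isometry (hirr χ₁ (hXS hχ₁)) α σ hσ' hσα'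
      rw [← hχ₂def, ← hX2] at hs1 hs2
      refine ⟨fun a => -σ (conjFun a), hs1, hs2, hfinal (fun a => -σ (conjFun a)) ?_⟩
      show -σ (conjFun χ₁) = β''
      rw [← hχ₂def, hσχ₂]; simp
  · rcases ht with rfl | rfl
    · refine ⟨σ, hσ, hσα, hfinal σ ?_⟩
      rw [hσχ₁, one_smul]
    · exfalso
      have hr2 := hrel χ₂ hχ₂ hχ₂ne
      have h20 : classInner β'' (σ χ₂) = 0 := by
        have h4 := hσσ χ₁ hχ₁ χ₂ hχ₂ hχ₂ne.symm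
        rw [hσχ₁, Helper74.classInner_smul_left] at h4
        have : classInner β'' (σ χ₂) = 0 := by
          have h5 : (-1 : ℂ) ≠ 0 := by norm_num
          exact (mul_eq_zero.mp h4).resolve_left h5
        exact this
      rw [h20, hinner, mul_zero] at hr2
      have : (c χ₂ : ℂ) = 0 := by linear_combination hr2 / 2
      have h3 : c χ₂ = 0 := by exact_mod_cast this
      have := hc2 χ₂ hχ₂
      omega

/-- Gluing two coherent sets of irreducible characters under the divisibility condition. -/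
theorem sibley_glue (S X Y : Set (N → ℂ)) (hirr : ∀ ξ ∈ S, IsIrrCharacter N ξ) (hXS : X ⊆ S)
    (hYS : Y ⊆ S) (hXY : Disjoint X Y)
    (hXc : ∀ χ ∈ X, conjFun χ ∈ X ∧ conjFun χ ≠ χ)
    (hYc : ∀ ψ ∈ Y, conjFun ψ ∈ Y ∧ conjFun ψ ≠ ψ)
    (α : (N → ℂ) → (G → ℂ)) (hα : IsLinearIsometryOn (zspanOn S {1}ᶜ) α)
    (hα1 : ∀ θ ∈ zspanOn S {1}ᶜ, α θ 1 = 0)
    (hX : IsCoherent X {1}ᶜ α) (hY : IsCoherent Y {1}ᶜ α)
    (e : ℕ) (hYdeg : ∀ ψ ∈ Y, ψ 1 = (e : ℂ)) (c : (N → ℂ) → ℕ)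
    (hXdeg : ∀ χ ∈ X, χ 1 = (c χ : ℂ) * e) (hc2 : ∀ χ ∈ X, 2 ≤ c χ)
    {χ₁ ψ₁ : N → ℂ} (hχ₁ : χ₁ ∈ X) (hψ₁ : ψ₁ ∈ Y)
    (hdiv : ∀ τ₁ : (N → ℂ) → (G → ℂ), IsLinearIsometryOn (zspan Y) τ₁ →
      (∀ θ ∈ zspanOn Y {1}ᶜ, τ₁ θ = α θ) →
        ∃ t : ℤ, classInner (α (χ₁ - (c χ₁ : ℤ) • ψ₁)) (τ₁ ψ₁) = (t : ℂ) * (c χ₁ : ℂ)) :
    IsCoherent (X ∪ Y) {1}ᶜ α := by
  obtain ⟨-, σ, hσ, hσα⟩ := hX
  obtain ⟨-, τ₁, hτ₁, hτ₁α⟩ := hY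
  have hX2 : ∃ a ∈ X, ∃ b ∈ X, a ≠ b :=
    ⟨χ₁, hχ₁, conjFun χ₁, (hXc χ₁ hχ₁).1, (hXc χ₁ hχ₁).2.symm⟩
  have hY2 : ∃ a ∈ Y, ∃ b ∈ Y, a ≠ b :=
    ⟨ψ₁, hψ₁, conjFun ψ₁, (hYc ψ₁ hψ₁).1, (hYc ψ₁ hψ₁).2.symm⟩
  obtain ⟨τs, hτs, hτsα, h1, -⟩ := glue_stepA S X Y hirr hXS hYS hXY hYc α hα τ₁ hτ₁ hτ₁α e hYdeg
    hχ₁ hψ₁ (c χ₁) (hc2 χ₁ hχ₁) (hXdeg χ₁ hχ₁) (hdiv τ₁ hτ₁ hτ₁α)
  have hres := Cfsg.Agent.S1531.result N S X Y hirr hXS hYS hXY hX2 hY2 α hα hα1 σ τs hσ hσα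
    hτs hτsα
  obtain ⟨σs, hσs, hσsα, heq⟩ := glue_stepC S X Y hirr hXS hYS hXY hXc α hα σ hσ hσα τs hτs
    hres.1 e hYdeg c hXdeg hc2 hχ₁ hψ₁ h1
  have hres2 := Cfsg.Agent.S1531.result N S X Y hirr hXS hYS hXY hX2 hY2 α hα hα1 σs τs hσs
    hσsα hτs hτsα
  apply hres2.2
  refine ⟨χ₁, hχ₁, ψ₁, hψ₁, ?_⟩
  have hmem : χ₁ - (c χ₁ : ℤ) • ψ₁ ∈ zspanOn S {1}ᶜ := by
    refine ⟨zspan_sub (mem_zspan_of_mem (hXS hχ₁)) (zspan_zsmul (mem_zspan_of_mem (hYS hψ₁)) _), ?_⟩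
    intro x hx
    have hx1 : x = 1 := by simpa using hx
    rw [hx1, Pi.sub_apply, Pi.smul_apply, hXdeg χ₁ hχ₁, hYdeg ψ₁ hψ₁]
    simp
  have e1 : χ₁ 1 • ψ₁ - ψ₁ 1 • χ₁ = (-(e : ℤ)) • (χ₁ - (c χ₁ : ℤ) • ψ₁) := by
    funext x
    rw [hXdeg χ₁ hχ₁, hYdeg ψ₁ hψ₁]
    simp only [Pi.sub_apply, Pi.smul_apply]
    simp only [smul_eq_mul, zsmul_eq_mul, Int.cast_neg, Int.cast_natCast]
    ring
  rw [e1, hα.2.1 _ hmem, heq, hXdeg χ₁ hχ₁, hYdeg ψ₁ hψ₁]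
  funext x
  simp only [Pi.sub_apply, Pi.smul_apply]
  simp only [smul_eq_mul, zsmul_eq_mul, Int.cast_neg, Int.cast_natCast]
  ring

end glue

end Cfsg.Agent.Helper25
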