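import Mathlib
import Cfsg.Agent.Helper25.CohCentral
import Cfsg.Agent.Helper25.CohBound
import Cfsg.Agent.Helper25.CoherenceExt2

/-!
# Sibley's coherence theorem, part 6: extending a coherent subset containing `S \ S(Z)`
-/

set_option autoImplicit false
open Cfsg

namespace Cfsg.Agent.Helper25

open Cfsg.Agent.Helper80

section mass
variable {L : Type*} [Group L] [Fintype L] (K : Subgroup L)

open Classical in
/-- General mass inequality: for a finset `Θ` of irreducible characters of `K` all inducing into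
`T`, `Σ_{θ ∈ Θ} [L:K] θ(1)² ≤ Σ_{φ ∈ T} φ(1)² / ⟨φ, φ⟩`. -/
theorem mass_le_of_maps [Fintype K] [Fintype (IrrCharacter K)] (Θ : Finset (IrrCharacter K))
    (T : Finset (L → ℂ)) (hmaps : ∀ θ ∈ Θ, indFun K (θ : K → ℂ) ∈ T)
    (hTchar : ∀ φ ∈ T, IsCharacter L φ)
    (n : (L → ℂ) → ℕ) (hn : ∀ φ ∈ T, classInner φ φ = n φ) (hn0 : ∀ φ ∈ T, n φ ≠ 0) :
    ∑ θ ∈ Θ, (K.index : ℝ) * (charDegree (θ : K → ℂ) : ℝ) ^ 2 ≤
      ∑ φ ∈ T, (charDegree φ : ℝ) ^ 2 / (n φ : ℝ) := by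
  rw [← Finset.sum_fiberwise_of_maps_to hmaps]
  apply Finset.sum_le_sum
  intro φ hφ
  calc ∑ θ ∈ Θ.filter (fun θ : IrrCharacter K => indFun K (θ : K → ℂ) = φ),
        (K.index : ℝ) * (charDegree (θ : K → ℂ) : ℝ) ^ 2
      ≤ ∑ θ ∈ Finset.univ.filter (fun θ : IrrCharacter K => indFun K (θ : K → ℂ) = φ),
          (K.index : ℝ) * (charDegree (θ : K → ℂ) : ℝ) ^ 2 := by
        apply Finset.sum_le_sum_of_subset_of_nonneg
        · intro θ hθ
          rw [Finset.mem_filter] at hθ ⊢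
          exact ⟨Finset.mem_univ _, hθ.2⟩
        · intro θ _ _
          positivity
    _ ≤ (charDegree φ : ℝ) ^ 2 / (n φ : ℝ) := fiber_mass K (hTchar φ hφ) (hn φ hφ) (hn0 φ hφ)

open Classical in
/-- The mass of a set containing `S \ S(Z)`. -/
theorem mass_diff_le [K.Normal] [Fintype K] [Fintype (IrrCharacter K)] (Z : Subgroup L) [Z.Normal]
    (hZK : Z ≤ K) (T : Finset (L → ℂ))
    (hT : inducedIrrAbove K ⊥ \ inducedIrrAbove K Z ⊆ ↑T) (hTchar : ∀ φ ∈ T, IsCharacter L φ)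
    (n : (L → ℂ) → ℕ) (hn : ∀ φ ∈ T, classInner φ φ = n φ) (hn0 : ∀ φ ∈ T, n φ ≠ 0) :
    (K.index : ℝ) * ((Nat.card K : ℝ) - (Z.relIndex K : ℝ)) ≤
      ∑ φ ∈ T, (charDegree φ : ℝ) ^ 2 / (n φ : ℝ) := by
  set Θ := Finset.univ.filter (fun θ : IrrCharacter K =>
        ¬ ∀ a : K, (a : L) ∈ Z → (θ : K → ℂ) a = (θ : K → ℂ) 1) with hΘ
  have hmaps : ∀ θ ∈ Θ, indFun K (θ : K → ℂ) ∈ T := by
    intro θ hθ
    apply hT
    exact (indFun_mem_diff_iff K Z hZK θ.2).mpr (Finset.mem_filter.mp hθ).2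
  have h1 := mass_le_of_maps K Θ T hmaps hTchar n hn hn0
  have h2 := sum_sq_nontrivial_add K Z
  have h3 : ∑ θ ∈ Θ, (charDegree (θ : K → ℂ) : ℝ) ^ 2 + (Z.relIndex K : ℝ) = (Nat.card K : ℝ) := by
    exact_mod_cast h2
  rw [← Finset.mul_sum] at h1
  have h4 : ∑ θ ∈ Θ, (charDegree (θ : K → ℂ) : ℝ) ^ 2 = (Nat.card K : ℝ) - (Z.relIndex K : ℝ) := by
    linarith
  rw [h4] at h1
  exact h1

end mass

section extend
variable {L : Type*} [Group L] [Fintype L] {G : Type*} [Group G] [Fintype G]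

/-- If a coherent, conjugation-closed `T₀ ⊆ S` contains `S \ S(Z)` and a character of degree
`[L:K]`, and the characters of `K` trivial on `Z` have small degree, then `S` is coherent. -/
theorem sibley_extend (K : Subgroup L) [K.Normal] (τ : (L → ℂ) → (G → ℂ))
    (R : (L → ℂ) → Finset (G → ℂ)) (hS : IsCoherenceSystem (inducedIrrAbove K ⊥) τ R)
    (Z : Subgroup L) [Z.Normal] (hZK : Z ≤ K)
    (T₀ : Set (L → ℂ)) (hT₀S : T₀ ⊆ inducedIrrAbove K ⊥)
    (hT₀X : inducedIrrAbove K ⊥ \ inducedIrrAbove K Z ⊆ T₀)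
    (hT₀c : ∀ φ ∈ T₀, conjFun φ ∈ T₀) (hT₀coh : IsCoherent T₀ {1}ᶜ τ)
    (ψ₁ : L → ℂ) (hψ₁ : ψ₁ ∈ T₀) (hψ₁deg : charDegree ψ₁ = K.index)
    (hineq : ∀ θ : K → ℂ, IsIrrCharacter K θ → (∀ a : K, (a : L) ∈ Z → θ a = θ 1) →
      2 * K.index * charDegree θ + Z.relIndex K < Nat.card K) :
    IsCoherent (inducedIrrAbove K ⊥) {1}ᶜ τ := by
  classical
  have : Fintype K := Fintype.ofFinite K
  have : Fintype (IrrCharacter K) := Helper74.irrFintype K
  set S := inducedIrrAbove K ⊥ with hSdef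
  have hfin : S.Finite := inducedIrrAbove_finite K ⊥
  set d : (L → ℂ) → ℕ := fun φ => charDegree φ with hd_def
  set n : (L → ℂ) → ℕ := fun φ => ⌊(classInner φ φ).re⌋₊ with hn_def
  have hd : ∀ φ ∈ S, φ 1 = (d φ : ℂ) := fun φ hφ =>
    (Helper80.IsCharacter.charDegree_cast (hS.isCharacter φ hφ)).symm
  have hn : ∀ φ ∈ S, classInner φ φ = (n φ : ℂ) := by
    intro φ hφ
    obtain ⟨m, hm⟩ := Helper15.isCharacter_inner_nat (hS.isCharacter φ hφ) (hS.isCharacter φ hφ)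
    simp only [hn_def, hm]
    simp
  have hn0 : ∀ φ ∈ S, n φ ≠ 0 := by
    intro φ hφ h0
    have h1 := hn φ hφ
    rw [h0] at h1
    exact coh_inner_self_ne_zero hS hφ (by simpa using h1)
  let P : Finset (L → ℂ) → Prop := fun T =>
    (↑T : Set (L → ℂ)) ⊆ S ∧ (∀ φ ∈ T, conjFun φ ∈ T) ∧ T₀ ⊆ ↑T ∧
      IsCoherent (↑T : Set (L → ℂ)) {1}ᶜ τ
  set F := hfin.toFinset.powerset.filter P with hF
  have hmemF : ∀ T, T ∈ F ↔ P T := by
    intro T
    rw [hF, Finset.mem_filter, Finset.mem_powerset]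
    constructor
    · exact fun h => h.2
    · intro h
      refine ⟨?_, h⟩
      intro φ hφ
      rw [Set.Finite.mem_toFinset]
      exact h.1 (Finset.mem_coe.mpr hφ)
  have hT₀fin : T₀.Finite := hfin.subset hT₀S
  set T₀' := hT₀fin.toFinset with hT₀'
  have hT₀coe : (↑T₀' : Set (L → ℂ)) = T₀ := Set.Finite.coe_toFinset _
  have hT₀F : T₀' ∈ F := by
    rw [hmemF]
    refine ⟨?_, ?_, ?_, ?_⟩
    · rw [hT₀coe]; exact hT₀S
    · intro φ hφ
      rw [hT₀', Set.Finite.mem_toFinset] at hφ ⊢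
      exact hT₀c φ hφ
    · rw [hT₀coe]
    · rw [hT₀coe]; exact hT₀coh
  obtain ⟨T, hTF, hTmax⟩ := Finset.exists_max_image F Finset.card ⟨T₀', hT₀F⟩
  obtain ⟨hTS, hTconj, hTA, hTcoh⟩ := (hmemF T).mp hTF
  have hST : S ⊆ ↑T := by
    intro χ hχS
    by_contra hχT
    have hχT' : χ ∉ T := fun h => hχT (Finset.mem_coe.mpr h)
    have hχcT : conjFun χ ∉ T := by
      intro h
      have := hTconj _ h
      rw [conjFun_conjFun] at this
      exact hχT' this
    have hψ₁T : ψ₁ ∈ T := Finset.mem_coe.mp (hTA hψ₁)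
    -- χ lies in S(Z)
    have hχZ : χ ∈ inducedIrrAbove K Z := by
      by_contra hnot
      exact hχT (hTA (hT₀X ⟨hχS, hnot⟩))
    obtain ⟨θ, hθ, hθne, hθker, hχeq⟩ := hχZ
    have hdχ : d χ = K.index * charDegree θ := by
      simp only [hd_def]
      rw [hχeq]
      exact Helper80.charDegree_indFun K (Helper80.IsIrrCharacter.isCharacter hθ)
    have hdψ₁ : d ψ₁ = K.index := hψ₁deg
    have hdvd : d ψ₁ ∣ d χ := by
      rw [hdχ, hdψ₁]
      exact dvd_mul_right _ _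
    have hmass := mass_diff_le K Z hZK T (hT₀X.trans hTA)
      (fun φ hφ => hS.isCharacter φ (hTS (Finset.mem_coe.mpr hφ))) n
      (fun φ hφ => hn φ (hTS (Finset.mem_coe.mpr hφ)))
      (fun φ hφ => hn0 φ (hTS (Finset.mem_coe.mpr hφ)))
    have hKpos : (0 : ℝ) < K.index := by
      have : 0 < K.index := Nat.pos_of_ne_zero (Subgroup.index_ne_zero_of_finite)
      exact_mod_cast this
    have hi := hineq θ hθ hθker
    have hi' : (2 * (K.index : ℝ) * (charDegree θ : ℝ)) + (Z.relIndex K : ℝ) < (Nat.card K : ℝ) := by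
      exact_mod_cast hi
    have hineq' : (2 * d χ * d ψ₁ : ℝ) < ∑ φ ∈ T, ((d φ : ℝ) ^ 2 / (n φ : ℝ)) := by
      refine lt_of_lt_of_le ?_ hmass
      rw [hdψ₁, hdχ]
      push_cast
      have : (2 * ((K.index : ℝ) * (charDegree θ : ℝ)) * (K.index : ℝ)) =
          (K.index : ℝ) * (2 * (K.index : ℝ) * (charDegree θ : ℝ)) := by ring
      rw [this]
      apply mul_lt_mul_of_pos_left _ hKpos
      linarith
    have hcoh' := coh_ext hS d n hd hn T hTS hTconj hTcoh χ hχS hχT' hχcT ψ₁ hψ₁T hdvd hineq'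
    set T' : Finset (L → ℂ) := insert χ (insert (conjFun χ) T) with hT'
    have hcoe : (↑T' : Set (L → ℂ)) = ↑T ∪ {χ, conjFun χ} := by
      ext φ
      simp only [hT', Finset.coe_insert, Set.mem_insert_iff, Finset.mem_coe, Set.mem_union,
        Set.mem_singleton_iff]
      tauto
    have hT'F : T' ∈ F := by
      rw [hmemF]
      refine ⟨?_, ?_, ?_, ?_⟩
      · rw [hcoe]
        intro φ hφ
        rcases hφ with hφ | hφ | hφ
        · exact hTS hφ
        · rw [hφ]; exact hχS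
        · rw [Set.mem_singleton_iff] at hφ
          rw [hφ]; exact hS.conj_mem χ hχS
      · intro φ hφ
        rw [hT', Finset.mem_insert, Finset.mem_insert] at hφ ⊢
        rcases hφ with rfl | rfl | hφ
        · right; left; rfl
        · left; exact conjFun_conjFun _
        · right; right; exact hTconj φ hφ
      · rw [hcoe]
        exact hTA.trans Set.subset_union_left
      · rw [hcoe]; exact hcoh'
    have hcard : T.card < T'.card := by
      apply Finset.card_lt_card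
      rw [Finset.ssubset_iff_of_subset]
      · exact ⟨χ, Finset.mem_insert_self _ _, hχT'⟩
      · intro φ hφ
        exact Finset.mem_insert_of_mem (Finset.mem_insert_of_mem hφ)
    exact absurd (hTmax T' hT'F) (not_le.mpr hcard)
  have hTeq : (↑T : Set (L → ℂ)) = S := Set.Subset.antisymm hTS hST
  rw [← hTeq]
  exact hTcoh

end extend

end Cfsg.Agent.Helper25
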