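import Mathlib
import Cfsg.Agent.Helper25.Sibley2
import Cfsg.Agent.Helper25.Sibley3
import Cfsg.Agent.Helper25.Sibley5
import Cfsg.Agent.Helper25.Sibley6
import Cfsg.Agent.Helper25.CohChief
import Cfsg.Agent.Lib.Nilpotent

/-!
# Sibley's coherence theorem (Peterfalvi (6.8), Frobenius case): assembly
-/

set_option autoImplicit false
open Cfsg

namespace Cfsg.Agent.Helper25

open Cfsg.Agent.Helper80

/-- A normal `p`-subgroup of `p'`-index in its normalizer `L`, is a Sylow `p`-subgroup of `G`. -/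
theorem exists_sylow_eq_of_normalizer {G : Type*} [Group G] [Finite G] (p : ℕ) [Fact p.Prime]
    (L : Subgroup G) (K : Subgroup L) [hK : K.Normal]
    (hN : Subgroup.normalizer ((K.map L.subtype : Subgroup G) : Set G) = L)
    (hp : IsPGroup p K) (hcop : ¬ p ∣ K.index) :
    ∃ P : Sylow p G, (P : Subgroup G) = K.map L.subtype := by
  set H : Subgroup G := K.map L.subtype with hH
  have hHp : IsPGroup p H := by
    rw [hH]
    exact hp.map L.subtype
  obtain ⟨P, hP⟩ := hHp.exists_le_sylow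
  refine ⟨P, le_antisymm ?_ hP⟩
  by_contra hnot
  -- the subgroup H inside P is proper
  have hlt : H.subgroupOf (P : Subgroup G) < ⊤ := by
    rw [lt_top_iff_ne_top]
    intro h
    apply hnot
    intro x hx
    have : (⟨x, hx⟩ : (P : Subgroup G)) ∈ H.subgroupOf (P : Subgroup G) := by rw [h]; trivial
    exact Subgroup.mem_subgroupOf.mp this
  have hnil : Group.IsNilpotent (P : Subgroup G) := P.isPGroup'.isNilpotent
  have hnc := Group.normalizerCondition_of_isNilpotent (G := (P : Subgroup G)) _ hlt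
  obtain ⟨x, hxN, hxH⟩ := SetLike.exists_of_lt hnc
  -- x normalizes H in G
  have hxG : (x : G) ∈ Subgroup.normalizer ((H : Subgroup G) : Set G) := by
    rw [Subgroup.mem_normalizer_iff]
    intro h
    rw [Subgroup.mem_normalizer_iff] at hxN
    constructor
    · intro hh
      have := (hxN ⟨h, hP hh⟩).mp (Subgroup.mem_subgroupOf.mpr hh)
      exact Subgroup.mem_subgroupOf.mp this
    · intro hh
      have hhP : h ∈ (P : Subgroup G) := by
        have h1 : (x : G) * h * (x : G)⁻¹ ∈ (P : Subgroup G) := hP hh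
        have h2 : h = (x : G)⁻¹ * ((x : G) * h * (x : G)⁻¹) * (x : G) := by group
        rw [h2]
        exact (P : Subgroup G).mul_mem ((P : Subgroup G).mul_mem ((P : Subgroup G).inv_mem x.2) h1) x.2
      have := (hxN ⟨h, hhP⟩).mpr (Subgroup.mem_subgroupOf.mpr hh)
      exact Subgroup.mem_subgroupOf.mp this
  rw [hN] at hxG
  -- x is a p-element of L, hence lies in K
  set P' : Sylow p L := hp.toSylow hcop with hP'
  have hP'coe : (P' : Subgroup L) = K := IsPGroup.toSylow_coe hp hcop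
  have hxP' : (⟨(x : G), hxG⟩ : L) ∈ (P' : Subgroup L) := by
    apply mem_sylow_of_mem_normalizer p P'
    · rw [hP'coe, Subgroup.normalizer_eq_top]; trivial
    · obtain ⟨j, hj⟩ := P.isPGroup' x
      refine ⟨j, ?_⟩
      apply Subtype.ext
      have := congrArg (fun t : (P : Subgroup G) => (t : G)) hj
      simpa using this
  rw [hP'coe] at hxP'
  apply hxH
  rw [Subgroup.mem_subgroupOf]
  exact ⟨⟨(x : G), hxG⟩, hxP', rfl⟩

section prelim
variable {L : Type*} [Group L] [Fintype L] (K : Subgroup L) [hK : K.Normal]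

theorem commutator_lt_of_solvable (hsolv : Group.IsSolvable K) (hK1 : K ≠ ⊥) : ⁅K, K⁆ < K := by
  have hnt : Nontrivial K := (Subgroup.nontrivial_iff_ne_bot K).mpr hK1
  have h1 : commutator K < ⊤ := Group.IsSolvable.commutator_lt_top_of_nontrivial K
  refine lt_of_le_of_ne (Subgroup.commutator_le_left K K) ?_
  intro h
  have h2 := commutator_subgroupOf_self K
  rw [h, Subgroup.subgroupOf_self] at h2
  exact (ne_of_lt h1) h2.symm

/-- The central part of the derived subgroup, as a subgroup of `L`. -/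
def zOf : Subgroup L := (commutator K ⊓ Subgroup.center K).map K.subtype

instance zOf_normal : (zOf K).Normal := by
  unfold zOf
  infer_instance

theorem zOf_le : zOf K ≤ K := Subgroup.map_subtype_le _

theorem zOf_le_commutator : zOf K ≤ ⁅K, K⁆ := by
  rw [← Subgroup.map_subtype_commutator K]
  exact Subgroup.map_mono inf_le_left

theorem zOf_central : ∀ z ∈ zOf K, ∀ k ∈ K, z * k = k * z := by
  rintro z ⟨z', hz', rfl⟩ k hk
  have h1 : z' ∈ Subgroup.center K := hz'.2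
  have h2 := (Subgroup.mem_center_iff.mp h1) ⟨k, hk⟩
  have h3 := congrArg (fun t : K => (t : L)) h2
  simpa using h3.symm

omit [Fintype L] hK in
theorem zOf_ne_bot [hnil : Group.IsNilpotent K] (hab : ⁅K, K⁆ ≠ ⊥) : zOf K ≠ ⊥ := by
  have hc : commutator K ≠ ⊥ := by
    intro h
    apply hab
    rw [← Subgroup.map_subtype_commutator K, h, Subgroup.map_bot]
  have h1 := Cfsg.Agent.Lib.normal_inf_center_ne_bot (commutator K) hc
  unfold zOf
  intro h
  exact h1 ((Subgroup.map_eq_bot_iff_of_injective _ K.subtype_injective).mp h)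

/-- A character of `K` nontrivial on `zOf K` is not linear. -/
theorem two_le_charDegree_of_nontrivial_on_zOf {θ : K → ℂ} (hθ : IsIrrCharacter K θ)
    (hnt : ∃ a : K, (a : L) ∈ zOf K ∧ θ a ≠ θ 1) : 2 ≤ charDegree θ := by
  have hc : IsCharacter K θ := Helper80.IsIrrCharacter.isCharacter hθ
  have hpos : 0 < charDegree θ := Helper80.IsIrrCharacter.charDegree_pos hθ
  by_contra hlt
  have h1 : charDegree θ = 1 := by omega
  have hθ1 : θ 1 = 1 := by
    rw [← Helper80.IsCharacter.charDegree_cast hc, h1]; simp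
  obtain ⟨a, haZ, ha⟩ := hnt
  apply ha
  have hmem : a ∈ commutator K := by
    rw [← commutator_subgroupOf_self K, Subgroup.mem_subgroupOf]
    exact zOf_le_commutator K haZ
  rw [Helper79.isCharacter_linear_commutator hc hθ1 hmem, hθ1]

end prelim

section hdiv
variable {G : Type*} [Group G] [Fintype G] (L : Subgroup G) [Fintype L] (K : Subgroup L)
  [hK : K.Normal]

/-- The divisibility hypothesis of `sibley_glue`, from `sibley_div`. -/
theorem sibley_hdiv (R : (L → ℂ) → Finset (G → ℂ))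
    (hS : IsCoherenceSystem (inducedIrrAbove K ⊥) (fun α : L → ℂ => indFun L α) R)
    (hirr : ∀ χ ∈ inducedIrrAbove K ⊥, IsIrrCharacter L χ)
    (Z : Subgroup L) [hZ : Z.Normal] (hZK : Z ≤ K) (hZc : ∀ z ∈ Z, ∀ k ∈ K, z * k = k * z)
    (hZ1 : Z ≠ ⊥) (p : ℕ) [Fact p.Prime] (P : Sylow p G)
    (hP : (P : Subgroup G) = K.map L.subtype)
    (hTI : IsTISubset ((P : Subgroup G) : Set G))
    (hN : Subgroup.normalizer ((P : Subgroup G) : Set G) = L) (hodd : Odd (Nat.card L))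
    (Y : Set (L → ℂ)) (hYZ : Y ⊆ inducedIrrAbove K Z)
    (hYc : ∀ ψ ∈ Y, conjFun ψ ∈ Y ∧ conjFun ψ ≠ ψ)
    (hXcoh : IsCoherent (inducedIrrAbove K ⊥ \ inducedIrrAbove K Z) {1}ᶜ
      (fun α : L → ℂ => indFun L α))
    (τ₁ : (L → ℂ) → (G → ℂ)) (hτ₁ : IsLinearIsometryOn (zspan Y) τ₁)
    (hτ₁α : ∀ θ ∈ zspanOn Y {1}ᶜ, τ₁ θ = indFun L θ)
    {ψ₁ : L → ℂ} (hψ₁ : ψ₁ ∈ Y) (θ₁ : K → ℂ) (hθ₁ : IsIrrCharacter K θ₁)
    (hθ₁Z : ∃ a : K, (a : L) ∈ Z ∧ θ₁ a ≠ θ₁ 1) :
    ∃ t : ℤ, classInner (indFun L (indFun K θ₁ - (charDegree θ₁ : ℤ) • ψ₁)) (τ₁ ψ₁) =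
      (t : ℂ) * (charDegree θ₁ : ℂ) := by
  classical
  set S := inducedIrrAbove K ⊥ with hSdef
  set X := S \ inducedIrrAbove K Z with hXdef
  set τ : (L → ℂ) → (G → ℂ) := fun α : L → ℂ => indFun L α with hτ
  have hXS : X ⊆ S := Set.sdiff_subset
  have hYS : Y ⊆ S := hYZ.trans (inducedIrrAbove_subset_bot K Z)
  have hXY : Disjoint X Y := by
    rw [Set.disjoint_left]
    intro a ha hb
    exact ha.2 (hYZ hb)
  obtain ⟨-, σ, hσ, hσα⟩ := hXcoh
  have hχ₁X : indFun K θ₁ ∈ X := indFun_mem_diff K Z hZK hθ₁ hθ₁Z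
  have hX2 : ∃ a ∈ X, ∃ b ∈ X, a ≠ b :=
    ⟨_, hχ₁X, _, diff_conj_mem K Z hχ₁X, (hS.conj_ne _ hχ₁X.1).symm⟩
  have hY2 : ∃ a ∈ Y, ∃ b ∈ Y, a ≠ b :=
    ⟨ψ₁, hψ₁, conjFun ψ₁, (hYc ψ₁ hψ₁).1, (hYc ψ₁ hψ₁).2.symm⟩
  have hres := Cfsg.Agent.S1531.result L S X Y hirr hXS hYS hXY hX2 hY2 τ hS.isometry hS.map_one
    σ τ₁ hσ hσα hτ₁ hτ₁α
  have orth := hres.1
  set y := τ₁ ψ₁ with hy
  have hygen : IsGeneralizedCharacter G y := hτ₁.2.2.2 _ (mem_zspan_of_mem hψ₁)
  have hyy : classInner y y = 1 := by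
    rw [hy, hτ₁.2.2.1 _ (mem_zspan_of_mem hψ₁) _ (mem_zspan_of_mem hψ₁)]
    exact Cfsg.Agent.S1531.irr_norm (hirr ψ₁ (hYS hψ₁))
  have hsy : SignedIrr G y := signedIrr_of_inner_self_eq_one hygen hyy
  have hyσ : ∀ χ ∈ X, classInner y (σ χ) = 0 := by
    intro χ hχ
    rw [← Helper74.classInner_conj_symm, orth χ hχ ψ₁ hψ₁, map_zero]
  have hdeg : ∀ θ : K → ℂ, IsIrrCharacter K θ → θ 1 = (charDegree θ : ℂ) := fun θ hθ =>
    (Helper80.IsCharacter.charDegree_cast (Helper80.IsIrrCharacter.isCharacter hθ)).symm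
  -- the key claim for η = ± y
  have key : ∀ (s : ℤ), (s = 1 ∨ s = -1) → IsIrrCharacter G (s • y) →
      ∃ t : ℤ, classInner (s • y) (indFun L (indFun K θ₁)) = (t : ℂ) * θ₁ 1 := by
    intro s hs hη
    apply sibley_div L K Z p P hP hTI hN hodd hZK hZc hZ1 (s • y) hη ?_ θ₁ hθ₁ hθ₁Z
    intro θ θ' hθ hθ' hθZ hθ'Z
    set d := charDegree θ with hd
    set d' := charDegree θ' with hd'
    have hχX : indFun K θ ∈ X := indFun_mem_diff K Z hZK hθ hθZ
    have hχ'X : indFun K θ' ∈ X := indFun_mem_diff K Z hZK hθ' hθ'Z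
    have hamem : (d' : ℤ) • indFun K θ + (-(d : ℤ)) • indFun K θ' ∈ zspanOn X {1}ᶜ := by
      refine ⟨zspan_add (zspan_zsmul (mem_zspan_of_mem hχX) _)
        (zspan_zsmul (mem_zspan_of_mem hχ'X) _), ?_⟩
      intro x hx
      have hx1 : x = 1 := by simpa using hx
      rw [hx1, Pi.add_apply, Pi.smul_apply, Pi.smul_apply, Helper15.indFun_apply_one,
        Helper15.indFun_apply_one, hdeg θ hθ, hdeg θ' hθ']
      simp only [zsmul_eq_mul, Int.cast_natCast, Int.cast_neg]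
      ring
    have hσa : σ ((d' : ℤ) • indFun K θ + (-(d : ℤ)) • indFun K θ') =
        (d' : ℤ) • σ (indFun K θ) + (-(d : ℤ)) • σ (indFun K θ') :=
      isoOn_map_zsmul_add hσ (fun a ha n => zspan_zsmul ha n) (mem_zspan_of_mem hχX)
        (mem_zspan_of_mem hχ'X) _ _
    have h0 : classInner (s • y) (σ ((d' : ℤ) • indFun K θ + (-(d : ℤ)) • indFun K θ')) = 0 := by
      rw [hσa, Helper74.classInner_add_right, classInner_zsmul_right, classInner_zsmul_right,
        classInner_zsmul_left, classInner_zsmul_left, hyσ _ hχX, hyσ _ hχ'X]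
      simp
    rw [hσα _ hamem] at h0
    have h1 : τ ((d' : ℤ) • indFun K θ + (-(d : ℤ)) • indFun K θ') =
        (d' : ℤ) • indFun L (indFun K θ) + (-(d : ℤ)) • indFun L (indFun K θ') := by
      show indFun L _ = _
      rw [Helper15.indFun_add, indFun_zsmul, indFun_zsmul]
    rw [h1, Helper74.classInner_add_right, classInner_zsmul_right, classInner_zsmul_right] at h0
    rw [hdeg θ hθ, hdeg θ' hθ']
    push_cast at h0
    linear_combination h0
  have hψ₁c : IsCharacter L ψ₁ := hS.isCharacter ψ₁ (hYS hψ₁)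
  obtain ⟨m, hm⟩ := isGenChar_inner_int
    (isGenChar_of_isCharacter (Helper15.isCharacter_indFun L hψ₁c)) hygen
  have hexp : classInner (indFun L (indFun K θ₁ - (charDegree θ₁ : ℤ) • ψ₁)) y =
      (starRingEnd ℂ) (classInner y (indFun L (indFun K θ₁))) - (charDegree θ₁ : ℂ) * m := by
    rw [Helper15.indFun_sub, indFun_zsmul, Helper74.classInner_sub_left, classInner_zsmul_left, hm,
      Helper74.classInner_conj_symm]
    push_cast; ring
  rw [hexp]
  rcases hsy with hirry | hirry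
  · obtain ⟨t, ht⟩ := key 1 (Or.inl rfl) (by simpa using hirry)
    rw [one_smul, hdeg θ₁ hθ₁] at ht
    refine ⟨t - m, ?_⟩
    rw [ht]
    push_cast
    simp only [map_mul, map_intCast, map_natCast]
    ring
  · obtain ⟨t, ht⟩ := key (-1) (Or.inr rfl) (by simpa using hirry)
    rw [classInner_zsmul_left, hdeg θ₁ hθ₁] at ht
    have ht' : classInner y (indFun L (indFun K θ₁)) = -((t : ℂ) * (charDegree θ₁ : ℂ)) := by
      push_cast at ht
      linear_combination -ht
    refine ⟨-t - m, ?_⟩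
    rw [ht']
    push_cast
    simp only [map_neg, map_mul, map_intCast, map_natCast]
    ring

end hdiv

section main
variable {G : Type*} [Group G] [Fintype G] (L : Subgroup G) [Fintype L] (K W : Subgroup L)
  [hK : K.Normal]

theorem arith_ineq {e t h zz : ℕ} (he : 1 ≤ e) (hth : t ^ 2 ≤ h) (hh : 2 ≤ h)
    (hz : 2 * e + 1 ≤ zz) : 2 * e * t + h < h * zz := by
  have ht : t < h := by
    by_contra hcon
    push Not at hcon
    have : h * h ≤ t ^ 2 := by
      rw [pow_two]; exact Nat.mul_le_mul hcon hcon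
    nlinarith
  have h1 : h * (2 * e + 1) ≤ h * zz := Nat.mul_le_mul_left _ hz
  nlinarith

/-- **Sibley's coherence theorem** (Peterfalvi (6.8), Frobenius case). -/
theorem sibley_frobenius (hodd : Odd (Nat.card L)) (hK1 : K ≠ ⊥) (hKtop : K ≠ ⊤)
    (hnil : Group.IsNilpotent K) (hKW' : K ⊔ W = ⊤)
    (hfpf : ∀ w ∈ W, w ≠ 1 → ∀ k ∈ K, w * k = k * w → k = 1)
    (hTI : IsTISubset ((K.map L.subtype : Subgroup G) : Set G))
    (hN : Subgroup.normalizer ((K.map L.subtype : Subgroup G) : Set G) = L) :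
    IsCoherent (inducedIrrAbove K ⊥) {1}ᶜ (fun α : L → ℂ => indFun L α) := by
  classical
  have : Fintype K := Fintype.ofFinite K
  have : Fintype (IrrCharacter K) := Helper74.irrFintype K
  have hTI' : ∀ g : G, g ∉ L → ∀ k ∈ K.map L.subtype, g * k * g⁻¹ ∈ K.map L.subtype → k = 1 := by
    intro g hg k hk hgk
    exact hTI g (by rw [hN]; exact hg) k hk hgk
  obtain ⟨R, hS⟩ := exists_coherenceSystem_of_frobenius_ti L K W hodd hK1 hKtop hKW' hfpf hTI'
  set τ : (L → ℂ) → (G → ℂ) := fun α : L → ℂ => indFun L α with hτ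
  set S := inducedIrrAbove K ⊥ with hSdef
  have hirr : ∀ χ ∈ S, IsIrrCharacter L χ := by
    rintro χ ⟨θ, hθ, hne, -, rfl⟩
    exact Helper75.fg_indFun_isIrr hKW' hfpf hθ hne
  have hsolv : Group.IsSolvable K := inferInstance
  have hH₁K : ⁅K, K⁆ < K := commutator_lt_of_solvable K hsolv hK1
  have hKL : K < ⊤ := lt_top_iff_ne_top.mpr hKtop
  have hfrob := frob_hfrob hKW' hfpf ⁅K, K⁆ (Subgroup.commutator_le_left K K)
  by_cases hpp : ∃ p m : ℕ, p.Prime ∧ Nat.card K = p ^ m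
  swap
  · have hnil' : Group.IsNilpotent (↥K ⧸ (⊥ : Subgroup L).subgroupOf K) := by
      have := hnil
      exact Group.nilpotent_of_surjective (QuotientGroup.mk' _) (QuotientGroup.mk'_surjective _)
    have hH₁ : ⁅K, K⁆ = ⁅K, K⁆ ⊔ (⊥ : Subgroup L) := (sup_bot_eq _).symm
    exact coh_chief K hsolv τ R hS hodd ⊥ bot_le hnil' ⁅K, K⁆ hH₁ hH₁K hfrob
      (Or.inr (Or.inr (Or.inl (by
        rw [Subgroup.relIndex_bot_left]
        exact hpp))))
  obtain ⟨p, m, hp, hKcard⟩ := hpp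
  have hpf : Fact p.Prime := ⟨hp⟩
  have hm0 : m ≠ 0 := by
    rintro rfl
    rw [pow_zero] at hKcard
    exact hK1 (Subgroup.eq_bot_of_card_eq K hKcard)
  have hpK : p ∣ Nat.card K := by rw [hKcard]; exact dvd_pow_self p hm0
  have hpodd : Odd p := Odd.of_dvd_nat hodd (hpK.trans (Subgroup.card_subgroup_dvd_card K))
  have hp3 : 3 ≤ p := by
    have h2 := hp.two_le
    rcases hpodd with ⟨k, hk⟩
    omega
  have hd := frobenius_index_dvd K ⁅K, K⁆ K le_rfl hH₁K.le le_rfl hfrob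
  have hr : (⁅K, K⁆).relIndex K ∣ p ^ m := by
    rw [← hKcard]; exact Subgroup.relIndex_dvd_card _ K
  obtain ⟨j, -, hj⟩ := (Nat.dvd_prime_pow hp).mp hr
  have hj0 : j ≠ 0 := by
    rintro rfl
    rw [pow_zero] at hj
    exact (not_le_of_gt hH₁K) (Subgroup.relIndex_eq_one.mp hj)
  have hnpe : ¬ p ∣ K.index := by
    intro hpe
    have h1 : p ∣ (⁅K, K⁆).relIndex K - 1 := hpe.trans hd
    have h2 : p ∣ (⁅K, K⁆).relIndex K := by rw [hj]; exact dvd_pow_self p hj0
    have h3 : 0 < (⁅K, K⁆).relIndex K := by rw [hj]; positivity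
    have h4 : p ∣ 1 := by
      have := (Nat.dvd_sub h2 h1)
      rwa [Nat.sub_sub_self h3] at this
    exact hp.one_lt.ne' (Nat.dvd_one.mp h4)
  have hcop : Nat.Coprime K.index p := by
    rw [Nat.coprime_comm, hp.coprime_iff_not_dvd]; exact hnpe
  by_cases hab : ⁅K, K⁆ = ⊥
  · have h := coh_of_commutator_le K hsolv τ R hS ⊥ (by rw [hab]) (bot_lt_iff_ne_bot.mpr hK1)
    exact h
  -- the nonabelian p-group case
  set Z := zOf K with hZdef
  have hZK : Z ≤ K := zOf_le K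
  have hZK' : Z ≤ ⁅K, K⁆ := zOf_le_commutator K
  have hZc : ∀ z ∈ Z, ∀ k ∈ K, z * k = k * z := zOf_central K
  have hZ1 : Z ≠ ⊥ := zOf_ne_bot K hab
  set X := S \ inducedIrrAbove K Z with hXdef
  set Y := inducedIrrAbove K ⁅K, K⁆ with hYdef
  have hXcoh : IsCoherent X {1}ᶜ τ :=
    coh_central_pgroup K τ R hS Z hZ1 hZK hZc (fun χ hχ => hirr χ hχ.1) p m hp hp3 hKcard hcop
  have hYcoh : IsCoherent Y {1}ᶜ τ := coh_of_commutator_le K hsolv τ R hS ⁅K, K⁆ le_rfl hH₁K
  have hXS : X ⊆ S := Set.sdiff_subset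
  have hYS : Y ⊆ S := inducedIrrAbove_subset_bot K _
  have hYZ : Y ⊆ inducedIrrAbove K Z := inducedIrrAbove_anti K hZK'
  have hXY : Disjoint X Y := by
    rw [Set.disjoint_left]
    intro a ha hb
    exact ha.2 (hYZ hb)
  have hXc : ∀ χ ∈ X, conjFun χ ∈ X ∧ conjFun χ ≠ χ := fun χ hχ =>
    ⟨diff_conj_mem K Z hχ, hS.conj_ne χ hχ.1⟩
  have hYc : ∀ ψ ∈ Y, conjFun ψ ∈ Y ∧ conjFun ψ ≠ ψ := fun ψ hψ =>
    ⟨inducedIrrAbove_conj_mem K hψ, hS.conj_ne ψ (hYS hψ)⟩
  have hYdeg : ∀ ψ ∈ Y, ψ 1 = (K.index : ℂ) := by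
    rintro φ ⟨θ, hθ, -, hker, rfl⟩
    rw [Helper15.indFun_apply_one, apply_one_eq_one_of_commutator_le K ⁅K, K⁆ le_rfl θ hθ hker,
      mul_one]
  have hKidx : 0 < K.index := Nat.pos_of_ne_zero (Subgroup.index_ne_zero_of_finite)
  set c : (L → ℂ) → ℕ := fun χ => charDegree χ / K.index with hc
  have hcind : ∀ θ : K → ℂ, IsIrrCharacter K θ → c (indFun K θ) = charDegree θ := by
    intro θ hθ
    simp only [hc]
    rw [Helper80.charDegree_indFun K (Helper80.IsIrrCharacter.isCharacter hθ),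
      Nat.mul_div_cancel_left _ hKidx]
  have hXdeg : ∀ χ ∈ X, χ 1 = (c χ : ℂ) * (K.index : ℂ) := by
    intro χ hχ
    obtain ⟨θ, hθ, -, rfl⟩ := exists_of_mem_diff K Z hχ
    rw [hcind θ hθ, Helper15.indFun_apply_one,
      ← Helper80.IsCharacter.charDegree_cast (Helper80.IsIrrCharacter.isCharacter hθ)]
    ring
  have hc2 : ∀ χ ∈ X, 2 ≤ c χ := by
    intro χ hχ
    obtain ⟨θ, hθ, hθZ, rfl⟩ := exists_of_mem_diff K Z hχ
    rw [hcind θ hθ]
    exact two_le_charDegree_of_nontrivial_on_zOf K hθ hθZ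
  obtain ⟨χ₁, hχ₁⟩ := diff_nonempty K Z hZ1 hZK
  obtain ⟨ψ₁, hψ₁, hψ₁deg⟩ := exists_mem_inducedIrrAbove_linear K ⁅K, K⁆ hsolv hH₁K
  -- the Sylow subgroup
  have hpK' : IsPGroup p K := IsPGroup.of_card hKcard
  obtain ⟨P, hP⟩ := exists_sylow_eq_of_normalizer p L K hN hpK' hnpe
  have hTIP : IsTISubset ((P : Subgroup G) : Set G) := by rw [hP]; exact hTI
  have hNP : Subgroup.normalizer ((P : Subgroup G) : Set G) = L := by rw [hP]; exact hN
  have hglue : IsCoherent (X ∪ Y) {1}ᶜ τ := by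
    apply sibley_glue S X Y hirr hXS hYS hXY hXc hYc τ hS.isometry hS.map_one hXcoh hYcoh
      K.index hYdeg c hXdeg hc2 hχ₁ hψ₁
    intro τ₁ hτ₁ hτ₁α
    obtain ⟨θ₁, hθ₁, hθ₁Z, hχ₁eq⟩ := exists_of_mem_diff K Z hχ₁
    have := sibley_hdiv L K R hS hirr Z hZK hZc hZ1 p P hP hTIP hNP hodd Y hYZ hYc hXcoh τ₁ hτ₁
      hτ₁α hψ₁ θ₁ hθ₁ hθ₁Z
    rw [hχ₁eq, hcind θ₁ hθ₁]
    exact this
  -- extend to all of S
  apply sibley_extend K τ R hS Z hZK (X ∪ Y) (Set.union_subset hXS hYS) Set.subset_union_left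
    ?_ hglue ψ₁ (Or.inr hψ₁) hψ₁deg
  · intro θ hθ hθZ
    have h1 : Nat.card K = Z.relIndex K * Nat.card Z := card_eq_relIndex_mul_card hZK
    rw [h1]
    apply arith_ineq hKidx
    · -- θ(1)² ≤ |K : Z|
      have h2 := Helper80.IsIrrCharacter.charDegree_sq_le_index_center hθ
      refine h2.trans ?_
      have h3 : Z.subgroupOf K ≤ Subgroup.center K := by
        intro a ha
        rw [Subgroup.mem_center_iff]
        intro b
        apply Subtype.ext
        have := hZc a (Subgroup.mem_subgroupOf.mp ha) b b.2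
        simpa using this.symm
      exact Nat.le_of_dvd (Nat.pos_of_ne_zero Subgroup.index_ne_zero_of_finite)
        (Subgroup.index_dvd_of_le h3)
    · -- 2 ≤ |K : Z|
      have h3 : Z.relIndex K ≠ 0 := by
        rw [Subgroup.relIndex]; exact Subgroup.index_ne_zero_of_finite
      have h4 : Z.relIndex K ≠ 1 := by
        intro h
        have := Subgroup.relIndex_eq_one.mp h
        exact (not_le_of_gt hH₁K) (this.trans hZK')
      omega
    · -- 2e + 1 ≤ |Z|
      have hoddK : Odd K.index := Odd.of_dvd_nat hodd (Subgroup.index_dvd_card K)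
      have hoddZ : Odd (Nat.card Z) := Odd.of_dvd_nat hodd (Subgroup.card_subgroup_dvd_card Z)
      exact two_mul_add_one_le hoddK hoddZ (Z.one_lt_card_iff_ne_bot.mpr hZ1)
        (frob_index_dvd_central hKW' hfpf Z hZK hZc)
  · intro φ hφ
    rcases hφ with hφ | hφ
    · exact Or.inl (hXc φ hφ).1
    · exact Or.inr (hYc φ hφ).1

end main

end Cfsg.Agent.Helper25
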