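import Mathlib
import Cfsg.Agent.Helper25.NilpSplit
import Cfsg.Agent.Helper25.FrobKernel
import Cfsg.Agent.Helper25.Sibley7

/-!
# Coherence for a Frobenius kernel that splits as a direct product

`coh_of_split`: let `K ⊴ L` be nilpotent, a Frobenius kernel in the sense that no element outside
`K` centralizes a nonidentity element of a section `K/A` (`A ⊴ L`), and suppose `K = P × Q` with
`P, Q` nontrivial normal subgroups of `L`.  Then `S = inducedIrrAbove K ⊥` is coherent for every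
linear isometry `τ` on `ℤ[S, L^#]` with values vanishing at `1`.
-/

set_option autoImplicit false

namespace Cfsg.Agent.Helper25

open Cfsg
open scoped commutatorElement

section elementary
variable {L : Type*} [Group L]

theorem mem_right_of_mem_sup {P Q P₁ Q₁ : Subgroup L} [P₁.Normal] (hPQ : P ⊓ Q = ⊥)
    (hP₁ : P₁ ≤ P) (hQ₁ : Q₁ ≤ Q) {x : L} (hx : x ∈ P₁ ⊔ Q₁) (hxQ : x ∈ Q) : x ∈ Q₁ := by
  obtain ⟨a, ha, b, hb, rfl⟩ := Subgroup.mem_sup_of_normal_left.mp hx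
  have haQ : a ∈ Q := by
    have : a = (a * b) * b⁻¹ := by group
    rw [this]; exact Q.mul_mem hxQ (Q.inv_mem (hQ₁ hb))
  have ha1 : a = 1 := by
    have : a ∈ P ⊓ Q := ⟨hP₁ ha, haQ⟩
    rwa [hPQ, Subgroup.mem_bot] at this
  rw [ha1, one_mul]; exact hb

theorem mem_left_of_mem_sup {P Q P₁ Q₁ : Subgroup L} [P₁.Normal] (hPQ : P ⊓ Q = ⊥)
    (hP₁ : P₁ ≤ P) (hQ₁ : Q₁ ≤ Q) {x : L} (hx : x ∈ P₁ ⊔ Q₁) (hxP : x ∈ P) : x ∈ P₁ := by
  obtain ⟨a, ha, b, hb, rfl⟩ := Subgroup.mem_sup_of_normal_left.mp hx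
  have hbP : b ∈ P := by
    have : b = a⁻¹ * (a * b) := by group
    rw [this]; exact P.mul_mem (P.inv_mem (hP₁ ha)) hxP
  have hb1 : b = 1 := by
    have : b ∈ P ⊓ Q := ⟨hbP, hQ₁ hb⟩
    rwa [hPQ, Subgroup.mem_bot] at this
  rw [hb1, mul_one]; exact ha

theorem commutatorElement_mul_mul_of_commute {a a' b b' : L}
    (hc : ∀ x ∈ ({a, a', a⁻¹, a'⁻¹} : Set L), ∀ y ∈ Subgroup.closure ({b, b'} : Set L),
      x * y = y * x) :
    ⁅a * b, a' * b'⁆ = ⁅a, a'⁆ * ⁅b, b'⁆ := by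
  have hb : b ∈ Subgroup.closure ({b, b'} : Set L) := Subgroup.subset_closure (by simp)
  have hb' : b' ∈ Subgroup.closure ({b, b'} : Set L) := Subgroup.subset_closure (by simp)
  have e1 : a' * b = b * a' := hc a' (by simp) b hb
  have hcm : b * b' * b⁻¹ ∈ Subgroup.closure ({b, b'} : Set L) :=
    Subgroup.mul_mem _ (Subgroup.mul_mem _ hb hb') (Subgroup.inv_mem _ hb)
  have e2 : a⁻¹ * (b * b' * b⁻¹) = (b * b' * b⁻¹) * a⁻¹ := hc a⁻¹ (by simp) _ hcm
  have hdm : b * b' * b⁻¹ * b'⁻¹ ∈ Subgroup.closure ({b, b'} : Set L) :=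
    Subgroup.mul_mem _ hcm (Subgroup.inv_mem _ hb')
  have e3 : a'⁻¹ * (b * b' * b⁻¹ * b'⁻¹) = (b * b' * b⁻¹ * b'⁻¹) * a'⁻¹ :=
    hc a'⁻¹ (by simp) _ hdm
  simp only [commutatorElement_def]
  calc a * b * (a' * b') * (a * b)⁻¹ * (a' * b')⁻¹
      = a * (b * a') * b' * b⁻¹ * a⁻¹ * b'⁻¹ * a'⁻¹ := by group
    _ = a * (a' * b) * b' * b⁻¹ * a⁻¹ * b'⁻¹ * a'⁻¹ := by rw [e1]
    _ = a * a' * ((b * b' * b⁻¹) * a⁻¹) * b'⁻¹ * a'⁻¹ := by group
    _ = a * a' * (a⁻¹ * (b * b' * b⁻¹)) * b'⁻¹ * a'⁻¹ := by rw [e2]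
    _ = a * a' * a⁻¹ * ((b * b' * b⁻¹ * b'⁻¹) * a'⁻¹) := by group
    _ = a * a' * a⁻¹ * (a'⁻¹ * (b * b' * b⁻¹ * b'⁻¹)) := by rw [e3]
    _ = a * a' * a⁻¹ * a'⁻¹ * (b * b' * b⁻¹ * b'⁻¹) := by group

end elementary

section split
variable {L : Type*} [Group L] {K P Q : Subgroup L} [P.Normal] [Q.Normal]

theorem split_commute (hPQ : P ⊓ Q = ⊥) : ∀ a ∈ P, ∀ b ∈ Q, a * b = b * a := by
  intro a ha b hb
  exact Subgroup.commute_of_normal_of_disjoint P Q inferInstance inferInstance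
    (disjoint_iff.mpr hPQ) a b ha hb

theorem split_commutator_le (hPQ : P ⊓ Q = ⊥) (hsup : P ⊔ Q = K) :
    ⁅K, K⁆ ≤ ⁅P, P⁆ ⊔ ⁅Q, Q⁆ := by
  rw [Subgroup.commutator_le]
  intro g₁ hg₁ g₂ hg₂
  rw [← hsup] at hg₁ hg₂
  obtain ⟨a, ha, b, hb, rfl⟩ := Subgroup.mem_sup_of_normal_left.mp hg₁
  obtain ⟨a', ha', b', hb', rfl⟩ := Subgroup.mem_sup_of_normal_left.mp hg₂
  rw [commutatorElement_mul_mul_of_commute]
  · exact Subgroup.mul_mem _ (Subgroup.mem_sup_left (Subgroup.commutator_mem_commutator ha ha'))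
      (Subgroup.mem_sup_right (Subgroup.commutator_mem_commutator hb hb'))
  · intro x hx y hy
    have hxP : x ∈ P := by
      rcases hx with rfl | rfl | rfl | hx
      · exact ha
      · exact ha'
      · exact P.inv_mem ha
      · rw [Set.mem_singleton_iff] at hx
        rw [hx]; exact P.inv_mem ha'
    have hyQ : y ∈ Q := by
      have : Subgroup.closure ({b, b'} : Set L) ≤ Q := by
        rw [Subgroup.closure_le]
        intro z hz
        rcases hz with rfl | hz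
        · exact hb
        · rw [Set.mem_singleton_iff] at hz
          rw [hz]; exact hb'
      exact this hy
    exact split_commute hPQ x hxP y hyQ

end split

section main
variable {L : Type*} [Group L] [Fintype L] {G : Type*} [Group G] [Fintype G]

/-- In a Frobenius kernel, `X < D < K` (normal in `L`) gives the inequality needed in
`coh_descend`. -/
theorem hbig_of_lt (K X D : Subgroup L) [K.Normal] [X.Normal] [D.Normal] (hXD : X < D)
    (hDK : D < K)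
    (hfrob : ∀ A : Subgroup L, A.Normal → A ≤ K →
      ∀ k ∈ K, k ∉ A → ∀ x : L, x * k * x⁻¹ * k⁻¹ ∈ A → x ∈ K) :
    4 * K.index ^ 2 * D.relIndex K < (X.relIndex K - 1) ^ 2 := by
  have hu := succ_index_le_relIndex K X D hXD hDK.le
    (hfrob X inferInstance (hXD.le.trans hDK.le))
  have hy := succ_index_le_relIndex K D K hDK le_rfl (hfrob D inferInstance hDK.le)
  have hmul : X.relIndex K = X.relIndex D * D.relIndex K :=
    (Subgroup.relIndex_mul_relIndex X D K hXD.le hDK.le).symm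
  rw [hmul]
  exact frob_arith K.index (D.relIndex K) (X.relIndex D)
    (Nat.pos_of_ne_zero Subgroup.index_ne_zero_of_finite) hy hu

theorem coh_of_split (K : Subgroup L) [K.Normal] (hnil : Group.IsNilpotent K)
    (hirr : ∀ χ ∈ inducedIrrAbove K ⊥, IsIrrCharacter L χ)
    (τ : (L → ℂ) → (G → ℂ))
    (hτ : IsLinearIsometryOn (zspanOn (inducedIrrAbove K ⊥) {1}ᶜ) τ)
    (hτ1 : ∀ α ∈ zspanOn (inducedIrrAbove K ⊥) {1}ᶜ, τ α 1 = 0)
    (hfrob : ∀ A : Subgroup L, A.Normal → A ≤ K →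
      ∀ k ∈ K, k ∉ A → ∀ x : L, x * k * x⁻¹ * k⁻¹ ∈ A → x ∈ K)
    (P Q : Subgroup L) [P.Normal] [Q.Normal] (hP : P ≠ ⊥) (hQ : Q ≠ ⊥) (hPQ : P ⊓ Q = ⊥)
    (hsup : P ⊔ Q = K) :
    IsCoherent (inducedIrrAbove K ⊥) {1}ᶜ τ := by
  classical
  have hPK : P ≤ K := hsup ▸ le_sup_left
  have hQK : Q ≤ K := hsup ▸ le_sup_right
  have hsolvK : Group.IsSolvable K := inferInstance
  have hsolvP : Group.IsSolvable P :=
    Group.isSolvable_of_isSolvable_injective (Subgroup.inclusion_injective hPK)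
  have hsolvQ : Group.IsSolvable Q :=
    Group.isSolvable_of_isSolvable_injective (Subgroup.inclusion_injective hQK)
  have hP' : ⁅P, P⁆ < P := commutator_lt_of_solvable P hsolvP hP
  have hQ' : ⁅Q, Q⁆ < Q := commutator_lt_of_solvable Q hsolvQ hQ
  have hK'le : ⁅K, K⁆ ≤ ⁅P, P⁆ ⊔ ⁅Q, Q⁆ := split_commutator_le hPQ hsup
  -- strictness
  have hs1 : ⁅P, P⁆ ⊔ Q < K := by
    refine lt_of_le_of_ne (sup_le (hP'.le.trans hPK) hQK) ?_
    intro h
    apply not_le_of_gt hP'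
    intro x hx
    exact mem_left_of_mem_sup hPQ hP'.le le_rfl (h ▸ hPK hx) hx
  have hs2 : P ⊔ ⁅Q, Q⁆ < K := by
    refine lt_of_le_of_ne (sup_le hPK (hQ'.le.trans hQK)) ?_
    intro h
    apply not_le_of_gt hQ'
    intro x hx
    exact mem_right_of_mem_sup hPQ le_rfl hQ'.le (h ▸ hQK hx) hx
  have hs3 : ⁅P, P⁆ ⊔ ⁅Q, Q⁆ < ⁅P, P⁆ ⊔ Q := by
    refine lt_of_le_of_ne (sup_le_sup_left hQ'.le _) ?_
    intro h
    apply not_le_of_gt hQ'
    intro x hx
    exact mem_right_of_mem_sup hPQ hP'.le hQ'.le (h ▸ Subgroup.mem_sup_right hx) hx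
  have hK'K : ⁅K, K⁆ < K := lt_of_le_of_lt hK'le (hs3.trans hs1)
  -- base
  have hbase : IsCoherent (inducedIrrAbove K ⁅K, K⁆) {1}ᶜ τ := by
    apply coh_linear_base K hirr τ hτ hτ1 ⁅K, K⁆ le_rfl
    have h1 := succ_index_le_relIndex K (⁅P, P⁆ ⊔ ⁅Q, Q⁆) (⁅P, P⁆ ⊔ Q) hs3 hs1.le
      (hfrob _ inferInstance (hs3.le.trans hs1.le))
    have h2 := succ_index_le_relIndex K (⁅P, P⁆ ⊔ Q) K hs1 le_rfl (hfrob _ inferInstance hs1.le)
    have h3 : (⁅P, P⁆ ⊔ ⁅Q, Q⁆).relIndex K =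
        (⁅P, P⁆ ⊔ ⁅Q, Q⁆).relIndex (⁅P, P⁆ ⊔ Q) * (⁅P, P⁆ ⊔ Q).relIndex K :=
      (Subgroup.relIndex_mul_relIndex _ _ _ hs3.le hs1.le).symm
    have h4 : (⁅P, P⁆ ⊔ ⁅Q, Q⁆).relIndex K ∣ (⁅K, K⁆).relIndex K :=
      Subgroup.relIndex_dvd_of_le_left K hK'le
    have h5 : (⁅P, P⁆ ⊔ ⁅Q, Q⁆).relIndex K ≤ (⁅K, K⁆).relIndex K :=
      Nat.le_of_dvd (Nat.pos_of_ne_zero (by
        rw [Subgroup.relIndex]; exact Subgroup.index_ne_zero_of_finite)) h4
    have h6 : (K.index + 1) * (K.index + 1) ≤ (⁅P, P⁆ ⊔ ⁅Q, Q⁆).relIndex K := by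
      rw [h3]; exact Nat.mul_le_mul h1 h2
    have he0 : 0 < K.index := Nat.pos_of_ne_zero Subgroup.index_ne_zero_of_finite
    nlinarith
  -- stage 1: down to `[Q, Q]`
  have hstage1 : IsCoherent (inducedIrrAbove K ⁅Q, Q⁆) {1}ᶜ τ := by
    apply coh_descend K hnil hirr τ hτ hτ1 ⁅Q, Q⁆ ⁅K, K⁆ Q (Subgroup.commutator_mono hQK hQK)
      hK'K hQK ?_ hbase ?_
    · intro z hz y hy
      rw [← hsup] at hy
      obtain ⟨a, ha, b, hb, rfl⟩ := Subgroup.mem_sup_of_normal_left.mp hy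
      have e1 : z * a = a * z := (split_commute hPQ a ha z hz).symm
      have hc : z * b * z⁻¹ * b⁻¹ ∈ Q :=
        Q.mul_mem (Q.mul_mem (Q.mul_mem hz hb) (Q.inv_mem hz)) (Q.inv_mem hb)
      have e2 : a * (z * b * z⁻¹ * b⁻¹) = (z * b * z⁻¹ * b⁻¹) * a := split_commute hPQ a ha _ hc
      have e3 : z * (a * b) * z⁻¹ * (a * b)⁻¹ = z * b * z⁻¹ * b⁻¹ := by
        calc z * (a * b) * z⁻¹ * (a * b)⁻¹ = (z * a) * b * z⁻¹ * b⁻¹ * a⁻¹ := by group
          _ = (a * z) * b * z⁻¹ * b⁻¹ * a⁻¹ := by rw [e1]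
          _ = (a * (z * b * z⁻¹ * b⁻¹)) * a⁻¹ := by group
          _ = ((z * b * z⁻¹ * b⁻¹) * a) * a⁻¹ := by rw [e2]
          _ = z * b * z⁻¹ * b⁻¹ := by group
      rw [e3]
      have := Subgroup.commutator_mem_commutator hz hb
      rwa [commutatorElement_def] at this
    · intro X hXn hQX hXK'
      have := hXn
      apply hbig_of_lt K X (X ⊔ Q) ?_ ?_ hfrob
      · refine lt_of_le_of_ne le_sup_left ?_
        intro h
        apply not_le_of_gt hQ'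
        intro x hx
        have hxX : x ∈ X := h ▸ Subgroup.mem_sup_right hx
        exact mem_right_of_mem_sup hPQ hP'.le hQ'.le (hK'le (hXK' hxX)) hx
      · refine lt_of_le_of_lt ?_ hs1
        apply sup_le _ le_sup_right
        exact (hXK'.trans hK'le).trans (sup_le_sup_left hQ'.le _)
  -- stage 2: down to `⊥`
  set ZP : Subgroup L := (Subgroup.center P).map P.subtype with hZP
  have hZPn : ZP.Normal := by rw [hZP]; infer_instance
  have hZPP : ZP ≤ P := Subgroup.map_subtype_le _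
  have hZPne : ZP ≠ ⊥ := by
    have hnilK : Group.IsNilpotent (P.subgroupOf K) := inferInstance
    have hnilP : Group.IsNilpotent P :=
      (Group.isNilpotent_congr (Subgroup.subgroupOfEquivOfLe hPK)).mp hnilK
    have hnt : Nontrivial P := (Subgroup.nontrivial_iff_ne_bot P).mpr hP
    have h1 := Cfsg.Agent.Lib.normal_inf_center_ne_bot (⊤ : Subgroup P) top_ne_bot
    rw [top_inf_eq] at h1
    intro h
    exact h1 ((Subgroup.map_eq_bot_iff_of_injective _ P.subtype_injective).mp h)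
  apply coh_descend K hnil hirr τ hτ hτ1 ⊥ ⁅Q, Q⁆ ZP bot_le (hQ'.trans_le hQK)
    (hZPP.trans hPK) ?_ hstage1 ?_
  · intro z hz y hy
    rw [← hsup] at hy
    obtain ⟨a, ha, b, hb, rfl⟩ := Subgroup.mem_sup_of_normal_left.mp hy
    obtain ⟨z', hz', rfl⟩ := hz
    have h1 := Subgroup.mem_center_iff.mp hz' ⟨a, ha⟩
    have e1 : a * (z' : L) = (z' : L) * a := by
      have := congrArg (fun t : P => (t : L)) h1
      simpa using this
    have e2 : (z' : L) * b = b * (z' : L) := split_commute hPQ _ z'.2 b hb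
    rw [Subgroup.mem_bot]
    show (z' : L) * (a * b) * (z' : L)⁻¹ * (a * b)⁻¹ = 1
    calc (z' : L) * (a * b) * (z' : L)⁻¹ * (a * b)⁻¹
        = ((z' : L) * a) * b * (z' : L)⁻¹ * b⁻¹ * a⁻¹ := by group
      _ = (a * (z' : L)) * b * (z' : L)⁻¹ * b⁻¹ * a⁻¹ := by rw [e1]
      _ = a * ((z' : L) * b) * (z' : L)⁻¹ * b⁻¹ * a⁻¹ := by group
      _ = a * (b * (z' : L)) * (z' : L)⁻¹ * b⁻¹ * a⁻¹ := by rw [e2]
      _ = 1 := by group
  · intro X hXn _ hXQ'
    have := hXn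
    apply hbig_of_lt K X (X ⊔ ZP) ?_ ?_ hfrob
    · refine lt_of_le_of_ne le_sup_left ?_
      intro h
      apply hZPne
      rw [eq_bot_iff, ← hPQ]
      intro x hx
      have hxX : x ∈ X := h ▸ Subgroup.mem_sup_right hx
      exact ⟨hZPP hx, hQ'.le (hXQ' hxX)⟩
    · refine lt_of_le_of_lt ?_ hs2
      exact sup_le (hXQ'.trans le_sup_right) (hZPP.trans le_sup_left)

end main

end Cfsg.Agent.Helper25
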