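import Cfsg.Agent.Helper25.DT_INDCore
import Cfsg.Agent.Helper24.DT_AC
import Cfsg.Agent.Helper55.DT_INb
import Cfsg.Agent.Helper48.DT_INa
import Cfsg.Agent.Helper69.DT_INc

/-!
# DT farm (helper16 #13881), pieces (IND) and (INJ)

Brauer characters of pairwise inequivalent irreducible matrix representations over the residue
field are linearly independent over `ℂ`; irreducible matrix representations with the same Brauer
character are equivalent.  Statements verbatim from `tools/helper16_dt/Skel.lean.txt`.
-/

set_option autoImplicit false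
set_option linter.unusedSectionVars false
set_option linter.unusedVariables false

namespace Cfsg.Agent.Helper25.DT

open Cfsg Cfsg.Agent.Helper16 Cfsg.Agent.Helper16.DT Polynomial Matrix

universe u v w

section Res

variable {p : ℕ} [Fact p.Prime] {M : Ideal AlgInt} [M.IsMaximal] {G : Type u} [Group G]

/-- (IND) Brauer characters of pairwise inequivalent irreducible matrix representations are linearly
independent. -/
theorem brauerChar_linearIndependent (hpM : (p : AlgInt) ∈ M) [Fintype G] {r : ℕ} (d : Fin r → ℕ)
    (ρ : ∀ i, G →* Matrix (Fin (d i)) (Fin (d i)) (AlgInt ⧸ M)) (hirr : ∀ i, IsIrredMat (ρ i))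
    (hne : ∀ i j, i ≠ j → ¬ MatEquiv (ρ i) (ρ j)) :
    LinearIndependent ℂ (fun i => brauerChar p M (ρ i)) := by
  have hAC : IsAlgClosed (AlgInt ⧸ M) := Cfsg.Agent.Helper24.DT.isAlgClosed_res M
  have hCP : CharP (AlgInt ⧸ M) p := Cfsg.Agent.Helper24.DT.charP_res M hpM
  exact brauerChar_linearIndependent_of d ρ hirr hne
    (fun c hc => Cfsg.Agent.Helper48.DT.trace_indep_pRegular (p := p) d ρ hirr hne c hc)
    (fun i g => Cfsg.Agent.Helper55.DT.resC_bfull hpM (ρ i g))
    (fun v hv h => Cfsg.Agent.Helper69.DT.linearIndependent_of_resC v hv h)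

/-- (INJ) irreducible matrix representations with the same Brauer character are equivalent:
otherwise IND with `r = 2` makes the two Brauer characters linearly independent. -/
theorem matEquiv_of_brauerChar_eq (hpM : (p : AlgInt) ∈ M) [Fintype G] {m n : ℕ}
    (ρ : G →* Matrix (Fin m) (Fin m) (AlgInt ⧸ M)) (σ : G →* Matrix (Fin n) (Fin n) (AlgInt ⧸ M))
    (hρ : IsIrredMat ρ) (hσ : IsIrredMat σ) (h : brauerChar p M ρ = brauerChar p M σ) :
    MatEquiv ρ σ :=
  matEquiv_of_brauerChar_eq_of ρ σ hρ hσ h
    (fun hirr hne => brauerChar_linearIndependent hpM (d2 m n) (rho2 ρ σ) hirr hne)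

end Res

end Cfsg.Agent.Helper25.DT
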