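import Mathlib
import Cfsg.Prelude.Def_OddOrderChar
import Cfsg.Agent.Helper25.HallMem
import Cfsg.Agent.Helper25.CoprimePow

set_option autoImplicit false

/-! Basic consequences of the Dade hypothesis: uniqueness of the decomposition `a * u`,
conjugation of the groups `H a`, and the count of the elements conjugating `a` into `A`. -/

namespace Cfsg.Agent.Helper25

open Cfsg

variable {G : Type*} [Group G] [Finite G] {A : Set G} {L : Subgroup G} {H : G → Subgroup G}

theorem dade_commute (hD : DadeHypothesis A L H) {a u : G} (ha : a ∈ A) (hu : u ∈ H a) :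
    Commute a u := by
  have := hD.le_centralizer a ha hu
  rw [Subgroup.mem_centralizer_singleton_iff] at this
  exact this.symm

theorem dade_pow_card (hD : DadeHypothesis A L H) {a : G} (ha : a ∈ A) :
    a ^ Nat.card ↥(L ⊓ Subgroup.centralizer ({a} : Set G)) = 1 := by
  have hmem : a ∈ L ⊓ Subgroup.centralizer ({a} : Set G) := by
    refine Subgroup.mem_inf.mpr ⟨hD.subset ha, ?_⟩
    rw [Subgroup.mem_centralizer_singleton_iff]
  exact orderOf_dvd_iff_pow_eq_one.mp (Subgroup.orderOf_dvd_natCard _ hmem)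

/-- Key lemma: conjugacy of `a * u` and `b * v` forces conjugacy of the components. -/
theorem dade_key (hD : DadeHypothesis A L H) {a b u v g : G} (ha : a ∈ A) (hb : b ∈ A)
    (hu : u ∈ H a) (hv : v ∈ H b) (hg : g * (a * u) * g⁻¹ = b * v) :
    g * a * g⁻¹ = b ∧ g * u * g⁻¹ = v := by
  have hordH : ∀ c : G, ∀ u ∈ H c, u ^ Nat.card ↥(H c) = 1 := by
    intro c u hu
    exact orderOf_dvd_iff_pow_eq_one.mp (Subgroup.orderOf_dvd_natCard _ hu)
  set ma := Nat.card ↥(L ⊓ Subgroup.centralizer ({a} : Set G)) with hma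
  set mb := Nat.card ↥(L ⊓ Subgroup.centralizer ({b} : Set G)) with hmb
  set na := Nat.card ↥(H a) with hna
  set nb := Nat.card ↥(H b) with hnb
  have hcop : Nat.Coprime (ma * mb) (na * nb) := by
    apply Nat.Coprime.mul_left
    · apply Nat.Coprime.mul_right
      · exact (hD.coprime a ha a ha).symm
      · exact (hD.coprime b hb a ha).symm
    · apply Nat.Coprime.mul_right
      · exact (hD.coprime a ha b hb).symm
      · exact (hD.coprime b hb b hb).symm
  obtain ⟨k, hk1, hk0⟩ := exists_modEq_one_zero hcop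
  have h1 : (a * u) ^ k = a :=
    mul_pow_eq_left_of_modEq (dade_commute hD ha hu) (dade_pow_card hD ha) (hordH a u hu)
      (hk1.of_dvd (dvd_mul_right _ _)) (hk0.of_dvd (dvd_mul_right _ _))
  have h2 : (b * v) ^ k = b :=
    mul_pow_eq_left_of_modEq (dade_commute hD hb hv) (dade_pow_card hD hb) (hordH b v hv)
      (hk1.of_dvd (dvd_mul_left _ _)) (hk0.of_dvd (dvd_mul_left _ _))
  have h3 : g * a * g⁻¹ = b := by
    rw [← h1, ← conj_pow', hg, h2]
  refine ⟨h3, ?_⟩
  have h4 : g * u * g⁻¹ = (g * a * g⁻¹)⁻¹ * (g * (a * u) * g⁻¹) := by group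
  rw [h4, hg, h3]
  group

/-- Uniqueness of the decomposition. -/
theorem dade_unique (hD : DadeHypothesis A L H) {a b u v : G} (ha : a ∈ A) (hb : b ∈ A)
    (hu : u ∈ H a) (hv : v ∈ H b) (h : a * u = b * v) : a = b ∧ u = v := by
  have := dade_key hD ha hb hu hv (g := 1) (by simpa using h)
  simpa using this

theorem dade_conj_mem_H (hD : DadeHypothesis A L H) {a g u : G} (ha : a ∈ A)
    (hb : g * a * g⁻¹ ∈ A) (hu : u ∈ H a) : g * u * g⁻¹ ∈ H (g * a * g⁻¹) := by
  set b := g * a * g⁻¹ with hbdef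
  have huc : u * a = a * u := (dade_commute hD ha hu).eq.symm
  have hyc : g * u * g⁻¹ ∈ Subgroup.centralizer ({b} : Set G) := by
    rw [Subgroup.mem_centralizer_singleton_iff, hbdef]
    calc g * u * g⁻¹ * (g * a * g⁻¹) = g * (u * a) * g⁻¹ := by group
      _ = g * (a * u) * g⁻¹ := by rw [huc]
      _ = g * a * g⁻¹ * (g * u * g⁻¹) := by group
  have hsup : g * u * g⁻¹ ∈ H b ⊔ (L ⊓ Subgroup.centralizer ({b} : Set G)) := by
    rw [hD.sup_eq b hb]; exact hyc
  have hnorm : L ⊓ Subgroup.centralizer ({b} : Set G) ≤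
      Subgroup.normalizer ((H b : Subgroup G) : Set G) := by
    intro c hc
    rw [Subgroup.mem_normalizer_iff]
    intro h
    constructor
    · intro hh
      exact hD.conj_mem_H b hb c hc.2 h hh
    · intro hh
      have := hD.conj_mem_H b hb c⁻¹ (Subgroup.inv_mem _ hc.2) _ hh
      simpa [mul_assoc] using this
  have hpow : (g * u * g⁻¹) ^ Nat.card ↥(H a) = 1 := by
    rw [conj_pow', orderOf_dvd_iff_pow_eq_one.mp (Subgroup.orderOf_dvd_natCard _ hu)]
    group
  exact mem_of_mem_sup_of_pow_eq_one (H b) _ hnorm (hD.inf_eq_bot b hb) hsup hpow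
    (hD.coprime a ha b hb)

theorem dade_card_H_le (hD : DadeHypothesis A L H) {a g : G} (ha : a ∈ A)
    (hb : g * a * g⁻¹ ∈ A) : Nat.card (H a) ≤ Nat.card (H (g * a * g⁻¹)) := by
  apply Nat.card_le_card_of_injective
    (fun u : H a => (⟨g * u * g⁻¹, dade_conj_mem_H hD ha hb u.2⟩ : H (g * a * g⁻¹)))
  intro u v huv
  have := congrArg Subtype.val huv
  simp only [mul_left_inj, mul_right_inj] at this
  exact Subtype.ext this

theorem dade_card_H (hD : DadeHypothesis A L H) {a g : G} (ha : a ∈ A)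
    (hb : g * a * g⁻¹ ∈ A) : Nat.card (H (g * a * g⁻¹)) = Nat.card (H a) := by
  apply le_antisymm
  · have e : g⁻¹ * (g * a * g⁻¹) * g⁻¹⁻¹ = a := by group
    have h1 := dade_card_H_le hD (a := g * a * g⁻¹) (g := g⁻¹) hb (by rw [e]; exact ha)
    rwa [e] at h1
  · exact dade_card_H_le hD ha hb

/-- The elements conjugating `a` into `A` form the set `L * H a`, of cardinality `|L| |H a|`. -/
theorem dade_count (hD : DadeHypothesis A L H) {a : G} (ha : a ∈ A) :
    Nat.card {y : G // y * a * y⁻¹ ∈ A} = Nat.card L * Nat.card (H a) := by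
  rw [← Nat.card_prod]
  symm
  have hmem : ∀ p : L × H a, (p.1 : G) * (p.2 : G) * a * ((p.1 : G) * (p.2 : G))⁻¹ ∈ A := by
    rintro ⟨l, h⟩
    have hc : (h : G) * a * (h : G)⁻¹ = a := by
      have := (dade_commute hD ha h.2).eq
      rw [← this]; group
    have e : (l : G) * (h : G) * a * ((l : G) * (h : G))⁻¹ =
        (l : G) * ((h : G) * a * (h : G)⁻¹) * (l : G)⁻¹ := by group
    show (l : G) * (h : G) * a * ((l : G) * (h : G))⁻¹ ∈ A
    rw [e, hc]
    exact hD.conj_mem l l.2 a ha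
  apply Nat.card_congr
  refine Equiv.ofBijective (fun p : L × H a => ⟨(p.1 : G) * (p.2 : G), hmem p⟩) ⟨?_, ?_⟩
  · rintro ⟨l, h⟩ ⟨l', h'⟩ heq
    have heq' : (l : G) * (h : G) = (l' : G) * (h' : G) := congrArg Subtype.val heq
    have h1 : (l' : G)⁻¹ * (l : G) = (h' : G) * (h : G)⁻¹ := by
      calc (l' : G)⁻¹ * (l : G) = (l' : G)⁻¹ * ((l : G) * (h : G)) * (h : G)⁻¹ := by group
        _ = (l' : G)⁻¹ * ((l' : G) * (h' : G)) * (h : G)⁻¹ := by rw [heq']
        _ = (h' : G) * (h : G)⁻¹ := by group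
    have h2 : (h' : G) * (h : G)⁻¹ ∈ H a := (H a).mul_mem h'.2 ((H a).inv_mem h.2)
    have h3 : (h' : G) * (h : G)⁻¹ ∈ L := by
      rw [← h1]; exact L.mul_mem (L.inv_mem l'.2) l.2
    have h4 : (h' : G) * (h : G)⁻¹ ∈ H a ⊓ (L ⊓ Subgroup.centralizer ({a} : Set G)) :=
      ⟨h2, h3, hD.le_centralizer a ha h2⟩
    rw [hD.inf_eq_bot a ha, Subgroup.mem_bot] at h4
    have h5 : (h' : G) = (h : G) := mul_inv_eq_one.mp h4
    have h6 : (l : G) = (l' : G) := by
      rw [h4] at h1
      have := inv_mul_eq_one.mp h1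
      exact this.symm
    exact Prod.ext (Subtype.ext h6) (Subtype.ext h5.symm)
  · rintro ⟨y, hy⟩
    obtain ⟨l, hl, hla⟩ := hD.fusion a ha y hy
    -- c = y⁻¹ l centralizes a
    have hc : y⁻¹ * l ∈ Subgroup.centralizer ({a} : Set G) := by
      rw [Subgroup.mem_centralizer_singleton_iff]
      calc y⁻¹ * l * a = y⁻¹ * (l * a * l⁻¹) * l := by group
        _ = y⁻¹ * (y * a * y⁻¹) * l := by rw [hla]
        _ = a * (y⁻¹ * l) := by group
    have hnorm : L ⊓ Subgroup.centralizer ({a} : Set G) ≤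
        Subgroup.normalizer ((H a : Subgroup G) : Set G) := by
      intro c hc
      rw [Subgroup.mem_normalizer_iff]
      intro h
      constructor
      · intro hh
        exact hD.conj_mem_H a ha c hc.2 h hh
      · intro hh
        have := hD.conj_mem_H a ha c⁻¹ (Subgroup.inv_mem _ hc.2) _ hh
        simpa [mul_assoc] using this
    have hc' : y⁻¹ * l ∈ ((H a ⊔ (L ⊓ Subgroup.centralizer ({a} : Set G)) : Subgroup G) : Set G) := by
      rw [hD.sup_eq a ha]; exact hc
    rw [Subgroup.coe_mul_of_right_le_normalizer_left _ _ hnorm] at hc'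
    obtain ⟨h, hh, c, hcL, hhc⟩ := hc'
    -- y⁻¹ l = h c, so y = l c⁻¹ h⁻¹
    have hy' : y = (l * c⁻¹) * h⁻¹ := by
      have : y⁻¹ * l = h * c := hhc.symm
      calc y = l * (y⁻¹ * l)⁻¹ := by group
        _ = l * (h * c)⁻¹ := by rw [this]
        _ = (l * c⁻¹) * h⁻¹ := by group
    refine ⟨(⟨l * c⁻¹, L.mul_mem hl (L.inv_mem hcL.1)⟩, ⟨h⁻¹, (H a).inv_mem hh⟩), ?_⟩
    exact Subtype.ext hy'.symm

end Cfsg.Agent.Helper25
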