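import Mathlib
import Cfsg.Prelude.Def_OddOrderChar
import Cfsg.Agent.Helper25.DadeBasic

set_option autoImplicit false

/-! The Dade map: well-definedness, class function property and the adjunction formula. -/

namespace Cfsg.Agent.Helper25

open Cfsg
open scoped ComplexConjugate

variable {G : Type*} [Group G] {A : Set G} {L : Subgroup G} {H : G → Subgroup G}

theorem dadeIsometry_apply [Finite G] (hD : DadeHypothesis A L H) {α : L → ℂ}
    (hα : IsClassFunction L α) {g x u : G} {a : L} (ha : (a : G) ∈ A) (hu : u ∈ H a)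
    (hx : x * g * x⁻¹ = a * u) : dadeIsometry A L H α g = α a := by
  classical
  have h : ∃ a : ↥L, (a : G) ∈ A ∧ ∃ x : G, ∃ u ∈ H (a : G), x * g * x⁻¹ = (a : G) * u :=
    ⟨a, ha, x, u, hu, hx⟩
  unfold dadeIsometry
  rw [dif_pos h]
  obtain ⟨ha', x', u', hu', hx'⟩ := Classical.choose_spec h
  set a' := Classical.choose h
  have hconj : (x' * x⁻¹) * ((a : G) * u) * (x' * x⁻¹)⁻¹ = (a' : G) * u' := by
    rw [← hx, ← hx']; group
  obtain ⟨h1, -⟩ := dade_key hD ha ha' hu hu' hconj
  obtain ⟨l, hl, hla⟩ := hD.fusion a ha (x' * x⁻¹) (by rw [h1]; exact ha')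
  have hcoe : a' = (⟨l, hl⟩ : L) * a * (⟨l, hl⟩ : L)⁻¹ := by
    apply Subtype.ext
    show (a' : G) = l * (a : G) * l⁻¹
    rw [hla, h1]
  rw [hcoe, hα]

theorem dadeIsometry_of_not {α : L → ℂ} {g : G}
    (h : ¬ ∃ a : ↥L, (a : G) ∈ A ∧ ∃ x : G, ∃ u ∈ H (a : G), x * g * x⁻¹ = (a : G) * u) :
    dadeIsometry A L H α g = 0 := by
  unfold dadeIsometry
  rw [dif_neg h]

theorem isClassFunction_dadeIsometry [Finite G] (hD : DadeHypothesis A L H) {α : L → ℂ}
    (hα : IsClassFunction L α) : IsClassFunction G (dadeIsometry A L H α) := by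
  intro g y
  by_cases h : ∃ a : ↥L, (a : G) ∈ A ∧ ∃ x : G, ∃ u ∈ H (a : G), x * g * x⁻¹ = (a : G) * u
  · obtain ⟨a, ha, x, u, hu, hx⟩ := h
    rw [dadeIsometry_apply hD hα ha hu hx]
    have hx' : (x * y⁻¹) * (y * g * y⁻¹) * (x * y⁻¹)⁻¹ = a * u := by
      rw [← hx]; group
    exact dadeIsometry_apply hD hα ha hu hx'
  · rw [dadeIsometry_of_not h]
    apply dadeIsometry_of_not
    rintro ⟨a, ha, x, u, hu, hx⟩
    apply h
    refine ⟨a, ha, x * y, u, hu, ?_⟩
    rw [← hx]; group

theorem finsum_mem_subgroup_eq_sum [Fintype G] (K : Subgroup G) [DecidablePred (· ∈ K)]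
    (f : G → ℂ) : ∑ᶠ u ∈ (K : Set G), f u = ∑ u : G, if u ∈ K then f u else 0 := by
  classical
  rw [finsum_mem_def, finsum_eq_sum_of_fintype]
  refine Finset.sum_congr rfl (fun u _ => ?_)
  rw [Set.indicator_apply]
  simp only [SetLike.mem_coe]

/-- The weighted triple sum used to compute with the Dade map. -/
noncomputable def dadePhi [Fintype G] (A : Set G) (L : Subgroup G) [Fintype L]
    (H : G → Subgroup G) (α : L → ℂ) (g : G) : ℂ :=
  open Classical in
  ∑ x : G, ∑ a : L, ∑ u : G,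
    if (a : G) ∈ A ∧ u ∈ H a ∧ x * g * x⁻¹ = a * u then α a / (Nat.card (H a) : ℂ) else 0

theorem dadePhi_eq [Fintype G] [Fintype L] (hD : DadeHypothesis A L H) {α : L → ℂ}
    (hα : IsClassFunction L α) (g : G) :
    dadePhi A L H α g = (Nat.card L : ℂ) * dadeIsometry A L H α g := by
  classical
  unfold dadePhi
  by_cases h : ∃ a : ↥L, (a : G) ∈ A ∧ ∃ x : G, ∃ u ∈ H (a : G), x * g * x⁻¹ = (a : G) * u
  · obtain ⟨a₀, ha₀, x₀, u₀, hu₀, hx₀⟩ := h
    rw [dadeIsometry_apply hD hα ha₀ hu₀ hx₀]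
    set c : ℂ := α a₀ / (Nat.card (H a₀) : ℂ) with hc
    -- replace weights by the constant `c`
    have hconj : ∀ x : G, (x * x₀⁻¹) * ((a₀ : G) * u₀) * (x * x₀⁻¹)⁻¹ = x * g * x⁻¹ := by
      intro x; rw [← hx₀]; group
    have hstep1 : ∀ x : G, ∀ a : L, ∀ u : G,
        (if (a : G) ∈ A ∧ u ∈ H a ∧ x * g * x⁻¹ = a * u then α a / (Nat.card (H a) : ℂ) else 0)
        = if (a : G) ∈ A ∧ u ∈ H a ∧ x * g * x⁻¹ = a * u then c else 0 := by
      intro x a u
      split_ifs with hcond
      · obtain ⟨ha, hu, hx⟩ := hcond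
        have e1 : α a = α a₀ := by
          rw [← dadeIsometry_apply hD hα ha hu hx, dadeIsometry_apply hD hα ha₀ hu₀ hx₀]
        have hk := (dade_key hD ha₀ ha hu₀ hu ((hconj x).trans hx)).1
        have e2 : Nat.card (H a) = Nat.card (H a₀) := by
          rw [← hk]
          exact dade_card_H hD ha₀ (by rw [hk]; exact ha)
        rw [hc, e1, e2]
      · rfl
    simp only [hstep1]
    -- inner double sum
    have hstep2 : ∀ x : G, (∑ a : L, ∑ u : G,
        if (a : G) ∈ A ∧ u ∈ H a ∧ x * g * x⁻¹ = a * u then c else 0) =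
        if (x * x₀⁻¹) * (a₀ : G) * (x * x₀⁻¹)⁻¹ ∈ A then c else 0 := by
      intro x
      set y := x * x₀⁻¹ with hy
      split_ifs with hP
      · have hbL : y * (a₀ : G) * y⁻¹ ∈ L := hD.subset hP
        have hv : y * u₀ * y⁻¹ ∈ H (y * (a₀ : G) * y⁻¹) := dade_conj_mem_H hD ha₀ hP hu₀
        have hxg : x * g * x⁻¹ = (y * (a₀ : G) * y⁻¹) * (y * u₀ * y⁻¹) := by
          rw [← hconj x, ← hy]; group
        rw [Finset.sum_eq_single (⟨y * (a₀ : G) * y⁻¹, hbL⟩ : L)]
        · rw [Finset.sum_eq_single (y * u₀ * y⁻¹)]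
          · rw [if_pos ⟨hP, hv, hxg⟩]
          · intro u _ hne
            rw [if_neg]
            rintro ⟨-, hu, hx⟩
            apply hne
            have : (y * (a₀ : G) * y⁻¹) * (y * u₀ * y⁻¹) = (y * (a₀ : G) * y⁻¹) * u := by
              rw [← hxg]; exact hx
            exact (mul_left_cancel this).symm
          · intro hnm; exact absurd (Finset.mem_univ _) hnm
        · intro a _ hne
          apply Finset.sum_eq_zero
          intro u _
          rw [if_neg]
          rintro ⟨ha, hu, hx⟩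
          apply hne
          have hk := (dade_key hD ha₀ ha hu₀ hu ((hconj x).trans hx)).1
          exact Subtype.ext hk.symm
        · intro hnm; exact absurd (Finset.mem_univ _) hnm
      · apply Finset.sum_eq_zero
        intro a _
        apply Finset.sum_eq_zero
        intro u _
        rw [if_neg]
        rintro ⟨ha, hu, hx⟩
        apply hP
        have hk := (dade_key hD ha₀ ha hu₀ hu ((hconj x).trans hx)).1
        rw [hk]; exact ha
    simp only [hstep2]
    -- reindex and count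
    have hstep3 : (∑ x : G, if (x * x₀⁻¹) * (a₀ : G) * (x * x₀⁻¹)⁻¹ ∈ A then c else 0) =
        ∑ y : G, if y * (a₀ : G) * y⁻¹ ∈ A then c else 0 :=
      Fintype.sum_equiv (Equiv.mulRight x₀⁻¹) _ _ (fun x => rfl)
    rw [hstep3, ← Finset.sum_filter, Finset.sum_const, nsmul_eq_mul]
    have hcard : (Finset.univ.filter (fun y : G => y * (a₀ : G) * y⁻¹ ∈ A)).card =
        Nat.card L * Nat.card (H a₀) := by
      rw [← dade_count hD ha₀, Nat.card_eq_fintype_card, Fintype.card_subtype]
    rw [hcard, hc]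
    have hH0 : (Nat.card (H a₀) : ℂ) ≠ 0 := by
      have : 0 < Nat.card (H a₀) := Nat.card_pos
      exact_mod_cast this.ne'
    push_cast
    field_simp
  · rw [dadeIsometry_of_not h, mul_zero]
    apply Finset.sum_eq_zero
    intro x _
    apply Finset.sum_eq_zero
    intro a _
    apply Finset.sum_eq_zero
    intro u _
    rw [if_neg]
    rintro ⟨ha, hu, hx⟩
    exact h ⟨a, ha, x, u, hu, hx⟩

theorem dadePhi_sum [Fintype G] [Fintype L] {α : L → ℂ}
    (hαA : ∀ x : L, (x : G) ∉ A → α x = 0) (χ : G → ℂ) (ψ : L → ℂ)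
    (hχ : IsClassFunction G χ)
    (hψ : ∀ a : L, (a : G) ∈ A →
      ψ a = (Nat.card (H a) : ℂ)⁻¹ * ∑ᶠ u ∈ (H a : Set G), χ (a * u)) :
    ∑ g : G, dadePhi A L H α g * conj (χ g) =
      (Nat.card G : ℂ) * ∑ a : L, α a * conj (ψ a) := by
  classical
  unfold dadePhi
  simp only [Finset.sum_mul]
  rw [Finset.sum_comm]
  -- now ∑ x, ∑ g, ∑ a, ∑ u
  have hx : ∀ x : G, (∑ g : G, ∑ a : L, ∑ u : G,
      (if (a : G) ∈ A ∧ u ∈ H a ∧ x * g * x⁻¹ = a * u then α a / (Nat.card (H a) : ℂ) else 0) *
        conj (χ g)) = ∑ a : L, α a * conj (ψ a) := by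
    intro x
    rw [Finset.sum_comm]
    refine Finset.sum_congr rfl (fun a _ => ?_)
    rw [Finset.sum_comm]
    by_cases ha : (a : G) ∈ A
    · -- inner sum over g
      have hin : ∀ u : G, (∑ g : G,
          (if (a : G) ∈ A ∧ u ∈ H a ∧ x * g * x⁻¹ = a * u then α a / (Nat.card (H a) : ℂ) else 0) *
            conj (χ g)) =
          if u ∈ H a then α a / (Nat.card (H a) : ℂ) * conj (χ (a * u)) else 0 := by
        intro u
        split_ifs with hu
        · rw [Finset.sum_eq_single (x⁻¹ * ((a : G) * u) * x)]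
          · rw [if_pos ⟨ha, hu, by group⟩]
            have : χ (x⁻¹ * ((a : G) * u) * x) = χ ((a : G) * u) := by
              have := hχ ((a : G) * u) x⁻¹
              simpa using this
            rw [this]
          · intro g _ hne
            rw [if_neg, zero_mul]
            rintro ⟨-, -, hxg⟩
            apply hne
            rw [← hxg]; group
          · intro hnm; exact absurd (Finset.mem_univ _) hnm
        · apply Finset.sum_eq_zero
          intro g _
          rw [if_neg, zero_mul]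
          rintro ⟨-, hu', -⟩
          exact hu hu'
      simp only [hin]
      rw [hψ a ha, finsum_mem_subgroup_eq_sum, map_mul, map_inv₀, map_natCast, map_sum,
        Finset.mul_sum, Finset.mul_sum]
      refine Finset.sum_congr rfl (fun u _ => ?_)
      split_ifs with hu
      · rw [div_eq_mul_inv]; ring
      · simp
    · rw [hαA a ha, zero_mul]
      apply Finset.sum_eq_zero
      intro u _
      apply Finset.sum_eq_zero
      intro g _
      rw [if_neg, zero_mul]
      rintro ⟨ha', -, -⟩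
      exact ha ha'
  simp only [hx]
  rw [Finset.sum_const, Finset.card_univ, nsmul_eq_mul, Nat.card_eq_fintype_card]

/-- The adjunction formula for the Dade map. -/
theorem dade_inner [Fintype G] [Fintype L] (hD : DadeHypothesis A L H) {α : L → ℂ}
    (hα : IsClassFunction L α) (hαA : ∀ x : L, (x : G) ∉ A → α x = 0) (χ : G → ℂ) (ψ : L → ℂ)
    (hχ : IsClassFunction G χ)
    (hψ : ∀ a : L, (a : G) ∈ A →
      ψ a = (Nat.card (H a) : ℂ)⁻¹ * ∑ᶠ u ∈ (H a : Set G), χ (a * u)) :
    classInner (dadeIsometry A L H α) χ = classInner α ψ := by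
  have hL0 : (Nat.card L : ℂ) ≠ 0 := by
    have : 0 < Nat.card L := Nat.card_pos
    exact_mod_cast this.ne'
  have hG0 : (Nat.card G : ℂ) ≠ 0 := by
    have : 0 < Nat.card G := Nat.card_pos
    exact_mod_cast this.ne'
  have h1 : ∀ g : G, dadeIsometry A L H α g = (Nat.card L : ℂ)⁻¹ * dadePhi A L H α g := by
    intro g
    rw [dadePhi_eq hD hα g]
    field_simp
  unfold classInner
  simp only [h1, mul_assoc]
  rw [← Finset.mul_sum, dadePhi_sum hαA χ ψ hχ hψ]
  field_simp

end Cfsg.Agent.Helper25
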