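import Mathlib
import Cfsg.Agent.Helper16.DefOneSetup
import Cfsg.Agent.Helper77.BlockOrth
import Cfsg.Agent.Helper80.CharLevel

/-!
# (VAL-a) of the defect-one engine: the sum over a fibre of `can` vanishes on `p`-singular elements
-/

set_option autoImplicit false

namespace Cfsg.Agent.Helper25.DefOneVALa

open Cfsg Cfsg.Agent.Helper16 Cfsg.Agent.Helper16.DefOne
open scoped ComplexConjugate

universe u

variable {G : Type u} [Group G] [Fintype G] {p : ℕ} [Fact p.Prime] (P : Sylow p G)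

/-- (VAL-a) the sum over a fibre of `can` vanishes on `p`-singular elements. -/
theorem finsum_fibre_apply_singular' (M : Ideal AlgInt) (hM : IsPModular p M)
    (hblk : ∀ φ ψ : IrrCharacter (cen P),
      SameBlock M (φ : cen P → ℂ) (ψ : cen P → ℂ) ↔ can P φ = can P ψ)
    (hself : ∀ θ, IsCanon P θ → can P θ = θ)
    (hreg : ∀ (φ : IrrCharacter (cen P)) (x : cen P), ¬ p ∣ orderOf x →
      (φ : cen P → ℂ) x = (can P φ : cen P → ℂ) x)
    (θ : IrrCharacter (cen P)) (hθ : IsCanon P θ) (c : cen P) (hc : p ∣ orderOf c) :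
    ∑ᶠ φ ∈ {φ : IrrCharacter (cen P) | can P φ = θ}, (φ : cen P → ℂ) c = 0 := by
  classical
  let _ : Fintype (cen P) := Fintype.ofFinite _
  have : Finite (IrrCharacter (cen P)) := Helper74.irr_finite
  have hp : p.Prime := Fact.out
  -- the fibre is the block of `θ`
  have hfib : {φ : IrrCharacter (cen P) | can P φ = θ} = blockOf M (θ : cen P → ℂ) := by
    ext φ
    show can P φ = θ ↔ SameBlock M (θ : cen P → ℂ) (φ : cen P → ℂ)
    rw [hblk θ φ, hself θ hθ]
    exact eq_comm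
  have hb : IsPBlock M (blockOf M (θ : cen P → ℂ)) := ⟨θ, rfl⟩
  have h0 := Helper77.blockCoeff_eq_zero_of_dvd_orderOf hM hb c hc
  unfold blockCoeff at h0
  have hcard : (Nat.card (cen P) : ℂ) ≠ 0 := by
    have : Nat.card (cen P) ≠ 0 := Nat.card_pos.ne'
    exact_mod_cast this
  have h1 : ∑ᶠ χ ∈ blockOf M (θ : cen P → ℂ), (χ : cen P → ℂ) 1 * conj ((χ : cen P → ℂ) c) = 0 := by
    rcases mul_eq_zero.mp h0 with h | h
    · exact absurd (inv_eq_zero.mp h) hcard
    · exact h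
  rw [← hfib] at h1
  -- degrees on the fibre
  have hdeg : ∀ φ ∈ {φ : IrrCharacter (cen P) | can P φ = θ},
      (φ : cen P → ℂ) 1 = (θ : cen P → ℂ) 1 := by
    intro φ hφ
    have := hreg φ 1 (by rw [orderOf_one]; exact hp.not_dvd_one)
    rw [this, hφ]
  have h2 : ∑ᶠ φ ∈ {φ : IrrCharacter (cen P) | can P φ = θ},
      (θ : cen P → ℂ) 1 * conj ((φ : cen P → ℂ) c) = 0 := by
    rw [← h1]
    apply finsum_mem_congr rfl
    intro φ hφ
    rw [hdeg φ hφ]
  rw [← mul_finsum_mem] at h2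
  have hθ1 : (θ : cen P → ℂ) 1 ≠ 0 := Helper80.IsIrrCharacter.map_one_ne_zero θ.2
  have h3 : ∑ᶠ φ ∈ {φ : IrrCharacter (cen P) | can P φ = θ}, conj ((φ : cen P → ℂ) c) = 0 := by
    rcases mul_eq_zero.mp h2 with h | h
    · exact absurd h hθ1
    · exact h
  have h4 : conj (∑ᶠ φ ∈ {φ : IrrCharacter (cen P) | can P φ = θ}, (φ : cen P → ℂ) c) = 0 := by
    rw [← h3, finsum_mem_eq_finite_toFinset_sum _ (Set.toFinite _),
      finsum_mem_eq_finite_toFinset_sum _ (Set.toFinite _), map_sum]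
  exact (map_eq_zero _).mp h4

end Cfsg.Agent.Helper25.DefOneVALa
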