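import Mathlib

/-!
# Piece (JA2) of helper95's WANTED #4867 (for S4469, Jordan): the 12-sector pigeonhole

A commuting subgroup `B` of a finite group of unitaries meets the subgroup `A` generated by (or merely
containing) the elements within `1/2` of `(√3/2)·1` in a subgroup of index at most `12 ^ dim V`.
-/

set_option autoImplicit false
set_option linter.unusedSectionVars false
set_option linter.deprecated false
set_option linter.style.haveILetI false

namespace Cfsg.Agent.Helper25.JordanJA2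

open Module.End


/-! ### Sectors -/

/-- the number (0..11) of the 30-degree sector containing `z` -/
noncomputable def sectorNat (z : ℂ) : ℕ := ⌈(Complex.arg z + Real.pi) * 6 / Real.pi⌉₊ - 1

theorem sector_pos (z : ℂ) : 0 < (Complex.arg z + Real.pi) * 6 / Real.pi := by
  have h1 := Complex.neg_pi_lt_arg z
  have hpi := Real.pi_pos
  apply div_pos _ hpi
  nlinarith

theorem sector_le (z : ℂ) : (Complex.arg z + Real.pi) * 6 / Real.pi ≤ 12 := by
  have h1 := Complex.arg_le_pi z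
  have hpi := Real.pi_pos
  rw [div_le_iff₀ hpi]
  nlinarith

theorem sectorNat_lt (z : ℂ) : sectorNat z < 12 := by
  unfold sectorNat
  have h1 : ⌈(Complex.arg z + Real.pi) * 6 / Real.pi⌉₊ ≤ 12 := by
    apply Nat.ceil_le.mpr
    exact_mod_cast sector_le z
  have h2 : 0 < ⌈(Complex.arg z + Real.pi) * 6 / Real.pi⌉₊ := Nat.ceil_pos.mpr (sector_pos z)
  omega

/-- the sector as an element of `Fin 12` -/
noncomputable def sector (z : ℂ) : Fin 12 := ⟨sectorNat z, sectorNat_lt z⟩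

theorem abs_arg_sub_lt {z z' : ℂ} (h : sector z = sector z') :
    |Complex.arg z - Complex.arg z'| < Real.pi / 6 := by
  have hpi := Real.pi_pos
  have h0 : sectorNat z = sectorNat z' := congrArg Fin.val h
  unfold sectorNat at h0
  set t := (Complex.arg z + Real.pi) * 6 / Real.pi with ht
  set t' := (Complex.arg z' + Real.pi) * 6 / Real.pi with ht'
  have hp : 0 < ⌈t⌉₊ := Nat.ceil_pos.mpr (sector_pos z)
  have hp' : 0 < ⌈t'⌉₊ := Nat.ceil_pos.mpr (sector_pos z')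
  have hn : ⌈t⌉₊ = ⌈t'⌉₊ := by omega
  have h1 : t ≤ ⌈t⌉₊ := Nat.le_ceil t
  have h2 : (⌈t⌉₊ : ℝ) < t + 1 := Nat.ceil_lt_add_one (sector_pos z).le
  have h1' : t' ≤ ⌈t'⌉₊ := Nat.le_ceil t'
  have h2' : (⌈t'⌉₊ : ℝ) < t' + 1 := Nat.ceil_lt_add_one (sector_pos z').le
  rw [hn] at h1 h2
  have hd : |t - t'| < 1 := by
    rw [abs_lt]
    constructor <;> linarith
  have e : Complex.arg z - Complex.arg z' = (t - t') * (Real.pi / 6) := by
    rw [ht, ht']
    field_simp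
    ring
  rw [e, abs_mul, abs_of_pos (by positivity : 0 < Real.pi / 6)]
  calc |t - t'| * (Real.pi / 6) < 1 * (Real.pi / 6) :=
        mul_lt_mul_of_pos_right hd (by positivity)
    _ = Real.pi / 6 := one_mul _

theorem norm_div_sub_lt {z z' : ℂ} (hz : ‖z‖ = 1) (hz' : ‖z'‖ = 1) (h : sector z = sector z') :
    ‖z / z' - ((Real.sqrt 3 / 2 : ℝ) : ℂ)‖ < 1 / 2 := by
  have hpi := Real.pi_pos
  have e1 : z = Complex.exp (Complex.arg z * Complex.I) := by
    have := Complex.norm_mul_exp_arg_mul_I z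
    rw [hz, Complex.ofReal_one, one_mul] at this
    exact this.symm
  have e2 : z' = Complex.exp (Complex.arg z' * Complex.I) := by
    have := Complex.norm_mul_exp_arg_mul_I z'
    rw [hz', Complex.ofReal_one, one_mul] at this
    exact this.symm
  set t := Complex.arg z - Complex.arg z' with ht
  have ht6 : |t| < Real.pi / 6 := abs_arg_sub_lt h
  have e3 : z / z' = Complex.exp ((t : ℝ) * Complex.I) := by
    conv_lhs => rw [e1, e2]
    rw [← Complex.exp_sub, ht]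
    congr 1
    push_cast
    ring
  have hcos : Real.sqrt 3 / 2 < Real.cos t := by
    rw [← Real.cos_pi_div_six, ← Real.cos_abs t]
    apply Real.cos_lt_cos_of_nonneg_of_le_pi (abs_nonneg t) _ ht6
    linarith
  have hs3 : Real.sqrt 3 * Real.sqrt 3 = 3 := Real.mul_self_sqrt (by norm_num)
  have hs3pos : 0 < Real.sqrt 3 := Real.sqrt_pos.mpr (by norm_num)
  have hsq : ‖z / z' - ((Real.sqrt 3 / 2 : ℝ) : ℂ)‖ ^ 2 < (1 / 2) ^ 2 := by
    rw [e3, Complex.sq_norm, Complex.normSq_apply]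
    simp only [Complex.sub_re, Complex.sub_im, Complex.exp_ofReal_mul_I_re,
      Complex.exp_ofReal_mul_I_im, Complex.ofReal_re, Complex.ofReal_im, sub_zero]
    have hcs := Real.sin_sq_add_cos_sq t
    nlinarith
  exact (sq_lt_sq₀ (norm_nonneg _) (by norm_num)).mp hsq



/-! ### The operator norm of a jointly diagonal operator -/

theorem opNorm_le_of_orthogonal_eigen {V : Type*} [NormedAddCommGroup V] [InnerProductSpace ℂ V]
    [FiniteDimensional ℂ V] {ι : Type*} [Fintype ι] (W : ι → Submodule ℂ V)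
    (hOF : OrthogonalFamily ℂ (fun i => W i) fun i => (W i).subtypeₗᵢ) (htop : ⨆ i, W i = ⊤)
    (T : V →L[ℂ] V) (d : ι → ℂ) (hT : ∀ i, ∀ w ∈ W i, T w = d i • w) (r : ℝ) (hr : 0 ≤ r)
    (hd : ∀ i, ‖d i‖ ≤ r) : ‖T‖ ≤ r := by
  classical
  apply ContinuousLinearMap.opNorm_le_bound _ hr
  intro x
  have hx : x ∈ iSup W := by rw [htop]; exact Submodule.mem_top
  have hsum := hOF.sum_projection_of_mem_iSup x hx
  -- the components
  let l : ∀ i, W i := fun i => ⟨(W i).starProjection x, Submodule.starProjection_apply_mem (W i) x⟩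
  let l' : ∀ i, W i := fun i => d i • l i
  have hx' : x = ∑ i ∈ Finset.univ, (W i).subtypeₗᵢ (l i) := by
    conv_lhs => rw [← hsum]
    rfl
  have hTx : T x = ∑ i ∈ Finset.univ, (W i).subtypeₗᵢ (l' i) := by
    conv_lhs => rw [hx']
    rw [map_sum]
    refine Finset.sum_congr rfl fun i _ => ?_
    have := hT i ((l i : W i) : V) (l i).2
    simpa [l'] using this
  have hnx : ‖x‖ ^ 2 = ∑ i ∈ Finset.univ, ‖l i‖ ^ 2 := by
    conv_lhs => rw [hx']
    exact hOF.norm_sum l Finset.univ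
  have hnTx : ‖T x‖ ^ 2 = ∑ i ∈ Finset.univ, ‖l' i‖ ^ 2 := by
    rw [hTx]
    exact hOF.norm_sum l' Finset.univ
  have hle : ‖T x‖ ^ 2 ≤ (r * ‖x‖) ^ 2 := by
    rw [hnTx, mul_pow, hnx, Finset.mul_sum]
    refine Finset.sum_le_sum fun i _ => ?_
    have h1 : ‖l' i‖ = ‖d i‖ * ‖l i‖ := norm_smul (d i) (l i)
    rw [h1, mul_pow]
    have h2 : ‖d i‖ ^ 2 ≤ r ^ 2 := pow_le_pow_left₀ (norm_nonneg _) (hd i) 2
    exact mul_le_mul_of_nonneg_right h2 (sq_nonneg _)
  exact (pow_le_pow_iff_left₀ (norm_nonneg _) (mul_nonneg hr (norm_nonneg _)) (by norm_num)).mp hle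

theorem opNorm_lt_of_orthogonal_eigen {V : Type*} [NormedAddCommGroup V] [InnerProductSpace ℂ V]
    [FiniteDimensional ℂ V] {ι : Type*} [Fintype ι] (W : ι → Submodule ℂ V)
    (hOF : OrthogonalFamily ℂ (fun i => W i) fun i => (W i).subtypeₗᵢ) (htop : ⨆ i, W i = ⊤)
    (T : V →L[ℂ] V) (d : ι → ℂ) (hT : ∀ i, ∀ w ∈ W i, T w = d i • w) (ε : ℝ) (hε : 0 < ε)
    (hd : ∀ i, ‖d i‖ < ε) : ‖T‖ < ε := by
  classical
  rcases isEmpty_or_nonempty ι with hι | hι
  · have := opNorm_le_of_orthogonal_eigen W hOF htop T d hT 0 le_rfl (fun i => (hι.false i).elim)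
    exact lt_of_le_of_lt this hε
  · obtain ⟨i0, -, hmax⟩ := Finset.exists_max_image Finset.univ (fun i => ‖d i‖)
      ⟨hι.some, Finset.mem_univ _⟩
    have := opNorm_le_of_orthogonal_eigen W hOF htop T d hT ‖d i0‖ (norm_nonneg _)
      (fun i => hmax i (Finset.mem_univ _))
    exact lt_of_le_of_lt this (hd i0)



section Main

variable {V : Type*} [NormedAddCommGroup V] [InnerProductSpace ℂ V] [FiniteDimensional ℂ V]
  {G : Type*} [Group G] [Finite G]

/-- the operators `Φ b`, `b ∈ B`, as a monoid hom into `End` -/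
noncomputable def Uhom (Φ : G →* unitary (V →L[ℂ] V)) (B : Subgroup G) :
    ↥B →* Module.End ℂ V :=
  ((ContinuousLinearMap.toLinearMapRingHom : (V →L[ℂ] V) →+* (V →ₗ[ℂ] V)) :
      (V →L[ℂ] V) →* Module.End ℂ V).comp
    ((unitary (V →L[ℂ] V)).subtype.comp (Φ.comp B.subtype))

theorem Uhom_apply (Φ : G →* unitary (V →L[ℂ] V)) (B : Subgroup G) (b : ↥B) (v : V) :
    Uhom Φ B b v = (Φ (b : G) : V →L[ℂ] V) v := rfl

theorem isSemisimple_Uhom (Φ : G →* unitary (V →L[ℂ] V)) (B : Subgroup G) (b : ↥B) :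
    (Uhom Φ B b).IsSemisimple := by
  have hm : 0 < Nat.card ↥B := Nat.card_pos
  have hpow : (Uhom Φ B b) ^ Nat.card ↥B = 1 := by rw [← map_pow, pow_card_eq_one', map_one]
  apply Module.End.isSemisimple_of_squarefree_aeval_eq_zero
    (p := Polynomial.X ^ Nat.card ↥B - 1)
  · apply Polynomial.Separable.squarefree
    have := Polynomial.separable_X_pow_sub_C (1 : ℂ) (n := Nat.card ↥B)
      (by exact_mod_cast hm.ne') one_ne_zero
    simpa using this
  · simp [hpow]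

/-- the joint eigenspace for `χ` -/
noncomputable def jointEig (Φ : G →* unitary (V →L[ℂ] V)) (B : Subgroup G) (χ : ↥B → ℂ) :
    Submodule ℂ V := ⨅ b, (Uhom Φ B b).eigenspace (χ b)

theorem mem_jointEig (Φ : G →* unitary (V →L[ℂ] V)) (B : Subgroup G) (χ : ↥B → ℂ) (v : V) :
    v ∈ jointEig Φ B χ ↔ ∀ b : ↥B, (Φ (b : G) : V →L[ℂ] V) v = χ b • v := by
  unfold jointEig
  rw [Submodule.mem_iInf]
  refine forall_congr' fun b => ?_
  rw [Module.End.mem_eigenspace_iff, Uhom_apply]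

theorem commute_Uhom (Φ : G →* unitary (V →L[ℂ] V)) (B : Subgroup G)
    (hB : ∀ x ∈ B, ∀ y ∈ B, x * y = y * x) (b b' : ↥B) : Commute (Uhom Φ B b) (Uhom Φ B b') := by
  have h1 : b * b' = b' * b := Subtype.ext (hB b b.2 b' b'.2)
  show Uhom Φ B b * Uhom Φ B b' = Uhom Φ B b' * Uhom Φ B b
  rw [← map_mul, ← map_mul, h1]

theorem iSup_jointEig (Φ : G →* unitary (V →L[ℂ] V)) (B : Subgroup G)
    (hB : ∀ x ∈ B, ∀ y ∈ B, x * y = y * x) : ⨆ χ : ↥B → ℂ, jointEig Φ B χ = ⊤ := by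
  have h1 := Module.End.iSup_iInf_maxGenEigenspace_eq_top_of_iSup_maxGenEigenspace_eq_top_of_commute
    (Uhom Φ B) (fun b b' _ => commute_Uhom Φ B hB b b')
    (fun b => Module.End.iSup_maxGenEigenspace_eq_top _)
  simp_rw [fun b μ => (isSemisimple_Uhom Φ B b).isFinitelySemisimple.maxGenEigenspace_eq_eigenspace μ]
    at h1
  exact h1

theorem iSupIndep_jointEig (Φ : G →* unitary (V →L[ℂ] V)) (B : Subgroup G)
    (hB : ∀ x ∈ B, ∀ y ∈ B, x * y = y * x) : iSupIndep (jointEig Φ B) := by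
  have h1 := Module.End.independent_iInf_maxGenEigenspace_of_forall_mapsTo (Uhom Φ B)
    (fun i j φ => Module.End.mapsTo_maxGenEigenspace_of_comm (commute_Uhom Φ B hB j i) φ)
  simp_rw [fun b μ => (isSemisimple_Uhom Φ B b).isFinitelySemisimple.maxGenEigenspace_eq_eigenspace μ]
    at h1
  exact h1

end Main


section Final

variable {V : Type*} [NormedAddCommGroup V] [InnerProductSpace ℂ V] [FiniteDimensional ℂ V]
  {G : Type*} [Group G] [Finite G]

theorem chi_mul (Φ : G →* unitary (V →L[ℂ] V)) (B : Subgroup G) {χ : ↥B → ℂ}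
    (hχ : jointEig Φ B χ ≠ ⊥) (b b' : ↥B) : χ (b * b') = χ b * χ b' := by
  obtain ⟨v, hv, hv0⟩ := (Submodule.ne_bot_iff _).mp hχ
  rw [mem_jointEig] at hv
  have h1 := hv (b * b')
  have h2 : (Φ ((b * b' : ↥B) : G) : V →L[ℂ] V) v = (χ b * χ b') • v := by
    rw [Subgroup.coe_mul, map_mul]
    show ((Φ (b : G) : V →L[ℂ] V) * (Φ (b' : G) : V →L[ℂ] V)) v = _
    rw [ContinuousLinearMap.mul_apply, hv b', map_smul, hv b, smul_smul, mul_comm]
  rw [h1] at h2
  exact smul_left_injective ℂ hv0 h2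

theorem chi_norm (Φ : G →* unitary (V →L[ℂ] V)) (B : Subgroup G) {χ : ↥B → ℂ}
    (hχ : jointEig Φ B χ ≠ ⊥) (b : ↥B) : ‖χ b‖ = 1 := by
  obtain ⟨v, hv, hv0⟩ := (Submodule.ne_bot_iff _).mp hχ
  rw [mem_jointEig] at hv
  have h1 : ‖(Φ (b : G) : V →L[ℂ] V) v‖ = ‖v‖ := Unitary.norm_map (Φ (b : G)) v
  rw [hv b, norm_smul] at h1
  have hv' : ‖v‖ ≠ 0 := norm_ne_zero_iff.mpr hv0
  exact mul_right_cancel₀ hv' (by rw [h1, one_mul])

theorem chi_inv_mul (Φ : G →* unitary (V →L[ℂ] V)) (B : Subgroup G) {χ : ↥B → ℂ}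
    (hχ : jointEig Φ B χ ≠ ⊥) (b b1 : ↥B) : χ (b1⁻¹ * b) = χ b / χ b1 := by
  have h1 := chi_mul Φ B hχ b1 (b1⁻¹ * b)
  rw [mul_inv_cancel_left] at h1
  have h2 : χ b1 ≠ 0 := by
    intro h0
    have := chi_norm Φ B hχ b1
    rw [h0, norm_zero] at this
    exact zero_ne_one this
  rw [h1, mul_div_cancel_left₀ _ h2]

theorem orthogonalFamily_jointEig (Φ : G →* unitary (V →L[ℂ] V)) (B : Subgroup G) :
    OrthogonalFamily ℂ (fun χ : {χ : ↥B → ℂ // jointEig Φ B χ ≠ ⊥} => jointEig Φ B χ.1)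
      fun χ => (jointEig Φ B χ.1).subtypeₗᵢ := by
  intro χ χ' hne v w
  have hne' : χ.1 ≠ χ'.1 := fun h => hne (Subtype.ext h)
  obtain ⟨b, hb⟩ := Function.ne_iff.mp hne'
  have hv := (mem_jointEig Φ B χ.1 v).mp v.2 b
  have hw := (mem_jointEig Φ B χ'.1 w).mp w.2 b
  have h1 : inner ℂ ((Φ (b : G) : V →L[ℂ] V) (v : V)) ((Φ (b : G) : V →L[ℂ] V) (w : V)) =
      inner ℂ (v : V) (w : V) := Unitary.inner_map_map (Φ (b : G)) v w
  rw [hv, hw, inner_smul_left, inner_smul_right] at h1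
  have hn := chi_norm Φ B χ.2 b
  have hcm : χ.1 b * (starRingEnd ℂ) (χ.1 b) = 1 := by
    rw [Complex.mul_conj, Complex.normSq_eq_norm_sq, hn]
    norm_num
  have h2 : (χ.1 b - χ'.1 b) * inner ℂ (v : V) (w : V) = 0 := by
    have h3 : χ.1 b * ((starRingEnd ℂ) (χ.1 b) * (χ'.1 b * inner ℂ (v : V) (w : V))) =
        χ.1 b * inner ℂ (v : V) (w : V) := by rw [h1]
    rw [← mul_assoc, hcm, one_mul] at h3
    rw [sub_mul, ← h3, sub_self]
  rcases mul_eq_zero.mp h2 with h4 | h4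
  · exact absurd (sub_eq_zero.mp h4) hb
  · exact h4

/-- **(JA2)** of #4867. -/
theorem relIndex_le_of_comm {V : Type*} [NormedAddCommGroup V] [InnerProductSpace ℂ V]
    [FiniteDimensional ℂ V] {G : Type*} [Group G] [Finite G] (Φ : G →* unitary (V →L[ℂ] V))
    (A : Subgroup G)
    (hA : ∀ g : G, ‖((Φ g : V →L[ℂ] V)) - ((Real.sqrt 3 / 2 : ℝ) : ℂ) • (1 : V →L[ℂ] V)‖ < 1 / 2 →
      g ∈ A)
    (B : Subgroup G) (hB : ∀ x ∈ B, ∀ y ∈ B, x * y = y * x) :
    A.relIndex B ≤ 12 ^ Module.finrank ℂ V := by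
  classical
  have hind := iSupIndep_jointEig Φ B hB
  haveI : Fintype {χ : ↥B → ℂ // jointEig Φ B χ ≠ ⊥} := hind.fintypeNeBotOfFiniteDimensional
  have hXcard : Fintype.card {χ : ↥B → ℂ // jointEig Φ B χ ≠ ⊥} ≤ Module.finrank ℂ V :=
    hind.subtype_ne_bot_le_finrank
  have hOF := orthogonalFamily_jointEig Φ B
  have htop : ⨆ χ : {χ : ↥B → ℂ // jointEig Φ B χ ≠ ⊥}, jointEig Φ B χ.1 = ⊤ := by
    rw [iSup_ne_bot_subtype]
    exact iSup_jointEig Φ B hB
  -- closeness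
  have hclose : ∀ b' : ↥B, (∀ χ : {χ : ↥B → ℂ // jointEig Φ B χ ≠ ⊥},
      ‖χ.1 b' - ((Real.sqrt 3 / 2 : ℝ) : ℂ)‖ < 1 / 2) → (b' : G) ∈ A := by
    intro b' hb'
    apply hA
    apply opNorm_lt_of_orthogonal_eigen (fun χ : {χ : ↥B → ℂ // jointEig Φ B χ ≠ ⊥} =>
      jointEig Φ B χ.1) hOF htop _ (fun χ => χ.1 b' - ((Real.sqrt 3 / 2 : ℝ) : ℂ)) _ _
      (by norm_num) hb'
    intro χ w hw
    have := (mem_jointEig Φ B χ.1 w).mp hw b'
    simp only [ContinuousLinearMap.sub_apply, ContinuousLinearMap.smul_apply,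
      ContinuousLinearMap.one_apply, this, sub_smul]
  -- the sector map
  let τ : ↥B → ({χ : ↥B → ℂ // jointEig Φ B χ ≠ ⊥} → Fin 12) := fun b χ => sector (χ.1 b)
  have hτ : ∀ b b1 : ↥B, τ b = τ b1 → ((b1⁻¹ * b : ↥B) : G) ∈ A := by
    intro b b1 h
    apply hclose
    intro χ
    rw [chi_inv_mul Φ B χ.2]
    exact norm_div_sub_lt (chi_norm Φ B χ.2 b) (chi_norm Φ B χ.2 b1) (congrFun h χ)
  -- counting
  have hinj : Function.Injective
      (fun q : ↥B ⧸ A.subgroupOf B => τ (Quotient.out q)) := by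
    intro q q' h
    have h1 := hτ _ _ h
    have h2 : (Quotient.out q')⁻¹ * Quotient.out q ∈ A.subgroupOf B :=
      Subgroup.mem_subgroupOf.mpr h1
    have h3 : ((Quotient.out q' : ↥B) : ↥B ⧸ A.subgroupOf B) = (Quotient.out q : ↥B) :=
      QuotientGroup.eq.mpr h2
    rw [QuotientGroup.out_eq', QuotientGroup.out_eq'] at h3
    exact h3.symm
  have h1 : A.relIndex B = Nat.card (↥B ⧸ A.subgroupOf B) := rfl
  rw [h1]
  calc Nat.card (↥B ⧸ A.subgroupOf B)
      ≤ Nat.card ({χ : ↥B → ℂ // jointEig Φ B χ ≠ ⊥} → Fin 12) :=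
        Nat.card_le_card_of_injective _ hinj
    _ = 12 ^ Fintype.card {χ : ↥B → ℂ // jointEig Φ B χ ≠ ⊥} := by
        rw [Nat.card_eq_fintype_card, Fintype.card_fun, Fintype.card_fin]
    _ ≤ 12 ^ Module.finrank ℂ V := Nat.pow_le_pow_right (by norm_num) hXcard

end Final

end Cfsg.Agent.Helper25.JordanJA2
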