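import Mathlib
import Cfsg.Agent.Helper2.NormIdeal
import Cfsg.Agent.Helper95.FrobCompl6

/-!
# Pieces (F) and (G) of helper2's WANTED #4541 (for S3357 + S4292)

* `NF_prod`: the norm ideal of `ℚ[A × B]` is proper when those of `ℚ[A]`, `ℚ[B]` are and the orders are
  coprime.
* `coprime_of_frobenius_prod`: if `A × B` is a Frobenius complement then `|A|`, `|B|` are coprime.
-/

set_option autoImplicit false

namespace Cfsg.Agent.Helper25.NFProd

open Cfsg.Agent.Helper2.NormIdeal MonoidAlgebra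

/-- a normalized functional killing the norm span -/
theorem exists_functional {X : Type*} [Group X] (h : NF ℚ X) :
    ∃ α : MonoidAlgebra ℚ X →ₗ[ℚ] ℚ, α 1 = 1 ∧ ∀ y ∈ normSpan ℚ (X := X), α y = 0 := by
  have h' : (1 : MonoidAlgebra ℚ X) ∉ normSpan ℚ (X := X) := h
  obtain ⟨f, hf1, hfk⟩ := Submodule.exists_le_ker_of_notMem h'
  refine ⟨(f 1)⁻¹ • f, ?_, ?_⟩
  · simp [hf1]
  · intro y hy
    have : f y = 0 := hfk hy
    simp [this]

/-- **(F)** of #4541. -/
theorem NF_prod {A B : Type*} [Group A] [Finite A] [Group B] [Finite B] (hA : NF ℚ A)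
    (hB : NF ℚ B) (hcop : (Nat.card A).Coprime (Nat.card B)) : NF ℚ (A × B) := by
  obtain ⟨α, hα1, hαk⟩ := exists_functional hA
  obtain ⟨β, hβ1, hβk⟩ := exists_functional hB
  let v : A × B → ℚ := fun x => α (of ℚ A x.1) * β (of ℚ B x.2)
  let Ψ : MonoidAlgebra ℚ (A × B) →ₗ[ℚ] ℚ :=
    (Finsupp.linearCombination ℚ v) ∘ₗ (coeffLinearEquiv ℚ).toLinearMap
  have hΨof : ∀ x : A × B, Ψ (of ℚ (A × B) x) = v x := by
    intro x
    simp [Ψ, of_apply, coeff_single, Finsupp.linearCombination_single]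
  have key : ∀ y ∈ normSpan ℚ (X := A × B), Ψ y = 0 := by
    intro y hy
    unfold normSpan at hy
    induction hy using Submodule.span_induction with
    | mem x hx =>
      obtain ⟨h, c, hc, rfl⟩ := hx
      have hexp : of ℚ (A × B) h * normElt ℚ c =
          ∑ i ∈ Finset.range (orderOf c), of ℚ (A × B) (h * c ^ i) := by
        unfold normElt
        rw [Finset.mul_sum]
        simp_rw [← map_mul]
      rw [hexp, map_sum]
      simp_rw [hΨof]
      have ho := Prod.orderOf c
      have h1 : orderOf c.1 ∣ orderOf c := ho ▸ Nat.dvd_lcm_left _ _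
      have h2 : orderOf c.2 ∣ orderOf c := ho ▸ Nat.dvd_lcm_right _ _
      rcases (Nat.dvd_prime hc).mp h1 with h1 | h1
      · have hc1 : c.1 = 1 := orderOf_eq_one_iff.mp h1
        have ho2 : orderOf c.2 = orderOf c := by rw [ho, h1, Nat.lcm_one_left]
        have hsum : ∑ i ∈ Finset.range (orderOf c), v (h * c ^ i) =
            α (of ℚ A h.1) * β (of ℚ B h.2 * normElt ℚ c.2) := by
          unfold normElt
          rw [ho2, Finset.mul_sum, map_sum, Finset.mul_sum]
          refine Finset.sum_congr rfl fun i _ => ?_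
          simp only [v, Prod.fst_mul, Prod.snd_mul, Prod.pow_fst, Prod.pow_snd, hc1, one_pow,
            mul_one, map_mul]
        rw [hsum, hβk _ (gen_mem h.2 c.2 (ho2 ▸ hc)), mul_zero]
      · rcases (Nat.dvd_prime hc).mp h2 with h2 | h2
        · have hc2 : c.2 = 1 := orderOf_eq_one_iff.mp h2
          have ho1 : orderOf c.1 = orderOf c := h1
          have hsum : ∑ i ∈ Finset.range (orderOf c), v (h * c ^ i) =
              α (of ℚ A h.1 * normElt ℚ c.1) * β (of ℚ B h.2) := by
            unfold normElt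
            rw [ho1, Finset.mul_sum, map_sum, Finset.sum_mul]
            refine Finset.sum_congr rfl fun i _ => ?_
            simp only [v, Prod.fst_mul, Prod.snd_mul, Prod.pow_fst, Prod.pow_snd, hc2, one_pow,
              mul_one, map_mul]
          rw [hsum, hαk _ (gen_mem h.1 c.1 (ho1 ▸ hc)), zero_mul]
        · exfalso
          have hd1 : orderOf c ∣ Nat.card A := h1 ▸ orderOf_dvd_natCard c.1
          have hd2 : orderOf c ∣ Nat.card B := h2 ▸ orderOf_dvd_natCard c.2
          exact hc.ne_one ((Nat.Coprime.coprime_dvd_left hd1 hcop).eq_one_of_dvd hd2)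
    | zero => simp
    | add x y _ _ hx hy => rw [map_add, hx, hy, add_zero]
    | smul r x _ hx => rw [map_smul, hx, smul_zero]
  intro h1
  have h0 := key 1 h1
  have h2 : Ψ 1 = 1 := by
    have e : (1 : MonoidAlgebra ℚ (A × B)) = of ℚ (A × B) 1 := (map_one _).symm
    rw [e, hΨof]
    show α (of ℚ A (1 : A × B).1) * β (of ℚ B (1 : A × B).2) = 1
    rw [Prod.fst_one, Prod.snd_one, map_one (of ℚ A), map_one (of ℚ B), hα1, hβ1, mul_one]
  rw [h2] at h0
  exact one_ne_zero h0

/-- **(G)** of #4541. -/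
theorem coprime_of_frobenius_prod {A B : Type*} [Group A] [Finite A] [Group B] [Finite B]
    (hFC : ∃ (L : Type) (_ : Group L) (_ : Finite L) (H : Subgroup L),
      Cfsg.IsFrobeniusComplement H ∧ Nonempty ((A × B) ≃* H)) :
    (Nat.card A).Coprime (Nat.card B) := by
  have hfc := Cfsg.Agent.Helper95.FrobCompl.fclike_of_frobenius_complement hFC
  by_contra hnc
  obtain ⟨r, hr, hrA, hrB⟩ := Nat.Prime.not_coprime_iff_dvd.mp hnc
  have : Fact r.Prime := ⟨hr⟩
  obtain ⟨a, ha⟩ := exists_prime_orderOf_dvd_card' r hrA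
  obtain ⟨b, hb⟩ := exists_prime_orderOf_dvd_card' r hrB
  have ha1 : a ≠ 1 := by
    rintro rfl
    rw [orderOf_one] at ha
    exact hr.ne_one ha.symm
  have hb1 : b ≠ 1 := by
    rintro rfl
    rw [orderOf_one] at hb
    exact hr.ne_one hb.symm
  have hmem := Cfsg.Agent.Helper24.Zas.AbelR.mem_zpowers_of_comm hfc.abel hr
    (c := ((a, 1) : A × B)) (h := ((1, b) : A × B))
    (by simpa using ha1)
    (by rw [Prod.pow_mk, ← ha, pow_orderOf_eq_one, one_pow]; rfl)
    (by rw [Prod.pow_mk, ← hb, pow_orderOf_eq_one, one_pow]; rfl)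
    (by simp)
  obtain ⟨k, hk⟩ := Subgroup.mem_zpowers_iff.mp hmem
  have := congrArg Prod.snd hk
  simp at this
  exact hb1 this.symm

end Cfsg.Agent.Helper25.NFProd
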