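import Mathlib
import Cfsg.Prelude.Def_OddOrderChar
import Cfsg.Agent.Helper25.DadeIso
import Cfsg.Agent.Helper25.GenChar
import Cfsg.Agent.Helper25.ZSpan
import Cfsg.Agent.Helper77.DadeConj
import Cfsg.Agent.Helper15.IndFun
import Cfsg.Agent.Helper74.CharBasic
import Cfsg.Agent.S1500
import Cfsg.Agent.S1501

/-!
# Peterfalvi §12, preliminaries: the Dade map as a linear isometry; Dade map = induction when all
`H a` are trivial.
-/

set_option autoImplicit false

namespace Cfsg.Agent.Helper25.PF12

open Cfsg Cfsg.Agent.Helper25
open scoped ComplexConjugate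

section general

variable {G : Type*} [Group G] {A : Set G} {L : Subgroup G} {H : G → Subgroup G}

theorem dade_add (α β : L → ℂ) :
    dadeIsometry A L H (α + β) = dadeIsometry A L H α + dadeIsometry A L H β := by
  funext g
  unfold dadeIsometry
  simp only [Pi.add_apply]
  split_ifs
  · rfl
  · simp

theorem dade_zsmul (n : ℤ) (α : L → ℂ) :
    dadeIsometry A L H (n • α) = n • dadeIsometry A L H α := by
  funext g
  unfold dadeIsometry
  simp only [Pi.smul_apply]
  split_ifs
  · rfl
  · simp

theorem isGenChar_of_mem_zspan {S : Set (L → ℂ)} (hS : ∀ χ ∈ S, IsCharacter L χ) {α : L → ℂ}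
    (hα : α ∈ zspan S) : IsGeneralizedCharacter L α := by
  unfold zspan at hα
  induction hα using Submodule.span_induction with
  | mem x hx => exact isGenChar_of_isCharacter (hS x hx)
  | zero => exact isGenChar_zero
  | add x y _ _ hx hy => exact isGenChar_add hx hy
  | smul n x _ hx => exact isGenChar_zsmul n hx

variable [Fintype G] [Fintype L]

/-- Under the Dade hypothesis, the Dade map is a linear isometry (with generalized character values)
on any set of generalized characters of `L` vanishing off `A`. -/
theorem dade_isLinearIsometryOn (hD : DadeHypothesis A L H) {E : Set (L → ℂ)}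
    (hE : ∀ α ∈ E, IsGeneralizedCharacter L α ∧ ∀ x : L, (x : G) ∉ A → α x = 0) :
    IsLinearIsometryOn E (dadeIsometry A L H) := by
  refine ⟨fun α _ β _ => dade_add α β, fun α _ n => dade_zsmul n α, ?_, ?_⟩
  · intro α hα β hβ
    exact (Cfsg.Agent.S1500.result A L H hD α (isGenChar_isClassFunction (hE α hα).1)
      (hE α hα).2).1 β (isGenChar_isClassFunction (hE β hβ).1) (hE β hβ).2
  · intro α hα
    exact Cfsg.Agent.S1501.result A L H hD α (hE α hα).1 (hE α hα).2

/-- When all `H a` (`a ∈ A`) are trivial, the Dade map is induction on class functions vanishing off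
`A`. -/
theorem dadeIsometry_eq_indFun (hD : DadeHypothesis A L H) (hH : ∀ a ∈ A, H a = ⊥) {α : L → ℂ}
    (hα : IsClassFunction L α) (hαA : ∀ x : L, (x : G) ∉ A → α x = 0) :
    dadeIsometry A L H α = indFun L α := by
  classical
  have hcf1 : IsClassFunction G (dadeIsometry A L H α) := isClassFunction_dadeIsometry hD hα
  have hcf2 : IsClassFunction G (indFun L α) := Helper15.isClassFunction_indFun L α
  have key : ∀ χ : G → ℂ, IsClassFunction G χ →
      classInner (dadeIsometry A L H α) χ = classInner (indFun L α) χ := by
    intro χ hχ
    rw [Helper15.frobenius_reciprocity L α χ hχ]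
    apply (Cfsg.Agent.S1500.result A L H hD α hα hαA).2 χ (fun h : L => χ h) hχ
    intro a ha
    rw [hH a ha]
    simp
  set d : G → ℂ := dadeIsometry A L H α - indFun L α with hd
  have hdcf : IsClassFunction G d := by
    intro g h
    simp only [hd, Pi.sub_apply]
    rw [hcf1 g h, hcf2 g h]
  have h0 : classInner d d = 0 := by
    have h1 := key d hdcf
    have h2 : classInner d d = classInner (dadeIsometry A L H α) d - classInner (indFun L α) d := by
      rw [hd]
      simp only [Helper74.classInner_def, Pi.sub_apply]
      rw [← mul_sub, ← Finset.sum_sub_distrib]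
      congr 1
      apply Finset.sum_congr rfl
      intro g _
      ring
    rw [h2, h1, sub_self]
  have hd0 : d = 0 := Helper74.classInner_self_eq_zero h0
  have := congrArg (fun f => f + indFun L α) hd0
  simpa [hd] using this

end general

end Cfsg.Agent.Helper25.PF12
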