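import Mathlib

/-!
# A finite `p`-group with cyclic abelianization is abelian; hence a nonabelian finite `p`-group has
`p ^ 2 ≤ |H : H'|`.
-/

set_option autoImplicit false

namespace Cfsg.Agent.Helper25.PF12

universe u

theorem comm_of_isCyclic_abelianization (p : ℕ) [hp : Fact p.Prime] :
    ∀ (n : ℕ) (H : Type u) [Group H] [Finite H], Nat.card H = n → IsPGroup p H →
      IsCyclic (H ⧸ commutator H) → ∀ a b : H, a * b = b * a := by
  intro n
  induction n using Nat.strong_induction_on with
  | _ n ih =>
    intro H _ _ hn hP hc
    by_cases htriv : Subsingleton H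
    · intro a b
      rw [Subsingleton.elim a b]
    rw [not_subsingleton_iff_nontrivial] at htriv
    -- the centre is nontrivial
    have hZ : Nontrivial (Subgroup.center H) := hP.center_nontrivial
    have hcardQ : Nat.card (H ⧸ Subgroup.center H) < n := by
      have h1 : Nat.card (Subgroup.center H) * Nat.card (H ⧸ Subgroup.center H) = Nat.card H := by
        rw [mul_comm]; exact (Subgroup.card_eq_card_quotient_mul_card_subgroup _).symm
      have h2 : 1 < Nat.card (Subgroup.center H) := Finite.one_lt_card
      have h3 : 0 < Nat.card (H ⧸ Subgroup.center H) := Nat.card_pos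
      rw [← hn, ← h1]
      nlinarith
    -- the quotient by the centre has cyclic abelianization
    have hle : commutator H ≤
        (commutator (H ⧸ Subgroup.center H)).comap (QuotientGroup.mk' (Subgroup.center H)) := by
      rw [← Subgroup.map_le_iff_le_comap, commutator_def, Subgroup.map_commutator, commutator_def]
      exact Subgroup.commutator_mono le_top le_top
    have hcQ : IsCyclic ((H ⧸ Subgroup.center H) ⧸ commutator (H ⧸ Subgroup.center H)) := by
      have hsurj : Function.Surjective
          (QuotientGroup.map (commutator H) (commutator (H ⧸ Subgroup.center H))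
            (QuotientGroup.mk' (Subgroup.center H)) hle) := by
        intro y
        obtain ⟨q, rfl⟩ := QuotientGroup.mk_surjective y
        obtain ⟨h, rfl⟩ := QuotientGroup.mk_surjective q
        exact ⟨QuotientGroup.mk h, rfl⟩
      exact isCyclic_of_surjective _ hsurj
    have hQcomm := ih _ hcardQ (H ⧸ Subgroup.center H) rfl (hP.to_quotient _) hcQ
    -- commutators are central
    have hcomm_le : commutator H ≤ Subgroup.center H := by
      rw [commutator_def, Subgroup.commutator_le]
      intro a _ b _
      rw [← QuotientGroup.eq_one_iff, commutatorElement_def]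
      have := hQcomm (QuotientGroup.mk a) (QuotientGroup.mk b)
      simp only [QuotientGroup.mk_mul, QuotientGroup.mk_inv]
      rw [this]
      group
    -- so `H / Z(H)` is cyclic
    have hcyc : IsCyclic (H ⧸ Subgroup.center H) := by
      have hsurj : Function.Surjective
          (QuotientGroup.map (commutator H) (Subgroup.center H) (MonoidHom.id H)
            (by simpa using hcomm_le)) := by
        intro y
        obtain ⟨h, rfl⟩ := QuotientGroup.mk_surjective y
        exact ⟨QuotientGroup.mk h, rfl⟩
      exact isCyclic_of_surjective _ hsurj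
    have hmc : IsMulCommutative H :=
      MonoidHom.isMulCommutative_of_isCyclic_of_ker_le_center
        (QuotientGroup.mk' (Subgroup.center H)) (by rw [QuotientGroup.ker_mk'])
    intro a b
    exact hmc.is_comm.comm a b

/-- A nonabelian finite `p`-group has `p ^ 2 ≤ |H : H'|`. -/
theorem sq_le_index_commutator {p : ℕ} [hp : Fact p.Prime] {H : Type u} [Group H] [Finite H]
    (hP : IsPGroup p H) (hna : ¬ ∀ a b : H, a * b = b * a) : p ^ 2 ≤ (commutator H).index := by
  obtain ⟨m, hm⟩ := IsPGroup.iff_card.mp hP
  have hdvd : (commutator H).index ∣ p ^ m := hm ▸ Subgroup.index_dvd_card _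
  obtain ⟨j, -, hj⟩ := (Nat.dvd_prime_pow hp.out).mp hdvd
  by_contra hlt
  push Not at hlt
  apply hna
  apply comm_of_isCyclic_abelianization p _ H rfl hP
  have hj1 : j ≤ 1 := by
    by_contra h2
    push Not at h2
    have : p ^ 2 ≤ p ^ j := Nat.pow_le_pow_right hp.out.pos h2
    omega
  have hcard : Nat.card (H ⧸ commutator H) = (commutator H).index := by
    rw [Subgroup.index_eq_card]
  interval_cases j
  · have h1 : Nat.card (H ⧸ commutator H) = 1 := by rw [hcard, hj, pow_zero]
    haveI : Subsingleton (H ⧸ commutator H) := (Nat.card_eq_one_iff_unique.mp h1).1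
    exact isCyclic_of_subsingleton
  · have h1 : Nat.card (H ⧸ commutator H) = p := by rw [hcard, hj, pow_one]
    exact isCyclic_of_prime_card h1

end Cfsg.Agent.Helper25.PF12
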