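import Mathlib
import Cfsg.Prelude.Def_OddOrderChar
import Cfsg.Prelude.Def_OddOrderLocal
import Cfsg.Prelude.Def_OddOrder
import Cfsg.Agent.Helper15.IndFun
import Cfsg.Agent.Helper25.PF8
import Cfsg.Agent.Helper25.ZSpan

/-!
# Peterfalvi §12, preliminaries for a maximal subgroup `L` of Type I which is a Frobenius group with
kernel `L_F`: `A(L) = L_F ∖ 1`, the supports of the combinations of induced characters, `R(a) = 1`
in the TI case.
-/

set_option autoImplicit false

namespace Cfsg.Agent.Helper25.PF12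

open Cfsg Cfsg.Agent.Helper25

section group

variable {G : Type*} [Group G] {L : Subgroup G}

theorem mem_fittingHallOf_iff {x : L} : (x : G) ∈ fittingHallOf L ↔ x ∈ fittingHall L := by
  unfold fittingHallOf
  exact Subgroup.mem_map_iff_mem L.subtype_injective

theorem fittingHallOf_le' (L : Subgroup G) : fittingHallOf L ≤ L := by
  unfold fittingHallOf
  exact Subgroup.map_subtype_le _

theorem fittingHallOf_subgroupOf (L : Subgroup G) :
    (fittingHallOf L).subgroupOf L = fittingHall L := by
  ext x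
  rw [Subgroup.mem_subgroupOf]
  exact mem_fittingHallOf_iff

/-- the Frobenius condition, inside the group `↥L`. -/
theorem centralizer_le_fittingHall
    (hfrob : ∀ x ∈ fittingHallOf L, x ≠ 1 →
      L ⊓ Subgroup.centralizer ({x} : Set G) ≤ fittingHallOf L) :
    ∀ h ∈ fittingHall L, h ≠ 1 → Subgroup.centralizer ({h} : Set L) ≤ fittingHall L := by
  intro h hh hh1 c hc
  rw [← mem_fittingHallOf_iff]
  apply hfrob (h : G) (mem_fittingHallOf_iff.mpr hh) (fun e => hh1 (Subtype.ext e))
  rw [Subgroup.mem_inf]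
  refine ⟨c.2, ?_⟩
  rw [Subgroup.mem_centralizer_iff]
  intro y hy
  rw [Set.mem_singleton_iff] at hy
  rw [hy]
  have := Subgroup.mem_centralizer_iff.mp hc h rfl
  exact congrArg Subtype.val this

/-- `A(L) = L_F ∖ 1` for a Type I Frobenius subgroup. -/
theorem typeA_eq_of_frob (hI : IsOfTypeI L)
    (hfrob : ∀ x ∈ fittingHallOf L, x ≠ 1 →
      L ⊓ Subgroup.centralizer ({x} : Set G) ≤ fittingHallOf L) :
    typeA L = {a | a ∈ fittingHallOf L ∧ a ≠ 1} := by
  unfold typeA
  rw [if_pos hI]
  ext a
  constructor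
  · rintro ⟨haL, ha1, x, hx, hx1, hax⟩
    refine ⟨hfrob x hx hx1 ?_, ha1⟩
    rw [Subgroup.mem_inf]
    refine ⟨haL, ?_⟩
    rw [Subgroup.mem_centralizer_iff]
    intro y hy
    rw [Set.mem_singleton_iff] at hy
    rw [hy]
    exact hax.symm
  · rintro ⟨ha, ha1⟩
    exact ⟨fittingHallOf_le' L ha, ha1, a, ha, ha1, rfl⟩

/-- In the TI case the supporting subgroups are trivial. -/
theorem supportR_eq_bot_of_TI [IsSimpleGroup G] (hL : IsCoatom L)
    (hTI : IsTISubset (fittingHallOf L : Set G)) {a : G} (ha : a ∈ fittingHallOf L) (ha1 : a ≠ 1) :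
    supportR L a = ⊥ := by
  apply PF8.supportR_of_le
  have hN : Subgroup.normalizer ((fittingHallOf L : Subgroup G) : Set G) = L := by
    apply PF8.normalizer_eq_of_invariant hL ⟨a, ha, ha1⟩ (fun x hx => fittingHallOf_le' L hx)
    intro m hm x hx
    have hx' : (⟨x, fittingHallOf_le' L hx⟩ : L) ∈ fittingHall L :=
      mem_fittingHallOf_iff.mp hx
    have := (fittingHall_normal L).conj_mem _ hx' ⟨m, hm⟩
    have h2 := mem_fittingHallOf_iff.mpr this
    simpa using h2
  intro c hc
  by_contra hcL
  apply ha1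
  apply hTI c (by rw [hN]; exact hcL) a ha
  have : c * a * c⁻¹ = a := by
    have := Subgroup.mem_centralizer_iff.mp hc a rfl
    rw [← this]; group
  rw [this]; exact ha

end group

section chars

variable {N : Type*} [Group N] [Fintype N] (K : Subgroup N) [hK : K.Normal]

theorem indFun_apply_of_not_mem (θ : K → ℂ) {x : N} (hx : x ∉ K) : indFun K θ x = 0 := by
  rw [Helper15.indFun_apply]
  have : ∀ y : N, extendByZero K θ (y⁻¹ * x * y) = 0 := by
    intro y
    apply Helper15.extendByZero_of_not_mem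
    intro h
    apply hx
    have := hK.conj_mem _ h y
    simpa [mul_assoc] using this
  simp [this]

/-- members of `ℤ[S]`, `S` induced from `K`, vanish off `K`. -/
theorem zspan_apply_of_not_mem {α : N → ℂ} (hα : α ∈ zspan (inducedIrrAbove K ⊥)) {x : N}
    (hx : x ∉ K) : α x = 0 := by
  unfold zspan at hα
  induction hα using Submodule.span_induction with
  | mem φ hφ =>
    obtain ⟨θ, -, -, -, rfl⟩ := hφ
    exact indFun_apply_of_not_mem K θ hx
  | zero => rfl
  | add φ ψ _ _ h1 h2 => rw [Pi.add_apply, h1, h2, add_zero]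
  | smul n φ _ h1 => rw [Pi.smul_apply, h1, smul_zero]

end chars

end Cfsg.Agent.Helper25.PF12
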