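import Mathlib
import Cfsg.Prelude.Def_OddOrderChar
import Cfsg.Prelude.Def_OddOrderLocal
import Cfsg.Prelude.Def_OddOrder
import Cfsg.Agent.Helper25.PF12A
import Cfsg.Agent.Helper25.PF12B
import Cfsg.Agent.Helper25.PF12C
import Cfsg.Agent.Helper25.CohChief
import Cfsg.Agent.Helper25.Sibley7
import Cfsg.Agent.Helper71.FpfZGroup
import Cfsg.Agent.Helper9.FP3
import Cfsg.Agent.S1535

/-!
# Peterfalvi §12: coherence for a maximal subgroup of Type I which is a Frobenius group

`typeI_frobenius_coherent`: the statement S1542 with the Dade hypothesis for `(A(L), L, R)` as a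
hypothesis.
-/

set_option autoImplicit false

namespace Cfsg.Agent.Helper25.PF12

open Cfsg Cfsg.Agent.Helper25

/-- arithmetic of the exceptional case -/
theorem exc_arith {p e idx : ℕ} (hp3 : 3 ≤ p) (he : 2 * e ≤ p - 1) (h1 : p ^ 2 ≤ idx)
    (h2 : idx ≤ 4 * e ^ 2 + 1) : False := by
  have h3 : 2 * e + 1 ≤ p := by omega
  nlinarith

theorem typeI_frobenius_coherent {G : Type*} [Group G] [Fintype G]
    (hG : Cfsg.IsMinSimpleOddOrder G) (L : Subgroup G) [Fintype L] (hL : IsCoatom L)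
    (hI : Cfsg.IsOfTypeI L)
    (hfrob : ∀ x ∈ Cfsg.fittingHallOf L, x ≠ 1 →
      L ⊓ Subgroup.centralizer ({x} : Set G) ≤ Cfsg.fittingHallOf L)
    (hD : DadeHypothesis (typeA L) L (supportR L)) :
    (∀ χ ∈ Cfsg.inducedIrrAbove (Cfsg.fittingHall L) ⊥, Cfsg.IsIrrCharacter L χ) ∧
      Cfsg.IsCoherent (Cfsg.inducedIrrAbove (Cfsg.fittingHall L) ⊥) {1}ᶜ
        (Cfsg.dadeIsometry (Cfsg.typeA L) L (Cfsg.supportR L)) := by
  classical
  have hsimple : IsSimpleGroup G := hG.2.1
  set H : Subgroup L := fittingHall L with hHdef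
  have hC := centralizer_le_fittingHall hfrob
  have hH1 : H ≠ ⊥ := hI.1.2.2.1
  have hH2 : H ≠ ⊤ := hI.1.2.2.2.1
  have hoddL : Odd (Nat.card L) := hI.1.2.1
  have hSeq := Cfsg.Agent.S1535.relevant_eq_induced H hC
  have hirr : ∀ χ ∈ inducedIrrAbove H ⊥, IsIrrCharacter L χ := by
    rintro χ ⟨θ, hθ, hθ1, -, rfl⟩
    exact (Helper75.tf_ind_relevant hC hθ hθ1).1
  refine ⟨hirr, ?_⟩
  set τ := dadeIsometry (typeA L) L (supportR L) with hτdef
  have hA := typeA_eq_of_frob hI hfrob
  -- supports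
  have hsupp : ∀ α ∈ zspanOn (inducedIrrAbove H ⊥) {1}ᶜ,
      ∀ x : L, (x : G) ∉ typeA L → α x = 0 := by
    intro α hα x hx
    by_cases hx1 : x = 1
    · subst hx1
      exact hα.2 1 (by simp)
    · apply zspan_apply_of_not_mem H hα.1
      intro hxH
      apply hx
      rw [hA]
      exact ⟨mem_fittingHallOf_iff.mpr hxH, fun e => hx1 (Subtype.ext e)⟩
  have hgc : ∀ α ∈ zspanOn (inducedIrrAbove H ⊥) {1}ᶜ, IsGeneralizedCharacter L α := fun α hα =>
    isGenChar_of_mem_zspan (fun χ hχ => Helper74.isCharacter_of_isIrr (hirr χ hχ)) hα.1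
  have hτ : IsLinearIsometryOn (zspanOn (inducedIrrAbove H ⊥) {1}ᶜ) τ :=
    dade_isLinearIsometryOn hD (fun α hα => ⟨hgc α hα, hsupp α hα⟩)
  have hτ1 : ∀ α ∈ zspanOn (inducedIrrAbove H ⊥) {1}ᶜ, τ α 1 = 0 :=
    fun α _ => Helper77.dadeIsometry_one hD α
  -- parity
  have hcardmul : Nat.card H * H.index = Nat.card L := Subgroup.card_mul_index H
  have he : Nat.card H ≠ H.index + 1 := by
    intro h
    have h1 : Odd (Nat.card H) := Odd.of_dvd_nat hoddL (Dvd.intro _ hcardmul)
    have h2 : Odd H.index := Odd.of_dvd_nat hoddL (Dvd.intro_left _ hcardmul)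
    rw [h] at h1
    rcases h1 with ⟨a, ha⟩
    rcases h2 with ⟨b, hb⟩
    omega
  have h35 := Cfsg.Agent.S1535.result H hH1 hH2 hC he τ (by rw [hSeq]; exact hτ)
    (by rw [hSeq]; exact hτ1)
  rw [hSeq] at h35
  rcases h35 with hcoh | ⟨p, hp, ⟨m, hm⟩, hnab, hidx⟩
  · exact hcoh
  -- the exceptional case
  obtain ⟨hnil, W, hWbot, hinf, hsup, hfpf⟩ := Helper9.FP.fp_frob_type H hH2 hC
  rcases hI.2 with hTI | ⟨hab, -, -⟩ | ⟨hexp, -⟩
  · -- `L_F` is a TI-subset: Sibley
    have hTI' : IsTISubset ((H.map L.subtype : Subgroup G) : Set G) := hTI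
    obtain ⟨a, haH, ha1⟩ : ∃ a : G, a ∈ fittingHallOf L ∧ a ≠ 1 := by
      obtain ⟨a, ha⟩ := (Subgroup.ne_bot_iff_exists_ne_one).mp hH1
      exact ⟨((a : L) : G), mem_fittingHallOf_iff.mpr a.2,
        fun e => ha (Subtype.ext (Subtype.ext e))⟩
    have hN : Subgroup.normalizer ((H.map L.subtype : Subgroup G) : Set G) = L := by
      apply PF8.normalizer_eq_of_invariant hL ⟨a, haH, ha1⟩
        (fun x hx => fittingHallOf_le' L hx)
      intro n hn x hx
      have hx' : (⟨x, fittingHallOf_le' L hx⟩ : L) ∈ fittingHall L :=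
        mem_fittingHallOf_iff.mp hx
      have := (fittingHall_normal L).conj_mem _ hx' ⟨n, hn⟩
      have h2 := mem_fittingHallOf_iff.mpr this
      simpa using h2
    obtain ⟨hne, τ₁, hτ₁, hag⟩ :=
      Helper25.sibley_frobenius L H W hoddL hH1 hH2 hnil hsup hfpf hTI' hN
    refine ⟨hne, τ₁, hτ₁, fun α hα => ?_⟩
    rw [hag α hα]
    symm
    apply dadeIsometry_eq_indFun hD _ (isGenChar_isClassFunction (hgc α hα)) (hsupp α hα)
    intro b hb
    rw [hA] at hb
    exact supportR_eq_bot_of_TI hL hTI hb.1 hb.2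
  · -- `L_F` abelian
    exfalso
    apply hnab
    refine ⟨⟨fun x y => ?_⟩⟩
    have h1 := hab.is_comm.comm
      (⟨((x : L) : G), mem_fittingHallOf_iff.mpr x.2⟩ : fittingHallOf L)
      ⟨((y : L) : G), mem_fittingHallOf_iff.mpr y.2⟩
    have h2 := congrArg Subtype.val h1
    apply Subtype.ext
    apply Subtype.ext
    simpa using h2
  · -- the exponent of `L / L_F` divides `p - 1`
    exfalso
    have hpf : Fact p.Prime := ⟨hp⟩
    have hm0 : m ≠ 0 := by
      rintro rfl
      rw [pow_zero] at hm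
      exact hH1 (Subgroup.eq_bot_of_card_eq H hm)
    have hcardH : Nat.card (fittingHallOf L) = Nat.card H := by
      unfold fittingHallOf
      exact Subgroup.card_map_of_injective L.subtype_injective
    have hpH : p ∣ Nat.card (fittingHallOf L) := by
      rw [hcardH, hm]; exact dvd_pow_self p hm0
    have hexp' := hexp p hp hpH
    -- `W` has exponent dividing `p - 1`
    have hWpow : ∀ w ∈ W, w ^ (p - 1) = 1 := by
      intro w hw
      have h1 : (QuotientGroup.mk w : L ⧸ H) ^ (p - 1) = 1 := by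
        obtain ⟨k, hk⟩ := hexp'
        rw [hk, pow_mul, Monoid.pow_exponent_eq_one, one_pow]
      rw [← QuotientGroup.mk_pow, QuotientGroup.eq_one_iff] at h1
      have h2 : w ^ (p - 1) ∈ H ⊓ W := ⟨h1, W.pow_mem hw _⟩
      rwa [hinf, Subgroup.mem_bot] at h2
    have hexpW : Monoid.exponent W ∣ p - 1 := by
      apply Monoid.exponent_dvd_of_forall_pow_eq_one
      intro w
      apply Subtype.ext
      have := hWpow w w.2
      simpa using this
    -- `W` is a Z-group
    have hcompl : Subgroup.IsComplement' H W := by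
      apply Subgroup.isComplement'_of_disjoint_and_mul_eq_univ
      · rw [disjoint_iff]; exact hinf
      · rw [← Subgroup.normal_mul, hsup]; rfl
    have hWcard : H.index = Nat.card W := hcompl.symm.index_eq_card
    have hoddW : Odd (Nat.card W) := Odd.of_dvd_nat hoddL (Subgroup.card_subgroup_dvd_card W)
    have hfpf' : ∀ x ∈ W, x ≠ 1 → ∀ y ∈ H, y ≠ 1 → x * y ≠ y * x :=
      fun x hx hx1 y hy hy1 hxy => hy1 (hfpf x hx hx1 y hy hxy)
    haveI : IsZGroup W := Helper71.isZGroup_of_fpf_of_odd H W hH1 hoddW hfpf'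
    have hexpcard : Monoid.exponent W = Nat.card W := IsZGroup.exponent_eq_card W
    have hediv : H.index ∣ p - 1 := by rw [hWcard, ← hexpcard]; exact hexpW
    have hpL : p ∣ Nat.card L := by
      rw [← hcardmul, hm]; exact Dvd.dvd.mul_right (dvd_pow_self p hm0) _
    have hpodd : Odd p := Odd.of_dvd_nat hoddL hpL
    have hp3 : 3 ≤ p := by
      have h2 := hp.two_le
      rcases hpodd with ⟨k, hk⟩
      omega
    have hodde : Odd H.index := Odd.of_dvd_nat hoddL (Dvd.intro_left _ hcardmul)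
    have h2e : 2 * H.index ≤ p - 1 := by
      have h2 : 2 ∣ p - 1 := by
        rcases hpodd with ⟨k, hk⟩
        exact ⟨k, by omega⟩
      have hcop : Nat.Coprime 2 H.index := Nat.coprime_two_left.mpr hodde
      have := Nat.Coprime.mul_dvd_of_dvd_of_dvd hcop h2 hediv
      exact Nat.le_of_dvd (by omega) this
    have hPH : IsPGroup p H := IsPGroup.of_card hm
    have hna : ¬ ∀ a b : H, a * b = b * a := fun h => hnab ⟨⟨h⟩⟩
    have hsq := sq_le_index_commutator hPH hna
    rw [← commutator_subgroupOf_self H] at hsq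
    exact exc_arith hp3 h2e hsq hidx

end Cfsg.Agent.Helper25.PF12
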