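import Mathlib
import Cfsg.Prelude.Def_OddOrderChar
import Cfsg.Prelude.Def_OddOrderLocal
import Cfsg.Prelude.Def_OddOrder
import Cfsg.Agent.Helper25.PF8
import Cfsg.Agent.Helper25.PF8Excl
import Cfsg.Agent.Helper25.PF8Main

/-!
# B-G Theorem II "lite" (`BGII`) from the σ-language statements, part 1

The set `M_σ ∖ 1` (fusion by S1374) and the TI-set `A(M) ∖ M_σ` (S1362).
All Bender–Glauberman inputs are hypotheses in statement shape.
-/

set_option autoImplicit false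

namespace Cfsg.Agent.Helper25.PF8

open Cfsg

variable {G : Type*} [Group G]

theorem sigmaCore_le (M : Subgroup G) : sigmaCore M ≤ M := by
  unfold sigmaCore
  exact Subgroup.map_subtype_le _

theorem conj_mem_sigmaCore {M : Subgroup G} {m x : G} (hm : m ∈ M) (hx : x ∈ sigmaCore M) :
    m * x * m⁻¹ ∈ sigmaCore M := by
  unfold sigmaCore at hx ⊢
  obtain ⟨y, hy, rfl⟩ := hx
  refine ⟨⟨m, hm⟩ * y * ⟨m, hm⟩⁻¹, ?_, by simp⟩
  exact (piCore_normal (sigma M) ↥M).conj_mem y hy ⟨m, hm⟩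

/-- the set normalizer of a maximal subgroup with a non-identity element is itself -/
theorem normalizer_coe_eq_self [IsSimpleGroup G] {M : Subgroup G} (hM : IsCoatom M) {x : G}
    (hx : x ∈ M) (hx1 : x ≠ 1) : Subgroup.normalizer ((M : Subgroup G) : Set G) = M :=
  normalizer_eq_of_invariant hM ⟨x, hx, hx1⟩ (fun _ h => h)
    (fun m hm a ha => M.mul_mem (M.mul_mem hm ha) (M.inv_mem hm))

/-- The conclusion of S1374 for `(M, x)` that is used for fusion. -/
def Fus (M : Subgroup G) (x : G) : Prop :=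
  ∃ R : Subgroup G, R ≤ Subgroup.centralizer ({x} : Set G) ∧
    ∀ g : G, x ∈ M.map (MulAut.conj g).toMonoidHom →
      ∃ r : G, r ∈ R ∧ M.map (MulAut.conj r).toMonoidHom = M.map (MulAut.conj g).toMonoidHom

theorem mem_map_conj {M : Subgroup G} {g y : G} :
    y ∈ M.map (MulAut.conj g).toMonoidHom ↔ g⁻¹ * y * g ∈ M := by
  constructor
  · rintro ⟨z, hz, rfl⟩
    have : g⁻¹ * (MulAut.conj g).toMonoidHom z * g = z := by
      simp [MulAut.conj_apply, mul_assoc]
    rw [this]; exact hz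
  · intro h
    refine ⟨g⁻¹ * y * g, h, ?_⟩
    simp [MulAut.conj_apply, mul_assoc]

/-- (Lemma A) fusion of an element of `M_σ ∖ 1` into `M` is controlled by `M`. -/
theorem fusion_of_Fus [IsSimpleGroup G] {M : Subgroup G} (hM : IsCoatom M) {x : G} (hx : x ∈ M)
    (hx1 : x ≠ 1) (h : Fus M x) {g : G} (hg : g * x * g⁻¹ ∈ M) :
    ∃ m ∈ M, m * x * m⁻¹ = g * x * g⁻¹ := by
  obtain ⟨R, hRC, hR⟩ := h
  have hxg : x ∈ M.map (MulAut.conj g⁻¹).toMonoidHom := by
    rw [mem_map_conj]; simpa using hg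
  obtain ⟨r, hr, hrM⟩ := hR g⁻¹ hxg
  have hrx : r * x = x * r := by
    have := Subgroup.mem_centralizer_iff.mp (hRC hr) x rfl
    exact this.symm
  have hN : g * r ∈ Subgroup.normalizer ((M : Subgroup G) : Set G) := by
    rw [Subgroup.mem_normalizer_iff]
    intro y
    constructor
    · intro hy
      have h1 : r * y * r⁻¹ ∈ M.map (MulAut.conj r).toMonoidHom := by
        rw [mem_map_conj]
        have : r⁻¹ * (r * y * r⁻¹) * r = y := by group
        rw [this]; exact hy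
      rw [hrM, mem_map_conj] at h1
      have e : g * r * y * (g * r)⁻¹ = g⁻¹⁻¹ * (r * y * r⁻¹) * g⁻¹ := by group
      rw [e]; exact h1
    · intro hy
      have h1 : r * y * r⁻¹ ∈ M.map (MulAut.conj g⁻¹).toMonoidHom := by
        rw [mem_map_conj]
        have e : g⁻¹⁻¹ * (r * y * r⁻¹) * g⁻¹ = g * r * y * (g * r)⁻¹ := by group
        rw [e]; exact hy
      rw [← hrM, mem_map_conj] at h1
      have : r⁻¹ * (r * y * r⁻¹) * r = y := by group
      rwa [this] at h1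
  rw [normalizer_coe_eq_self hM hx hx1] at hN
  refine ⟨g * r, hN, ?_⟩
  calc g * r * x * (g * r)⁻¹ = g * (r * x) * r⁻¹ * g⁻¹ := by group
    _ = g * (x * r) * r⁻¹ * g⁻¹ := by rw [hrx]
    _ = g * x * g⁻¹ := by group

/-- the reversed form of Lemma A -/
theorem fusion_of_Fus' [IsSimpleGroup G] {M : Subgroup G} (hM : IsCoatom M) {x g : G}
    (hx : x ∈ M) (hgx : g * x * g⁻¹ ∈ M) (hgx1 : x ≠ 1) (h : Fus M (g * x * g⁻¹)) :
    ∃ m ∈ M, m * x * m⁻¹ = g * x * g⁻¹ := by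
  have h1 : g⁻¹ * (g * x * g⁻¹) * g⁻¹⁻¹ ∈ M := by
    have : g⁻¹ * (g * x * g⁻¹) * g⁻¹⁻¹ = x := by group
    rw [this]; exact hx
  obtain ⟨m, hm, hmx⟩ := fusion_of_Fus hM hgx (conj_ne_one hgx1) h h1
  refine ⟨m⁻¹, M.inv_mem hm, ?_⟩
  have e : g⁻¹ * (g * x * g⁻¹) * g⁻¹⁻¹ = x := by group
  rw [e] at hmx
  have e2 : g * x * g⁻¹ = m⁻¹ * (m * (g * x * g⁻¹) * m⁻¹) * m := by group
  rw [e2, hmx]; group

/-! ### the TI-set `T = A(M) ∖ M_σ` -/

/-- `T = A(M) ∖ M_σ` in σ-language. -/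
def setT (M U : Subgroup G) : Set G := sigmaA M U \ (sigmaCore M : Set G)

theorem setT_subset (M U : Subgroup G) : setT M U ⊆ (M : Set G) := fun _ h => h.1.1.1

theorem ne_one_of_mem_setT {M U : Subgroup G} {x : G} (h : x ∈ setT M U) : x ≠ 1 := by
  rintro rfl
  exact h.2 (Subgroup.one_mem _)

theorem conj_mem_setT {M U : Subgroup G}
    (hn : M ≤ Subgroup.normalizer ((U ⊔ sigmaCore M : Subgroup G) : Set G)) {m a : G}
    (hm : m ∈ M) (ha : a ∈ setT M U) : m * a * m⁻¹ ∈ setT M U := by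
  obtain ⟨⟨⟨haM, y, hy, hy1, hc⟩, haU⟩, haS⟩ := ha
  refine ⟨⟨⟨M.mul_mem (M.mul_mem hm haM) (M.inv_mem hm), m * y * m⁻¹, conj_mem_sigmaCore hm hy,
    conj_ne_one hy1, conj_comm hc⟩, ?_⟩, ?_⟩
  · exact ((Subgroup.mem_normalizer_iff.mp (hn hm)) a).mp haU
  · intro h
    apply haS
    have := conj_mem_sigmaCore (M.inv_mem hm) h
    have e : m⁻¹ * (m * a * m⁻¹) * m⁻¹⁻¹ = a := by group
    rwa [e] at this

theorem normalizer_setT [IsSimpleGroup G] {M U : Subgroup G} (hM : IsCoatom M)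
    (hn : M ≤ Subgroup.normalizer ((U ⊔ sigmaCore M : Subgroup G) : Set G)) {x : G}
    (hx : x ∈ setT M U) : Subgroup.normalizer (setT M U) = M :=
  normalizer_eq_of_invariant hM ⟨x, hx, ne_one_of_mem_setT hx⟩ (setT_subset M U)
    (fun _ hm _ ha => conj_mem_setT hn hm ha)

/-- conjugation between two elements of `T` is by an element of `M` -/
theorem mem_of_conj_mem_setT [IsSimpleGroup G] {M U : Subgroup G} (hM : IsCoatom M)
    (hn : M ≤ Subgroup.normalizer ((U ⊔ sigmaCore M : Subgroup G) : Set G))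
    (hTI : IsTISubset (setT M U)) {x g : G} (hx : x ∈ setT M U) (hgx : g * x * g⁻¹ ∈ setT M U) :
    g ∈ M := by
  by_contra hg
  rw [← normalizer_setT hM hn hx] at hg
  exact ne_one_of_mem_setT hx (hTI g hg x hx hgx)

theorem centralizer_le_of_mem_setT [IsSimpleGroup G] {M U : Subgroup G} (hM : IsCoatom M)
    (hn : M ≤ Subgroup.normalizer ((U ⊔ sigmaCore M : Subgroup G) : Set G))
    (hTI : IsTISubset (setT M U)) {x : G} (hx : x ∈ setT M U) :
    Subgroup.centralizer ({x} : Set G) ≤ M := by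
  intro c hc
  apply mem_of_conj_mem_setT hM hn hTI hx (g := c)
  have : c * x * c⁻¹ = x := by
    have := Subgroup.mem_centralizer_iff.mp hc x rfl
    rw [← this]; group
  rw [this]; exact hx

/-! ### elements of `A(M)` (type language) lie in `(M_σ ∖ 1) ∪ T` -/

/-- if `K = ⊥` in the standard factorisation then `M = U M_σ`. -/
theorem sup_eq_of_K_eq_bot {M K U : Subgroup G} (h : IsSigmaDecomposition M K U) (hK : K = ⊥) :
    U ⊔ sigmaCore M = M := by
  apply le_antisymm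
  · exact sup_le h.compl.1 (sigmaCore_le M)
  · intro m hm
    obtain ⟨a, ha, b, hb, rfl⟩ := h.compl.2.2.2 m hm
    rw [hK, bot_sup_eq] at hb
    exact Subgroup.mul_mem _ (Subgroup.mem_sup_left ha) (Subgroup.mem_sup_right hb)

/-- Elements of `A(M)` in type language are elements of `U M_σ` centralizing a non-identity
element of `M_σ`. -/
theorem mem_sigmaA_of_mem_typeA {M K U : Subgroup G} (h : IsSigmaDecomposition M K U)
    (hcore : typeCore M ≤ sigmaCore M) (hF : fittingHallOf M ≤ sigmaCore M)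
    (hI : IsOfTypeI M → K = ⊥) (hder : K ≠ ⊥ → ⁅M, M⁆ = U ⊔ sigmaCore M) {x : G}
    (hx : x ∈ typeA M) : x ∈ sigmaA M U ∧ x ≠ 1 := by
  unfold typeA at hx
  split_ifs at hx with hT
  · obtain ⟨hxM, hx1, y, hy, hy1, hc⟩ := hx
    refine ⟨⟨⟨hxM, y, hF hy, hy1, hc⟩, ?_⟩, hx1⟩
    rw [SetLike.mem_coe, sup_eq_of_K_eq_bot h (hI hT)]
    exact hxM
  · obtain ⟨hxM', hx1, y, hy, hy1, hc⟩ := hx
    refine ⟨⟨⟨commutator_self_le M hxM', y, hcore hy, hy1, hc⟩, ?_⟩, hx1⟩
    by_cases hK : K = ⊥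
    · rw [SetLike.mem_coe, sup_eq_of_K_eq_bot h hK]
      exact commutator_self_le M hxM'
    · rw [SetLike.mem_coe, ← hder hK]
      exact hxM'

theorem mem_or_of_mem_typeA {M K U : Subgroup G} (h : IsSigmaDecomposition M K U)
    (hcore : typeCore M ≤ sigmaCore M) (hF : fittingHallOf M ≤ sigmaCore M)
    (hI : IsOfTypeI M → K = ⊥) (hder : K ≠ ⊥ → ⁅M, M⁆ = U ⊔ sigmaCore M) {x : G}
    (hx : x ∈ typeA M) : (x ∈ sigmaCore M ∧ x ≠ 1) ∨ x ∈ setT M U := by
  obtain ⟨h1, h2⟩ := mem_sigmaA_of_mem_typeA h hcore hF hI hder hx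
  by_cases hS : x ∈ sigmaCore M
  · exact Or.inl ⟨hS, h2⟩
  · exact Or.inr ⟨h1, hS⟩

end Cfsg.Agent.Helper25.PF8
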