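import Mathlib
import Cfsg.Prelude.Def_OddOrderChar
import Cfsg.Prelude.Def_OddOrderLocal
import Cfsg.Prelude.Def_OddOrder
import Cfsg.Agent.Helper25.ProdSup
import Cfsg.Agent.Helper25.SNCyclic
import Cfsg.Agent.Helper25.PF8
import Cfsg.Agent.Helper25.PF8TypeII
import Cfsg.Agent.Helper25.PF8Lite1

/-!
# B-G Theorem II "lite", part 2: the `M`-conjugates of `Ŵ = W₁W₂ ∖ (W₁ ∪ W₂)`

Everything here follows from the definition `IsTypePWith` (plus solvability of `M`): all type-`P`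
data of `M` are `M`-conjugate, the conjugates of `Ŵ` form a TI-set, their elements have centralizers
in `M`, and they are not `G`-conjugate to elements of `M'`.
-/

set_option autoImplicit false

namespace Cfsg.Agent.Helper25.PF8

open Cfsg

variable {G : Type*} [Group G]

/-- the `M`-conjugates of `Ŵ` for the data `(W₁, W₂)`. -/
def setZ (M W₁ W₂ : Subgroup G) : Set G :=
  {v | ∃ m ∈ M, ∃ w ∈ W₁ ⊔ W₂, w ∉ W₁ ∧ w ∉ W₂ ∧ v = m * w * m⁻¹}

theorem isComplement'_of_isComplIn {H V D : Subgroup G} (hV : IsComplIn H V D) :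
    Subgroup.IsComplement' (H.subgroupOf D) (V.subgroupOf D) := by
  apply Subgroup.isComplement'_of_disjoint_and_mul_eq_univ
  · rw [disjoint_iff, Subgroup.eq_bot_iff_forall]
    intro x hx
    have h1 : (x : G) ∈ H ⊓ V := ⟨hx.1, hx.2⟩
    rw [hV.2.2.1, Subgroup.mem_bot] at h1
    exact Subtype.ext h1
  · rw [Set.eq_univ_iff_forall]
    intro m
    obtain ⟨a, ha, b, hb, hab⟩ := hV.2.2.2 m m.2
    refine Set.mem_mul.mpr ⟨⟨a, hV.1 ha⟩, ha, ⟨b, hV.2.1 hb⟩, hb, ?_⟩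
    exact Subtype.ext hab.symm

/-- numerical facts on type-`P` data -/
theorem typeP_card [Finite G] {M W₁ U W₂ : Subgroup G} (hP : IsTypePWith M W₁ U W₂) :
    W₁.relIndex M = Nat.card ↥⁅M, M⁆ ∧ (⁅M, M⁆ : Subgroup G).relIndex M = Nat.card W₁ ∧
      (Nat.card W₁).Coprime (Nat.card ↥⁅M, M⁆) := by
  have hc := isComplement'_of_isComplIn hP.W₁_compl
  have h1 : W₁.relIndex M = Nat.card ↥⁅M, M⁆ := by
    have := hc.index_eq_card
    rw [Nat.card_congr (Subgroup.subgroupOfEquivOfLe hP.W₁_compl.1).toEquiv] at this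
    exact this
  have h2 : (⁅M, M⁆ : Subgroup G).relIndex M = Nat.card W₁ := by
    have := hc.symm.index_eq_card
    rw [Nat.card_congr (Subgroup.subgroupOfEquivOfLe hP.W₁_compl.2.1).toEquiv] at this
    exact this
  refine ⟨h1, h2, ?_⟩
  rw [← h1]; exact hP.W₁_hall

/-- (Z2) any two type-`P` data of a solvable `M` are conjugate under `M`. -/
theorem typeP_conj [Finite G] {M W₁ U W₂ W₁' U' W₂' : Subgroup G} (hsolv : Group.IsSolvable ↥M)
    (hP : IsTypePWith M W₁ U W₂) (hP' : IsTypePWith M W₁' U' W₂') :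
    ∃ d ∈ M, (∀ x ∈ W₁, d * x * d⁻¹ ∈ W₁') ∧ (∀ y ∈ W₁', d⁻¹ * y * d ∈ W₁) ∧
      (∀ x ∈ W₂, d * x * d⁻¹ ∈ W₂') ∧ (∀ y ∈ W₂', d⁻¹ * y * d ∈ W₂) := by
  have hn : M ≤ Subgroup.normalizer ((⁅M, M⁆ : Subgroup G) : Set G) := by
    intro m hm
    rw [Subgroup.mem_normalizer_iff]
    intro x
    constructor
    · exact fun hx => conj_mem_commutator_self hm hx
    · intro hx
      have := conj_mem_commutator_self (M.inv_mem hm) hx
      simpa [mul_assoc] using this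
  have hcop : (Nat.card ↥⁅M, M⁆).Coprime ((⁅M, M⁆ : Subgroup G).relIndex M) := by
    obtain ⟨-, h2, h3⟩ := typeP_card hP
    rw [h2]; exact h3.symm
  obtain ⟨d, hd, h1, h2⟩ := exists_conj_of_isComplIn hsolv hn hcop hP.W₁_compl hP'.W₁_compl
  refine ⟨d, hd, h1, h2, ?_, ?_⟩
  all_goals
    obtain ⟨w, hw, hw1⟩ : ∃ w : G, w ∈ W₁ ∧ w ≠ 1 := by
      obtain ⟨y, hy⟩ := (Subgroup.ne_bot_iff_exists_ne_one (H := W₁)).mp hP.W₁_ne
      exact ⟨(y : G), y.2, fun h => hy (Subtype.ext h)⟩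
  · intro x hx
    rw [← hP.W₂_centralizer w hw hw1] at hx
    rw [← hP'.W₂_centralizer (d * w * d⁻¹) (h1 w hw) (conj_ne_one hw1)]
    rw [Subgroup.mem_inf]
    refine ⟨conj_mem_commutator_self hd hx.1, ?_⟩
    rw [Subgroup.mem_centralizer_iff]
    intro y hy
    rw [Set.mem_singleton_iff] at hy
    subst hy
    have := Subgroup.mem_centralizer_iff.mp hx.2 w rfl
    exact conj_comm this
  · intro y hy
    rw [← hP'.W₂_centralizer (d * w * d⁻¹) (h1 w hw) (conj_ne_one hw1)] at hy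
    rw [← hP.W₂_centralizer w hw hw1, Subgroup.mem_inf]
    refine ⟨?_, ?_⟩
    · have := conj_mem_commutator_self (M.inv_mem hd) hy.1
      simpa [mul_assoc] using this
    · rw [Subgroup.mem_centralizer_iff]
      intro z hz
      rw [Set.mem_singleton_iff] at hz
      subst hz
      have h3 := Subgroup.mem_centralizer_iff.mp hy.2 (d * z * d⁻¹) rfl
      have h4 : d⁻¹ * (d * z * d⁻¹) * d⁻¹⁻¹ * (d⁻¹ * y * d⁻¹⁻¹) =
          d⁻¹ * y * d⁻¹⁻¹ * (d⁻¹ * (d * z * d⁻¹) * d⁻¹⁻¹) := conj_comm h3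
      have e : d⁻¹ * (d * z * d⁻¹) * d⁻¹⁻¹ = z := by group
      rw [e] at h4
      simpa using h4

theorem typeP_W_le {M W₁ U W₂ : Subgroup G} (hP : IsTypePWith M W₁ U W₂) : W₁ ⊔ W₂ ≤ M :=
  sup_le hP.W₁_compl.2.1 ((hP.W₂_le.trans inf_le_left).trans (fittingHallOf_le M))

/-- (Z3) the extra part of `A₀(M)` lies in `setZ` for any fixed data. -/
theorem mem_setZ_of_extra [Finite G] {M W₁ U W₂ : Subgroup G} (hsolv : Group.IsSolvable ↥M)
    (hP : IsTypePWith M W₁ U W₂) {v : G}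
    (hv : ∃ W₁' U' W₂' : Subgroup G, IsTypePWith M W₁' U' W₂' ∧
      ∃ m ∈ M, ∃ w ∈ W₁' ⊔ W₂', w ∉ W₁' ∧ w ∉ W₂' ∧ v = m * w * m⁻¹) : v ∈ setZ M W₁ W₂ := by
  obtain ⟨W₁', U', W₂', hP', m, hm, w', hw', hw1', hw2', rfl⟩ := hv
  obtain ⟨d, hd, h1, h2, h3, h4⟩ := typeP_conj hsolv hP hP'
  obtain ⟨a, b, hab⟩ := Cfsg.Agent.Helper25.exists_mul_of_mem_sup hP'.selfNormalizing.2.2.1
    hP'.selfNormalizing.2.2.2.1 ⟨w', hw'⟩
  simp only at hab
  refine ⟨m * d, M.mul_mem hm hd, d⁻¹ * w' * d, ?_, ?_, ?_, by group⟩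
  · have e : d⁻¹ * w' * d = (d⁻¹ * (a : G) * d) * (d⁻¹ * (b : G) * d) := by rw [hab]; group
    rw [e]
    exact Subgroup.mul_mem _ (Subgroup.mem_sup_left (h2 _ a.2)) (Subgroup.mem_sup_right (h4 _ b.2))
  · intro h
    apply hw1'
    have := h1 _ h
    have e : d * (d⁻¹ * w' * d) * d⁻¹ = w' := by group
    rwa [e] at this
  · intro h
    apply hw2'
    have := h3 _ h
    have e : d * (d⁻¹ * w' * d) * d⁻¹ = w' := by group
    rwa [e] at this

theorem setZ_subset {M W₁ U W₂ : Subgroup G} (hP : IsTypePWith M W₁ U W₂) :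
    setZ M W₁ W₂ ⊆ (M : Set G) := by
  rintro v ⟨m, hm, w, hw, -, -, rfl⟩
  exact M.mul_mem (M.mul_mem hm (typeP_W_le hP hw)) (M.inv_mem hm)

/-- (Z4) fusion inside `setZ` is by elements of `M`. -/
theorem mem_of_conj_mem_setZ {M W₁ U W₂ : Subgroup G} (hP : IsTypePWith M W₁ U W₂) {v g : G}
    (hv : v ∈ setZ M W₁ W₂) (hgv : g * v * g⁻¹ ∈ setZ M W₁ W₂) : g ∈ M := by
  obtain ⟨m, hm, w, hw, hw1, hw2, rfl⟩ := hv
  obtain ⟨m', hm', w', hw', hw1', hw2', h⟩ := hgv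
  have hx : (m'⁻¹ * g * m)⁻¹ * w' * (m'⁻¹ * g * m) = w := by
    have : w' = m'⁻¹ * (m' * w' * m'⁻¹) * m' := by group
    rw [this, ← h]; group
  have := Cfsg.Agent.Helper25.snc_mem_of_conj_mem hP.selfNormalizing hw' hw1' hw2'
    (x := m'⁻¹ * g * m) (by rw [hx]; exact hw) (by rw [hx]; exact hw1) (by rw [hx]; exact hw2)
  have h5 := typeP_W_le hP this
  have e : g = m' * (m'⁻¹ * g * m) * m⁻¹ := by group
  rw [e]
  exact M.mul_mem (M.mul_mem hm' h5) (M.inv_mem hm)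

/-- (Z5) centralizers of elements of `setZ` lie in `M`. -/
theorem centralizer_le_of_mem_setZ {M W₁ U W₂ : Subgroup G} (hP : IsTypePWith M W₁ U W₂) {v : G}
    (hv : v ∈ setZ M W₁ W₂) : Subgroup.centralizer ({v} : Set G) ≤ M := by
  intro c hc
  apply mem_of_conj_mem_setZ hP hv (g := c)
  have : c * v * c⁻¹ = v := by
    have := Subgroup.mem_centralizer_iff.mp hc v rfl
    rw [← this]; group
  rw [this]; exact hv

/-- (Z6) an element of `setZ` is not `G`-conjugate to an element of `M'`. -/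
theorem not_conj_of_mem_setZ [Finite G] {M W₁ U W₂ : Subgroup G} (hP : IsTypePWith M W₁ U W₂)
    {v a g : G} (hv : v ∈ setZ M W₁ W₂) (ha : a ∈ ⁅M, M⁆) (hg : g * a * g⁻¹ = v) : False := by
  obtain ⟨m, hm, w, hw, hw1, hw2, rfl⟩ := hv
  obtain ⟨-, -, hcop⟩ := typeP_card hP
  obtain ⟨w₁, w₂, hab⟩ := Cfsg.Agent.Helper25.exists_mul_of_mem_sup hP.selfNormalizing.2.2.1
    hP.selfNormalizing.2.2.2.1 ⟨w, hw⟩
  simp only at hab
  have hcomm : Commute (w₁ : G) (w₂ : G) := hP.selfNormalizing.2.2.2.1 _ w₁.2 _ w₂.2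
  set n₂ := Nat.card W₂ with hn₂
  have hW₂M' : W₂ ≤ ⁅M, M⁆ := (hP.W₂_le.trans inf_le_left).trans hP.U_compl.1
  have hn₂dvd : n₂ ∣ Nat.card ↥⁅M, M⁆ := Subgroup.card_dvd_of_le hW₂M'
  have hw₂pow : (w₂ : G) ^ n₂ = 1 := by
    have : (w₂ : ↥W₂) ^ n₂ = 1 := pow_card_eq_one'
    have h2 := congrArg (Subtype.val) this
    simpa using h2
  have hwpow : w ^ n₂ = (w₁ : G) ^ n₂ := by
    rw [hab, hcomm.mul_pow, hw₂pow, mul_one]
  -- orders
  have hord : orderOf w = orderOf a := by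
    have h1 : orderOf (m * w * m⁻¹) = orderOf w := by
      have := orderOf_injective (MulAut.conj m).toMonoidHom (MulAut.conj m).injective w
      simpa [MulAut.conj_apply] using this
    have h2 : orderOf (g * a * g⁻¹) = orderOf a := by
      have := orderOf_injective (MulAut.conj g).toMonoidHom (MulAut.conj g).injective a
      simpa [MulAut.conj_apply] using this
    rw [← h1, ← hg, h2]
  have hda : orderOf a ∣ Nat.card ↥⁅M, M⁆ := Subgroup.orderOf_dvd_natCard _ ha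
  have ht1 : orderOf ((w₁ : G) ^ n₂) ∣ Nat.card W₁ :=
    Subgroup.orderOf_dvd_natCard _ (W₁.pow_mem w₁.2 n₂)
  have ht2 : orderOf ((w₁ : G) ^ n₂) ∣ Nat.card ↥⁅M, M⁆ := by
    rw [← hwpow]
    exact (orderOf_pow_dvd n₂).trans (hord ▸ hda)
  have ht : (w₁ : G) ^ n₂ = 1 := by
    rw [← orderOf_eq_one_iff]
    exact Nat.eq_one_of_dvd_coprimes hcop ht1 ht2
  have h3 : orderOf (w₁ : G) ∣ Nat.card W₁ := Subgroup.orderOf_dvd_natCard _ w₁.2
  have h4 : orderOf (w₁ : G) ∣ Nat.card ↥⁅M, M⁆ :=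
    (orderOf_dvd_of_pow_eq_one ht).trans hn₂dvd
  have h5 : (w₁ : G) = 1 := by
    rw [← orderOf_eq_one_iff]
    exact Nat.eq_one_of_dvd_coprimes hcop h3 h4
  apply hw2
  rw [hab, h5, one_mul]
  exact w₂.2

end Cfsg.Agent.Helper25.PF8
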