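import Mathlib
import Cfsg.Prelude.Def_OddOrderChar
import Cfsg.Prelude.Def_OddOrderLocal
import Cfsg.Prelude.Def_OddOrder
import Cfsg.Agent.Helper50.CyclicSylow
import Cfsg.Agent.Helper67.CyclicSub
import Cfsg.Agent.Helper25.PF8
import Cfsg.Agent.Helper25.PF8Lite1
import Cfsg.Agent.Helper25.PF8Lite2

/-!
# B-G Theorem II "lite", part 3: `κ(M)`, coprimality
-/

set_option autoImplicit false

namespace Cfsg.Agent.Helper25.PF8

open Cfsg

variable {G : Type*} [Group G]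

/-- elements of `M` whose order involves only primes of `σ(M)` lie in `M_σ`. -/
theorem mem_sigmaCore_of_primes [Finite G] {M : Subgroup G}
    (hall : IsPiHallOf (sigma M) (sigmaCore M) M) {y : G} (hyM : y ∈ M)
    (h : ∀ r : ℕ, r.Prime → r ∣ orderOf y → r ∈ sigma M) : y ∈ sigmaCore M := by
  have hrel : (sigmaCore M).relIndex M = (piCore (sigma M) ↥M).index := by
    unfold Subgroup.relIndex sigmaCore
    congr 1
    ext x
    simp [Subgroup.mem_subgroupOf]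
  have hcop : ((piCore (sigma M) ↥M).index).Coprime (orderOf (⟨y, hyM⟩ : ↥M)) := by
    apply Nat.Coprime.symm
    apply Nat.coprime_of_dvd
    intro k hk hk1 hk2
    have h1 : orderOf (⟨y, hyM⟩ : ↥M) = orderOf y := by
      rw [← Subgroup.orderOf_coe]
    rw [h1] at hk1
    rw [← hrel] at hk2
    exact hall.2.2 k hk (h k hk hk1) hk2
  obtain ⟨k, hk⟩ := exists_pow_eq_self_of_coprime hcop
  have h2 : (⟨y, hyM⟩ : ↥M) ∈ piCore (sigma M) ↥M := by
    rw [← hk]
    exact Subgroup.pow_mem _ ((piCore (sigma M) ↥M).pow_index_mem _) k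
  exact ⟨⟨y, hyM⟩, h2, rfl⟩

/-- an element of `M` outside `M_σ` has a power of prime order `r ∉ σ(M)`. -/
theorem exists_prime_not_mem_sigma [Finite G] {M : Subgroup G}
    (hall : IsPiHallOf (sigma M) (sigmaCore M) M) {y : G} (hyM : y ∈ M)
    (hyS : y ∉ sigmaCore M) : ∃ r : ℕ, r.Prime ∧ r ∣ orderOf y ∧ r ∉ sigma M := by
  by_contra hcon
  apply hyS
  apply mem_sigmaCore_of_primes hall hyM
  intro r hr hrd
  by_contra hrσ
  exact hcon ⟨r, hr, hrd, hrσ⟩

/-- rank at most one from `τ₂(M) = ∅` and `α(M) ⊆ σ(M)`. -/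
theorem pRankLE_one_of {M : Subgroup G} (hτ : tau2 M = ∅)
    (halpha : ∀ p : ℕ, p ∈ alpha M → p ∈ sigma M) {r : ℕ} (hr : r.Prime) (hrσ : r ∉ sigma M) :
    PRankLE r 1 ↥M := by
  by_contra h1
  have h2 : PRankLE r 2 ↥M := by
    by_contra h2
    exact hrσ (halpha r ⟨hr, h2⟩)
  have : r ∈ tau2 M := ⟨hr, hrσ, h2, h1⟩
  rw [hτ] at this
  exact this

/-- membership in `κ(M)` from one element of order `r` centralizing an element of `M_σ ∖ 1`. -/
theorem mem_kappa_of [Finite G] {M : Subgroup G} {r : ℕ} [hr : Fact r.Prime] (hr2 : r ≠ 2)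
    (hrσ : r ∉ sigma M) (hrk : PRankLE r 1 ↥M) {y₀ y' : G} (hy₀M : y₀ ∈ M)
    (hord : orderOf y₀ = r) (hy' : y' ∈ sigmaCore M) (hy'1 : y' ≠ 1)
    (hc : y₀ * y' = y' * y₀) : r ∈ kappa M := by
  refine ⟨hr.out, ?_, hrσ, ?_⟩
  · rw [← hord]
    exact Subgroup.orderOf_dvd_natCard _ hy₀M
  · intro P
    refine ⟨Cfsg.Agent.Helper50.sylow_isCyclic_of_pRankLE_one hr2 hrk P, ?_⟩
    set yM : ↥M := ⟨y₀, hy₀M⟩ with hyM
    have hyMord : orderOf yM = r := by
      rw [← hord, ← Subgroup.orderOf_coe]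
    have hzp : IsPGroup r (Subgroup.zpowers yM) := by
      apply IsPGroup.of_card (n := 1)
      rw [Nat.card_zpowers, hyMord, pow_one]
    obtain ⟨Q, hQ⟩ := hzp.exists_le_sylow
    obtain ⟨g, hg⟩ := MulAction.exists_smul_eq ↥M Q P
    have huQ : yM ∈ (Q : Subgroup ↥M) := hQ (Subgroup.mem_zpowers yM)
    have h1 : g * yM * g⁻¹ ∈ ((g • Q : Sylow r ↥M) : Subgroup ↥M) := by
      rw [Sylow.coe_subgroup_smul]
      have := Subgroup.smul_mem_pointwise_smul yM (MulAut.conj g) (Q : Subgroup ↥M) huQ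
      simpa [MulAut.smul_def] using this
    rw [hg] at h1
    have hyM1 : yM ≠ 1 := by
      intro h
      rw [h, orderOf_one] at hyMord
      exact hr.out.one_lt.ne hyMord
    refine ⟨g * yM * g⁻¹, h1, conj_ne_one hyM1, (g : G) * y' * (g : G)⁻¹,
      conj_mem_sigmaCore g.2 hy', conj_ne_one hy'1, ?_⟩
    have : ((g * yM * g⁻¹ : ↥M) : G) = (g : G) * y₀ * (g : G)⁻¹ := by
      simp [hyM]
    rw [this]
    exact conj_comm hc

/-- type-`P` data force `κ(M) ≠ ∅` (when `τ₂(M) = ∅`; this is all we need). -/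
theorem exists_mem_kappa_of_typeP [Finite G] (hodd : Odd (Nat.card G)) {M W₁ U W₂ : Subgroup G}
    (hP : IsTypePWith M W₁ U W₂) (hall : IsPiHallOf (sigma M) (sigmaCore M) M)
    (hFS : fittingHallOf M ≤ sigmaCore M) (hSM' : sigmaCore M ≤ ⁅M, M⁆)
    (hτ : tau2 M = ∅) (halpha : ∀ p : ℕ, p ∈ alpha M → p ∈ sigma M) : ∃ r : ℕ, r ∈ kappa M := by
  have hW₁M : W₁ ≤ M := hP.W₁_compl.2.1
  have hcard1 : Nat.card W₁ ≠ 1 := fun h => hP.W₁_ne ((Subgroup.card_eq_one).mp h)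
  set r := (Nat.card W₁).minFac with hr
  have hrp : Fact r.Prime := ⟨Nat.minFac_prime hcard1⟩
  obtain ⟨w, hw⟩ := exists_prime_orderOf_dvd_card' r (Nat.minFac_dvd _)
  have hword : orderOf (w : G) = r := by rw [Subgroup.orderOf_coe, hw]
  have hw1 : (w : G) ≠ 1 := by
    intro h
    rw [h, orderOf_one] at hword
    exact hrp.out.one_lt.ne hword
  have hr2 : r ≠ 2 := by
    intro h2
    have hd : r ∣ Nat.card G := by
      rw [← hword]; exact orderOf_dvd_natCard _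
    rw [h2] at hd
    exact (Nat.not_even_iff_odd.mpr hodd) (even_iff_two_dvd.mpr hd)
  have hrσ : r ∉ sigma M := by
    intro hrσ
    have h1 : (w : G) ∈ sigmaCore M := by
      apply mem_sigmaCore_of_primes hall (hW₁M w.2)
      intro k hk hkd
      rw [hword] at hkd
      rw [(Nat.prime_dvd_prime_iff_eq hk hrp.out).mp hkd]
      exact hrσ
    have h2 : (w : G) ∈ ⁅M, M⁆ ⊓ W₁ := ⟨hSM' h1, w.2⟩
    rw [hP.W₁_compl.2.2.1, Subgroup.mem_bot] at h2
    exact hw1 h2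
  obtain ⟨y, hy, hy1⟩ : ∃ y : G, y ∈ W₂ ∧ y ≠ 1 := by
    obtain ⟨y, hy⟩ := (Subgroup.ne_bot_iff_exists_ne_one (H := W₂)).mp hP.selfNormalizing.2.1
    exact ⟨(y : G), y.2, fun h => hy (Subtype.ext h)⟩
  exact ⟨r, mem_kappa_of hr2 hrσ (pRankLE_one_of hτ halpha hrp.out hrσ) (hW₁M w.2) hword
    (hFS ((hP.W₂_le.trans inf_le_left) hy)) hy1 (hP.selfNormalizing.2.2.2.1 _ w.2 _ hy)⟩

theorem map_conj_eq_self {M : Subgroup G} {r : G} (hr : r ∈ M) :
    M.map (MulAut.conj r).toMonoidHom = M := by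
  ext y
  rw [mem_map_conj]
  constructor
  · intro h
    have := M.mul_mem (M.mul_mem hr h) (M.inv_mem hr)
    have e : r * (r⁻¹ * y * r) * r⁻¹ = y := by group
    rwa [e] at this
  · intro h
    exact M.mul_mem (M.mul_mem (M.inv_mem hr) h) hr

/-- The weak form of S1432 that is used. -/
def Dich (M : Subgroup G) : Prop :=
  ∀ y ∈ sigmaCore M, y ≠ 1 → ∀ z ∈ M ⊓ Subgroup.centralizer ({y} : Set G), z ≠ 1 →
    (∀ p : ℕ, p.Prime → p ∣ orderOf z → p ∉ sigma M) →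
    (∀ p : ℕ, p.Prime → p ∣ orderOf z → p ∈ kappa M) ∨
      (∀ p : ℕ, p.Prime → p ∣ orderOf z → p ∈ tau2 M)

/-- (coprimality) `|N_σ|` is coprime to `|C_M(y)|` for every `y` in `(M_σ ∖ 1) ∪ T ∪ Ŵ^M`. -/
theorem coprime_sigmaCore_centralizer [Finite G] (hodd : Odd (Nat.card G)) {M N U : Subgroup G}
    (hallM : IsPiHallOf (sigma M) (sigmaCore M) M)
    (hprimesN : ∀ p : ℕ, p.Prime → p ∣ Nat.card (sigmaCore N) → p ∈ sigma N)
    (halpha : ∀ p : ℕ, p ∈ alpha M → p ∈ sigma M)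
    (hFS : fittingHallOf M ≤ sigmaCore M) (hSM' : sigmaCore M ≤ ⁅M, M⁆)
    {x : G} (hxM : ¬ Subgroup.centralizer ({x} : Set G) ≤ M)
    (hxN : Subgroup.centralizer ({x} : Set G) ≤ N) (hfus : Fus M x)
    (hpart : (sigma M ∩ sigma N).Nonempty → ∃ g : G, N = M.map (MulAut.conj g).toMonoidHom)
    (hk2 : (∃ p ∈ sigma N, p ∣ Nat.card M) → kappa M = ∅ ∧ tau2 M = ∅)
    (hdich : Dich M) {y : G}
    (hy : (y ∈ sigmaCore M ∧ y ≠ 1) ∨ y ∈ setT M U ∨
      (∃ W₁ U' W₂ : Subgroup G, IsTypePWith M W₁ U' W₂ ∧ y ∈ setZ M W₁ W₂)) :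
    (Nat.card (sigmaCore N)).Coprime (Nat.card ↥(M ⊓ Subgroup.centralizer ({y} : Set G))) := by
  apply Nat.coprime_of_dvd
  intro p hp hpN hpC
  have hpp : Fact p.Prime := ⟨hp⟩
  have hpσN : p ∈ sigma N := hprimesN p hp hpN
  have hpM : p ∣ Nat.card M := hpC.trans (Subgroup.card_dvd_of_le inf_le_left)
  obtain ⟨hκ, hτ⟩ := hk2 ⟨p, hpσN, hpM⟩
  have hp2 : ∀ r : ℕ, r ∣ Nat.card M → r ≠ 2 := by
    intro r hd h2
    have hd' : r ∣ Nat.card G := hd.trans (Subgroup.card_subgroup_dvd_card M)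
    rw [h2] at hd'
    exact (Nat.not_even_iff_odd.mpr hodd) (even_iff_two_dvd.mpr hd')
  by_cases hpσM : p ∈ sigma M
  · -- `N` would be conjugate to `M`
    obtain ⟨g, hg⟩ := hpart ⟨p, hpσM, hpσN⟩
    obtain ⟨R, hRC, hR⟩ := hfus
    have hxN' : x ∈ M.map (MulAut.conj g).toMonoidHom := by
      rw [← hg]
      exact hxN (Subgroup.mem_centralizer_iff.mpr (fun z hz => by
        rw [Set.mem_singleton_iff] at hz; rw [hz]))
    obtain ⟨r, hr, hrM⟩ := hR g hxN'
    have hrN : r ∈ M.map (MulAut.conj r).toMonoidHom := by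
      rw [hrM, ← hg]; exact hxN (hRC hr)
    rw [mem_map_conj] at hrN
    have hrM' : r ∈ M := by
      have e : r⁻¹ * r * r = r := by group
      rwa [e] at hrN
    apply hxM
    rw [hg, ← hrM, map_conj_eq_self hrM'] at hxN
    exact hxN
  · rcases hy with ⟨hyS, hy1⟩ | hyT | ⟨W₁, U', W₂, hP, hyZ⟩
    · -- `y ∈ M_σ ∖ 1`: the dichotomy
      obtain ⟨z, hz⟩ := exists_prime_orderOf_dvd_card' p hpC
      have hzord : orderOf (z : G) = p := by rw [Subgroup.orderOf_coe, hz]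
      have hz1 : (z : G) ≠ 1 := by
        intro h
        rw [h, orderOf_one] at hzord
        exact hp.one_lt.ne hzord
      have hprimes : ∀ q : ℕ, q.Prime → q ∣ orderOf (z : G) → q = p := by
        intro q hq hqd
        rw [hzord] at hqd
        exact (Nat.prime_dvd_prime_iff_eq hq hp).mp hqd
      rcases hdich y hyS hy1 (z : G) z.2 hz1
        (fun q hq hqd => by rw [hprimes q hq hqd]; exact hpσM) with h | h
      · have := h p hp (by rw [hzord])
        rw [hκ] at this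
        exact this
      · have := h p hp (by rw [hzord])
        rw [hτ] at this
        exact this
    · -- `y ∈ T`
      obtain ⟨⟨⟨hyM, y', hy', hy'1, hc⟩, -⟩, hyS⟩ := hyT
      obtain ⟨r, hr, hrd, hrσ⟩ := exists_prime_not_mem_sigma hallM hyM hyS
      have hrp : Fact r.Prime := ⟨hr⟩
      have hy0 : orderOf y ≠ 0 := (orderOf_pos y).ne'
      have hord : orderOf (y ^ (orderOf y / r)) = r := orderOf_pow_orderOf_div hy0 hrd
      have hc' : y ^ (orderOf y / r) * y' = y' * y ^ (orderOf y / r) :=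
        ((Commute.pow_left (show Commute y y' from hc) _)).eq
      have hrM : r ∣ Nat.card M := hrd.trans (Subgroup.orderOf_dvd_natCard _ hyM)
      have := mem_kappa_of (hp2 r hrM) hrσ (pRankLE_one_of hτ halpha hr hrσ)
        (M.pow_mem hyM _) hord hy' hy'1 hc'
      rw [hκ] at this
      exact this
    · -- `y ∈ Ŵ^M`
      obtain ⟨r, hr⟩ := exists_mem_kappa_of_typeP hodd hP hallM hFS hSM' hτ halpha
      rw [hκ] at hr
      exact hr

end Cfsg.Agent.Helper25.PF8
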