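import Mathlib
import Cfsg.Prelude.Def_OddOrderChar
import Cfsg.Prelude.Def_OddOrderLocal
import Cfsg.Prelude.Def_OddOrder
import Cfsg.Agent.Helper67.CyclicSub
import Cfsg.Agent.Helper25.PF8
import Cfsg.Agent.Helper25.PF8Excl
import Cfsg.Agent.Helper25.PF8Lite1
import Cfsg.Agent.Helper25.PF8Lite2
import Cfsg.Agent.Helper25.PF8Lite3

/-!
# B-G Theorem II "lite", part 4: Frobenius type forces `K = 1`; the assembly of `BGII`
-/

set_option autoImplicit false

namespace Cfsg.Agent.Helper25.PF8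

open Cfsg

variable {G : Type*} [Group G]

/-- A maximal subgroup of Frobenius type with `M_F = M_σ` has `κ(M) = ∅`, i.e. `K = 1`. -/
theorem K_eq_bot_of_typeF [Finite G] {M K U : Subgroup G} (hKU : IsSigmaDecomposition M K U)
    (hall : IsPiHallOf (sigma M) (sigmaCore M) M) (hFS : fittingHallOf M = sigmaCore M)
    (hF : IsOfTypeF ↥M) : K = ⊥ := by
  classical
  by_contra hK
  have hcard1 : Nat.card K ≠ 1 := fun h => hK (Subgroup.card_eq_one.mp h)
  obtain ⟨r, hr, hrd⟩ := Nat.exists_prime_and_dvd hcard1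
  have hrκ : r ∈ kappa M := hKU.hall.2.1 r hr hrd
  obtain ⟨-, hrM, hrσ, hsyl⟩ := hrκ
  have hrp : Fact r.Prime := ⟨hr⟩
  obtain ⟨-, -, -, -, UF, -, hcompl, -, ⟨U₀, -, hexp, hfpf⟩⟩ := hF
  have hcardF : Nat.card (fittingHall ↥M) = Nat.card (sigmaCore M) := by
    rw [← hFS]
    unfold fittingHallOf
    rw [Subgroup.card_map_of_injective M.subtype_injective]
  have hrF : ¬ r ∣ Nat.card (fittingHall ↥M) := by
    rw [hcardF]
    intro h
    exact hrσ (hall.2.1 r hr h)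
  have hmul : Nat.card (fittingHall ↥M) * Nat.card UF = Nat.card ↥M := hcompl.card_mul_card
  have hrUF : r ∣ Nat.card UF := by
    have : r ∣ Nat.card (fittingHall ↥M) * Nat.card UF := by rw [hmul]; exact hrM
    exact ((Nat.Prime.dvd_mul hr).mp this).resolve_left hrF
  obtain ⟨u, hu⟩ := exists_prime_orderOf_dvd_card' r hrUF
  have hsexp : r ∣ Monoid.exponent ↥U₀ := by
    rw [hexp, ← hu]; exact Monoid.order_dvd_exponent u
  have hsU₀ : r ∣ Nat.card U₀ := hsexp.trans Group.exponent_dvd_nat_card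
  obtain ⟨u₀, hu₀⟩ := exists_prime_orderOf_dvd_card' r hsU₀
  have hu₀ord : orderOf (u₀ : ↥M) = r := by rw [Subgroup.orderOf_coe, hu₀]
  have hu₀1 : (u₀ : ↥M) ≠ 1 := by
    intro h
    rw [h, orderOf_one] at hu₀ord
    exact hr.one_lt.ne hu₀ord
  have hzp : IsPGroup r (Subgroup.zpowers (u₀ : ↥M)) := by
    apply IsPGroup.of_card (n := 1)
    rw [Nat.card_zpowers, hu₀ord, pow_one]
  obtain ⟨P, hP⟩ := hzp.exists_le_sylow
  obtain ⟨hcyc, x, hxP, hx1, y, hyS, hy1, hc⟩ := hsyl P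
  haveI : IsCyclic ↥(P : Subgroup ↥M) := hcyc
  -- `r ∣ orderOf x`
  have hxord : r ∣ orderOf x := by
    obtain ⟨k, hk⟩ := (IsPGroup.iff_orderOf.mp P.2) ⟨x, hxP⟩
    have h1 : orderOf x = r ^ k := by
      rw [← hk]
      exact Subgroup.orderOf_coe (⟨x, hxP⟩ : ↥(P : Subgroup ↥M))
    rw [h1]
    rcases k with _ | k
    · exfalso
      rw [pow_zero, orderOf_eq_one_iff] at h1
      exact hx1 h1
    · exact dvd_pow_self r (Nat.succ_ne_zero k)
  have hx0 : orderOf x ≠ 0 := (orderOf_pos x).ne'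
  have hvord : orderOf (x ^ (orderOf x / r)) = r := orderOf_pow_orderOf_div hx0 hxord
  have hle1 : Subgroup.zpowers (x ^ (orderOf x / r)) ≤ (P : Subgroup ↥M) := by
    rw [Subgroup.zpowers_le]
    exact Subgroup.pow_mem _ hxP _
  have heq : Subgroup.zpowers (u₀ : ↥M) = Subgroup.zpowers (x ^ (orderOf x / r)) := by
    apply Cfsg.Agent.Helper67.eq_of_card_eq_of_le_cyclic (P : Subgroup ↥M) _ _ hP hle1
    rw [Nat.card_zpowers, Nat.card_zpowers, hu₀ord, hvord]
  have hu₀x : (u₀ : ↥M) ∈ Subgroup.zpowers x := by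
    have h1 : (u₀ : ↥M) ∈ Subgroup.zpowers (x ^ (orderOf x / r)) := by
      rw [← heq]; exact Subgroup.mem_zpowers _
    have h2 : Subgroup.zpowers (x ^ (orderOf x / r)) ≤ Subgroup.zpowers x := by
      rw [Subgroup.zpowers_le]
      exact Subgroup.pow_mem _ (Subgroup.mem_zpowers x) _
    exact h2 h1
  obtain ⟨k, hk⟩ := Subgroup.mem_zpowers_iff.mp hu₀x
  -- `y` as an element of `M_F`
  have hyF : y ∈ fittingHallOf M := by rw [hFS]; exact hyS
  obtain ⟨yM, hyM, hyMe⟩ := hyF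
  have hcM : Commute x yM := by
    apply Subtype.ext
    have e : (yM : G) = y := hyMe
    simp only [Subgroup.coe_mul]
    rw [e]; exact hc
  have hcu : (u₀ : ↥M) * yM = yM * (u₀ : ↥M) := by
    rw [← hk]
    exact (hcM.zpow_left k).eq
  have := hfpf (u₀ : ↥M) u₀.2 hu₀1 yM hyM hcu
  apply hy1
  rw [← hyMe, this]
  rfl

theorem isComplIn_swap {A B C : Subgroup G} (h : IsComplIn A B C) : IsComplIn B A C := by
  refine ⟨h.2.1, h.1, by rw [inf_comm]; exact h.2.2.1, ?_⟩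
  intro m hm
  obtain ⟨a, ha, b, hb, hab⟩ := h.2.2.2 m⁻¹ (C.inv_mem hm)
  refine ⟨b⁻¹, B.inv_mem hb, a⁻¹, A.inv_mem ha, ?_⟩
  have : m = (m⁻¹)⁻¹ := by simp
  rw [this, hab]; group

theorem BGII.mono {M : Subgroup G} {X Y : Set G} (h : BGII M Y) (hXY : X ⊆ Y) : BGII M X := by
  obtain ⟨h1, h2, h3⟩ := h
  refine ⟨fun x hx g hg => h1 x (hXY hx) g (hXY hg), fun x hx hc => h2 x (hXY hx) hc, ?_⟩
  intro x hx hc L hL hCL
  obtain ⟨a, b, c⟩ := h3 x (hXY hx) hc L hL hCL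
  exact ⟨a, b, fun y hy => c y (hXY hy)⟩

/-- The part of the conclusion of S1375 that is used. -/
def Supp (M : Subgroup G) (x : G) : Prop :=
  ∃ N : Subgroup G, (IsCoatom N ∧ Subgroup.centralizer ({x} : Set G) ≤ N) ∧
    (∀ L : Subgroup G, IsCoatom L → Subgroup.centralizer ({x} : Set G) ≤ L → L = N) ∧
    sigmaCore N = fittingHallOf N ∧
    Subgroup.centralizer ({x} : Set G) ≤ Subgroup.normalizer
      ((sigmaCore N ⊓ Subgroup.centralizer ({x} : Set G) : Subgroup G) : Set G) ∧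
    IsComplIn (M ⊓ Subgroup.centralizer ({x} : Set G))
      (sigmaCore N ⊓ Subgroup.centralizer ({x} : Set G)) (Subgroup.centralizer ({x} : Set G))

/-- The Bender–Glauberman inputs for `BGII`, in statement shape, for one maximal subgroup `M`. -/
structure LiteHyp (M : Subgroup G) : Prop where
  hall : IsPiHallOf (sigma M) (sigmaCore M) M
  halpha : ∀ p : ℕ, p ∈ alpha M → p ∈ sigma M
  hprimes : ∀ N : Subgroup G, ∀ p : ℕ, p.Prime → p ∣ Nat.card (sigmaCore N) → p ∈ sigma N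
  decomp : ∃ K U : Subgroup G, IsSigmaDecomposition M K U
  normal : ∀ K U : Subgroup G, IsSigmaDecomposition M K U →
    M ≤ Subgroup.normalizer ((U ⊔ sigmaCore M : Subgroup G) : Set G)
  hFS : fittingHallOf M ≤ sigmaCore M
  hSM' : sigmaCore M ≤ ⁅M, M⁆
  ti : ∀ K U : Subgroup G, IsSigmaDecomposition M K U →
    IsTISubset (sigmaA M U \ (sigmaCore M : Set G))
  derived : ∀ K U : Subgroup G, IsSigmaDecomposition M K U → K ≠ ⊥ → ⁅M, M⁆ = U ⊔ sigmaCore M
  corner : fittingHallOf M ≠ sigmaCore M → IsOfTypeIII M ∨ IsOfTypeIV M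
  corner' : IsOfTypeIII M ∨ IsOfTypeIV M → ⁅M, M⁆ = sigmaCore M
  fus : ∀ x ∈ sigmaCore M, x ≠ 1 → Fus M x
  supp : ∀ x ∈ sigmaCore M, x ≠ 1 → ¬ Subgroup.centralizer ({x} : Set G) ≤ M → Supp M x
  part : ∀ N : Subgroup G, IsCoatom N → (sigma M ∩ sigma N).Nonempty →
    ∃ g : G, N = M.map (MulAut.conj g).toMonoidHom
  k2 : ∀ x ∈ sigmaCore M, x ≠ 1 → ¬ Subgroup.centralizer ({x} : Set G) ≤ M →
    ∀ N : Subgroup G, IsCoatom N → Subgroup.centralizer ({x} : Set G) ≤ N →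
      (∃ p ∈ sigma N, p ∣ Nat.card M) → kappa M = ∅ ∧ tau2 M = ∅
  dich : Dich M

theorem mem_commutator_of_mem_typeA {M : Subgroup G} (hI : ¬ IsOfTypeI M) {x : G}
    (hx : x ∈ typeA M) : x ∈ ⁅M, M⁆ := by
  unfold typeA at hx
  rw [if_neg hI] at hx
  exact hx.1

/-- **B-G Theorem II, lite**: `BGII M (A₀(M))` from the σ-language statements. -/
theorem bgII_typeA0 [Finite G] (hG : Cfsg.IsMinSimpleOddOrder G) {M : Subgroup G}
    (hM : IsCoatom M) (h : LiteHyp M) : BGII M (typeA0 M) := by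
  have : IsSimpleGroup G := hG.2.1
  have hodd : Odd (Nat.card G) := hG.1
  have hsolv : Group.IsSolvable ↥M := hG.2.2.2 M hM.1
  obtain ⟨K, U, hKU⟩ := h.decomp
  have hn := h.normal K U hKU
  have hTI : IsTISubset (setT M U) := h.ti K U hKU
  have hcore : typeCore M = sigmaCore M := by
    unfold typeCore
    split_ifs with h34
    · exact h.corner' h34
    · by_contra hne
      exact h34 (h.corner hne)
  have hI : IsOfTypeI M → K = ⊥ := by
    intro hT
    apply K_eq_bot_of_typeF hKU h.hall _ hT.1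
    by_contra hne
    rcases h.corner hne with ⟨W₁, U', W₂, hP, -⟩ | ⟨W₁, U', W₂, hP, -⟩
    · exact not_typeF_of_typeP hT.1 hP
    · exact not_typeF_of_typeP hT.1 hP
  have hcls : ∀ x ∈ typeA M, (x ∈ sigmaCore M ∧ x ≠ 1) ∨ x ∈ setT M U := fun x hx =>
    mem_or_of_mem_typeA hKU hcore.le h.hFS hI (h.derived K U hKU) hx
  -- the two kinds of elements of `A₀(M)`
  have hkind : ∀ x ∈ typeA0 M, x ∈ typeA M ∨ (¬ IsOfTypeI M ∧
      ∃ W₁ U' W₂ : Subgroup G, IsTypePWith M W₁ U' W₂ ∧ x ∈ setZ M W₁ W₂) := by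
    intro x hx
    rcases hx with hx | ⟨hnI, W₁, U', W₂, hP, m, hm, w, hw, hw1, hw2, rfl⟩
    · exact Or.inl hx
    · exact Or.inr ⟨hnI, W₁, U', W₂, hP, m, hm, w, hw, hw1, hw2, rfl⟩
  have hXM : typeA0 M ⊆ (M : Set G) := typeA0_subset M
  -- elements with centralizer outside `M` lie in `M_σ ∖ 1`
  have hD : ∀ x ∈ typeA0 M, ¬ Subgroup.centralizer ({x} : Set G) ≤ M →
      x ∈ sigmaCore M ∧ x ≠ 1 := by
    intro x hx hc
    rcases hkind x hx with hxA | ⟨-, W₁, U', W₂, hP, hxZ⟩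
    · rcases hcls x hxA with h1 | h1
      · exact h1
      · exact absurd (centralizer_le_of_mem_setT hM hn hTI h1) hc
    · exact absurd (centralizer_le_of_mem_setZ hP hxZ) hc
  refine ⟨?_, ?_, ?_⟩
  · -- fusion
    intro x hx g hgx
    have hxM : x ∈ M := hXM hx
    have hgxM : g * x * g⁻¹ ∈ M := hXM hgx
    have hx1 : x ≠ 1 := fun h => one_not_mem_typeA0 M (h ▸ hx)
    rcases hkind x hx with hxA | ⟨hnI, W₁, U', W₂, hP, hxZ⟩
    · rcases hcls x hxA with ⟨hxS, -⟩ | hxT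
      · exact fusion_of_Fus hM hxM hx1 (h.fus x hxS hx1) hgxM
      · rcases hkind _ hgx with hgA | ⟨hnI', W₁', U'', W₂', hP', hgZ⟩
        · rcases hcls _ hgA with ⟨hgS, hg1⟩ | hgT
          · exact fusion_of_Fus' hM hxM hgxM hx1 (h.fus _ hgS hg1)
          · exact ⟨g, mem_of_conj_mem_setT hM hn hTI hxT hgT, rfl⟩
        · exact (not_conj_of_mem_setZ hP' hgZ (mem_commutator_of_mem_typeA hnI' hxA) rfl).elim
    · rcases hkind _ hgx with hgA | ⟨-, W₁', U'', W₂', hP', hgZ⟩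
      · rcases hcls _ hgA with ⟨hgS, hg1⟩ | hgT
        · exact fusion_of_Fus' hM hxM hgxM hx1 (h.fus _ hgS hg1)
        · exfalso
          apply not_conj_of_mem_setZ hP hxZ (mem_commutator_of_mem_typeA hnI hgA) (g := g⁻¹)
          group
      · have hgZ' : g * x * g⁻¹ ∈ setZ M W₁ W₂ :=
          mem_setZ_of_extra hsolv hP ⟨W₁', U'', W₂', hP', hgZ⟩
        exact ⟨g, mem_of_conj_mem_setZ hP hxZ hgZ', rfl⟩
  · -- `D ⊆ A₁(M)` and the unique maximal subgroup
    intro x hx hc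
    obtain ⟨hxS, hx1⟩ := hD x hx hc
    refine ⟨⟨by rw [hcore]; exact hxS, fun h => hx1 h⟩, ?_⟩
    obtain ⟨N, hN, huniq, -⟩ := h.supp x hxS hx1 hc
    exact ⟨N, hN, fun L hL => huniq L hL.1 hL.2⟩
  · -- the structure of `C_G(x)`
    intro x hx hc L hL hCL
    obtain ⟨hxS, hx1⟩ := hD x hx hc
    obtain ⟨N, hN, huniq, hNF, hnorm, hcompl⟩ := h.supp x hxS hx1 hc
    have hLN : L = N := huniq L hL hCL
    subst hLN
    rw [← hNF]
    refine ⟨hnorm, isComplIn_swap hcompl, ?_⟩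
    intro y hy
    apply coprime_sigmaCore_centralizer hodd h.hall (h.hprimes L) h.halpha h.hFS h.hSM' hc hCL
      (h.fus x hxS hx1) (h.part L hL) (h.k2 x hxS hx1 hc L hL hCL) h.dich (U := U)
    rcases hkind y hy with hyA | ⟨-, W₁, U', W₂, hP, hyZ⟩
    · rcases hcls y hyA with h1 | h1
      · exact Or.inl h1
      · exact Or.inr (Or.inl h1)
    · exact Or.inr (Or.inr ⟨W₁, U', W₂, hP, hyZ⟩)

/-- `BGII M (A(M))`. -/
theorem bgII_typeA [Finite G] (hG : Cfsg.IsMinSimpleOddOrder G) {M : Subgroup G}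
    (hM : IsCoatom M) (h : LiteHyp M) : BGII M (typeA M) :=
  (bgII_typeA0 hG hM h).mono (typeA_subset_typeA0 M)

end Cfsg.Agent.Helper25.PF8
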