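import Mathlib
import Cfsg.Prelude.Def_OddOrderChar
import Cfsg.Prelude.Def_OddOrderLocal
import Cfsg.Prelude.Def_OddOrder
import Cfsg.Agent.S1350
import Cfsg.Agent.S1351
import Cfsg.Agent.S1352
import Cfsg.Agent.S1355
import Cfsg.Agent.S1362
import Cfsg.Agent.S1365
import Cfsg.Agent.S1374
import Cfsg.Agent.S1375
import Cfsg.Agent.S1378
import Cfsg.Agent.S1382
import Cfsg.Agent.S1403
import Cfsg.Agent.S1432
import Cfsg.Agent.S1436
import Cfsg.Agent.S1437
import Cfsg.Agent.S1886
import Cfsg.Agent.Helper29.BG10F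
import Cfsg.Agent.Helper25.PF8Lite4

/-!
# CONDITIONAL: the hypotheses `LiteHyp M` from the frozen Bender–Glauberman statements

This file imports `Cfsg.Agent.SNNNN` for statements of B-G sections 10–16; it builds only once all of
them are on main.
-/

set_option autoImplicit false

namespace Cfsg.Agent.Helper25.PF8

open Cfsg

theorem liteHyp {G : Type*} [Group G] [Finite G] (hG : Cfsg.IsMinSimpleOddOrder G)
    (M : Subgroup G) (hM : IsCoatom M) : LiteHyp M := by
  have hU : Cfsg.Agent.Helper29.BG10.UniquenessThm G :=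
    fun K hK hK2 hK3 => Cfsg.Agent.S1403.result hG K hK hK2 hK3
  have h50 := Cfsg.Agent.S1350.result hG M hM
  have h51 := Cfsg.Agent.S1351.result hG M hM
  have h55 := Cfsg.Agent.S1355.result hG M hM
  have hdec : ∃ K U : Subgroup G, IsSigmaDecomposition M K U := by
    obtain ⟨K, hK⟩ := h51.1
    obtain ⟨U, hU'⟩ := (Cfsg.Agent.S1352.result hG M hM K (h51.2 K hK) hK).1
    exact ⟨K, U, hU'⟩
  refine
    { hall := h50.1
      halpha := fun p hp => Cfsg.Agent.Helper29.BG10.alpha_subset_sigma hG hU hM hp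
      hprimes := ?_
      decomp := hdec
      normal := fun K U hKU => (Cfsg.Agent.S1352.result hG M hM K hKU.cyclic hKU.hall).2 U hKU
      hFS := h55.2.1
      hSM' := h55.2.2.1
      ti := fun K U hKU => Cfsg.Agent.S1362.result hG M hM K U hKU
      derived := fun K U hKU hK => (Cfsg.Agent.S1365.result hG M hM K U hKU hK).1
      corner := ?_
      corner' := ?_
      fus := ?_
      supp := ?_
      part := fun N hN hne => (Cfsg.Agent.S1378.result hG).2 M N hM hN hne
      k2 := fun x hx hx1 hc N hN hCN => (Cfsg.Agent.S1436.result hG M hM x hx hx1 hc N hN hCN).1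
      dich := ?_ }
  · intro N p hp hd
    unfold sigmaCore at hd
    rw [Subgroup.card_map_of_injective N.subtype_injective] at hd
    exact Cfsg.Agent.S1886.piCore_isPi _ p hp hd
  · intro hne
    obtain ⟨K, U, hKU⟩ := hdec
    obtain ⟨hU1, -, hKp, -⟩ := Cfsg.Agent.S1437.result hG M hM K U hKU hne
    have hK1 : K ≠ ⊥ := by
      intro h
      rw [h, Subgroup.card_bot] at hKp
      exact Nat.not_prime_one hKp
    exact (Cfsg.Agent.S1382.result hG M hM K U hKU).mpr ⟨hK1, hU1, hne⟩
  · intro h34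
    obtain ⟨K, U, hKU⟩ := hdec
    obtain ⟨-, -, hne⟩ := (Cfsg.Agent.S1382.result hG M hM K U hKU).mp h34
    exact (Cfsg.Agent.S1437.result hG M hM K U hKU hne).2.1.symm
  · intro x hx hx1
    obtain ⟨-, R, -, hcompl, hR⟩ := Cfsg.Agent.S1374.result hG M hM x hx hx1
    refine ⟨R, hcompl.2.1, fun g hg => ?_⟩
    obtain ⟨r, hr, -⟩ := hR g hg
    exact ⟨r, hr.1, hr.2⟩
  · intro x hx hx1 hc
    obtain ⟨N, hN, huniq, hNF, hnorm, hcompl, -⟩ := Cfsg.Agent.S1375.result hG M hM x hx hx1 hc
    exact ⟨N, hN, huniq, hNF, hnorm, hcompl⟩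
  · intro y hy hy1 z hz hz1 hσ
    rcases Cfsg.Agent.S1432.result hG M hM y hy hy1 z hz hz1 hσ with h | h
    · exact Or.inl h.1
    · exact Or.inr h.1

/-- `BGII` for `A(M)` and `A₀(M)`: B-G Theorem II without the type clauses (CONDITIONAL). -/
theorem bgII {G : Type*} [Group G] [Finite G] (hG : Cfsg.IsMinSimpleOddOrder G)
    (M : Subgroup G) (hM : IsCoatom M) : BGII M (typeA M) ∧ BGII M (typeA0 M) :=
  ⟨bgII_typeA hG hM (liteHyp hG M hM), bgII_typeA0 hG hM (liteHyp hG M hM)⟩

end Cfsg.Agent.Helper25.PF8
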