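import Mathlib
import Cfsg.Prelude.Def_OddOrderChar
import Cfsg.Prelude.Def_OddOrderLocal
import Cfsg.Prelude.Def_OddOrder
import Cfsg.Agent.Helper25.PF8
import Cfsg.Agent.Helper25.PF8Excl
import Cfsg.Agent.Helper25.PF8Lite1
import Cfsg.Agent.Helper25.PF8Lite2
import Cfsg.Agent.Helper25.PF8Lite3
import Cfsg.Agent.Helper25.PF8Lite4

/-!
# B-G Theorem II "lite", part 5: the coprimality clause WITHOUT S1436

The coprimality clause of `BGII` is proved here from the "1436-LITE" fixed-point-freeness statement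
`Fpf` (board #3478 / #3571) instead of `κ(M) = ∅ ∧ τ₂(M) = ∅` (S1436(a)).
-/

set_option autoImplicit false

namespace Cfsg.Agent.Helper25.PF8

open Cfsg

variable {G : Type*} [Group G]

/-- The "1436-LITE" conclusion for an element `u ∈ M`: `C_{M_σ}(u) = 1`, and no `e₀ ∈ C_M(u)` of prime
order outside `σ(M)` has a nontrivial fixed point on `M_σ`. -/
def Fpf (M : Subgroup G) (u : G) : Prop :=
  sigmaCore M ⊓ Subgroup.centralizer ({u} : Set G) = ⊥ ∧
    ∀ e0 ∈ M, e0 * u = u * e0 → (orderOf e0).Prime → orderOf e0 ∉ sigma M →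
      sigmaCore M ⊓ Subgroup.centralizer ({e0} : Set G) = ⊥

/-- (coprimality, second version) `|N_σ|` is coprime to `|C_M(y)|` for every `y` in
`(M_σ ∖ 1) ∪ T ∪ Ŵ^M`, from `Fpf`. -/
theorem coprime_sigmaCore_centralizer' [Finite G] {M N U : Subgroup G}
    (hallM : IsPiHallOf (sigma M) (sigmaCore M) M)
    (hprimesN : ∀ p : ℕ, p.Prime → p ∣ Nat.card (sigmaCore N) → p ∈ sigma N)
    (hFS : fittingHallOf M ≤ sigmaCore M)
    {x : G} (hxM : ¬ Subgroup.centralizer ({x} : Set G) ≤ M)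
    (hxN : Subgroup.centralizer ({x} : Set G) ≤ N) (hfus : Fus M x)
    (hpart : (sigma M ∩ sigma N).Nonempty → ∃ g : G, N = M.map (MulAut.conj g).toMonoidHom)
    (hfpf : ∀ r ∈ sigma N, r ∉ sigma M → ∀ u ∈ M, orderOf u = r → Fpf M u)
    {y : G}
    (hy : (y ∈ sigmaCore M ∧ y ≠ 1) ∨ y ∈ setT M U ∨
      (∃ W₁ U' W₂ : Subgroup G, IsTypePWith M W₁ U' W₂ ∧ y ∈ setZ M W₁ W₂)) :
    (Nat.card (sigmaCore N)).Coprime (Nat.card ↥(M ⊓ Subgroup.centralizer ({y} : Set G))) := by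
  apply Nat.coprime_of_dvd
  intro p hp hpN hpC
  have hpp : Fact p.Prime := ⟨hp⟩
  have hpσN : p ∈ sigma N := hprimesN p hp hpN
  by_cases hpσM : p ∈ sigma M
  · -- `N` would be conjugate to `M`
    obtain ⟨g, hg⟩ := hpart ⟨p, hpσM, hpσN⟩
    obtain ⟨R, hRC, hR⟩ := hfus
    have hxN' : x ∈ M.map (MulAut.conj g).toMonoidHom := by
      rw [← hg]
      exact hxN (Subgroup.mem_centralizer_iff.mpr (fun z hz => by
        rw [Set.mem_singleton_iff] at hz; rw [hz]))
    obtain ⟨r, hr, hrM⟩ := hR g hxN'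
    have hrN : r ∈ M.map (MulAut.conj r).toMonoidHom := by
      rw [hrM, ← hg]; exact hxN (hRC hr)
    rw [mem_map_conj] at hrN
    have hrM' : r ∈ M := by
      have e : r⁻¹ * r * r = r := by group
      rwa [e] at hrN
    apply hxM
    rw [hg, ← hrM, map_conj_eq_self hrM'] at hxN
    exact hxN
  · -- an element `u` of order `p` in `C_M(y)`
    obtain ⟨z, hz⟩ := exists_prime_orderOf_dvd_card' p hpC
    have hzord : orderOf (z : G) = p := by rw [Subgroup.orderOf_coe, hz]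
    have hzM : (z : G) ∈ M := (Subgroup.mem_inf.mp z.2).1
    have hzy : y * (z : G) = (z : G) * y :=
      Subgroup.mem_centralizer_iff.mp (Subgroup.mem_inf.mp z.2).2 y rfl
    have hF := hfpf p hpσN hpσM
    rcases hy with ⟨hyS, hy1⟩ | hyT | ⟨W₁, U', W₂, hP, hyZ⟩
    · -- `y ∈ M_σ ∖ 1`
      have h1 : y ∈ sigmaCore M ⊓ Subgroup.centralizer ({(z : G)} : Set G) := by
        rw [Subgroup.mem_inf]
        refine ⟨hyS, Subgroup.mem_centralizer_iff.mpr ?_⟩
        intro h hh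
        rw [Set.mem_singleton_iff] at hh
        rw [hh]; exact hzy.symm
      rw [(hF _ hzM hzord).1, Subgroup.mem_bot] at h1
      exact hy1 h1
    · -- `y ∈ T`
      obtain ⟨⟨⟨hyM, y', hy', hy'1, hc⟩, -⟩, hyS⟩ := hyT
      obtain ⟨r, hr, hrd, hrσ⟩ := exists_prime_not_mem_sigma hallM hyM hyS
      have hy0 : orderOf y ≠ 0 := (orderOf_pos y).ne'
      have hord : orderOf (y ^ (orderOf y / r)) = r := orderOf_pow_orderOf_div hy0 hrd
      have hc' : y ^ (orderOf y / r) * y' = y' * y ^ (orderOf y / r) :=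
        ((Commute.pow_left (show Commute y y' from hc) _)).eq
      have hcu : y ^ (orderOf y / r) * (z : G) = (z : G) * y ^ (orderOf y / r) :=
        ((Commute.pow_left (show Commute y (z : G) from hzy) _)).eq
      have h2 := (hF _ hzM hzord).2 _ (M.pow_mem hyM _) hcu (by rw [hord]; exact hr)
        (by rw [hord]; exact hrσ)
      have h1 : y' ∈ sigmaCore M ⊓ Subgroup.centralizer ({y ^ (orderOf y / r)} : Set G) := by
        rw [Subgroup.mem_inf]
        refine ⟨hy', Subgroup.mem_centralizer_iff.mpr ?_⟩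
        intro h hh
        rw [Set.mem_singleton_iff] at hh
        rw [hh]; exact hc'
      rw [h2, Subgroup.mem_bot] at h1
      exact hy'1 h1
    · -- `y ∈ Ŵ^M`
      obtain ⟨m, hm, w, hw, hw1, hw2, rfl⟩ := hyZ
      set u : G := (z : G) with hu
      set u' : G := m⁻¹ * u * m with hu'
      have hu'w : u' * w * u'⁻¹ = w := by
        have h1 : u * (m * w * m⁻¹) * u⁻¹ = m * w * m⁻¹ := by
          rw [← hzy]; group
        calc u' * w * u'⁻¹ = m⁻¹ * (u * (m * w * m⁻¹) * u⁻¹) * m := by rw [hu']; group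
          _ = m⁻¹ * (m * w * m⁻¹) * m := by rw [h1]
          _ = w := by group
      have hu'W : u' ∈ W₁ ⊔ W₂ :=
        Cfsg.Agent.Helper25.snc_mem_of_commute hP.selfNormalizing hw hw1 hw2 hu'w
      obtain ⟨a, b, hab⟩ := Cfsg.Agent.Helper25.exists_mul_of_mem_sup hP.selfNormalizing.2.2.1
        hP.selfNormalizing.2.2.2.1 ⟨u', hu'W⟩
      simp only at hab
      have hcomm : Commute (a : G) (b : G) := hP.selfNormalizing.2.2.2.1 _ a.2 _ b.2
      set n₂ := Nat.card W₂ with hn₂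
      have hW₂S : W₂ ≤ sigmaCore M := (hP.W₂_le.trans inf_le_left).trans hFS
      have hbpow : (b : G) ^ n₂ = 1 := by
        have : (b : ↥W₂) ^ n₂ = 1 := pow_card_eq_one'
        have h2 := congrArg (Subtype.val) this
        simpa using h2
      have hu'pow : u' ^ n₂ = (a : G) ^ n₂ := by
        rw [hab, hcomm.mul_pow, hbpow, mul_one]
      -- `p ∤ |W₂|`
      have hpn₂ : (orderOf u).Coprime n₂ := by
        rw [hzord]
        rw [Nat.Prime.coprime_iff_not_dvd hp]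
        intro hd
        exact hpσM (hallM.2.1 p hp (hd.trans (Subgroup.card_dvd_of_le hW₂S)))
      have hord2 : orderOf (u ^ n₂) = p := by
        rw [hpn₂.orderOf_pow, hzord]
      have hupow : u ^ n₂ = m * (a : G) ^ n₂ * m⁻¹ := by
        rw [← hu'pow, hu']
        have : m * (m⁻¹ * u * m) ^ n₂ * m⁻¹ = (m * (m⁻¹ * u * m) * m⁻¹) ^ n₂ := by
          rw [conj_pow]
        rw [this]
        congr 1
        group
      obtain ⟨b0, hb0, hb01⟩ : ∃ b0 : G, b0 ∈ W₂ ∧ b0 ≠ 1 := by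
        obtain ⟨t, ht⟩ := (Subgroup.ne_bot_iff_exists_ne_one (H := W₂)).mp hP.selfNormalizing.2.1
        exact ⟨(t : G), t.2, fun h => ht (Subtype.ext h)⟩
      have h0 := (hF _ (M.pow_mem hzM n₂) hord2).1
      have h1 : m * b0 * m⁻¹ ∈ sigmaCore M ⊓ Subgroup.centralizer ({u ^ n₂} : Set G) := by
        rw [Subgroup.mem_inf]
        refine ⟨conj_mem_sigmaCore hm (hW₂S hb0), Subgroup.mem_centralizer_iff.mpr ?_⟩
        intro h hh
        rw [Set.mem_singleton_iff] at hh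
        rw [hh, hupow]
        have hab0 : (a : G) ^ n₂ * b0 = b0 * (a : G) ^ n₂ :=
          hP.selfNormalizing.2.2.2.1 _ (W₁.pow_mem a.2 n₂) _ hb0
        calc m * (a : G) ^ n₂ * m⁻¹ * (m * b0 * m⁻¹) = m * ((a : G) ^ n₂ * b0) * m⁻¹ := by group
          _ = m * (b0 * (a : G) ^ n₂) * m⁻¹ := by rw [hab0]
          _ = m * b0 * m⁻¹ * (m * (a : G) ^ n₂ * m⁻¹) := by group
      rw [h0, Subgroup.mem_bot] at h1
      apply hb01
      have : b0 = m⁻¹ * (m * b0 * m⁻¹) * m := by group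
      rw [this, h1]; group

/-- The Bender–Glauberman inputs for `BGII`, second version: `k2` (S1436(a)), `dich` (S1432) and
`halpha` of `LiteHyp` are replaced by the single field `fpf` (the "1436-LITE" statement). -/
structure LiteHyp' (M : Subgroup G) : Prop where
  hall : IsPiHallOf (sigma M) (sigmaCore M) M
  hprimes : ∀ N : Subgroup G, ∀ p : ℕ, p.Prime → p ∣ Nat.card (sigmaCore N) → p ∈ sigma N
  decomp : ∃ K U : Subgroup G, IsSigmaDecomposition M K U
  normal : ∀ K U : Subgroup G, IsSigmaDecomposition M K U →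
    M ≤ Subgroup.normalizer ((U ⊔ sigmaCore M : Subgroup G) : Set G)
  hFS : fittingHallOf M ≤ sigmaCore M
  hSM' : sigmaCore M ≤ ⁅M, M⁆
  ti : ∀ K U : Subgroup G, IsSigmaDecomposition M K U →
    IsTISubset (sigmaA M U \ (sigmaCore M : Set G))
  derived : ∀ K U : Subgroup G, IsSigmaDecomposition M K U → K ≠ ⊥ → ⁅M, M⁆ = U ⊔ sigmaCore M
  corner : fittingHallOf M ≠ sigmaCore M → IsOfTypeIII M ∨ IsOfTypeIV M
  corner' : IsOfTypeIII M ∨ IsOfTypeIV M → ⁅M, M⁆ = sigmaCore M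
  fus : ∀ x ∈ sigmaCore M, x ≠ 1 → Fus M x
  supp : ∀ x ∈ sigmaCore M, x ≠ 1 → ¬ Subgroup.centralizer ({x} : Set G) ≤ M → Supp M x
  part : ∀ N : Subgroup G, IsCoatom N → (sigma M ∩ sigma N).Nonempty →
    ∃ g : G, N = M.map (MulAut.conj g).toMonoidHom
  fpf : ∀ x ∈ sigmaCore M, x ≠ 1 → ¬ Subgroup.centralizer ({x} : Set G) ≤ M →
    ∀ N : Subgroup G, IsCoatom N → Subgroup.centralizer ({x} : Set G) ≤ N →
      ∀ r ∈ sigma N, r ∉ sigma M → ∀ u ∈ M, orderOf u = r → Fpf M u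

/-- **B-G Theorem II, lite, second version**: `BGII M (A₀(M))` without S1436. -/
theorem bgII_typeA0' [Finite G] (hG : Cfsg.IsMinSimpleOddOrder G) {M : Subgroup G}
    (hM : IsCoatom M) (h : LiteHyp' M) : BGII M (typeA0 M) := by
  have : IsSimpleGroup G := hG.2.1
  have hsolv : Group.IsSolvable ↥M := hG.2.2.2 M hM.1
  obtain ⟨K, U, hKU⟩ := h.decomp
  have hn := h.normal K U hKU
  have hTI : IsTISubset (setT M U) := h.ti K U hKU
  have hcore : typeCore M = sigmaCore M := by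
    unfold typeCore
    split_ifs with h34
    · exact h.corner' h34
    · by_contra hne
      exact h34 (h.corner hne)
  have hI : IsOfTypeI M → K = ⊥ := by
    intro hT
    apply K_eq_bot_of_typeF hKU h.hall _ hT.1
    by_contra hne
    rcases h.corner hne with ⟨W₁, U', W₂, hP, -⟩ | ⟨W₁, U', W₂, hP, -⟩
    · exact not_typeF_of_typeP hT.1 hP
    · exact not_typeF_of_typeP hT.1 hP
  have hcls : ∀ x ∈ typeA M, (x ∈ sigmaCore M ∧ x ≠ 1) ∨ x ∈ setT M U := fun x hx =>
    mem_or_of_mem_typeA hKU hcore.le h.hFS hI (h.derived K U hKU) hx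
  -- the two kinds of elements of `A₀(M)`
  have hkind : ∀ x ∈ typeA0 M, x ∈ typeA M ∨ (¬ IsOfTypeI M ∧
      ∃ W₁ U' W₂ : Subgroup G, IsTypePWith M W₁ U' W₂ ∧ x ∈ setZ M W₁ W₂) := by
    intro x hx
    rcases hx with hx | ⟨hnI, W₁, U', W₂, hP, m, hm, w, hw, hw1, hw2, rfl⟩
    · exact Or.inl hx
    · exact Or.inr ⟨hnI, W₁, U', W₂, hP, m, hm, w, hw, hw1, hw2, rfl⟩
  have hXM : typeA0 M ⊆ (M : Set G) := typeA0_subset M
  -- elements with centralizer outside `M` lie in `M_σ ∖ 1`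
  have hD : ∀ x ∈ typeA0 M, ¬ Subgroup.centralizer ({x} : Set G) ≤ M →
      x ∈ sigmaCore M ∧ x ≠ 1 := by
    intro x hx hc
    rcases hkind x hx with hxA | ⟨-, W₁, U', W₂, hP, hxZ⟩
    · rcases hcls x hxA with h1 | h1
      · exact h1
      · exact absurd (centralizer_le_of_mem_setT hM hn hTI h1) hc
    · exact absurd (centralizer_le_of_mem_setZ hP hxZ) hc
  refine ⟨?_, ?_, ?_⟩
  · -- fusion
    intro x hx g hgx
    have hxM : x ∈ M := hXM hx
    have hgxM : g * x * g⁻¹ ∈ M := hXM hgx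
    have hx1 : x ≠ 1 := fun h => one_not_mem_typeA0 M (h ▸ hx)
    rcases hkind x hx with hxA | ⟨hnI, W₁, U', W₂, hP, hxZ⟩
    · rcases hcls x hxA with ⟨hxS, -⟩ | hxT
      · exact fusion_of_Fus hM hxM hx1 (h.fus x hxS hx1) hgxM
      · rcases hkind _ hgx with hgA | ⟨hnI', W₁', U'', W₂', hP', hgZ⟩
        · rcases hcls _ hgA with ⟨hgS, hg1⟩ | hgT
          · exact fusion_of_Fus' hM hxM hgxM hx1 (h.fus _ hgS hg1)
          · exact ⟨g, mem_of_conj_mem_setT hM hn hTI hxT hgT, rfl⟩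
        · exact (not_conj_of_mem_setZ hP' hgZ (mem_commutator_of_mem_typeA hnI' hxA) rfl).elim
    · rcases hkind _ hgx with hgA | ⟨-, W₁', U'', W₂', hP', hgZ⟩
      · rcases hcls _ hgA with ⟨hgS, hg1⟩ | hgT
        · exact fusion_of_Fus' hM hxM hgxM hx1 (h.fus _ hgS hg1)
        · exfalso
          apply not_conj_of_mem_setZ hP hxZ (mem_commutator_of_mem_typeA hnI hgA) (g := g⁻¹)
          group
      · have hgZ' : g * x * g⁻¹ ∈ setZ M W₁ W₂ :=
          mem_setZ_of_extra hsolv hP ⟨W₁', U'', W₂', hP', hgZ⟩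
        exact ⟨g, mem_of_conj_mem_setZ hP hxZ hgZ', rfl⟩
  · -- `D ⊆ A₁(M)` and the unique maximal subgroup
    intro x hx hc
    obtain ⟨hxS, hx1⟩ := hD x hx hc
    refine ⟨⟨by rw [hcore]; exact hxS, fun h => hx1 h⟩, ?_⟩
    obtain ⟨N, hN, huniq, -⟩ := h.supp x hxS hx1 hc
    exact ⟨N, hN, fun L hL => huniq L hL.1 hL.2⟩
  · -- the structure of `C_G(x)`
    intro x hx hc L hL hCL
    obtain ⟨hxS, hx1⟩ := hD x hx hc
    obtain ⟨N, hN, huniq, hNF, hnorm, hcompl⟩ := h.supp x hxS hx1 hc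
    have hLN : L = N := huniq L hL hCL
    subst hLN
    rw [← hNF]
    refine ⟨hnorm, isComplIn_swap hcompl, ?_⟩
    intro y hy
    apply coprime_sigmaCore_centralizer' h.hall (h.hprimes L) h.hFS hc hCL
      (h.fus x hxS hx1) (h.part L hL) (h.fpf x hxS hx1 hc L hL hCL) (U := U)
    rcases hkind y hy with hyA | ⟨-, W₁, U', W₂, hP, hyZ⟩
    · rcases hcls y hyA with h1 | h1
      · exact Or.inl h1
      · exact Or.inr (Or.inl h1)
    · exact Or.inr (Or.inr ⟨W₁, U', W₂, hP, hyZ⟩)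

/-- `BGII M (A(M))`, second version. -/
theorem bgII_typeA' [Finite G] (hG : Cfsg.IsMinSimpleOddOrder G) {M : Subgroup G}
    (hM : IsCoatom M) (h : LiteHyp' M) : BGII M (typeA M) :=
  (bgII_typeA0' hG hM h).mono (typeA_subset_typeA0 M)

end Cfsg.Agent.Helper25.PF8
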