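import Mathlib
import Cfsg.Prelude.Def_OddOrderChar
import Cfsg.Prelude.Def_OddOrderLocal
import Cfsg.Prelude.Def_OddOrder
import Cfsg.Agent.S1350
import Cfsg.Agent.S1351
import Cfsg.Agent.S1352
import Cfsg.Agent.S1355
import Cfsg.Agent.S1362
import Cfsg.Agent.S1365
import Cfsg.Agent.S1374
import Cfsg.Agent.S1375
import Cfsg.Agent.S1378
import Cfsg.Agent.S1382
import Cfsg.Agent.S1403
import Cfsg.Agent.S1430
import Cfsg.Agent.S1431
import Cfsg.Agent.S1432
import Cfsg.Agent.S1437
import Cfsg.Agent.S1886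
import Cfsg.Agent.Helper31.BG1436Data
import Cfsg.Agent.Helper25.PF8Lite5

/-!
# CONDITIONAL: the hypotheses `LiteHyp' M` from the frozen Bender–Glauberman statements, WITHOUT S1436

Second version of `PF8Cond.lean`: S1436(a) is replaced by helper31's "1436-LITE" lemma
`Cfsg.Agent.Helper31.BG1436Lite.sigma_prime_elt_fpf'` (unconditional, on main), which only needs the
statements S1375, S1378, S1430, S1431, S1432.  This file imports `Cfsg.Agent.SNNNN` for statements of
B-G sections 10–16; it builds only once all of them are on main.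
-/

set_option autoImplicit false

namespace Cfsg.Agent.Helper25.PF8

open Cfsg

theorem liteHyp' {G : Type*} [Group G] [Finite G] (hG : Cfsg.IsMinSimpleOddOrder G)
    (M : Subgroup G) (hM : IsCoatom M) : LiteHyp' M := by
  have h50 := Cfsg.Agent.S1350.result hG M hM
  have h51 := Cfsg.Agent.S1351.result hG M hM
  have h55 := Cfsg.Agent.S1355.result hG M hM
  have hdec : ∃ K U : Subgroup G, IsSigmaDecomposition M K U := by
    obtain ⟨K, hK⟩ := h51.1
    obtain ⟨U, hU'⟩ := (Cfsg.Agent.S1352.result hG M hM K (h51.2 K hK) hK).1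
    exact ⟨K, U, hU'⟩
  have h30 : Cfsg.Agent.Helper48.BG142.H1430 G :=
    fun M hM K hK hK1 => Cfsg.Agent.S1430.result hG M hM K hK hK1
  have h31 : Cfsg.Agent.Helper48.BG142.H1431 G :=
    fun M hM K hK hK1 => Cfsg.Agent.S1431.result hG M hM K hK hK1
  have h32 : Cfsg.Agent.Helper31.BG1436Lite.H1432 G :=
    fun M hM x hx hx1 x' hx' hx'1 hσ => Cfsg.Agent.S1432.result hG M hM x hx hx1 x' hx' hx'1 hσ
  have hSP : Cfsg.Agent.Helper31.BG1436Lite.HSP G := (Cfsg.Agent.S1378.result hG).2
  have h75 : Cfsg.Agent.Helper31.BG1436Lite.H1375 G :=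
    fun M hM x hx hx1 hc => Cfsg.Agent.S1375.result hG M hM x hx hx1 hc
  refine
    { hall := h50.1
      hprimes := ?_
      decomp := hdec
      normal := fun K U hKU => (Cfsg.Agent.S1352.result hG M hM K hKU.cyclic hKU.hall).2 U hKU
      hFS := h55.2.1
      hSM' := h55.2.2.1
      ti := fun K U hKU => Cfsg.Agent.S1362.result hG M hM K U hKU
      derived := fun K U hKU hK => (Cfsg.Agent.S1365.result hG M hM K U hKU hK).1
      corner := ?_
      corner' := ?_
      fus := ?_
      supp := ?_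
      part := fun N hN hne => (Cfsg.Agent.S1378.result hG).2 M N hM hN hne
      fpf := ?_ }
  · intro N p hp hd
    unfold sigmaCore at hd
    rw [Subgroup.card_map_of_injective N.subtype_injective] at hd
    exact Cfsg.Agent.S1886.piCore_isPi _ p hp hd
  · intro hne
    obtain ⟨K, U, hKU⟩ := hdec
    obtain ⟨hU1, -, hKp, -⟩ := Cfsg.Agent.S1437.result hG M hM K U hKU hne
    have hK1 : K ≠ ⊥ := by
      intro h
      rw [h, Subgroup.card_bot] at hKp
      exact Nat.not_prime_one hKp
    exact (Cfsg.Agent.S1382.result hG M hM K U hKU).mpr ⟨hK1, hU1, hne⟩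
  · intro h34
    obtain ⟨K, U, hKU⟩ := hdec
    obtain ⟨-, -, hne⟩ := (Cfsg.Agent.S1382.result hG M hM K U hKU).mp h34
    exact (Cfsg.Agent.S1437.result hG M hM K U hKU hne).2.1.symm
  · intro x hx hx1
    obtain ⟨-, R, -, hcompl, hR⟩ := Cfsg.Agent.S1374.result hG M hM x hx hx1
    refine ⟨R, hcompl.2.1, fun g hg => ?_⟩
    obtain ⟨r, hr, -⟩ := hR g hg
    exact ⟨r, hr.1, hr.2⟩
  · intro x hx hx1 hc
    obtain ⟨N, hN, huniq, hNF, hnorm, hcompl, -⟩ := Cfsg.Agent.S1375.result hG M hM x hx hx1 hc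
    exact ⟨N, hN, huniq, hNF, hnorm, hcompl⟩
  · intro x hx hx1 hc N hN hCN r hr _ u hu hur
    exact Cfsg.Agent.Helper31.BG1436Lite.sigma_prime_elt_fpf' hG h30 h31 h32 hSP h75 hM hN hx hx1
      hc hCN hr hu hur

/-- `BGII` for `A(M)` and `A₀(M)`: B-G Theorem II without the type clauses (CONDITIONAL, second
version, not using S1436). -/
theorem bgII' {G : Type*} [Group G] [Finite G] (hG : Cfsg.IsMinSimpleOddOrder G)
    (M : Subgroup G) (hM : IsCoatom M) : BGII M (typeA M) ∧ BGII M (typeA0 M) :=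
  ⟨bgII_typeA' hG hM (liteHyp' hG M hM), bgII_typeA0' hG hM (liteHyp' hG M hM)⟩

end Cfsg.Agent.Helper25.PF8
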