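import Mathlib
import Cfsg.Agent.Helper82.PRat.Defs
import Cfsg.Agent.S0867
import Cfsg.Agent.Helper78.IrrTransport
import Cfsg.Agent.Helper15.DetChar
import Cfsg.Agent.Helper79.CharComplete

/-!
# Piece (EP) of helper82's WANTED #4790 (for S4892): canonical extension over a `p`-power index
-/

set_option autoImplicit false

namespace Cfsg.Agent.Helper25.PRatEP

open Cfsg Cfsg.Agent.Helper82.PRat

universe u

/-- The determinantal order is invariant under transport along a group isomorphism. -/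
theorem detOrder_comp_mulEquiv {X Y : Type u} [Group X] [Finite X] [Group Y] [Finite Y]
    (e : X ≃* Y) {χ : Y → ℂ} (hχ : IsCharacter Y χ) :
    detOrder (fun x : X => χ (e x)) = detOrder χ := by
  unfold detOrder
  have h1 : detChar (fun x : X => χ (e x)) = fun x => detChar χ (e x) :=
    funext fun x => Cfsg.Agent.Helper15.detChar_comp e.toMonoidHom hχ x
  rw [h1]
  let F : (Y → ℂ) →* (X → ℂ) :=
    { toFun := fun f x => f (e x)
      map_one' := by funext x; simp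
      map_mul' := by intro a b; funext x; simp }
  have hF : Function.Injective F := by
    intro a b h
    funext y
    have := congrFun h (e.symm y)
    simpa [F] using this
  exact orderOf_injective F hF (detChar χ)

/-- **(EP)** of #4790. -/
theorem ext_p {G : Type*} [Group G] [Finite G] (p : ℕ) [Fact p.Prime] (N : Subgroup G) [N.Normal]
    (S : Subgroup G) (hNS : N ≤ S) (hidx : ∃ c : ℕ, N.relIndex S = p ^ c)
    (θ : IrrCharacter ↥N)
    (hinv : ∀ g : G, ∀ n n' : ↥N, (n' : G) = g * (n : G) * g⁻¹ → (θ : ↥N → ℂ) n' = (θ : ↥N → ℂ) n)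
    (hdeg : ¬ p ∣ charDegree (θ : ↥N → ℂ)) (hdet : ¬ p ∣ detOrder (θ : ↥N → ℂ)) :
    ∃ η : IrrCharacter ↥S, ∀ n : ↥N, (η : ↥S → ℂ) ⟨(n : G), hNS n.2⟩ = (θ : ↥N → ℂ) n := by
  have hpp : p.Prime := Fact.out
  let e : ↥(N.subgroupOf S) ≃* ↥N := Subgroup.subgroupOfEquivOfLe hNS
  let θ' : IrrCharacter ↥(N.subgroupOf S) := Cfsg.Agent.Helper78.irrMap e.symm θ
  have hθ' : ∀ y : ↥(N.subgroupOf S), (θ' : ↥(N.subgroupOf S) → ℂ) y = (θ : ↥N → ℂ) (e y) := by
    intro y
    rfl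
  have hfun : (θ' : ↥(N.subgroupOf S) → ℂ) = fun y => (θ : ↥N → ℂ) (e y) := funext hθ'
  have hN' : (N.subgroupOf S).Normal := inferInstance
  have hinv' : ∀ (g : ↥S) (n : ↥(N.subgroupOf S)),
      (θ' : ↥(N.subgroupOf S) → ℂ) ⟨g * n * g⁻¹, hN'.conj_mem (n : ↥S) n.2 g⟩ =
        (θ' : ↥(N.subgroupOf S) → ℂ) n := by
    intro g n
    rw [hθ', hθ']
    apply hinv (g : G)
    simp [e]
  have hd : (θ' : ↥(N.subgroupOf S) → ℂ) 1 = ((charDegree (θ : ↥N → ℂ) : ℕ) : ℂ) := by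
    rw [hθ', map_one]
    exact Cfsg.Agent.Helper79.irr_one θ
  have hdetEq : detOrder (θ' : ↥(N.subgroupOf S) → ℂ) = detOrder (θ : ↥N → ℂ) := by
    rw [hfun]
    exact detOrder_comp_mulEquiv e (Cfsg.Agent.Helper79.irr_isCharacter θ)
  obtain ⟨c, hc⟩ := hidx
  have hcop : Nat.Coprime (N.subgroupOf S).index
      (detOrder (θ' : ↥(N.subgroupOf S) → ℂ) * charDegree (θ : ↥N → ℂ)) := by
    have hidx' : (N.subgroupOf S).index = p ^ c := hc
    rw [hidx', hdetEq]
    apply Nat.Coprime.pow_left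
    apply Nat.Coprime.mul_right
    · exact (Nat.Prime.coprime_iff_not_dvd hpp).mpr hdet
    · exact (Nat.Prime.coprime_iff_not_dvd hpp).mpr hdeg
  obtain ⟨χ, ⟨hχ, hext, -⟩, -⟩ := Cfsg.Agent.S0867.result (N.subgroupOf S)
    (θ' : ↥(N.subgroupOf S) → ℂ) θ'.2 hinv' _ hd hcop
  refine ⟨⟨χ, hχ⟩, ?_⟩
  intro n
  have h1 := hext (e.symm n)
  rw [hθ', MulEquiv.apply_symm_apply] at h1
  rw [← h1]
  congr 1

end Cfsg.Agent.Helper25.PRatEP
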