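import Mathlib

/-!
# Piece (TOP1) of helper82's WANTED #4790/#4800 (for S4892): `N C_G(Q)` is normal (Frattini)
-/

set_option autoImplicit false

namespace Cfsg.Agent.Helper25.PRatTOP1

theorem conj_mem_sup_of_mem_normalizer {G : Type*} [Group G] (N QG : Subgroup G) [hN : N.Normal]
    {x : G} (hx : x ∈ Subgroup.normalizer (QG : Set G)) {h : G}
    (hh : h ∈ N ⊔ Subgroup.centralizer (QG : Set G)) :
    x * h * x⁻¹ ∈ N ⊔ Subgroup.centralizer (QG : Set G) := by
  have hmap : (N ⊔ Subgroup.centralizer (QG : Set G)).map (MulAut.conj x).toMonoidHom ≤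
      N ⊔ Subgroup.centralizer (QG : Set G) := by
    rw [Subgroup.map_sup]
    apply sup_le_sup
    · rintro _ ⟨n, hn, rfl⟩
      simpa using hN.conj_mem n hn x
    · rintro _ ⟨c, hc, rfl⟩
      rw [SetLike.mem_coe] at hc
      rw [Subgroup.mem_centralizer_iff] at hc ⊢
      intro q hq
      have hq' : x⁻¹ * q * x ∈ (QG : Set G) := by
        apply (Subgroup.mem_normalizer_iff.mp hx (x⁻¹ * q * x)).mpr
        have e : x * (x⁻¹ * q * x) * x⁻¹ = q := by group
        rw [e]
        exact hq
      have h1 := hc _ hq'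
      simp only [MulEquiv.coe_toMonoidHom, MulAut.conj_apply]
      calc q * (x * c * x⁻¹) = x * ((x⁻¹ * q * x) * c) * x⁻¹ := by group
        _ = x * (c * (x⁻¹ * q * x)) * x⁻¹ := by rw [h1]
        _ = x * c * x⁻¹ * q := by group
  have := hmap ⟨h, hh, rfl⟩
  simpa using this

/-- **(TOP1)** of #4800. -/
theorem normal_sup_centralizer {G : Type*} [Group G] [Finite G] (p : ℕ) [Fact p.Prime]
    (N : Subgroup G) [N.Normal] (Q : Sylow p ↥N) :
    (N ⊔ Subgroup.centralizer (((Q : Subgroup ↥N).map N.subtype : Subgroup G) : Set G)).Normal := by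
  rw [← Subgroup.normalizer_eq_top_iff, eq_top_iff, ← Sylow.normalizer_sup_eq_top Q]
  apply sup_le
  · intro x hx
    rw [Subgroup.mem_normalizer_iff]
    intro h
    constructor
    · intro hh
      exact conj_mem_sup_of_mem_normalizer N _ hx hh
    · intro hh
      have hx' := Subgroup.inv_mem _ hx
      have := conj_mem_sup_of_mem_normalizer N _ hx' hh
      have e : x⁻¹ * (x * h * x⁻¹) * x⁻¹⁻¹ = h := by group
      rw [e] at this
      exact this
  · exact le_trans le_sup_left Subgroup.le_normalizer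

end Cfsg.Agent.Helper25.PRatTOP1
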