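import Cfsg.Prelude.Def_OddOrderLocal

set_option autoImplicit false

namespace Cfsg.Agent.Helper25

open Cfsg

variable {G : Type*} [Group G]

/-- `puigStep` is antitone. -/
theorem puigStep_anti {X Y : Subgroup G} (h : X ≤ Y) : puigStep Y ≤ puigStep X := by
  unfold puigStep
  apply sSup_le_sSup
  intro A hA
  exact ⟨hA.1, h.trans hA.2⟩

theorem puigSeq_zero : puigSeq G 0 = ⊥ := rfl

theorem puigSeq_succ (n : ℕ) : puigSeq G (n + 1) = puigStep (puigSeq G n) := rfl

theorem puigStep_bot : puigStep (⊥ : Subgroup G) = ⊤ := by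
  rw [eq_top_iff]
  intro g _
  have hz : Subgroup.zpowers g ∈ {A : Subgroup G | IsMulCommutative A ∧ (⊥ : Subgroup G) ≤ Subgroup.normalizer (A : Set G)} := by
    refine ⟨?_, bot_le⟩
    infer_instance
  exact (le_sSup hz) (Subgroup.mem_zpowers g)

theorem puigSeq_one : puigSeq G 1 = ⊤ := by
  rw [puigSeq_succ, puigSeq_zero, puigStep_bot]

/-- Even terms increase. -/
theorem puigSeq_even_mono_step (n : ℕ) : puigSeq G (2 * n) ≤ puigSeq G (2 * n + 2) := by
  induction n with
  | zero => simp [puigSeq_zero]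
  | succ k ih =>
    have h1 : puigSeq G (2 * k + 3) ≤ puigSeq G (2 * k + 1) := by
      rw [puigSeq_succ (2 * k + 2), puigSeq_succ (2 * k)]
      exact puigStep_anti ih
    have : 2 * (k + 1) + 2 = (2 * k + 3) + 1 := by ring
    rw [this, puigSeq_succ (2 * k + 3)]
    have : 2 * (k + 1) = (2 * k + 1) + 1 := by ring
    rw [this, puigSeq_succ (2 * k + 1)]
    exact puigStep_anti h1

theorem puigSeq_odd_anti_step (m : ℕ) : puigSeq G (2 * m + 3) ≤ puigSeq G (2 * m + 1) := by
  rw [puigSeq_succ (2 * m + 2), puigSeq_succ (2 * m)]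
  exact puigStep_anti (puigSeq_even_mono_step m)

theorem puigSeq_even_le_odd (n m : ℕ) : puigSeq G (2 * n) ≤ puigSeq G (2 * m + 1) := by
  induction n generalizing m with
  | zero => simp [puigSeq_zero]
  | succ k ih =>
    cases m with
    | zero => simp [puigSeq_one]
    | succ j =>
      have h1 : puigSeq G (2 * j + 2) ≤ puigSeq G (2 * k + 1) := by
        rw [puigSeq_succ (2 * j + 1), puigSeq_succ (2 * k)]
        apply puigStep_anti
        exact ih j
      have e1 : 2 * (k + 1) = (2 * k + 1) + 1 := by ring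
      have e2 : 2 * (j + 1) + 1 = (2 * j + 2) + 1 := by ring
      rw [e1, e2, puigSeq_succ (2 * k + 1), puigSeq_succ (2 * j + 2)]
      exact puigStep_anti h1

theorem puigSeq_even_mono : Monotone (fun n => puigSeq G (2 * n)) :=
  monotone_nat_of_le_succ (fun n => puigSeq_even_mono_step n)

theorem puigSeq_odd_anti : Antitone (fun n => puigSeq G (2 * n + 1)) :=
  antitone_nat_of_succ_le (fun n => puigSeq_odd_anti_step n)

/-- In a finite group the even terms stabilise. -/
theorem puigSeq_even_stab [Finite G] : ∃ k : ℕ, ∀ n, k ≤ n → puigSeq G (2 * n) = puigSeq G (2 * k) := by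
  have hwf : WellFoundedGT (Subgroup G) := inferInstance
  obtain ⟨k, hk⟩ := (wellFoundedGT_iff_monotone_chain_condition (α := Subgroup G)).mp hwf
    ⟨fun n => puigSeq G (2 * n), puigSeq_even_mono⟩
  exact ⟨k, fun n hn => (hk n hn).symm⟩

theorem puigSeq_stab [Finite G] : ∃ k : ℕ, ∀ n, k ≤ n →
    puigSeq G (2 * n) = puigLower G ∧ puigSeq G (2 * n + 1) = puigSubgroup G := by
  obtain ⟨k, hk⟩ := puigSeq_even_stab (G := G)
  have hodd : ∀ n, k ≤ n → puigSeq G (2 * n + 1) = puigSeq G (2 * k + 1) := by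
    intro n hn
    rw [puigSeq_succ, puigSeq_succ, hk n hn]
  have hlow : puigLower G = puigSeq G (2 * k) := by
    unfold puigLower
    apply le_antisymm
    · apply iSup_le
      intro n
      rcases le_total k n with h | h
      · rw [hk n h]
      · exact puigSeq_even_mono h
    · exact le_iSup (fun n => puigSeq G (2 * n)) k
  have hup : puigSubgroup G = puigSeq G (2 * k + 1) := by
    unfold puigSubgroup
    apply le_antisymm
    · exact iInf_le (fun n => puigSeq G (2 * n + 1)) k
    · apply le_iInf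
      intro n
      rcases le_total k n with h | h
      · rw [hodd n h]
      · exact puigSeq_odd_anti h
  refine ⟨k, fun n hn => ?_⟩
  rw [hlow, hup, hk n hn, hodd n hn]
  exact ⟨rfl, rfl⟩

theorem puigLower_le_puigSubgroup [Finite G] : puigLower G ≤ puigSubgroup G := by
  obtain ⟨k, hk⟩ := puigSeq_stab (G := G)
  rw [← (hk k le_rfl).1, ← (hk k le_rfl).2]
  exact puigSeq_even_le_odd k k

theorem puigStep_puigLower [Finite G] : puigStep (puigLower G) = puigSubgroup G := by
  obtain ⟨k, hk⟩ := puigSeq_stab (G := G)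
  rw [← (hk k le_rfl).1, ← (hk k le_rfl).2, puigSeq_succ]

theorem puigStep_puigSubgroup [Finite G] : puigStep (puigSubgroup G) = puigLower G := by
  obtain ⟨k, hk⟩ := puigSeq_stab (G := G)
  rw [← (hk k le_rfl).2, ← (hk (k + 1) (Nat.le_succ k)).1, ← puigSeq_succ]
  rfl

end Cfsg.Agent.Helper25
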