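import Cfsg.Agent.Helper25.Puig
import Cfsg.Agent.Helper25.PGroupBasic

set_option autoImplicit false

namespace Cfsg.Agent.Helper25

open Cfsg

variable {G : Type*} [Group G]

/-- If `X` is normal then so is `L_G(X)`. -/
theorem puigStep_normal (X : Subgroup G) [hX : X.Normal] : (puigStep X).Normal := by
  constructor
  intro n hn g
  have key : puigStep X ≤ (puigStep X).comap (MulAut.conj g).toMonoidHom := by
    unfold puigStep
    apply sSup_le
    intro A hA
    have hmem : A.map (MulAut.conj g).toMonoidHom ∈
        {A : Subgroup G | IsMulCommutative A ∧ X ≤ Subgroup.normalizer (A : Set G)} := by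
      refine ⟨?_, ?_⟩
      · have := hA.1
        exact Subgroup.map_isMulCommutative A _
      · intro x hx
        have hx' : g⁻¹ * x * g ∈ Subgroup.normalizer (A : Set G) := by
          apply hA.2
          have := hX.conj_mem x hx g⁻¹
          simpa using this
        rw [Subgroup.mem_normalizer_iff] at hx' ⊢
        intro h
        constructor
        · rintro ⟨a, ha, rfl⟩
          refine ⟨(g⁻¹ * x * g) * a * (g⁻¹ * x * g)⁻¹, (hx' a).mp ha, ?_⟩
          simp only [MulEquiv.coe_toMonoidHom, MulAut.conj_apply]
          group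
        · rintro ⟨a, ha, hax⟩
          simp only [MulEquiv.coe_toMonoidHom, MulAut.conj_apply] at hax
          refine ⟨(g⁻¹ * x * g)⁻¹ * a * (g⁻¹ * x * g), ?_, ?_⟩
          · apply (hx' _).mpr
            have : (g⁻¹ * x * g) * ((g⁻¹ * x * g)⁻¹ * a * (g⁻¹ * x * g)) * (g⁻¹ * x * g)⁻¹ = a := by group
            rw [this]
            exact ha
          · simp only [MulEquiv.coe_toMonoidHom, MulAut.conj_apply]
            have e : h = x⁻¹ * (g * a * g⁻¹) * x := by rw [hax]; group
            rw [e]
            group
    intro a ha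
    exact le_sSup hmem (Subgroup.mem_map_of_mem _ ha)
  have := key hn
  simpa using this

theorem puigSeq_normal (n : ℕ) : (puigSeq G n).Normal := by
  induction n with
  | zero => rw [puigSeq_zero]; infer_instance
  | succ k ih =>
    rw [puigSeq_succ]
    have := ih
    exact puigStep_normal _

/-- In a finite `p`-group, `L_R(X)` contains its centralizer whenever `X` is normal. -/
theorem centralizer_puigStep_le {p : ℕ} [Fact p.Prime] {R : Type*} [Group R] [Finite R]
    (hR : IsPGroup p R) (X : Subgroup R) [X.Normal] :
    Subgroup.centralizer ((puigStep X : Subgroup R) : Set R) ≤ puigStep X := by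
  have hLn : (puigStep X).Normal := puigStep_normal X
  have hCn : (Subgroup.centralizer ((puigStep X : Subgroup R) : Set R)).Normal :=
    Subgroup.normal_centralizer
  by_contra hCL
  let N : Subgroup (R ⧸ puigStep X) :=
    (Subgroup.centralizer ((puigStep X : Subgroup R) : Set R)).map (QuotientGroup.mk' (puigStep X))
  have : N.Normal := Subgroup.Normal.map hCn _ (QuotientGroup.mk'_surjective _)
  have hN : N ≠ ⊥ := by
    intro h
    apply hCL
    intro c hc
    have hm : QuotientGroup.mk' (puigStep X) c ∈ N := Subgroup.mem_map_of_mem _ hc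
    rw [h, Subgroup.mem_bot] at hm
    exact (QuotientGroup.eq_one_iff c).mp hm
  have hRL : IsPGroup p (R ⧸ puigStep X) := hR.to_quotient _
  obtain ⟨z, hzN, hz1, hzc⟩ := exists_mem_center_of_normal_ne_bot hRL N hN
  obtain ⟨c, hcC, rfl⟩ := Subgroup.mem_map.mp hzN
  have hcL : c ∉ puigStep X := fun h => hz1 ((QuotientGroup.eq_one_iff c).mpr h)
  have hcomm : ∀ r : R, r * c * r⁻¹ * c⁻¹ ∈ puigStep X := by
    intro r
    rw [Subgroup.mem_center_iff] at hzc
    have h1 := hzc (QuotientGroup.mk' (puigStep X) r)
    rw [← QuotientGroup.eq_one_iff]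
    simp only [QuotientGroup.mk'_apply] at h1
    simp only [QuotientGroup.mk_mul, QuotientGroup.mk_inv]
    rw [h1]
    group
  -- the abelian normal subgroup A
  let Z : Subgroup R := puigStep X ⊓ Subgroup.centralizer ((puigStep X : Subgroup R) : Set R)
  have hZn : Z.Normal := Subgroup.normal_inf_normal _ _
  let A : Subgroup R := Subgroup.closure ({c} ∪ (Z : Set R))
  have hAcomm : IsMulCommutative A := by
    apply Subgroup.isMulCommutative_closure
    rintro x (hx | hx) y (hy | hy)
    · rw [Set.mem_singleton_iff] at hx hy; rw [hx, hy]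
    · rw [Set.mem_singleton_iff] at hx; subst hx
      exact (hcC y hy.1).symm
    · rw [Set.mem_singleton_iff] at hy; subst hy
      exact (hcC x hx.1)
    · exact (hy.2 x hx.1)
  have hAnorm : ∀ r : R, A ≤ A.comap (MulAut.conj r).toMonoidHom := by
    intro r
    apply (Subgroup.closure_le _).mpr
    rintro x (hx | hx)
    · rw [Set.mem_singleton_iff] at hx; subst hx
      show r * x * r⁻¹ ∈ A
      have h1 : r * x * r⁻¹ * x⁻¹ ∈ Z := by
        refine ⟨hcomm r, ?_⟩
        exact Subgroup.mul_mem _ (hCn.conj_mem x hcC r) (Subgroup.inv_mem _ hcC)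
      have h2 : r * x * r⁻¹ = (r * x * r⁻¹ * x⁻¹) * x := by group
      rw [h2]
      exact A.mul_mem (Subgroup.subset_closure (Or.inr h1)) (Subgroup.subset_closure (Or.inl rfl))
    · show r * x * r⁻¹ ∈ A
      exact Subgroup.subset_closure (Or.inr (hZn.conj_mem x hx r))
  have hAL : A ≤ puigStep X := by
    apply le_sSup
    refine ⟨hAcomm, ?_⟩
    intro x _
    rw [Subgroup.mem_normalizer_iff]
    intro h
    constructor
    · intro hh
      exact hAnorm x hh
    · intro hh
      have := hAnorm x⁻¹ hh
      simpa [mul_assoc] using this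
  exact hcL (hAL (Subgroup.subset_closure (Or.inl rfl)))

end Cfsg.Agent.Helper25
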