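import Mathlib

set_option autoImplicit false

/-! A counting lemma for matrices of the shape `r i + c j` with few non-zero entries. -/

namespace Cfsg.Agent.Helper25

theorem rect_few_nonzero {I J : Type*} [Fintype I] [Fintype J] [DecidableEq I] [DecidableEq J]
    (r : I → ℂ) (c : J → ℂ) (hJ : Fintype.card I + 2 ≤ Fintype.card J)
    (hfew : (Finset.univ.filter (fun p : I × J => r p.1 + c p.2 ≠ 0)).card
      < 2 * Fintype.card I) :
    (∀ i j, r i + c j = 0) ∨ (∃ j₀ a, ∀ i j, r i + c j = if j = j₀ then a else 0) ∨
      (∃ i₀ a, ∀ i j, r i + c j = if i = i₀ then a else 0) := by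
  classical
  set N : I → ℕ := fun i => (Finset.univ.filter (fun j : J => r i + c j ≠ 0)).card with hN
  have hsum : (Finset.univ.filter (fun p : I × J => r p.1 + c p.2 ≠ 0)).card = ∑ i, N i := by
    rw [Finset.card_filter, Fintype.sum_prod_type]
    refine Finset.sum_congr rfl (fun i _ => ?_)
    simp only [hN]
    rw [Finset.card_filter]
  rw [hsum] at hfew
  by_cases hall : ∀ i, 2 ≤ N i
  · exfalso
    have h2 : ∑ _i : I, 2 ≤ ∑ i, N i := Finset.sum_le_sum (fun i _ => hall i)
    rw [Finset.sum_const, Finset.card_univ, smul_eq_mul] at h2
    omega
  · push Not at hall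
    obtain ⟨i₀, hi₀⟩ := hall
    have hJpos : 2 ≤ Fintype.card J := by omega
    have hJne : Nonempty J := Fintype.card_pos_iff.mp (by omega)
    obtain ⟨j₁, hj₁⟩ := Finset.card_le_one_iff_subset_singleton.mp (Nat.lt_succ_iff.mp hi₀)
    have hc : ∀ j, j ≠ j₁ → c j = - r i₀ := by
      intro j hj
      by_contra hne
      have : j ∈ Finset.univ.filter (fun j : J => r i₀ + c j ≠ 0) := by
        rw [Finset.mem_filter]
        refine ⟨Finset.mem_univ _, fun h => hne ?_⟩
        linear_combination h
      exact hj (Finset.mem_singleton.mp (hj₁ this))
    by_cases hcj₁ : c j₁ = - r i₀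
    · -- c constant
      have hc' : ∀ j, c j = - r i₀ := fun j => by
        by_cases hj : j = j₁
        · rw [hj, hcj₁]
        · exact hc j hj
      set R : Finset I := Finset.univ.filter (fun i => r i - r i₀ ≠ 0) with hR
      have hNi : ∀ i, N i = if r i - r i₀ ≠ 0 then Fintype.card J else 0 := by
        intro i
        simp only [hN]
        by_cases h : r i - r i₀ ≠ 0
        · rw [if_pos h, Finset.filter_true_of_mem, Finset.card_univ]
          intro j _
          rw [hc' j]
          intro h'
          apply h
          linear_combination h'
        · rw [if_neg h, Finset.card_eq_zero, Finset.filter_eq_empty_iff]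
          intro j _
          rw [hc' j]
          push Not at h ⊢
          linear_combination h
      have hsumR : ∑ i, N i = R.card * Fintype.card J := by
        simp only [hNi]
        rw [← Finset.sum_filter, Finset.sum_const, smul_eq_mul]
      rw [hsumR] at hfew
      have hRle : R.card ≤ 1 := by
        by_contra hcon
        push Not at hcon
        have : 2 * Fintype.card J ≤ R.card * Fintype.card J := Nat.mul_le_mul_right _ hcon
        omega
      by_cases hRe : R = ∅
      · left
        intro i j
        have : i ∉ R := by rw [hRe]; exact Finset.notMem_empty i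
        rw [hR, Finset.mem_filter] at this
        push Not at this
        have h := this (Finset.mem_univ i)
        rw [hc' j]
        linear_combination h
      · right; right
        obtain ⟨i₁, hi₁⟩ := Finset.nonempty_iff_ne_empty.mpr hRe
        refine ⟨i₁, r i₁ - r i₀, fun i j => ?_⟩
        by_cases hi : i = i₁
        · rw [if_pos hi, hi, hc' j]; ring
        · rw [if_neg hi]
          have : i ∉ R := fun hiR => hi (Finset.card_le_one.mp hRle i hiR i₁ hi₁)
          rw [hR, Finset.mem_filter] at this
          push Not at this
          have h := this (Finset.mem_univ i)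
          rw [hc' j]
          linear_combination h
    · -- c j₁ exceptional
      by_cases hr : ∀ i, r i = r i₀
      · right; left
        refine ⟨j₁, r i₀ + c j₁, fun i j => ?_⟩
        by_cases hj : j = j₁
        · rw [if_pos hj, hj, hr i]
        · rw [if_neg hj, hc j hj, hr i]; ring
      · exfalso
        push Not at hr
        obtain ⟨i₁, hi₁⟩ := hr
        -- a column different from j₁
        obtain ⟨j₂, hj₂⟩ : ∃ j₂ : J, j₂ ≠ j₁ := by
          by_contra hcon
          push Not at hcon
          have : Fintype.card J ≤ 1 := Fintype.card_le_one_iff.mpr (fun a b => by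
            rw [hcon a, hcon b])
          omega
        have hN1 : ∀ i, 1 ≤ N i := by
          intro i
          simp only [hN]
          rw [Nat.succ_le_iff, Finset.card_pos]
          by_contra hcon
          rw [Finset.not_nonempty_iff_eq_empty, Finset.filter_eq_empty_iff] at hcon
          have h1 := hcon (Finset.mem_univ j₁)
          have h2 := hcon (Finset.mem_univ j₂)
          push Not at h1 h2
          rw [hc j₂ hj₂] at h2
          apply hcj₁
          linear_combination h1 - h2
        have hNi₁ : Fintype.card J - 1 ≤ N i₁ := by
          simp only [hN]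
          rw [← Finset.card_univ, ← Finset.card_erase_of_mem (Finset.mem_univ j₁)]
          apply Finset.card_le_card
          intro j hj
          rw [Finset.mem_erase] at hj
          rw [Finset.mem_filter]
          refine ⟨Finset.mem_univ _, ?_⟩
          rw [hc j hj.1]
          intro h
          apply hi₁
          linear_combination h
        have hsplit : ∑ i, N i = N i₁ + ∑ i ∈ Finset.univ.erase i₁, N i := by
          rw [Finset.add_sum_erase _ _ (Finset.mem_univ i₁)]
        have hrest : (Finset.univ.erase i₁).card ≤ ∑ i ∈ Finset.univ.erase i₁, N i := by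
          have := Finset.sum_le_sum (s := Finset.univ.erase i₁) (f := fun _ => 1) (g := N)
            (fun i _ => hN1 i)
          simpa using this
        rw [Finset.card_erase_of_mem (Finset.mem_univ i₁), Finset.card_univ] at hrest
        have hIpos : 1 ≤ Fintype.card I := Fintype.card_pos_iff.mpr ⟨i₁⟩
        omega

end Cfsg.Agent.Helper25
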