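import Mathlib
import Cfsg.Prelude.Def_OddOrderLocal
import Cfsg.Agent.Helper65.Metacyclic7
import Cfsg.Agent.Helper65.Metacyclic5
import Cfsg.Agent.Helper2.ClassTwo
import Cfsg.Agent.Helper71.UniqueOrderP

/-!
# (R1) of helper85's WANTED #4449 (for S5287)

A non-cyclic metacyclic `p`-group (`p` odd) with a group of automorphisms acting irreducibly on the
Frattini quotient is homocyclic of rank two.
-/

set_option autoImplicit false

namespace Cfsg.Agent.Helper25.SSR1

open Subgroup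
open scoped commutatorElement
open Cfsg.Agent.Helper65

section General

variable {G : Type*} [Group G]

theorem aut_mem_of_characteristic (H : Subgroup G) [hH : H.Characteristic] (β : MulAut G) {x : G}
    (hx : x ∈ H) : β x ∈ H := by
  have h := Subgroup.characteristic_iff_map_le.mp hH β
  exact h ⟨x, hx, rfl⟩

theorem commutator_char : (commutator G).Characteristic := by
  rw [commutator_def]; infer_instance

/-- `{x | x ^ n ∈ G'}` as a subgroup. -/
def powComm (G : Type*) [Group G] (n : ℕ) : Subgroup G :=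
  ((powMonoidHom n).comp (Abelianization.of (G := G))).ker

theorem mem_powComm {n : ℕ} {x : G} : x ∈ powComm G n ↔ x ^ n ∈ commutator G := by
  rw [powComm, MonoidHom.mem_ker, MonoidHom.comp_apply, powMonoidHom_apply, ← map_pow,
    ← MonoidHom.mem_ker, Abelianization.ker_of]

theorem powComm_inv (n : ℕ) (β : MulAut G) {x : G} (hx : x ∈ powComm G n) :
    β x ∈ powComm G n := by
  rw [mem_powComm] at hx ⊢
  rw [← map_pow]
  have : (commutator G).Characteristic := commutator_char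
  exact aut_mem_of_characteristic _ β hx

theorem commutatorElement_mem_commutator (x y : G) : ⁅x, y⁆ ∈ commutator G := by
  rw [commutator_def]
  exact Subgroup.commutator_mem_commutator (Subgroup.mem_top x) (Subgroup.mem_top y)

theorem odd_dvd_choose_two {n : ℕ} (hn : Odd n) : n ∣ n.choose 2 := by
  rw [Nat.choose_two_right]
  obtain ⟨k, rfl⟩ := hn
  refine ⟨k, ?_⟩
  have : (2 * k + 1) * (2 * k + 1 - 1) = 2 * ((2 * k + 1) * k) := by
    rw [Nat.add_sub_cancel]; ring
  rw [this, Nat.mul_div_cancel_left _ (by norm_num : 0 < 2)]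

end General

section Finite

variable {G : Type*} [Group G] [Finite G]

theorem le_frattini_or_eq_top (B : Subgroup (MulAut G))
    (hirr : ∀ M : Subgroup G, frattini G ≤ M → (∀ β ∈ B, ∀ x ∈ M, β x ∈ M) →
      M = frattini G ∨ M = ⊤)
    (H : Subgroup G) (hH : ∀ β ∈ B, ∀ x ∈ H, β x ∈ H) : H ≤ frattini G ∨ H = ⊤ := by
  have hinv : ∀ β ∈ B, ∀ x ∈ H ⊔ frattini G, β x ∈ H ⊔ frattini G := by
    intro β hβ x hx
    have h1 : (H ⊔ frattini G).map (β : G ≃* G).toMonoidHom ≤ H ⊔ frattini G := by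
      rw [Subgroup.map_sup]
      apply sup_le_sup
      · rintro _ ⟨y, hy, rfl⟩
        exact hH β hβ y hy
      · rintro _ ⟨y, hy, rfl⟩
        exact aut_mem_of_characteristic (frattini G) β hy
    exact h1 ⟨x, hx, rfl⟩
  rcases hirr _ le_sup_right hinv with h | h
  · left
    rw [← h]
    exact le_sup_left
  · right
    exact frattini_nongenerating h

theorem isCyclic_of_zpowers_sup_frattini (g : G) (h : zpowers g ⊔ frattini G = ⊤) :
    IsCyclic G := by
  have h1 := frattini_nongenerating h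
  refine ⟨⟨g, fun x => ?_⟩⟩
  have h2 : x ∈ zpowers g := by rw [h1]; exact mem_top x
  exact h2

theorem a_not_mem_frattini {p : ℕ} {a b : G} {r : ℕ} (h : MCData p a b r) (hnc : ¬ IsCyclic G) :
    a ∉ frattini G := by
  intro ha
  apply hnc
  apply isCyclic_of_zpowers_sup_frattini b
  rw [eq_top_iff]
  intro g _
  obtain ⟨i, j, rfl⟩ := h.gen g
  exact (zpowers b ⊔ frattini G).mul_mem (mem_sup_right (pow_mem ha i))
    (mem_sup_left (pow_mem (mem_zpowers b) j))

/-- The non-abelian case is impossible. -/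
theorem false_of_nonabelian {p : ℕ} [hp : Fact p.Prime] (hp2 : p ≠ 2) (hG : IsPGroup p G)
    (hmc : Cfsg.IsMetacyclic G) {a b : G} {r : ℕ} (h : MCData p a b r) (hnc : ¬ IsCyclic G)
    (B : Subgroup (MulAut G))
    (hirr : ∀ M : Subgroup G, frattini G ≤ M → (∀ β ∈ B, ∀ x ∈ M, β x ∈ M) →
      M = frattini G ∨ M = ⊤)
    (hnab : commutator G ≠ ⊥) : False := by
  classical
  have hpp : p.Prime := hp.out
  have haΦ : a ∉ frattini G := a_not_mem_frattini h hnc
  have hcΦ : commutator G ≤ frattini G := by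
    rw [frattini_eq_closure_pow hG hmc]
    exact commutator_le_closure_pow hG hmc
  -- class two
  have hcen : ∀ c ∈ commutator G, ∀ z : G, c * z = z * c := by
    have : (commutator G).Characteristic := commutator_char
    have hC := le_frattini_or_eq_top B hirr (centralizer (commutator G : Set G))
      (fun β _ x hx => aut_mem_of_characteristic _ β hx)
    have haC : a ∈ centralizer (commutator G : Set G) := by
      rw [mem_centralizer_iff]
      intro y hy
      rw [SetLike.mem_coe, h.commutator_eq] at hy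
      obtain ⟨k, rfl⟩ := Subgroup.mem_zpowers_iff.mp hy
      exact (((Commute.refl a).pow_left (r - 1)).zpow_left k).eq
    rcases hC with hC | hC
    · exact absurd (hC haC) haΦ
    · intro c hc z
      have hz : z ∈ centralizer (commutator G : Set G) := hC ▸ mem_top z
      exact mem_centralizer_iff.mp hz c hc
  -- the least `i` with `G ^ (p ^ i) ⊆ G'`
  have hex : ∃ i, powComm G (p ^ i) = ⊤ := by
    obtain ⟨e, he⟩ := IsPGroup.iff_card.mp hG
    refine ⟨e, eq_top_iff.mpr fun x _ => ?_⟩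
    rw [mem_powComm, ← he, pow_card_eq_one']
    exact one_mem _
  obtain ⟨i, hi, hmin⟩ : ∃ i, powComm G (p ^ i) = ⊤ ∧ ∀ j < i, powComm G (p ^ j) ≠ ⊤ :=
    ⟨Nat.find hex, Nat.find_spec hex, fun j hj => Nat.find_min hex hj⟩
  rcases i with _ | i'
  · apply haΦ
    apply hcΦ
    have : a ∈ powComm G (p ^ 0) := hi ▸ mem_top a
    rw [mem_powComm, pow_zero, pow_one] at this
    exact this
  have hN' : powComm G (p ^ i') ≤ frattini G := by
    rcases le_frattini_or_eq_top B hirr (powComm G (p ^ i'))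
      (fun β _ x hx => powComm_inv _ β hx) with h1 | h1
    · exact h1
    · exact absurd h1 (hmin i' (Nat.lt_succ_self i'))
  have ha' : a ^ p ^ i' ∉ commutator G := fun hmem => haΦ (hN' (mem_powComm.mpr hmem))
  have hpow : ∀ x : G, x ^ p ^ (i' + 1) ∈ commutator G := fun x =>
    mem_powComm.mp (hi ▸ mem_top x)
  have hcomm_pow : ∀ x y : G, ⁅y, x⁆ ^ p ^ (i' + 1) = 1 := by
    intro x y
    have hc : ∀ z : G, ⁅y, x⁆ * z = z * ⁅y, x⁆ := hcen _ (commutatorElement_mem_commutator y x)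
    rw [← Cfsg.Agent.Helper2.commutatorElement_pow_left_of_central hc,
      commutatorElement_eq_one_iff_mul_comm]
    exact hcen _ (hpow y) x
  have hodd : Odd (p ^ (i' + 1)) := (hpp.eq_two_or_odd'.resolve_left hp2).pow
  have hψ : ∀ x y : G, (x * y) ^ p ^ (i' + 1) = x ^ p ^ (i' + 1) * y ^ p ^ (i' + 1) := by
    intro x y
    have hc : ∀ z : G, ⁅y, x⁆ * z = z * ⁅y, x⁆ := hcen _ (commutatorElement_mem_commutator y x)
    have hyx : y * x = ⁅y, x⁆ * x * y := by rw [commutatorElement_def]; group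
    rw [Cfsg.Agent.Helper2.mul_pow_of_central hc hyx]
    obtain ⟨k, hk⟩ := odd_dvd_choose_two hodd
    rw [hk, pow_mul, hcomm_pow, one_pow, mul_one]
  let ψ : G →* G := MonoidHom.mk' (fun x => x ^ p ^ (i' + 1)) hψ
  have hψ_apply : ∀ x : G, ψ x = x ^ p ^ (i' + 1) := fun _ => rfl
  have hΩinv : ∀ β ∈ B, ∀ x ∈ ψ.ker, β x ∈ ψ.ker := by
    intro β _ x hx
    rw [MonoidHom.mem_ker, hψ_apply] at hx ⊢
    rw [← map_pow, hx, map_one]
  rcases le_frattini_or_eq_top B hirr ψ.ker hΩinv with hΩ | hΩ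
  · -- `G / Ω` is cyclic, so `G` is cyclic
    have hrange : ψ.range ≤ zpowers a := by
      rintro _ ⟨x, rfl⟩
      have := hpow x
      rw [h.commutator_eq] at this
      exact (zpowers_le.mpr MCData.c_mem_zpowers_a) this
    have : IsCyclic ψ.range := Subgroup.isCyclic_of_le hrange
    obtain ⟨g, hg⟩ := (Subgroup.isCyclic_iff_exists_zpowers_eq_top ψ.range).mp inferInstance
    have hgr : g ∈ ψ.range := hg ▸ mem_zpowers g
    obtain ⟨y, rfl⟩ := hgr
    apply hnc
    apply isCyclic_of_zpowers_sup_frattini y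
    rw [eq_top_iff]
    intro x _
    have hx : ψ x ∈ zpowers (ψ y) := hg ▸ (⟨x, rfl⟩ : ψ x ∈ ψ.range)
    obtain ⟨k, hk⟩ := Subgroup.mem_zpowers_iff.mp hx
    have hker : x * (y ^ k)⁻¹ ∈ ψ.ker := by
      rw [MonoidHom.mem_ker, map_mul, map_inv, map_zpow, hk, mul_inv_cancel]
    have : x = y ^ k * ((y ^ k)⁻¹ * (x * (y ^ k)⁻¹) * y ^ k) := by group
    rw [this]
    refine (zpowers y ⊔ frattini G).mul_mem (mem_sup_left (zpow_mem (mem_zpowers y) k))
      (mem_sup_right ?_)
    have hn : (frattini G).Normal := inferInstance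
    have := hn.conj_mem _ (hΩ hker) (y ^ k)⁻¹
    simpa using this
  · -- exponent `p ^ (i' + 1)`
    have hapow : a ^ p ^ (i' + 1) = 1 := by
      have : a ∈ ψ.ker := hΩ ▸ mem_top a
      exact this
    have hy1 : a ^ p ^ i' ≠ 1 := fun h1 => ha' (h1 ▸ one_mem _)
    have hord : orderOf a = p ^ (i' + 1) := orderOf_eq_prime_pow hy1 hapow
    have hyp : (a ^ p ^ i') ^ p = 1 := by rw [← pow_mul, ← pow_succ, hapow]
    -- an element of order `p` in `G'`
    have hc1 : a ^ (r - 1) ≠ 1 := by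
      intro h1
      apply hnab
      rw [h.commutator_eq, h1, zpowers_one_eq_bot]
    have hex2 : ∃ m, (a ^ (r - 1)) ^ p ^ m = 1 :=
      ⟨i' + 1, by rw [← pow_mul, mul_comm, pow_mul, hapow, one_pow]⟩
    obtain ⟨m, hm, hmmin⟩ : ∃ m, (a ^ (r - 1)) ^ p ^ m = 1 ∧
        ∀ j < m, (a ^ (r - 1)) ^ p ^ j ≠ 1 :=
      ⟨Nat.find hex2, Nat.find_spec hex2, fun j hj => Nat.find_min hex2 hj⟩
    rcases m with _ | m'
    · rw [pow_zero, pow_one] at hm
      exact hc1 hm
    set z : G := (a ^ (r - 1)) ^ p ^ m' with hz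
    have hz1 : z ≠ 1 := hmmin m' (Nat.lt_succ_self m')
    have hzp : z ^ p = 1 := by rw [hz, ← pow_mul, ← pow_succ, hm]
    have hzc : z ∈ commutator G := by
      rw [h.commutator_eq]
      exact pow_mem (mem_zpowers _) _
    have hza : z = a ^ ((r - 1) * p ^ m') := by rw [hz, ← pow_mul]
    have hdvd : p ^ (i' + 1) ∣ (r - 1) * p ^ m' * p := by
      rw [← hord, orderOf_dvd_iff_pow_eq_one, pow_mul, ← hza, hzp]
    have hdvd' : p ^ i' ∣ (r - 1) * p ^ m' := by
      rw [pow_succ] at hdvd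
      exact Nat.dvd_of_mul_dvd_mul_right hpp.pos hdvd
    obtain ⟨k', hk'⟩ := hdvd'
    have hzy : z ∈ zpowers (a ^ p ^ i') := by
      rw [hza, hk', pow_mul]
      exact pow_mem (mem_zpowers _) _
    have hyz : a ^ p ^ i' ∈ zpowers z :=
      Cfsg.Agent.Helper71.mem_zpowers_of_prime_order hpp hyp hzy hz1
    exact ha' ((zpowers_le.mpr hzc) hyz)

/-- In the abelian case, the two generators have orders dividing each other. -/
theorem orderOf_dvd_of_abelian (hab : ∀ x y : G, x * y = y * x) (hnc : ¬ IsCyclic G)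
    (B : Subgroup (MulAut G))
    (hirr : ∀ M : Subgroup G, frattini G ≤ M → (∀ β ∈ B, ∀ x ∈ M, β x ∈ M) →
      M = frattini G ∨ M = ⊤)
    (u v : G) (hgen : ∀ g : G, ∃ k l : ℤ, g = u ^ k * v ^ l) : orderOf u ∣ orderOf v := by
  let Ω : Subgroup G :=
    { carrier := {x | x ^ orderOf v = 1}
      mul_mem' := by
        intro x y hx hy
        simp only [Set.mem_ofPred_eq] at hx hy ⊢
        rw [(show Commute x y from hab x y).mul_pow, hx, hy, one_mul]
      one_mem' := by simp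
      inv_mem' := by
        intro x hx
        simp only [Set.mem_ofPred_eq] at hx ⊢
        rw [inv_pow, hx, inv_one] }
  have hΩmem : ∀ x : G, x ∈ Ω ↔ x ^ orderOf v = 1 := fun _ => Iff.rfl
  have hΩinv : ∀ β ∈ B, ∀ x ∈ Ω, β x ∈ Ω := by
    intro β _ x hx
    rw [hΩmem] at hx ⊢
    rw [← map_pow, hx, map_one]
  have hvΩ : v ∈ Ω := (hΩmem v).mpr (pow_orderOf_eq_one v)
  have hvΦ : v ∉ frattini G := by
    intro hv
    apply hnc
    apply isCyclic_of_zpowers_sup_frattini u
    rw [eq_top_iff]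
    intro g _
    obtain ⟨k, l, rfl⟩ := hgen g
    exact (zpowers u ⊔ frattini G).mul_mem (mem_sup_left (zpow_mem (mem_zpowers u) k))
      (mem_sup_right (zpow_mem hv l))
  rcases le_frattini_or_eq_top B hirr Ω hΩinv with hΩ | hΩ
  · exact absurd (hΩ hvΩ) hvΦ
  · have : u ∈ Ω := hΩ ▸ mem_top u
    exact orderOf_dvd_of_pow_eq_one ((hΩmem u).mp this)

theorem homocyclic_of_abelian {p : ℕ} [hp : Fact p.Prime] (hp2 : p ≠ 2) (hG : IsPGroup p G)
    (hmc : Cfsg.IsMetacyclic G) (hnc : ¬ IsCyclic G) (B : Subgroup (MulAut G))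
    (hirr : ∀ M : Subgroup G, frattini G ≤ M → (∀ β ∈ B, ∀ x ∈ M, β x ∈ M) →
      M = frattini G ∨ M = ⊤)
    (hab : ∀ x y : G, x * y = y * x) :
    ∃ n : ℕ, 0 < n ∧
      Nonempty (G ≃* Multiplicative (ZMod (p ^ n)) × Multiplicative (ZMod (p ^ n))) := by
  obtain ⟨A, B', hA, hB', hinf, hcard⟩ := exists_factorization_of_isMetacyclic hp2 hG hmc
  obtain ⟨u, rfl⟩ := (Subgroup.isCyclic_iff_exists_zpowers_eq_top A).mp hA
  obtain ⟨v, rfl⟩ := (Subgroup.isCyclic_iff_exists_zpowers_eq_top B').mp hB'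
  let f : zpowers u × zpowers v →* G := MonoidHom.mk' (fun x => (x.1 : G) * (x.2 : G)) (by
    intro x y
    simp only [Prod.fst_mul, Prod.snd_mul, Subgroup.coe_mul]
    rw [mul_assoc, ← mul_assoc (y.1 : G), hab (y.1 : G) (x.2 : G), mul_assoc, mul_assoc])
  have hf_apply : ∀ x : zpowers u × zpowers v, f x = (x.1 : G) * (x.2 : G) := fun _ => rfl
  have hf_inj : Function.Injective f := by
    rw [injective_iff_map_eq_one]
    intro x hx
    rw [hf_apply] at hx
    have h1 : (x.1 : G) ∈ zpowers u ⊓ zpowers v := by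
      refine Subgroup.mem_inf.mpr ⟨x.1.2, ?_⟩
      have : (x.1 : G) = (x.2 : G)⁻¹ := eq_inv_of_mul_eq_one_left hx
      rw [this]
      exact inv_mem x.2.2
    rw [hinf, mem_bot] at h1
    have h2 : (x.2 : G) = 1 := by rw [h1, one_mul] at hx; exact hx
    ext
    · simpa using h1
    · simpa using h2
  have hf_bij : Function.Bijective f :=
    (Nat.bijective_iff_injective_and_card f).mpr ⟨hf_inj, by rw [Nat.card_prod, hcard]⟩
  have hgen : ∀ g : G, ∃ k l : ℤ, g = u ^ k * v ^ l := by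
    intro g
    obtain ⟨⟨⟨x, hx⟩, ⟨y, hy⟩⟩, rfl⟩ := hf_bij.2 g
    obtain ⟨k, rfl⟩ := Subgroup.mem_zpowers_iff.mp hx
    obtain ⟨l, rfl⟩ := Subgroup.mem_zpowers_iff.mp hy
    exact ⟨k, l, rfl⟩
  have hgen' : ∀ g : G, ∃ k l : ℤ, g = v ^ k * u ^ l := by
    intro g
    obtain ⟨k, l, rfl⟩ := hgen g
    exact ⟨l, k, hab _ _⟩
  have huv : orderOf u = orderOf v :=
    Nat.dvd_antisymm (orderOf_dvd_of_abelian hab hnc B hirr u v hgen)
      (orderOf_dvd_of_abelian hab hnc B hirr v u hgen')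
  obtain ⟨n, hn⟩ := (IsPGroup.iff_orderOf.mp hG) u
  have hn0 : n ≠ 0 := by
    rintro rfl
    rw [pow_zero] at hn
    have hu1 : u = 1 := orderOf_eq_one_iff.mp hn
    have hv1 : v = 1 := orderOf_eq_one_iff.mp (huv ▸ hn)
    apply hnc
    refine ⟨⟨1, fun g => ?_⟩⟩
    obtain ⟨k, l, rfl⟩ := hgen g
    rw [hu1, hv1]
    simp
  have hcardZ : Nat.card (Multiplicative (ZMod (p ^ n))) = p ^ n := by
    rw [Nat.card_congr Multiplicative.toAdd, Nat.card_zmod]
  let e1 : zpowers u ≃* Multiplicative (ZMod (p ^ n)) :=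
    mulEquivOfCyclicCardEq (by rw [Nat.card_zpowers, hn, hcardZ])
  let e2 : zpowers v ≃* Multiplicative (ZMod (p ^ n)) :=
    mulEquivOfCyclicCardEq (by rw [Nat.card_zpowers, ← huv, hn, hcardZ])
  exact ⟨n, Nat.pos_of_ne_zero hn0,
    ⟨(MulEquiv.ofBijective f hf_bij).symm.trans (MulEquiv.prodCongr e1 e2)⟩⟩

end Finite

/-- **(R1)** of #4449. -/
theorem homocyclic_of_irreducible {G : Type*} [Group G] [Finite G] {p : ℕ} [Fact p.Prime]
    (hp : p ≠ 2) (hG : IsPGroup p G) (hm : Cfsg.IsMetacyclic G) (hnc : ¬ IsCyclic G)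
    (B : Subgroup (MulAut G))
    (hirr : ∀ M : Subgroup G, frattini G ≤ M → (∀ β ∈ B, ∀ x ∈ M, β x ∈ M) →
      M = frattini G ∨ M = ⊤) :
    ∃ n : ℕ, 0 < n ∧
      Nonempty (G ≃* Multiplicative (ZMod (p ^ n)) × Multiplicative (ZMod (p ^ n))) := by
  by_cases hnab : commutator G = ⊥
  · apply homocyclic_of_abelian hp hG hm hnc B hirr
    intro x y
    have h1 : ⁅x, y⁆ ∈ commutator G := commutatorElement_mem_commutator x y
    rw [hnab, mem_bot] at h1
    exact commutatorElement_eq_one_iff_mul_comm.mp h1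
  · exfalso
    obtain ⟨a, b, r, h⟩ := exists_mcdata hG hm
    exact false_of_nonabelian hp hG hm h hnc B hirr hnab

end Cfsg.Agent.Helper25.SSR1
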