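import Cfsg.Agent.Helper78.Sak.Defs
import Cfsg.Agent.S5545

/-!
S5544 (Sakuma, Majorana setting), piece A2 for helper78: the three fusion fields
`f00 f04 f44` of `UAx` for a unit Majorana pair.
-/

set_option autoImplicit false

namespace Cfsg.Agent.Helper25.SakA2

open Cfsg.Axial

variable {V : Type*} [AddCommGroup V] [Module ℝ V]
variable {mul : V →ₗ[ℝ] V →ₗ[ℝ] V} {B : LinearMap.BilinForm ℝ V}

theorem uax_f00 (μ : V ≃ₗ[ℝ] V) (a : V) (h : IsMajoranaPair mul B μ a) :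
    ∀ u : V, mul a u = 0 → mul a (mul u u) = 0 := by
  intro u hu
  have h0 : mul a (0 : V) = (1 / 4 : ℝ) • (0 : V) := by simp
  exact (Cfsg.Agent.S5545.fusion_facts mul B μ a h u 0 hu h0).2.1

theorem uax_f04 (μ : V ≃ₗ[ℝ] V) (a : V) (h : IsMajoranaPair mul B μ a) :
    ∀ u w : V, mul a u = 0 → mul a w = (1 / 4 : ℝ) • w →
      mul a (mul u w) = (1 / 4 : ℝ) • mul u w := by
  intro u w hu hw
  exact (Cfsg.Agent.S5545.fusion_facts mul B μ a h u w hu hw).1

theorem uax_f44 (hV : IsMajoranaAmbient mul B) (μ : V ≃ₗ[ℝ] V) (a : V)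
    (h : IsMajoranaPair mul B μ a) (hn : B a a = 1) :
    ∀ w : V, mul a w = (1 / 4 : ℝ) • w → mul a (mul w w) = ((1 / 4) * B w w) • a := by
  intro w hw
  obtain ⟨-, -, -, hBassoc, -⟩ := hV
  have haa : mul a a = a := h.2.2.1.1.2.1
  have hprim : eigen mul a 1 = Submodule.span ℝ {a} := h.2.2.1.2
  have h0 : mul a (0 : V) = 0 := by simp
  have hww := (Cfsg.Agent.S5545.fusion_facts mul B μ a h 0 w h0 hw).2.2
  obtain ⟨v1, hv1, v0, hv0, hsum⟩ := Submodule.mem_sup.1 hww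
  have hv1' : v1 ∈ eigen mul a 1 := hv1
  rw [hprim] at hv1'
  obtain ⟨c, hc⟩ := Submodule.mem_span_singleton.1 hv1'
  rw [Module.End.mem_eigenspace_iff, zero_smul] at hv0
  have hBav0 : B a v0 = 0 := by
    have h1 : B a v0 = B (mul a a) v0 := by rw [haa]
    rw [h1, ← hBassoc, hv0, map_zero]
  have hBww : B a (mul w w) = (1 / 4) * B w w := by
    rw [hBassoc, hw]; simp
  have hceq : c = (1 / 4) * B w w := by
    rw [← hBww, ← hsum, ← hc, map_add, map_smul, hn, hBav0, smul_eq_mul]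
    ring
  rw [← hsum, ← hc, map_add, map_smul, haa, hv0, add_zero, hceq]

/-- Piece A2: the three fusion fields of `UAx`. -/
theorem uax_fusion (hV : IsMajoranaAmbient mul B) (μ : V ≃ₗ[ℝ] V) (a : V)
    (h : IsMajoranaPair mul B μ a) (hn : B a a = 1) :
    (∀ u : V, mul a u = 0 → mul a (mul u u) = 0) ∧
    (∀ u w : V, mul a u = 0 → mul a w = (1 / 4 : ℝ) • w →
      mul a (mul u w) = (1 / 4 : ℝ) • mul u w) ∧
    (∀ w : V, mul a w = (1 / 4 : ℝ) • w → mul a (mul w w) = ((1 / 4) * B w w) • a) :=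
  ⟨uax_f00 μ a h, uax_f04 μ a h, uax_f44 hV μ a h hn⟩

end Cfsg.Agent.Helper25.SakA2
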