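import Mathlib

/-!
# Piece (B1) of helper74's WANTED #5091 (for S4130): lower bound for the number of commuting pairs
-/

set_option autoImplicit false
set_option linter.style.haveILetI false

namespace Cfsg.Agent.Helper25.Sqf

/-- every element of a `p`-subgroup has `p`-th power one when the Sylow `p`-subgroup `P` has
exponent `p` -/
theorem pow_eq_one_of_isPGroup {G : Type*} [Group G] [Finite G] (p : ℕ) [Fact p.Prime]
    (P : Sylow p G) (hexp : ∀ a ∈ (P : Subgroup G), a ^ p = 1) (S : Subgroup G)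
    (hS : IsPGroup p S) : ∀ s ∈ S, s ^ p = 1 := by
  intro s hs
  obtain ⟨Q, hQ⟩ := hS.exists_le_sylow
  obtain ⟨g, hg⟩ := MulAction.exists_smul_eq G P Q
  have hsQ : s ∈ ((g • P : Sylow p G) : Subgroup G) := by
    rw [hg]
    exact hQ hs
  rw [Sylow.coe_subgroup_smul, Subgroup.mem_smul_pointwise_iff_exists] at hsQ
  obtain ⟨b, hb, rfl⟩ := hsQ
  rw [MulAut.smul_def, MulAut.conj_apply, conj_pow, hexp b hb]
  group

/-- **(B1)** of #5091. -/
theorem lt_card_commPairs {G : Type*} [Group G] [Finite G] (p : ℕ) [Fact p.Prime]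
    (h : ∀ x : G, ¬ p ^ 2 ∣ (Subgroup.centralizer ({x} : Set G)).index) (P : Sylow p G)
    (hexp : ∀ a ∈ (P : Subgroup G), a ^ p = 1) (a : ℕ)
    (hcard : Nat.card (P : Subgroup G) = p ^ (a + 1)) :
    (p ^ a - 1) * Nat.card G <
      Nat.card {q : G × G // orderOf q.1 = p ∧ q.1 * q.2 = q.2 * q.1} := by
  classical
  haveI : Fintype G := Fintype.ofFinite G
  have hpp : p.Prime := Fact.out
  let F : G → Set G := fun x => {t | orderOf t = p ∧ t * x = x * t}
  let e : {q : G × G // orderOf q.1 = p ∧ q.1 * q.2 = q.2 * q.1} ≃ Σ x : G, ↥(F x) :=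
    { toFun := fun q => ⟨q.1.2, ⟨q.1.1, q.2⟩⟩
      invFun := fun s => ⟨(s.2.1, s.1), s.2.2⟩
      left_inv := by rintro ⟨⟨t, x⟩, h⟩; rfl
      right_inv := by rintro ⟨x, ⟨t, h⟩⟩; rfl }
  rw [Nat.card_congr e, Nat.card_sigma]
  simp only [Nat.card_coe_set_eq]
  have hGdvd : p ^ (a + 1) ∣ Nat.card G := hcard ▸ Subgroup.card_subgroup_dvd_card _
  -- lower bound for every fibre
  have hF : ∀ x : G, p ^ a - 1 ≤ (F x).ncard := by
    intro x
    set C := Subgroup.centralizer ({x} : Set G) with hC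
    have hC0 : Nat.card C ≠ 0 := Nat.card_pos.ne'
    have hI0 : C.index ≠ 0 := Subgroup.index_ne_zero_of_finite
    have hdvd : p ^ a ∣ Nat.card C := by
      rw [hpp.pow_dvd_iff_le_factorization hC0]
      have h1 : a + 1 ≤ (Nat.card C * C.index).factorization p := by
        rw [← hpp.pow_dvd_iff_le_factorization (mul_ne_zero hC0 hI0), C.card_mul_index]
        exact hGdvd
      rw [Nat.factorization_mul hC0 hI0, Finsupp.add_apply] at h1
      have h2 : ¬ 2 ≤ C.index.factorization p := by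
        rw [← hpp.pow_dvd_iff_le_factorization hI0]
        exact h x
      omega
    obtain ⟨K, hK⟩ := Sylow.exists_subgroup_card_pow_prime p hdvd
    let S : Subgroup G := K.map C.subtype
    have hScard : Nat.card S = p ^ a := by
      rw [← hK]
      exact Subgroup.card_map_of_injective (Subgroup.subtype_injective C)
    have hSp : IsPGroup p S := IsPGroup.of_card hScard
    have hSC : S ≤ C := Subgroup.map_subtype_le K
    have hsub : (S : Set G) \ {1} ⊆ F x := by
      rintro s ⟨hs, hs1⟩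
      have hs1' : s ≠ 1 := by simpa using hs1
      refine ⟨orderOf_eq_prime (pow_eq_one_of_isPGroup p P hexp S hSp s hs) hs1', ?_⟩
      exact (Subgroup.mem_centralizer_iff.mp (hSC hs) x rfl).symm
    calc p ^ a - 1 = ((S : Set G) \ {1}).ncard := by
          rw [Set.ncard_sdiff_singleton_of_mem (one_mem S), ← hScard]
          rfl
      _ ≤ (F x).ncard := Set.ncard_le_ncard hsub (Set.toFinite _)
  -- the fibre over `1`
  have hF1 : p ^ a - 1 < (F 1).ncard := by
    have hsub : ((P : Subgroup G) : Set G) \ {1} ⊆ F 1 := by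
      rintro s ⟨hs, hs1⟩
      have hs1' : s ≠ 1 := by simpa using hs1
      exact ⟨orderOf_eq_prime (hexp s hs) hs1', by rw [mul_one, one_mul]⟩
    have h1 : p ^ (a + 1) - 1 ≤ (F 1).ncard := by
      calc p ^ (a + 1) - 1 = (((P : Subgroup G) : Set G) \ {1}).ncard := by
            rw [Set.ncard_sdiff_singleton_of_mem (one_mem (P : Subgroup G)), ← hcard]
            rfl
        _ ≤ (F 1).ncard := Set.ncard_le_ncard hsub (Set.toFinite _)
    have h2 : p ^ a < p ^ (a + 1) := Nat.pow_lt_pow_right hpp.one_lt (Nat.lt_succ_self a)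
    have h3 : 0 < p ^ a := pow_pos hpp.pos a
    omega
  calc (p ^ a - 1) * Nat.card G = ∑ _x : G, (p ^ a - 1) := by
        rw [Finset.sum_const, Finset.card_univ, Nat.card_eq_fintype_card, smul_eq_mul, mul_comm]
    _ < ∑ x : G, (F x).ncard :=
        Finset.sum_lt_sum (fun x _ => hF x) ⟨1, Finset.mem_univ _, hF1⟩

end Cfsg.Agent.Helper25.Sqf
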