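import Mathlib

/-!
# Piece (B2i) of helper74's WANTED #5091 (for S4130): commuting pairs `(t, x)` with `o(t) = p`
-/

set_option autoImplicit false
set_option linter.style.haveILetI false

namespace Cfsg.Agent.Helper25.Sqf

/-- the conjugation action restricted to the elements of order `p` -/
def ordSub (G : Type*) [Group G] (p : ℕ) : SubMulAction (ConjAct G) G where
  carrier := {t | orderOf t = p}
  smul_mem' := by
    intro g t ht
    simp only [Set.mem_ofPred_eq] at ht ⊢
    rw [ConjAct.smul_def, ← ht]
    exact (MulAut.conj (ConjAct.ofConjAct g)).orderOf_eq t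

theorem mem_ordSub {G : Type*} [Group G] (p : ℕ) (t : G) : t ∈ ordSub G p ↔ orderOf t = p :=
  Iff.rfl

/-- **(B2i)** of #5091. -/
theorem card_commPairs_eq {G : Type*} [Group G] [Finite G] (p : ℕ) :
    Nat.card {q : G × G // orderOf q.1 = p ∧ q.1 * q.2 = q.2 * q.1} =
      Nat.card {c : ConjClasses G // ∃ t : G, orderOf t = p ∧ ConjClasses.mk t = c} *
        Nat.card G := by
  classical
  haveI : Fintype G := Fintype.ofFinite G
  -- Burnside for the action on the elements of order `p`
  have hB := MulAction.sum_card_fixedBy_eq_card_orbits_mul_card_group (ConjAct G) ↥(ordSub G p)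
  -- the left side
  let e1 : {q : G × G // orderOf q.1 = p ∧ q.1 * q.2 = q.2 * q.1} ≃
      Σ g : ConjAct G, MulAction.fixedBy ↥(ordSub G p) g :=
    { toFun := fun q => ⟨ConjAct.toConjAct q.1.2, ⟨⟨q.1.1, q.2.1⟩, by
        rw [MulAction.mem_fixedBy]
        apply Subtype.ext
        show ConjAct.toConjAct q.1.2 • q.1.1 = q.1.1
        rw [ConjAct.smul_def, ConjAct.ofConjAct_toConjAct, ← q.2.2, mul_inv_cancel_right]⟩⟩
      invFun := fun s => ⟨(s.2.1.1, ConjAct.ofConjAct s.1), s.2.1.2, by
        have h1 := s.2.2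
        rw [MulAction.mem_fixedBy] at h1
        have h2 : s.1 • (s.2.1.1 : G) = s.2.1.1 := congrArg Subtype.val h1
        rw [ConjAct.smul_def] at h2
        show (s.2.1.1 : G) * ConjAct.ofConjAct s.1 = ConjAct.ofConjAct s.1 * (s.2.1.1 : G)
        conv_lhs => rw [← h2]
        group⟩
      left_inv := by
        rintro ⟨⟨t, x⟩, h1, h2⟩
        rfl
      right_inv := by
        rintro ⟨g, ⟨⟨t, ht⟩, hfix⟩⟩
        rfl }
  -- the right side
  let f : Quotient (MulAction.orbitRel (ConjAct G) ↥(ordSub G p)) →
      {c : ConjClasses G // ∃ t : G, orderOf t = p ∧ ConjClasses.mk t = c} :=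
    Quotient.lift (fun t : ↥(ordSub G p) => ⟨ConjClasses.mk (t : G), (t : G), t.2, rfl⟩) (by
      intro t t' htt'
      apply Subtype.ext
      show ConjClasses.mk (t : G) = ConjClasses.mk (t' : G)
      rw [ConjClasses.mk_eq_mk_iff_isConj]
      have h1 : t ∈ MulAction.orbit (ConjAct G) t' := htt'
      obtain ⟨g, hg⟩ := h1
      have h2 : g • (t' : G) = (t : G) := congrArg Subtype.val hg
      rw [ConjAct.smul_def] at h2
      rw [isConj_comm, isConj_iff]
      exact ⟨ConjAct.ofConjAct g, h2⟩)
  have hf : Function.Bijective f := by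
    constructor
    · intro a b hab
      induction a using Quotient.inductionOn with
      | _ t =>
      induction b using Quotient.inductionOn with
      | _ t' =>
      have h1 : ConjClasses.mk (t : G) = ConjClasses.mk (t' : G) := congrArg Subtype.val hab
      rw [ConjClasses.mk_eq_mk_iff_isConj, isConj_comm, isConj_iff] at h1
      obtain ⟨c, hc⟩ := h1
      apply Quotient.sound
      show t ∈ MulAction.orbit (ConjAct G) t'
      refine ⟨ConjAct.toConjAct c, ?_⟩
      apply Subtype.ext
      show ConjAct.toConjAct c • (t' : G) = (t : G)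
      rw [ConjAct.smul_def, ConjAct.ofConjAct_toConjAct]
      exact hc
    · rintro ⟨c, t, ht, rfl⟩
      exact ⟨Quotient.mk _ ⟨t, ht⟩, rfl⟩
  rw [Nat.card_congr e1, Nat.card_eq_fintype_card, Fintype.card_sigma, hB,
    ← Nat.card_congr (Equiv.ofBijective f hf), Nat.card_eq_fintype_card, ConjAct.card,
    Nat.card_eq_fintype_card]

end Cfsg.Agent.Helper25.Sqf
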