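import Mathlib
import Cfsg.Prelude.Def_OddOrderChar
import Cfsg.Agent.Helper25.ProdSup
import Cfsg.Agent.Helper25.DualSum
import Cfsg.Agent.Helper25.LinChar
import Cfsg.Agent.Helper15.IndFun

set_option autoImplicit false

/-! The configuration `L = K ⋊ W₁`, `W₂ = C_K(x)` for all `1 ≠ x ∈ W₁` (Peterfalvi, Hypothesis 4.2):
`W \ W₂` is a TI subset of `L` with normaliser `W = W₁ × W₂`, and induction from `W` is an isometry
on functions vanishing on `W₂`. -/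

namespace Cfsg.Agent.Helper25

open Cfsg
open scoped ComplexConjugate

section group
variable {L : Type*} [Group L] (K W₁ W₂ : Subgroup L)

theorem tp_comm (hW₂K : W₂ ≤ K)
    (hC : ∀ x ∈ W₁, x ≠ 1 → K ⊓ Subgroup.centralizer ({x} : Set L) = W₂) :
    ∀ a ∈ W₁, ∀ b ∈ W₂, a * b = b * a := by
  intro a ha b hb
  by_cases h1 : a = 1
  · rw [h1, one_mul, mul_one]
  · have hb' : b ∈ K ⊓ Subgroup.centralizer ({a} : Set L) := by rw [hC a ha h1]; exact hb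
    exact Subgroup.mem_centralizer_iff.mp hb'.2 a rfl

theorem tp_disj (hKW₁ : K ⊓ W₁ = ⊥) (hW₂K : W₂ ≤ K) : W₁ ⊓ W₂ = ⊥ := by
  rw [eq_bot_iff, ← hKW₁]
  exact le_inf (inf_le_right.trans hW₂K) inf_le_left

/-- `W = W₁ ⊔ W₂` is abelian. -/
theorem tp_abelian (hdisj : W₁ ⊓ W₂ = ⊥) (hcomm : ∀ a ∈ W₁, ∀ b ∈ W₂, a * b = b * a)
    (hW₁c : IsCyclic W₁) (hW₂c : IsCyclic W₂) (w x : ↥(W₁ ⊔ W₂)) : w * x = x * w := by
  obtain ⟨a, b, hab⟩ := exists_mul_of_mem_sup hdisj hcomm w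
  obtain ⟨a', b', hab'⟩ := exists_mul_of_mem_sup hdisj hcomm x
  have haa : (a : L) * (a' : L) = (a' : L) * (a : L) := by
    have : IsCyclic ↥W₁ := hW₁c
    have h := IsCyclic.commGroup.mul_comm a a'
    exact congrArg (fun z : ↥W₁ => (z : L)) h
  have hbb : (b : L) * (b' : L) = (b' : L) * (b : L) := by
    have : IsCyclic ↥W₂ := hW₂c
    have h := IsCyclic.commGroup.mul_comm b b'
    exact congrArg (fun z : ↥W₂ => (z : L)) h
  have h1 := hcomm a a.2 b' b'.2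
  have h2 := hcomm a' a'.2 b b.2
  apply Subtype.ext
  rw [Subgroup.coe_mul, Subgroup.coe_mul, hab, hab']
  calc (a : L) * b * (a' * b') = a * (b * a') * b' := by group
    _ = a * (a' * b) * b' := by rw [h2]
    _ = (a * a') * (b * b') := by group
    _ = (a' * a) * (b' * b) := by rw [haa, hbb]
    _ = a' * (a * b') * b := by group
    _ = a' * (b' * a) * b := by rw [h1]
    _ = a' * b' * (a * b) := by group

variable [Finite L]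

theorem tp_coprime (hKW₁ : K ⊓ W₁ = ⊥) (hW₂K : W₂ ≤ K)
    (hHall : Nat.Coprime (Nat.card W₁) W₁.index)
    (hC : ∀ x ∈ W₁, x ≠ 1 → K ⊓ Subgroup.centralizer ({x} : Set L) = W₂) :
    Nat.Coprime (Nat.card W₁) (Nat.card W₂) := by
  have hcomm := tp_comm K W₁ W₂ hW₂K hC
  have hdisj := tp_disj K W₁ W₂ hKW₁ hW₂K
  have h1 : Nat.card ↥(W₁ ⊔ W₂) ∣ Nat.card L := Subgroup.card_subgroup_dvd_card _
  rw [card_sup_eq_mul hdisj hcomm, ← W₁.card_mul_index] at h1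
  have h2 : Nat.card W₂ ∣ W₁.index := Nat.dvd_of_mul_dvd_mul_left Nat.card_pos h1
  exact Nat.Coprime.coprime_dvd_right h2 hHall

/-- The TI property: if a conjugate of an element of `W \ W₂` lies in `W`, the conjugating element
lies in `W`. -/
theorem tp_mem_of_conj_mem [hK : K.Normal] (hKW₁ : K ⊓ W₁ = ⊥) (hKW₁' : K ⊔ W₁ = ⊤)
    (hW₁c : IsCyclic W₁) (hHall : Nat.Coprime (Nat.card W₁) W₁.index) (hW₂K : W₂ ≤ K)
    (hC : ∀ x ∈ W₁, x ≠ 1 → K ⊓ Subgroup.centralizer ({x} : Set L) = W₂)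
    {w g : L} (hw : w ∈ W₁ ⊔ W₂) (hw2 : w ∉ W₂) (hg : g⁻¹ * w * g ∈ W₁ ⊔ W₂) :
    g ∈ W₁ ⊔ W₂ := by
  have hcomm := tp_comm K W₁ W₂ hW₂K hC
  have hdisj := tp_disj K W₁ W₂ hKW₁ hW₂K
  have hcop := tp_coprime K W₁ W₂ hKW₁ hW₂K hHall hC
  set n := Nat.card W₂ with hn
  -- n-th powers of elements of W lie in W₁
  have hpow : ∀ v : L, v ∈ W₁ ⊔ W₂ → ∃ a : ↥W₁, ∃ b : ↥W₂, v = (a : L) * (b : L) ∧
      v ^ n = ((a ^ n : ↥W₁) : L) := by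
    intro v hv
    obtain ⟨a, b, hab⟩ := exists_mul_of_mem_sup hdisj hcomm ⟨v, hv⟩
    refine ⟨a, b, hab, ?_⟩
    have hab' : v = (a : L) * (b : L) := hab
    have hc : Commute (a : L) (b : L) := hcomm a a.2 b b.2
    have hb : (b : L) ^ n = 1 := by
      have : b ^ n = 1 := pow_card_eq_one'
      have h2 := congrArg (fun x : ↥W₂ => (x : L)) this
      simpa using h2
    rw [hab', hc.mul_pow, hb, mul_one, Subgroup.coe_pow]
  obtain ⟨a, b, hab, hwn⟩ := hpow w hw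
  have ha1 : a ≠ 1 := by
    intro h
    apply hw2
    rw [hab, h, Subgroup.coe_one, one_mul]
    exact b.2
  have han : a ^ n ≠ 1 := by
    intro h
    apply ha1
    have h1 : orderOf a ∣ n := orderOf_dvd_of_pow_eq_one h
    have h2 : orderOf a ∣ Nat.card W₁ := orderOf_dvd_natCard a
    have h3 : orderOf a ∣ 1 := by
      have := Nat.dvd_gcd h2 h1
      rwa [hcop] at this
    exact orderOf_eq_one_iff.mp (Nat.dvd_one.mp h3)
  set a' : L := ((a ^ n : ↥W₁) : L) with ha'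
  have ha'W : a' ∈ W₁ := (a ^ n).2
  have ha'1 : a' ≠ 1 := by
    intro h
    apply han
    exact Subtype.ext h
  obtain ⟨a₁, b₁, -, hwn'⟩ := hpow _ hg
  have hconj : g⁻¹ * a' * g ∈ W₁ := by
    have : (g⁻¹ * w * g) ^ n = g⁻¹ * w ^ n * g := by
      have := conj_pow (a := g⁻¹) (b := w) (i := n)
      simpa using this
    rw [this, hwn] at hwn'
    rw [ha', hwn']
    exact (a₁ ^ n).2
  -- decompose g
  have hgtop : g ∈ K ⊔ W₁ := by rw [hKW₁']; trivial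
  obtain ⟨k, hk, u, hu, rfl⟩ := Subgroup.mem_sup_of_normal_left.mp hgtop
  have hk1 : k⁻¹ * a' * k ∈ W₁ := by
    have h := W₁.mul_mem (W₁.mul_mem hu hconj) (W₁.inv_mem hu)
    have e : u * ((k * u)⁻¹ * a' * (k * u)) * u⁻¹ = k⁻¹ * a' * k := by group
    rwa [e] at h
  have hc1 : k⁻¹ * a' * k * a'⁻¹ ∈ K ⊓ W₁ := by
    refine ⟨?_, W₁.mul_mem hk1 (W₁.inv_mem ha'W)⟩
    have h1 : a' * k * a'⁻¹ ∈ K := hK.conj_mem k hk a'
    have := K.mul_mem (K.inv_mem hk) h1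
    have e : k⁻¹ * (a' * k * a'⁻¹) = k⁻¹ * a' * k * a'⁻¹ := by group
    rwa [e] at this
  rw [hKW₁, Subgroup.mem_bot] at hc1
  have hkc : a' * k = k * a' := by
    have h1 : k⁻¹ * a' * k = a' := by
      have := mul_inv_eq_one.mp hc1
      exact this
    calc a' * k = k * (k⁻¹ * a' * k) := by group
      _ = k * a' := by rw [h1]
  have hkW₂ : k ∈ W₂ := by
    rw [← hC a' ha'W ha'1]
    refine Subgroup.mem_inf.mpr ⟨hk, ?_⟩
    rw [Subgroup.mem_centralizer_iff]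
    intro h hh
    rw [Set.mem_singleton_iff.mp hh]
    exact hkc
  exact (W₁ ⊔ W₂).mul_mem (Subgroup.mem_sup_right hkW₂) (Subgroup.mem_sup_left hu)

end group

section induction
variable {L : Type*} [Group L] [Fintype L] (K W₁ W₂ : Subgroup L)

/-- Values of induced functions on `W \ W₂`. -/
theorem tp_indFun_apply [hK : K.Normal] (hKW₁ : K ⊓ W₁ = ⊥) (hKW₁' : K ⊔ W₁ = ⊤)
    (hW₁c : IsCyclic W₁) (hHall : Nat.Coprime (Nat.card W₁) W₁.index) (hW₂c : IsCyclic W₂)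
    (hW₂K : W₂ ≤ K)
    (hC : ∀ x ∈ W₁, x ≠ 1 → K ⊓ Subgroup.centralizer ({x} : Set L) = W₂)
    (f : ↥(W₁ ⊔ W₂) → ℂ) (w : ↥(W₁ ⊔ W₂)) (hw : (w : L) ∉ W₂) :
    indFun (W₁ ⊔ W₂) f w = f w := by
  classical
  have : Fintype ↥(W₁ ⊔ W₂) := Fintype.ofFinite _
  have hcomm := tp_comm K W₁ W₂ hW₂K hC
  have hdisj := tp_disj K W₁ W₂ hKW₁ hW₂K
  rw [Helper15.indFun_apply]
  have hterm : ∀ x : L, extendByZero (W₁ ⊔ W₂) f (x⁻¹ * (w : L) * x)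
      = extendByZero (W₁ ⊔ W₂) (fun _ => f w) x := by
    intro x
    by_cases hx : x ∈ W₁ ⊔ W₂
    · rw [Helper15.extendByZero_of_mem _ _ hx]
      have hc : x⁻¹ * (w : L) * x = w := by
        have hcm : (w : L) * x = x * (w : L) := by
          have h := tp_abelian W₁ W₂ hdisj hcomm hW₁c hW₂c w ⟨x, hx⟩
          exact congrArg (fun z : ↥(W₁ ⊔ W₂) => (z : L)) h
        rw [mul_assoc, hcm, ← mul_assoc, inv_mul_cancel, one_mul]
      rw [hc, Helper15.extendByZero_coe]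
    · rw [Helper15.extendByZero_of_not_mem _ _ hx]
      by_cases hy : x⁻¹ * (w : L) * x ∈ W₁ ⊔ W₂
      · exact absurd (tp_mem_of_conj_mem K W₁ W₂ hKW₁ hKW₁' hW₁c hHall hW₂K hC w.2 hw hy) hx
      · rw [Helper15.extendByZero_of_not_mem _ _ hy]
  simp only [hterm]
  rw [Helper15.sum_extendByZero, Finset.sum_const, Finset.card_univ, nsmul_eq_mul,
    ← Nat.card_eq_fintype_card]
  have hne : (Nat.card ↥(W₁ ⊔ W₂) : ℂ) ≠ 0 := by
    exact_mod_cast Nat.card_pos.ne'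
  field_simp

/-- Induction from `W` preserves inner products when the first function vanishes on `W₂`. -/
theorem tp_classInner_indFun [Fintype ↥(W₁ ⊔ W₂)] [hK : K.Normal] (hKW₁ : K ⊓ W₁ = ⊥)
    (hKW₁' : K ⊔ W₁ = ⊤)
    (hW₁c : IsCyclic W₁) (hHall : Nat.Coprime (Nat.card W₁) W₁.index) (hW₂c : IsCyclic W₂)
    (hW₂K : W₂ ≤ K)
    (hC : ∀ x ∈ W₁, x ≠ 1 → K ⊓ Subgroup.centralizer ({x} : Set L) = W₂)
    (f f' : ↥(W₁ ⊔ W₂) → ℂ) (hf : ∀ w : ↥(W₁ ⊔ W₂), (w : L) ∈ W₂ → f w = 0) :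
    classInner (indFun (W₁ ⊔ W₂) f) (indFun (W₁ ⊔ W₂) f') = classInner f f' := by
  rw [Helper15.frobenius_reciprocity _ _ _ (Helper15.isClassFunction_indFun _ _)]
  rw [Helper74.classInner_def, Helper74.classInner_def]
  congr 1
  apply Finset.sum_congr rfl
  intro w _
  by_cases hw : (w : L) ∈ W₂
  · rw [hf w hw, zero_mul, zero_mul]
  · rw [tp_indFun_apply K W₁ W₂ hKW₁ hKW₁' hW₁c hHall hW₂c hW₂K hC f' w hw]

end induction

section vanish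
variable {L : Type*} [Group L] {W₁ W₂ : Subgroup L}

/-- A function on `W` orthogonal to all differences of linear characters agreeing on `W₂`
vanishes off `W₂`. -/
theorem tp_vanish [Fintype ↥(W₁ ⊔ W₂)] (hdisj : W₁ ⊓ W₂ = ⊥)
    (hab : ∀ a b : ↥(W₁ ⊔ W₂), a * b = b * a) (g : ↥(W₁ ⊔ W₂) → ℂ)
    (horth : ∀ ω ω' : ↥(W₁ ⊔ W₂) →* ℂˣ, (∀ w : ↥(W₁ ⊔ W₂), (w : L) ∈ W₂ → ω w = ω' w) →
      classInner g (cc ω - cc ω') = 0)
    (w : ↥(W₁ ⊔ W₂)) (hw₂ : (w : L) ∉ W₂) : g w = 0 := by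
  classical
  have : Fintype {φ : ↥(W₁ ⊔ W₂) →* ℂˣ // TrivOn W₂ φ} := Fintype.ofFinite _
  have : Fintype {ψ : ↥(W₁ ⊔ W₂) →* ℂˣ // TrivOn W₁ ψ} := Fintype.ofFinite _
  set N : ℂ := (Fintype.card {φ : ↥(W₁ ⊔ W₂) →* ℂˣ // TrivOn W₂ φ} : ℂ) *
    (Fintype.card {ψ : ↥(W₁ ⊔ W₂) →* ℂˣ // TrivOn W₁ ψ} : ℂ) with hN
  have hNne : N ≠ 0 := by
    have : Nonempty {φ : ↥(W₁ ⊔ W₂) →* ℂˣ // TrivOn W₂ φ} := ⟨⟨1, TrivOn.one W₂⟩⟩
    have : Nonempty {ψ : ↥(W₁ ⊔ W₂) →* ℂˣ // TrivOn W₁ ψ} := ⟨⟨1, TrivOn.one W₁⟩⟩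
    have h1 : Fintype.card {φ : ↥(W₁ ⊔ W₂) →* ℂˣ // TrivOn W₂ φ} ≠ 0 := Fintype.card_ne_zero
    have h2 : Fintype.card {ψ : ↥(W₁ ⊔ W₂) →* ℂˣ // TrivOn W₁ ψ} ≠ 0 := Fintype.card_ne_zero
    rw [hN]
    exact mul_ne_zero (by exact_mod_cast h1) (by exact_mod_cast h2)
  let f : ↥(W₁ ⊔ W₂) → ℂ :=
    ∑ φ : {φ : ↥(W₁ ⊔ W₂) →* ℂˣ // TrivOn W₂ φ}, ∑ ψ : {ψ : ↥(W₁ ⊔ W₂) →* ℂˣ // TrivOn W₁ ψ},
      (conj ((φ.1 w : ℂˣ) : ℂ) * conj ((ψ.1 w : ℂˣ) : ℂ)) • (cc ψ.1 - cc (φ.1 * ψ.1))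
  have hf : ∀ u, f u = if u = w then -N else 0 := by
    intro u
    have e1 : f u = (∑ φ : {φ : ↥(W₁ ⊔ W₂) →* ℂˣ // TrivOn W₂ φ},
          conj ((φ.1 w : ℂˣ) : ℂ) * (1 - ((φ.1 u : ℂˣ) : ℂ))) *
        (∑ ψ : {ψ : ↥(W₁ ⊔ W₂) →* ℂˣ // TrivOn W₁ ψ},
          conj ((ψ.1 w : ℂˣ) : ℂ) * ((ψ.1 u : ℂˣ) : ℂ)) := by
      rw [Fintype.sum_mul_sum]
      simp only [f, Finset.sum_apply, Pi.smul_apply, Pi.sub_apply, smul_eq_mul, cc_apply,
        MonoidHom.mul_apply, Units.val_mul]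
      refine Finset.sum_congr rfl (fun φ _ => Finset.sum_congr rfl (fun ψ _ => ?_))
      ring
    have e2 : (∑ ψ : {ψ : ↥(W₁ ⊔ W₂) →* ℂˣ // TrivOn W₁ ψ},
          conj ((ψ.1 w : ℂˣ) : ℂ) * ((ψ.1 u : ℂˣ) : ℂ)) =
        if ((w⁻¹ * u : ↥(W₁ ⊔ W₂)) : L) ∈ W₁
          then (Fintype.card {ψ : ↥(W₁ ⊔ W₂) →* ℂˣ // TrivOn W₁ ψ} : ℂ) else 0 := by
      have h1 : ∀ ψ : {ψ : ↥(W₁ ⊔ W₂) →* ℂˣ // TrivOn W₁ ψ},
          conj ((ψ.1 w : ℂˣ) : ℂ) * ((ψ.1 u : ℂˣ) : ℂ) = ((ψ.1 (w⁻¹ * u) : ℂˣ) : ℂ) := fun ψ => by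
        rw [conj_apply_eq_apply_inv, map_mul, Units.val_mul]
      simp only [h1]
      by_cases h : ((w⁻¹ * u : ↥(W₁ ⊔ W₂)) : L) ∈ W₁
      · rw [if_pos h, sum_trivOn_eq_card W₁ _ h]
      · rw [if_neg h, sum_trivOn_eq_zero hab W₁ _ h]
    rw [e1, e2, sum_trivOn_kernel hab W₂ w u hw₂]
    by_cases huw : u = w
    · subst huw
      have h1 : ((u⁻¹ * u : ↥(W₁ ⊔ W₂)) : L) ∈ W₂ := by simp
      have h2 : ((u⁻¹ * u : ↥(W₁ ⊔ W₂)) : L) ∈ W₁ := by simp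
      rw [if_pos h1, if_pos h2, if_pos rfl, hN]
      ring
    · rw [if_neg huw]
      by_cases h2 : ((w⁻¹ * u : ↥(W₁ ⊔ W₂)) : L) ∈ W₂
      · have h1 : ((w⁻¹ * u : ↥(W₁ ⊔ W₂)) : L) ∉ W₁ := by
          intro h1
          have hmem : ((w⁻¹ * u : ↥(W₁ ⊔ W₂)) : L) ∈ W₁ ⊓ W₂ := Subgroup.mem_inf.mpr ⟨h1, h2⟩
          rw [hdisj, Subgroup.mem_bot] at hmem
          have : w⁻¹ * u = 1 := Subtype.ext hmem
          exact huw (inv_mul_eq_one.mp this).symm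
        rw [if_neg h1]; ring
      · rw [if_neg h2]; ring
  have h0 : classInner g f = 0 := by
    simp only [f, Helper74.classInner_sum_right, Helper74.classInner_smul_right]
    refine Finset.sum_eq_zero (fun φ _ => Finset.sum_eq_zero (fun ψ _ => ?_))
    rw [horth ψ.1 (φ.1 * ψ.1) (fun v hv => by
      rw [MonoidHom.mul_apply, φ.2 v hv, one_mul]), mul_zero]
  have h1 : classInner g f = (Nat.card ↥(W₁ ⊔ W₂) : ℂ)⁻¹ * (g w * (-N)) := by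
    rw [Helper74.classInner_def]
    congr 1
    have hNconj : conj N = N := by
      rw [hN, map_mul, Complex.conj_natCast, Complex.conj_natCast]
    simp only [hf]
    rw [Finset.sum_eq_single w]
    · rw [if_pos rfl, map_neg, hNconj]
    · intro u _ hu
      rw [if_neg hu, map_zero, mul_zero]
    · intro h; exact absurd (Finset.mem_univ w) h
  rw [h1] at h0
  have hWne : (Nat.card ↥(W₁ ⊔ W₂) : ℂ)⁻¹ ≠ 0 := by
    apply inv_ne_zero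
    exact_mod_cast Nat.card_pos.ne'
  rcases mul_eq_zero.mp h0 with h | h
  · exact absurd h hWne
  · rcases mul_eq_zero.mp h with h | h
    · exact h
    · exact absurd (neg_eq_zero.mp h) hNne

end vanish

end Cfsg.Agent.Helper25
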