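import Mathlib
import Cfsg.Agent.Helper25.TypePTI
import Cfsg.Agent.Helper25.CohSigned
import Cfsg.Agent.Helper25.DualRect
import Cfsg.Agent.Helper25.Sibley2

set_option autoImplicit false

/-! Coherence of each class of linear characters of `W` agreeing on `W₂`, for induction to
`L = K ⋊ W₁` (Peterfalvi (4.3)). -/

namespace Cfsg.Agent.Helper25

open Cfsg

variable {L : Type*} [Group L] [Fintype L] (K W₁ W₂ : Subgroup L)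

theorem tp_class_family [Fintype ↥(W₁ ⊔ W₂)] [hK : K.Normal] (hKW₁ : K ⊓ W₁ = ⊥)
    (hKW₁' : K ⊔ W₁ = ⊤) (hW₁ : W₁ ≠ ⊥)
    (hW₁c : IsCyclic W₁) (hHall : Nat.Coprime (Nat.card W₁) W₁.index) (hW₂c : IsCyclic W₂)
    (hW₂K : W₂ ≤ K)
    (hC : ∀ x ∈ W₁, x ≠ 1 → K ⊓ Subgroup.centralizer ({x} : Set L) = W₂)
    (ω : ↥(W₁ ⊔ W₂) →* ℂˣ) :
    ∃ (δ : ℂ) (μ : (↥(W₁ ⊔ W₂) → ℂ) → (L → ℂ)), (δ = 1 ∨ δ = -1) ∧
      (∀ φ : ↥(W₁ ⊔ W₂) →* ℂˣ, TrivOn W₂ φ → IsIrrCharacter L (μ (cc (φ * ω)))) ∧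
      (∀ φ φ' : ↥(W₁ ⊔ W₂) →* ℂˣ, TrivOn W₂ φ → TrivOn W₂ φ' →
        μ (cc (φ * ω)) = μ (cc (φ' * ω)) → φ = φ') ∧
      (∀ φ φ' : ↥(W₁ ⊔ W₂) →* ℂˣ, TrivOn W₂ φ → TrivOn W₂ φ' →
        indFun (W₁ ⊔ W₂) (cc (φ * ω) - cc (φ' * ω)) =
          δ • (μ (cc (φ * ω)) - μ (cc (φ' * ω)))) := by
  classical
  have hcomm := tp_comm K W₁ W₂ hW₂K hC
  have hdisj := tp_disj K W₁ W₂ hKW₁ hW₂K
  have hab := tp_abelian W₁ W₂ hdisj hcomm hW₁c hW₂c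
  have : Fintype {φ : ↥(W₁ ⊔ W₂) →* ℂˣ // TrivOn W₂ φ} := Fintype.ofFinite _
  set F : {φ : ↥(W₁ ⊔ W₂) →* ℂˣ // TrivOn W₂ φ} → (↥(W₁ ⊔ W₂) → ℂ) :=
    fun φ => cc (φ.1 * ω) with hF
  have hFinj : Function.Injective F := by
    intro φ φ' h
    have h1 : φ.1 * ω = φ'.1 * ω := cc_injective h
    exact Subtype.ext (mul_right_cancel h1)
  set s : Finset (↥(W₁ ⊔ W₂) → ℂ) := Finset.univ.image F with hs
  have hmem : ∀ φ : ↥(W₁ ⊔ W₂) →* ℂˣ, TrivOn W₂ φ → cc (φ * ω) ∈ s := by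
    intro φ hφ
    rw [hs, Finset.mem_image]
    exact ⟨⟨φ, hφ⟩, Finset.mem_univ _, rfl⟩
  have hirr : ∀ ξ ∈ s, IsIrrCharacter ↥(W₁ ⊔ W₂) ξ := by
    intro ξ hξ
    rw [hs, Finset.mem_image] at hξ
    obtain ⟨φ, -, rfl⟩ := hξ
    exact isIrrCharacter_cc _
  have hone : ∀ ξ ∈ s, ξ 1 = 1 := by
    intro ξ hξ
    rw [hs, Finset.mem_image] at hξ
    obtain ⟨φ, -, rfl⟩ := hξ
    simp [hF]
  have hdeg : ∀ ξ ∈ s, ∀ ξ' ∈ s, ξ 1 = ξ' 1 := by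
    intro ξ hξ ξ' hξ'
    rw [hone ξ hξ, hone ξ' hξ']
  have hcard : 1 < s.card := by
    rw [hs, Finset.card_image_of_injective _ hFinj, Finset.card_univ, ← Nat.card_eq_fintype_card,
      card_trivOn_right hab hdisj hcomm]
    exact W₁.one_lt_card_iff_ne_bot.mpr hW₁
  -- members of the span
  have hspan : ∀ α ∈ zspan (↑s : Set (↥(W₁ ⊔ W₂) → ℂ)),
      (∀ b : ↥(W₁ ⊔ W₂), (b : L) ∈ W₂ → α b = ((ω b : ℂˣ) : ℂ) * α 1) ∧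
        IsGeneralizedCharacter L (indFun (W₁ ⊔ W₂) α) := by
    intro α hα
    unfold zspan at hα
    induction hα using Submodule.span_induction with
    | mem χ hχ =>
      have hχ' : χ ∈ s := Finset.mem_coe.mp hχ
      have hc : IsCharacter ↥(W₁ ⊔ W₂) χ := Helper74.isCharacter_of_isIrr (hirr χ hχ')
      refine ⟨?_, isGenChar_of_isCharacter (Helper15.isCharacter_indFun _ hc)⟩
      intro b hb
      rw [hone χ hχ', mul_one]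
      rw [hs, Finset.mem_image] at hχ'
      obtain ⟨φ, -, rfl⟩ := hχ'
      simp only [hF, cc_apply, MonoidHom.mul_apply, Units.val_mul]
      rw [φ.2 b hb, Units.val_one, one_mul]
    | zero =>
      refine ⟨fun b _ => by simp, ?_⟩
      rw [Helper15.indFun_zero]; exact isGenChar_zero
    | add a b _ _ iha ihb =>
      refine ⟨fun x hx => by rw [Pi.add_apply, Pi.add_apply, iha.1 x hx, ihb.1 x hx, mul_add], ?_⟩
      rw [Helper15.indFun_add]; exact isGenChar_add iha.2 ihb.2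
    | smul n a _ iha =>
      refine ⟨fun x hx => by
        rw [Pi.smul_apply, Pi.smul_apply, iha.1 x hx, zsmul_eq_mul, zsmul_eq_mul]; ring, ?_⟩
      rw [indFun_zsmul]
      exact isGenChar_zsmul n iha.2
  have hvan : ∀ α ∈ zspanOn (↑s : Set (↥(W₁ ⊔ W₂) → ℂ)) ({1}ᶜ : Set ↥(W₁ ⊔ W₂)),
      ∀ b : ↥(W₁ ⊔ W₂), (b : L) ∈ W₂ → α b = 0 := by
    intro α hα b hb
    rw [(hspan α hα.1).1 b hb, hα.2 1 (by simp), mul_zero]
  have hτ : IsLinearIsometryOn (zspanOn (↑s : Set (↥(W₁ ⊔ W₂) → ℂ)) ({1}ᶜ : Set ↥(W₁ ⊔ W₂)))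
      (fun α : ↥(W₁ ⊔ W₂) → ℂ => indFun (W₁ ⊔ W₂) α) := by
    refine ⟨fun α _ β _ => Helper15.indFun_add _ α β, fun α _ n => indFun_zsmul _ n α, ?_, ?_⟩
    · intro α hα β _
      exact tp_classInner_indFun K W₁ W₂ hKW₁ hKW₁' hW₁c hHall hW₂c hW₂K hC α β (hvan α hα)
    · intro α hα
      exact (hspan α hα.1).2
  have hτ1 : ∀ α ∈ zspanOn (↑s : Set (↥(W₁ ⊔ W₂) → ℂ)) ({1}ᶜ : Set ↥(W₁ ⊔ W₂)),
      (fun α : ↥(W₁ ⊔ W₂) → ℂ => indFun (W₁ ⊔ W₂) α) α 1 = 0 := by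
    intro α hα
    show indFun (W₁ ⊔ W₂) α 1 = 0
    rw [Helper15.indFun_apply_one, hα.2 1 (by simp), mul_zero]
  obtain ⟨δ, μ, hδ, hμirr, hμinj, hμform⟩ := coh_signed_family s hirr hdeg hcard _ hτ hτ1
  refine ⟨δ, μ, hδ, fun φ hφ => hμirr _ (hmem φ hφ), ?_, ?_⟩
  · intro φ φ' hφ hφ' h
    have h1 := hμinj (Finset.mem_coe.mpr (hmem φ hφ)) (Finset.mem_coe.mpr (hmem φ' hφ')) h
    exact mul_right_cancel (cc_injective h1)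
  · intro φ φ' hφ hφ'
    exact hμform _ (hmem φ hφ) _ (hmem φ' hφ')

end Cfsg.Agent.Helper25
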